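import Mathlib
import Cfsg.Prelude.Def_Solvable

set_option autoImplicit false

namespace Cfsg.Agent.Lib.Helper13

variable {G : Type*} [Group G]

lemma fittingSubgroup_normal : (Cfsg.fittingSubgroup G).Normal := by
  unfold Cfsg.fittingSubgroup
  rw [sSup_eq_iSup]
  exact Subgroup.biSup_normal _ _ (fun N hN => hN.1)

lemma le_fittingSubgroup (A : Subgroup G) (hA : A.Normal) (hnil : Group.IsNilpotent A) :
    A ≤ Cfsg.fittingSubgroup G :=
  le_sSup ⟨hA, hnil⟩

/-- A subgroup of class at most two is nilpotent. -/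
lemma isNilpotent_of_commutator_commutator_eq_bot (A : Subgroup G) (h : ⁅⁅A, A⁆, A⁆ = ⊥) :
    Group.IsNilpotent A := by
  have h1 : ⁅A, A⁆ ≤ Subgroup.centralizer (A : Set G) :=
    Subgroup.commutator_eq_bot_iff_le_centralizer.mp h
  apply Subgroup.isNilpotent_of_ker_le_center (Abelianization.of : A →* Abelianization A)
  rw [Abelianization.ker_of]
  intro x hx
  rw [Subgroup.mem_center_iff]
  intro y
  have hx' : (x : G) ∈ ⁅A, A⁆ := by
    rw [← Subgroup.map_subtype_commutator]
    exact ⟨x, hx, rfl⟩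
  apply Subtype.ext
  exact h1 hx' y y.2

/-- In a finite solvable group the Fitting subgroup contains its centralizer. -/
lemma centralizer_fittingSubgroup_le [Finite G] [Group.IsSolvable G] :
    Subgroup.centralizer ((Cfsg.fittingSubgroup G : Subgroup G) : Set G) ≤ Cfsg.fittingSubgroup G := by
  have hFn : (Cfsg.fittingSubgroup G).Normal := fittingSubgroup_normal
  set F := Cfsg.fittingSubgroup G with hF
  set C := Subgroup.centralizer (F : Set G) with hC
  have hCn : C.Normal := inferInstance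
  by_contra hcon
  obtain ⟨A, hA, hAmin⟩ := exists_minimal_of_wellFoundedLT
    (fun A : Subgroup G => A.Normal ∧ A ≤ C ∧ ¬ A ≤ F) ⟨C, hCn, le_rfl, hcon⟩
  obtain ⟨hAn, hAC, hAF⟩ := hA
  have hAne : A ≠ ⊥ := by
    rintro rfl
    exact hAF bot_le
  have hlt : ⁅A, A⁆ < A := Group.IsSolvable.commutator_lt_of_ne_bot hAne
  have hDn : (⁅A, A⁆).Normal := Subgroup.commutator_normal A A
  have hDF : ⁅A, A⁆ ≤ F := by
    by_contra hDF
    have := hAmin ⟨hDn, hlt.le.trans hAC, hDF⟩ hlt.le
    exact absurd (lt_of_lt_of_le hlt this) (lt_irrefl _)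
  have hcc : ⁅⁅A, A⁆, A⁆ = ⊥ := by
    rw [Subgroup.commutator_eq_bot_iff_le_centralizer]
    intro x hx a ha
    exact (hAC ha x (hDF hx)).symm
  exact hAF (le_fittingSubgroup A hAn (isNilpotent_of_commutator_commutator_eq_bot A hcc))

end Cfsg.Agent.Lib.Helper13
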