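import Mathlib

set_option autoImplicit false

namespace Cfsg.Agent.Lib.Helper13

open Pointwise

variable {G : Type*} [Group G]

/-- membership in the normalizer as a fixed point of the pointwise conjugation action -/
lemma mem_normalizer_iff_conj_smul (J : Subgroup G) (g : G) :
    g ∈ Subgroup.normalizer (J : Set G) ↔ MulAut.conj g • J = J := by
  rw [Subgroup.mem_normalizer_iff_map_conj_eq]
  rfl

lemma card_conj_smul (J : Subgroup G) (g : G) :
    Nat.card (MulAut.conj g • J : Subgroup G) = Nat.card J :=
  (Nat.card_congr (Subgroup.equivSMul (MulAut.conj g) J).toEquiv).symm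

lemma conj_smul_eq_of_le [Finite G] (J : Subgroup G) (g : G)
    (h : J ≤ MulAut.conj g • J) : MulAut.conj g • J = J := by
  symm
  apply Subgroup.eq_of_le_of_card_ge h
  rw [card_conj_smul]

lemma conj_smul_eq_of_ge [Finite G] (J : Subgroup G) (g : G)
    (h : MulAut.conj g • J ≤ J) : MulAut.conj g • J = J := by
  apply Subgroup.eq_of_le_of_card_ge h
  rw [card_conj_smul]

/-- For `N` normal and `T` of finite index, `|N : T ∩ N|` divides `|G : T|`. -/
lemma relIndex_normal_dvd_index [Finite G] (T N : Subgroup G) [N.Normal] :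
    T.relIndex N ∣ T.index := by
  have h1 : (T ⊓ N).index = N.relIndex T * T.index := by
    rw [← Subgroup.relIndex_mul_index (inf_le_left : T ⊓ N ≤ T), Subgroup.inf_relIndex_left]
  have h2 : (T ⊓ N).index = T.relIndex N * N.index := by
    rw [← Subgroup.relIndex_mul_index (inf_le_right : T ⊓ N ≤ N), Subgroup.inf_relIndex_right]
  have h3 : N.index = N.relIndex T * (T ⊔ N).index := by
    rw [← Subgroup.relIndex_mul_index (le_sup_right : N ≤ T ⊔ N), Subgroup.relIndex_sup_right]
  have h4 : N.relIndex T ≠ 0 := by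
    have : (N.subgroupOf T).index ≠ 0 := Subgroup.index_ne_zero_of_finite
    exact this
  have h5 : N.relIndex T * T.index = N.relIndex T * (T.relIndex N * (T ⊔ N).index) := by
    rw [← h1, h2, h3]; ring
  have h6 := Nat.eq_of_mul_eq_mul_left (Nat.pos_of_ne_zero h4) h5
  exact ⟨_, h6⟩

/-- A subgroup of `p'`-index meets every normal subgroup in a subgroup of `p'`-index. -/
lemma not_dvd_relIndex_of_normal [Finite G] (p : ℕ) (T N : Subgroup G) [N.Normal]
    (hT : ¬ p ∣ T.index) : ¬ p ∣ T.relIndex N :=
  fun h => hT (dvd_trans h (relIndex_normal_dvd_index T N))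

/-- A subgroup of `p'`-index meets every subnormal subgroup in a subgroup of `p'`-index. -/
lemma not_dvd_relIndex_of_isSubnormal [Finite G] (p : ℕ) (S H : Subgroup G)
    (hH : H.IsSubnormal) (hS : ¬ p ∣ S.index) : ¬ p ∣ S.relIndex H := by
  induction hH with
  | top => rwa [Subgroup.relIndex_top_right]
  | step H K hle hK hN ih =>
    have h1 : ¬ p ∣ (S.subgroupOf K).relIndex (H.subgroupOf K) :=
      @not_dvd_relIndex_of_normal K _ _ p (S.subgroupOf K) (H.subgroupOf K) hN ih
    rwa [Subgroup.relIndex_subgroupOf hle] at h1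

end Cfsg.Agent.Lib.Helper13
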