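import Mathlib
import Cfsg.Agent.Lib.Helper13.Basic

set_option autoImplicit false

namespace Cfsg.Agent.Lib.Helper13

open Pointwise

variable {G : Type*} [Group G]

/-- For `N` normal, `|G : T| = |N : T ∩ N| * |G : TN|`. -/
lemma index_eq_relIndex_mul_index_sup [Finite G] (T N : Subgroup G) [N.Normal] :
    T.index = T.relIndex N * (T ⊔ N).index := by
  have h1 : (T ⊓ N).index = N.relIndex T * T.index := by
    rw [← Subgroup.relIndex_mul_index (inf_le_left : T ⊓ N ≤ T), Subgroup.inf_relIndex_left]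
  have h2 : (T ⊓ N).index = T.relIndex N * N.index := by
    rw [← Subgroup.relIndex_mul_index (inf_le_right : T ⊓ N ≤ N), Subgroup.inf_relIndex_right]
  have h3 : N.index = N.relIndex T * (T ⊔ N).index := by
    rw [← Subgroup.relIndex_mul_index (le_sup_right : N ≤ T ⊔ N), Subgroup.relIndex_sup_right]
  have h4 : N.relIndex T ≠ 0 := by
    have : (N.subgroupOf T).index ≠ 0 := Subgroup.index_ne_zero_of_finite
    exact this
  have h5 : N.relIndex T * T.index = N.relIndex T * (T.relIndex N * (T ⊔ N).index) := by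
    rw [← h1, h2, h3]; ring
  exact Nat.eq_of_mul_eq_mul_left (Nat.pos_of_ne_zero h4) h5

/-- A subgroup `A ≤ K` whose order is coprime to `|K : N|`, with `N` normal in `K`, lies in `N`. -/
lemma le_of_coprime_card_relIndex [Finite G] (A N K : Subgroup G) (hAK : A ≤ K)
    (hNn : (N.subgroupOf K).Normal) (hcop : (Nat.card A).Coprime (N.relIndex K)) : A ≤ N := by
  intro a ha
  have h1 : (⟨a, hAK ha⟩ : K) ^ (N.subgroupOf K).index ∈ N.subgroupOf K :=
    Subgroup.pow_index_mem (N.subgroupOf K) ⟨a, hAK ha⟩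
  have h2 : a ^ N.relIndex K ∈ N := h1
  have h3 : orderOf a ∣ Nat.card A := by
    have := orderOf_dvd_natCard (⟨a, ha⟩ : A)
    rwa [Subgroup.orderOf_mk] at this
  have h4 : (N.relIndex K).Coprime (orderOf a) :=
    (Nat.Coprime.coprime_dvd_left h3 hcop).symm
  obtain ⟨m, hm⟩ := exists_pow_eq_self_of_coprime h4
  rw [← hm]
  exact N.pow_mem h2 m

/-- Transfer into `H / H*` for a Hall subgroup `H`: the kernel `K` satisfies
`K ∩ H = H*` and `K H = G`. -/
lemma hall_transferFocal [Finite G] (H : Subgroup G) (hHall : (Nat.card H).Coprime H.index) :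
    H.transferFocal.ker ⊓ H = H.focalSubgroup ∧ H.transferFocal.ker ⊔ H = ⊤ := by
  have hQ : (Nat.card (H ⧸ H.focalSubgroupOf)).Coprime H.index :=
    Nat.Coprime.coprime_dvd_left (Subgroup.card_quotient_dvd_card _) hHall
  have hpow : ∀ y : H ⧸ H.focalSubgroupOf, (powCoprime hQ) y = y ^ H.index := fun y => rfl
  constructor
  · ext x
    constructor
    · rintro ⟨hxK, hxH⟩
      have h1 : H.transferFocal x = 1 := hxK
      have h2 := H.transferFocal_eq_pow ⟨x, hxH⟩
      rw [show ((⟨x, hxH⟩ : H) : G) = x from rfl, h1] at h2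
      have h3 : (powCoprime hQ) ((⟨x, hxH⟩ : H) : H ⧸ H.focalSubgroupOf) = (powCoprime hQ) 1 := by
        rw [hpow, hpow, ← h2, one_pow]
      have h4 := (powCoprime hQ).injective h3
      have h5 : (⟨x, hxH⟩ : H) ∈ H.focalSubgroupOf := (QuotientGroup.eq_one_iff _).mp h4
      exact h5
    · intro hx
      have hxH : x ∈ H := H.focalSubgroup_le hx
      refine ⟨?_, hxH⟩
      show H.transferFocal x = 1
      have h2 := H.transferFocal_eq_pow ⟨x, hxH⟩
      rw [show ((⟨x, hxH⟩ : H) : G) = x from rfl] at h2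
      rw [h2]
      have h5 : ((⟨x, hxH⟩ : H) : H ⧸ H.focalSubgroupOf) = 1 :=
        (QuotientGroup.eq_one_iff _).mpr hx
      rw [h5, one_pow]
  · rw [eq_top_iff]
    intro g _
    obtain ⟨y, hy⟩ := (powCoprime hQ).surjective (H.transferFocal g)
    obtain ⟨x, rfl⟩ := QuotientGroup.mk_surjective y
    rw [hpow, ← H.transferFocal_eq_pow x] at hy
    have h1 : g * (x : G)⁻¹ ∈ H.transferFocal.ker := by
      rw [MonoidHom.mem_ker, map_mul, map_inv, hy, mul_inv_cancel]
    have : g = (g * (x : G)⁻¹) * x := by group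
    rw [this]
    exact Subgroup.mul_mem_sup h1 x.2

end Cfsg.Agent.Lib.Helper13
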