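import Mathlib
import Cfsg.Agent.S1451
import Cfsg.Agent.S1403
import Cfsg.Agent.S2971
import Cfsg.Agent.Lib.Helper55.Uniq3
import Cfsg.Agent.Lib.Helper31.FittingHall
import Cfsg.Agent.Lib.Helper31.Transitivity
import Cfsg.Agent.Lib.Helper32.CarterBasic
import Cfsg.Agent.Lib.Helper13.HallTransfer
import Cfsg.Agent.Lib.Helper01.Coprime

/-!
# Bender–Glauberman, Lemma 12.1 (structure of a complement `E` of `M_σ` in `M`)
-/

set_option autoImplicit false

namespace Cfsg.Agent.Lib.Helper13.BG12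

open Cfsg
open scoped commutatorElement

variable {G : Type*} [Group G]

/-- `α(M) ⊆ σ(M)`: a prime `p` for which the maximal subgroup `M` has `p`-rank at least three lies in
`σ(M)` (consequence of the Uniqueness Theorem). -/
theorem mem_sigma_of_not_pRankLE_two [Finite G] (hG : IsMinSimpleOddOrder G) {M : Subgroup G}
    (hM : IsCoatom M) {p : ℕ} (hp : p.Prime) (hr : ¬ PRankLE p 2 ↥M) : p ∈ sigma M := by
  have : Fact p.Prime := ⟨hp⟩
  obtain ⟨A, hAM, hAc, hAe, hAcard⟩ := Cfsg.Agent.Lib.Helper55.not_pRankLE_sub_iff.mp hr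
  have hAel : IsElementaryAbelian p A :=
    ⟨⟨⟨fun a b => Subtype.ext (hAc a.1 a.2 b.1 b.2)⟩⟩, hAe⟩
  have huniq : InUniqueMaximal A := Cfsg.Agent.S1403.elemAb_uniq hG p hp A hAel hAcard
  have hAp : IsPGroup p A := by
    intro a
    refine ⟨1, ?_⟩
    have := hAe a.1 a.2
    apply Subtype.ext
    simpa using this
  have hAp' : IsPGroup p (A.subgroupOf M) :=
    hAp.comap_of_injective M.subtype M.subtype_injective
  obtain ⟨P, hP⟩ := hAp'.exists_le_sylow
  have hAP : A ≤ (P : Subgroup M).map M.subtype := by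
    intro a ha
    exact ⟨⟨a, hAM ha⟩, hP (Subgroup.mem_subgroupOf.mpr ha), rfl⟩
  have hPM : (P : Subgroup M).map M.subtype ≤ M := by
    rintro _ ⟨x, _, rfl⟩
    exact x.2
  have hA1 : A ≠ ⊥ := by
    intro h
    rw [h, Subgroup.card_bot] at hAcard
    have : 0 < p ^ 2 := pow_pos hp.pos 2
    omega
  have hP1 : (P : Subgroup M).map M.subtype ≠ ⊥ := by
    intro h
    exact hA1 (le_bot_iff.mp (h ▸ hAP))
  have hPtop : (P : Subgroup M).map M.subtype ≠ ⊤ := by
    intro h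
    exact hM.1 (top_le_iff.mp (h ▸ hPM))
  have hN := Cfsg.Agent.Lib.Helper55.ms_normalizer_ne_top hG hP1 hPtop
  obtain ⟨L, hL, hNL⟩ := Cfsg.Agent.Lib.Helper55.ms_exists_coatom_ge hN
  have hLM : L = M := by
    obtain ⟨M₀, _, hM₀⟩ := huniq
    rw [hM₀ L ⟨hL, hAP.trans (Subgroup.le_normalizer.trans hNL)⟩, hM₀ M ⟨hM, hAM⟩]
  refine ⟨hp, ?_, P, hLM ▸ hNL⟩
  have h1 : p ∣ Nat.card A := by
    obtain ⟨n, hn⟩ := IsPGroup.iff_card.mp hAp
    rw [hn] at hAcard ⊢
    have : n ≠ 0 := by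
      rintro rfl
      have : 0 < p ^ 2 := pow_pos hp.pos 2
      rw [pow_zero] at hAcard
      omega
    exact dvd_pow_self p this
  exact h1.trans (Subgroup.card_dvd_of_le hAM)


/-- A subgroup of exponent `p` of order larger than `p ^ k` has order divisible by `p`. -/
theorem prime_dvd_card_of_pow_eq_one [Finite G] {p : ℕ} (hp : p.Prime) {A : Subgroup G}
    (hAe : ∀ a ∈ A, a ^ p = 1) {k : ℕ} (hcard : p ^ k < Nat.card A) : p ∣ Nat.card A := by
  have : Fact p.Prime := ⟨hp⟩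
  have hAp : IsPGroup p A := by
    intro a
    refine ⟨1, ?_⟩
    have := hAe a.1 a.2
    apply Subtype.ext
    simpa using this
  obtain ⟨n, hn⟩ := IsPGroup.iff_card.mp hAp
  rw [hn] at hcard ⊢
  have : n ≠ 0 := by
    rintro rfl
    have : 0 < p ^ k := pow_pos hp.pos k
    rw [pow_zero] at hcard
    omega
  exact dvd_pow_self p this

/-- If `E` complements `S` in `M` then `|M : S| = |E|`. -/
theorem relIndex_eq_card_of_complIn [Finite G] {E S M : Subgroup G} (h : IsComplIn E S M) :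
    S.relIndex M = Nat.card E := by
  have h1 := Cfsg.Agent.Lib.Helper31.IsComplIn.card_mul h
  have h2 : Nat.card (S.subgroupOf M) * (S.subgroupOf M).index = Nat.card M :=
    Subgroup.card_mul_index _
  have h3 : Nat.card (S.subgroupOf M) = Nat.card S :=
    Nat.card_congr (Subgroup.subgroupOfEquivOfLe h.2.1).toEquiv
  rw [h3] at h2
  have h4 : 0 < Nat.card S := Nat.card_pos
  have h5 : Nat.card S * (S.subgroupOf M).index = Nat.card S * Nat.card E := by
    rw [h2, ← h1, mul_comm]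
  exact Nat.eq_of_mul_eq_mul_left h4 h5

/-- If no prime `p` for which `M` has `p`-rank at least three divides `|M : S|`, then a complement
`E` of `S` in `M` has rank at most two. -/
theorem rankLE_two_of_complIn [Finite G] {E S M : Subgroup G} (h : IsComplIn E S M)
    (hkey : ∀ p : ℕ, p.Prime → ¬ PRankLE p 2 ↥M → ¬ p ∣ S.relIndex M) : RankLE 2 ↥E := by
  intro q hq
  by_contra hr
  obtain ⟨A, hAE, hAc, hAe, hAcard⟩ := Cfsg.Agent.Lib.Helper55.not_pRankLE_sub_iff.mp hr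
  have hM : ¬ PRankLE q 2 ↥M :=
    Cfsg.Agent.Lib.Helper55.not_pRankLE_sub_iff.mpr ⟨A, hAE.trans h.1, hAc, hAe, hAcard⟩
  have h1 := hkey q hq hM
  rw [relIndex_eq_card_of_complIn h] at h1
  exact h1 ((prime_dvd_card_of_pow_eq_one hq hAe hAcard).trans (Subgroup.card_dvd_of_le hAE))

/-- A proper subgroup of rank at most two of a minimal simple group of odd order has nilpotent
derived subgroup. -/
theorem commutator_nilpotent_of_rankLE_two [Finite G] (hG : IsMinSimpleOddOrder G)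
    {E : Subgroup G} (hE : E ≠ ⊤) (hr : RankLE 2 ↥E) : Group.IsNilpotent ↥⁅E, E⁆ := by
  have : Group.IsSolvable ↥E := Cfsg.Agent.Lib.Helper55.ms_solvable hG hE
  have h1 : Group.IsNilpotent ↥(commutator ↥E) :=
    (Cfsg.Agent.S1451.result (G := ↥E) (Cfsg.Agent.Lib.Helper55.ms_odd hG E) (Or.inl hr)).1
  have h2 : (commutator ↥E).map E.subtype = ⁅E, E⁆ := Subgroup.map_subtype_commutator E
  rw [← h2]
  exact (Group.isNilpotent_congr
    ((commutator ↥E).equivMapOfInjective E.subtype E.subtype_injective)).mp h1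


/-- For odd `p`, a `p`-subgroup of a subgroup `M` of `p`-rank at most one is cyclic. -/
theorem isCyclic_of_pRankLE_one [Finite G] {M Q : Subgroup G} {p : ℕ} [Fact p.Prime] (hp2 : p ≠ 2)
    (hr : PRankLE p 1 ↥M) (hQM : Q ≤ M) (hQ : IsPGroup p Q) : IsCyclic ↥Q := by
  have hQ' : IsPGroup p (Q.subgroupOf M) := hQ.comap_of_injective M.subtype M.subtype_injective
  obtain ⟨P, hP⟩ := hQ'.exists_le_sylow
  have hcyc : IsCyclic ↥(P : Subgroup ↥M) := Cfsg.Agent.S2971.sylow_cyclic hp2 hr P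
  let f : ↥Q →* ↥(P : Subgroup ↥M) :=
    (Subgroup.inclusion hP).comp (Subgroup.subgroupOfEquivOfLe hQM).symm.toMonoidHom
  have hf : Function.Injective f := by
    intro x y hxy
    have h1 := Subgroup.inclusion_injective hP hxy
    exact (Subgroup.subgroupOfEquivOfLe hQM).symm.injective h1
  exact isCyclic_of_injective f hf

/-- A finite nilpotent group all of whose Sylow subgroups are cyclic is cyclic. -/
theorem isCyclic_of_nilpotent_of_sylow_cyclic {H : Type*} [Group H] [Finite H]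
    [Group.IsNilpotent H] (h : ∀ p : ℕ, p.Prime → ∀ P : Sylow p H, IsCyclic ↥(P : Subgroup H)) :
    IsCyclic H := by
  have : IsZGroup H := ⟨h⟩
  infer_instance

/-- In a minimal simple group of odd order, a nilpotent subgroup `X` of `M` such that `M` has
`p`-rank at most one for every prime divisor `p` of `|X|` is cyclic. -/
theorem isCyclic_of_nilpotent_of_pRankLE_one [Finite G] (hG : IsMinSimpleOddOrder G)
    {M X : Subgroup G} (hXM : X ≤ M) (hnil : Group.IsNilpotent ↥X)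
    (hr : ∀ p : ℕ, p.Prime → p ∣ Nat.card X → PRankLE p 1 ↥M) : IsCyclic ↥X := by
  apply isCyclic_of_nilpotent_of_sylow_cyclic
  intro p hp P
  have : Fact p.Prime := ⟨hp⟩
  by_cases hP : (P : Subgroup ↥X) = ⊥
  · have h1 : Nat.card ↥(P : Subgroup ↥X) = 1 := by rw [hP]; exact Subgroup.card_bot
    have : Subsingleton ↥(P : Subgroup ↥X) := Finite.card_le_one_iff_subsingleton.mp h1.le
    exact isCyclic_of_subsingleton
  · have hPp : IsPGroup p ((P : Subgroup ↥X).map X.subtype) := P.2.map X.subtype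
    have hP1 : (P : Subgroup ↥X).map X.subtype ≠ ⊥ := by
      intro h
      exact hP ((Subgroup.map_eq_bot_iff_of_injective _ X.subtype_injective).mp h)
    have hp2 : p ≠ 2 := Cfsg.Agent.Lib.Helper55.ms_prime_ne_two hG hPp hP1
    have hPX : (P : Subgroup ↥X).map X.subtype ≤ X := Subgroup.map_subtype_le _
    have hdvd : p ∣ Nat.card X := by
      obtain ⟨n, hn⟩ := IsPGroup.iff_card.mp hPp
      have hn0 : n ≠ 0 := by
        rintro rfl
        rw [pow_zero] at hn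
        exact hP1 (Subgroup.card_eq_one.mp hn)
      exact ((dvd_pow_self p hn0).trans (hn ▸ dvd_rfl)).trans (Subgroup.card_dvd_of_le hPX)
    have hcyc : IsCyclic ↥((P : Subgroup ↥X).map X.subtype) :=
      isCyclic_of_pRankLE_one hp2 (hr p hp hdvd) (hPX.trans hXM) hPp
    exact isCyclic_of_surjective
      ((P : Subgroup ↥X).equivMapOfInjective X.subtype X.subtype_injective).symm
      ((P : Subgroup ↥X).equivMapOfInjective X.subtype X.subtype_injective).symm.surjective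

/-- BG Lemma 12.1(b): a Hall `τ₁(M)`-subgroup of a subgroup `E` of `M` is cyclic. -/
theorem tau1_hall_cyclic [Finite G] (hG : IsMinSimpleOddOrder G) {M E E₁ : Subgroup G}
    (hEM : E ≤ M) (h1 : IsPiHallOf (tau1 M) E₁ E) : IsCyclic ↥E₁ := by
  have hbot : E₁ ⊓ ⁅E, E⁆ = ⊥ := by
    by_contra hne
    have hcard : Nat.card ↥(E₁ ⊓ ⁅E, E⁆) ≠ 1 := fun h => hne (Subgroup.card_eq_one.mp h)
    obtain ⟨p, hp, hpd⟩ := Nat.exists_prime_and_dvd hcard
    have hp1 : p ∣ Nat.card E₁ := hpd.trans (Subgroup.card_dvd_of_le inf_le_left)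
    have hp2 : p ∣ Nat.card ↥⁅M, M⁆ :=
      (hpd.trans (Subgroup.card_dvd_of_le inf_le_right)).trans
        (Subgroup.card_dvd_of_le (Subgroup.commutator_mono hEM hEM))
    exact (h1.2.1 p hp hp1).2.2.2.1 hp2
  have hcomm : ∀ a ∈ E₁, ∀ b ∈ E₁, a * b = b * a := by
    intro a ha b hb
    have h2 : ⁅a, b⁆ ∈ E₁ ⊓ ⁅E, E⁆ :=
      ⟨E₁.mul_mem (E₁.mul_mem (E₁.mul_mem ha hb) (E₁.inv_mem ha)) (E₁.inv_mem hb),
        Subgroup.commutator_mem_commutator (h1.1 ha) (h1.1 hb)⟩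
    rw [hbot, Subgroup.mem_bot] at h2
    exact commutatorElement_eq_one_iff_mul_comm.mp h2
  let _ : CommGroup ↥E₁ :=
    { (inferInstance : Group ↥E₁) with
      mul_comm := fun a b => Subtype.ext (hcomm a.1 a.2 b.1 b.2) }
  have hnil : Group.IsNilpotent ↥E₁ := CommGroup.isNilpotent
  exact isCyclic_of_nilpotent_of_pRankLE_one hG (h1.1.trans hEM) hnil
    (fun p hp hpd => (h1.2.1 p hp hpd).2.2.2.2)


/-- If `E` complements the `M`-invariant subgroup `S` in `M`, then `M' ≤ E' S`. -/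
theorem commutator_le_of_complIn {E S M : Subgroup G} (h : IsComplIn E S M)
    (hn : M ≤ Subgroup.normalizer (S : Set G)) : ⁅M, M⁆ ≤ ⁅E, E⁆ ⊔ S := by
  have hnorm : (S.subgroupOf M).Normal :=
    (Subgroup.normal_subgroupOf_iff_le_normalizer h.2.1).mpr hn
  rw [Subgroup.commutator_le]
  intro m₁ hm₁ m₂ hm₂
  obtain ⟨a₁, ha₁, b₁, hb₁, rfl⟩ := h.2.2.2 m₁ hm₁
  obtain ⟨a₂, ha₂, b₂, hb₂, rfl⟩ := h.2.2.2 m₂ hm₂
  have hφ : ∀ (a b : G) (ha : a ∈ M) (hb : b ∈ S),
      QuotientGroup.mk' (S.subgroupOf M) ⟨a * b, M.mul_mem ha (h.2.1 hb)⟩ =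
        QuotientGroup.mk' (S.subgroupOf M) ⟨a, ha⟩ := by
    intro a b ha hb
    rw [QuotientGroup.mk'_apply, QuotientGroup.mk'_apply, QuotientGroup.eq,
      Subgroup.mem_subgroupOf]
    show (a * b)⁻¹ * a ∈ S
    rw [mul_inv_rev, inv_mul_cancel_right]
    exact S.inv_mem hb
  have key : QuotientGroup.mk' (S.subgroupOf M)
      ⁅(⟨a₁, h.1 ha₁⟩ : ↥M), (⟨a₂, h.1 ha₂⟩ : ↥M)⁆ =
      QuotientGroup.mk' (S.subgroupOf M)
        ⁅(⟨a₁ * b₁, M.mul_mem (h.1 ha₁) (h.2.1 hb₁)⟩ : ↥M),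
          (⟨a₂ * b₂, M.mul_mem (h.1 ha₂) (h.2.1 hb₂)⟩ : ↥M)⁆ := by
    rw [map_commutatorElement, map_commutatorElement, hφ a₁ b₁ (h.1 ha₁) hb₁,
      hφ a₂ b₂ (h.1 ha₂) hb₂]
  rw [QuotientGroup.mk'_apply, QuotientGroup.mk'_apply, QuotientGroup.eq,
    Subgroup.mem_subgroupOf] at key
  have key' : ⁅a₁, a₂⁆⁻¹ * ⁅a₁ * b₁, a₂ * b₂⁆ ∈ S := key
  have : ⁅a₁ * b₁, a₂ * b₂⁆ = ⁅a₁, a₂⁆ * (⁅a₁, a₂⁆⁻¹ * ⁅a₁ * b₁, a₂ * b₂⁆) := by group
  rw [this]
  exact Subgroup.mul_mem_sup (Subgroup.commutator_mem_commutator ha₁ ha₂) key'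

/-- If `E` complements the `M`-invariant subgroup `S` in `M`, a prime dividing `|M'|` but not `|S|`
divides `|E'|`. -/
theorem prime_dvd_card_commutator_of_complIn [Finite G] {E S M : Subgroup G}
    (h : IsComplIn E S M) (hn : M ≤ Subgroup.normalizer (S : Set G)) {p : ℕ} (hp : p.Prime)
    (hpM : p ∣ Nat.card ↥⁅M, M⁆) (hpS : ¬ p ∣ Nat.card S) : p ∣ Nat.card ↥⁅E, E⁆ := by
  have h1 : Nat.card ↥⁅M, M⁆ ∣ Nat.card ↥(⁅E, E⁆ ⊔ S) :=
    Subgroup.card_dvd_of_le (commutator_le_of_complIn h hn)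
  have hEn : ⁅E, E⁆ ≤ Subgroup.normalizer (S : Set G) :=
    ((Subgroup.commutator_le_self E).trans h.1).trans hn
  have h2 := Cfsg.Agent.Lib.Helper01.card_sup_mul_card_inf_of_le_normalizer S ⁅E, E⁆ hEn
  have h3 : Nat.card ↥(⁅E, E⁆ ⊔ S) ∣ Nat.card S * Nat.card ↥⁅E, E⁆ := ⟨_, h2.symm⟩
  have h4 := (hpM.trans h1).trans h3
  rcases (Nat.Prime.dvd_mul hp).mp h4 with h5 | h5
  · exact absurd h5 hpS
  · exact h5


/-- `E'`, as a subgroup of `↥E`, is the commutator subgroup of `↥E`. -/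
theorem commutator_subgroupOf (E : Subgroup G) :
    (⁅E, E⁆ : Subgroup G).subgroupOf E = commutator ↥E := by
  rw [← Subgroup.map_subtype_commutator E]
  exact Subgroup.comap_map_eq_self_of_injective E.subtype_injective _

/-- If a Sylow `p`-subgroup of `E` is cyclic and `p` divides `|E'|` then `p` does not divide
`|E : E'|`. -/
theorem not_dvd_relIndex_commutator [Finite G] {M E : Subgroup G} {p : ℕ} [Fact p.Prime]
    (hp2 : p ≠ 2) (hEM : E ≤ M) (hr : PRankLE p 1 ↥M) (hpd : p ∣ Nat.card ↥⁅E, E⁆) :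
    ¬ p ∣ (⁅E, E⁆ : Subgroup G).relIndex E := by
  have P : Sylow p ↥E := default
  have hPp : IsPGroup p ((P : Subgroup ↥E).map E.subtype) := P.2.map E.subtype
  have hcyc' : IsCyclic ↥((P : Subgroup ↥E).map E.subtype) :=
    isCyclic_of_pRankLE_one hp2 hr ((Subgroup.map_subtype_le _).trans hEM) hPp
  have hcyc : IsCyclic ↥(P : Subgroup ↥E) :=
    isCyclic_of_surjective
      ((P : Subgroup ↥E).equivMapOfInjective E.subtype E.subtype_injective).symm
      ((P : Subgroup ↥E).equivMapOfInjective E.subtype E.subtype_injective).symm.surjective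
  have h2 : (commutator ↥E).map E.subtype = ⁅E, E⁆ := Subgroup.map_subtype_commutator E
  have h3 : Nat.card ↥(commutator ↥E) = Nat.card ↥⁅E, E⁆ := by
    rw [← h2]
    exact Nat.card_congr
      ((commutator ↥E).equivMapOfInjective E.subtype E.subtype_injective).toEquiv
  have h4 : (⁅E, E⁆ : Subgroup G).subgroupOf E = commutator ↥E := by
    rw [← h2]
    exact Subgroup.comap_map_eq_self_of_injective E.subtype_injective _
  rcases Sylow.not_dvd_card_commutator_or_not_dvd_index_commutator P with h | h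
  · exact absurd (h3 ▸ hpd) h
  · intro hd
    apply h
    rw [Subgroup.relIndex, h4] at hd
    exact hd

/-- BG Lemma 12.1(c): a Hall `τ₃(M)`-subgroup `E₃` of a complement `E` of `M_σ` in `M` is cyclic,
contained in `E'` and normal in `E` (given that `E'` is nilpotent). -/
theorem tau3_hall [Finite G] (hG : IsMinSimpleOddOrder G) {M E E₃ : Subgroup G}
    (hE : IsComplIn E (sigmaCore M) M) (hnil : Group.IsNilpotent ↥⁅E, E⁆)
    (h3 : IsPiHallOf (tau3 M) E₃ E) :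
    IsCyclic ↥E₃ ∧ E₃ ≤ ⁅E, E⁆ ∧ E ≤ Subgroup.normalizer (E₃ : Set G) := by
  have hn : M ≤ Subgroup.normalizer (sigmaCore M : Set G) :=
    Cfsg.Agent.Lib.Helper31.le_normalizer_piCoreOf (sigma M) M
  have hSσ : ∀ p : ℕ, p.Prime → p ∣ Nat.card (sigmaCore M) → p ∈ sigma M :=
    Cfsg.Agent.Lib.Helper31.piCoreOf_pi (sigma M) M
  -- primes of `E₃` do not divide `|E : E'|`
  have hprime : ∀ p : ℕ, p.Prime → p ∣ Nat.card E₃ →
      ¬ p ∣ (⁅E, E⁆ : Subgroup G).relIndex E := by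
    intro p hp hpd
    have : Fact p.Prime := ⟨hp⟩
    obtain ⟨_, hpσ, hpM, hpr⟩ := h3.2.1 p hp hpd
    have hp2 : p ≠ 2 := by
      rintro rfl
      have hodd := Cfsg.Agent.Lib.Helper55.ms_odd hG E₃
      exact (Nat.not_even_iff_odd.mpr hodd) (even_iff_two_dvd.mpr hpd)
    have hpE : p ∣ Nat.card ↥⁅E, E⁆ :=
      prime_dvd_card_commutator_of_complIn hE hn hp hpM (fun h => hpσ (hSσ p hp h))
    exact not_dvd_relIndex_commutator hp2 hE.1 hpr hpE
  have hCn : ((⁅E, E⁆ : Subgroup G).subgroupOf E).Normal := by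
    rw [commutator_subgroupOf]
    infer_instance
  have hE₃C : E₃ ≤ ⁅E, E⁆ :=
    Cfsg.Agent.Lib.Helper13.le_of_coprime_card_relIndex E₃ ⁅E, E⁆ E h3.1 hCn
      (Nat.coprime_of_dvd hprime)
  have hnil₃ : Group.IsNilpotent ↥E₃ := by
    have : Group.IsNilpotent ↥(E₃.subgroupOf ⁅E, E⁆) := inferInstance
    exact (Group.isNilpotent_congr (Subgroup.subgroupOfEquivOfLe hE₃C)).mp this
  have hcyc : IsCyclic ↥E₃ :=
    isCyclic_of_nilpotent_of_pRankLE_one hG (h3.1.trans hE.1) hnil₃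
      (fun p hp hpd => (h3.2.1 p hp hpd).2.2.2)
  refine ⟨hcyc, hE₃C, ?_⟩
  -- `E₃` is a Hall subgroup of the nilpotent group `E'`
  have hdvd : E₃.relIndex ⁅E, E⁆ ∣ E₃.relIndex E :=
    ⟨_, (Subgroup.relIndex_mul_relIndex E₃ ⁅E, E⁆ E hE₃C (Subgroup.commutator_le_self E)).symm⟩
  have hcop : (Nat.card E₃).Coprime (E₃.relIndex ⁅E, E⁆) := by
    apply Nat.coprime_of_dvd
    intro p hp hpd hpi
    exact h3.2.2 p hp (h3.2.1 p hp hpd) (hpi.trans hdvd)
  have hCN : ⁅E, E⁆ ≤ Subgroup.normalizer (E₃ : Set G) :=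
    Cfsg.Agent.Lib.Helper32.le_normalizer_of_hall_of_nilpotent hnil hE₃C hcop
  have hE₃n : (E₃.subgroupOf ⁅E, E⁆).Normal :=
    (Subgroup.normal_subgroupOf_iff_le_normalizer hE₃C).mpr hCN
  have claim : ∀ x ∈ E, ∀ h ∈ E₃, x * h * x⁻¹ ∈ E₃ := by
    intro x hx h hh
    have hQC : E₃.map (MulAut.conj x).toMonoidHom ≤ ⁅E, E⁆ := by
      rintro _ ⟨y, hy, rfl⟩
      exact (Subgroup.normal_subgroupOf_iff (Subgroup.commutator_le_self E)).mp hCn y x
        (hE₃C hy) hx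
    have hcard : Nat.card ↥(E₃.map (MulAut.conj x).toMonoidHom) = Nat.card E₃ :=
      Subgroup.card_map_of_injective (MulAut.conj x).injective
    have hQ : E₃.map (MulAut.conj x).toMonoidHom ≤ E₃ :=
      Cfsg.Agent.Lib.Helper13.le_of_coprime_card_relIndex _ E₃ ⁅E, E⁆ hQC hE₃n
        (hcard ▸ hcop)
    exact hQ ⟨h, hh, rfl⟩
  intro e he
  rw [Subgroup.mem_normalizer_iff]
  intro h
  refine ⟨claim e he h, fun hh => ?_⟩
  have := claim e⁻¹ (E.inv_mem he) _ hh
  simpa [mul_assoc] using this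


/-- BG Lemma 12.1, assuming that no prime of `α(M)` divides `|M : M_σ|`. -/
theorem lemma_12_1 [Finite G] (hG : IsMinSimpleOddOrder G) {M E : Subgroup G} (hM : IsCoatom M)
    (hE : IsComplIn E (sigmaCore M) M)
    (hkey : ∀ p : ℕ, p.Prime → ¬ PRankLE p 2 ↥M → ¬ p ∣ (sigmaCore M).relIndex M) :
    Group.IsNilpotent ↥⁅E, E⁆ ∧
      (∀ E₁ : Subgroup G, IsPiHallOf (tau1 M) E₁ E → IsCyclic E₁) ∧
      ∀ E₃ : Subgroup G, IsPiHallOf (tau3 M) E₃ E →
        IsCyclic E₃ ∧ E₃ ≤ ⁅E, E⁆ ∧ E ≤ Subgroup.normalizer (E₃ : Set G) := by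
  have hEtop : E ≠ ⊤ := fun h => hM.1 (top_le_iff.mp (h ▸ hE.1))
  have hnil : Group.IsNilpotent ↥⁅E, E⁆ :=
    commutator_nilpotent_of_rankLE_two hG hEtop (rankLE_two_of_complIn hE hkey)
  exact ⟨hnil, fun E₁ h1 => tau1_hall_cyclic hG hE.1 h1, fun E₃ h3 => tau3_hall hG hE hnil h3⟩

/-- The hypothesis of `lemma_12_1` follows from `M_σ` being a Hall `σ(M)`-subgroup of `M`. -/
theorem hkey_of_sigma_hall [Finite G] (hG : IsMinSimpleOddOrder G) {M : Subgroup G}
    (hM : IsCoatom M) (h : IsPiHallOf (sigma M) (sigmaCore M) M) :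
    ∀ p : ℕ, p.Prime → ¬ PRankLE p 2 ↥M → ¬ p ∣ (sigmaCore M).relIndex M :=
  fun p hp hr => h.2.2 p hp (mem_sigma_of_not_pRankLE_two hG hM hp hr)

/-- The hypothesis of `lemma_12_1` follows from `M_α` being a Hall `α(M)`-subgroup of `M`
contained in `M_σ`. -/
theorem hkey_of_alpha_hall {M : Subgroup G}
    (h : IsPiHallOf (alpha M) (alphaCore M) M) (hle : alphaCore M ≤ sigmaCore M) :
    ∀ p : ℕ, p.Prime → ¬ PRankLE p 2 ↥M → ¬ p ∣ (sigmaCore M).relIndex M :=
  fun p hp hr hd => h.2.2 p hp ⟨hp, hr⟩ (hd.trans (Subgroup.relIndex_dvd_of_le_left M hle))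

end Cfsg.Agent.Lib.Helper13.BG12
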