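import Mathlib
import Cfsg.Agent.Lib.Helper13.BG12A
import Cfsg.Agent.Lib.Helper15.BG103C
import Cfsg.Agent.Lib.Helper71.BG10Sub
import Cfsg.Agent.Lib.Helper84.AbSylow
import Cfsg.Agent.Lib.Helper54.Conj

/-!
# Bender–Glauberman, Lemmas 12.8–12.10 (from the statements of 12.4–12.6)
-/

set_option autoImplicit false

namespace Cfsg.Agent.Lib.Helper13.BG12

open Cfsg
open scoped commutatorElement Pointwise

/-- An automorphism `φ` with `φ ^ r = 1` (`r` prime) of a group of order `p ^ 2` is trivial unless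
`r` divides `p`, `p - 1` or `p + 1`. -/
theorem mulAut_sq_eq_one_of_pow_prime {A : Type*} [Group A] [Finite A] {p : ℕ} (hp : p.Prime)
    (hA : Nat.card A = p ^ 2) (φ : MulAut A) {r : ℕ} (hr : r.Prime) (hφ : φ ^ r = 1)
    (h1 : ¬ r ∣ p) (h2 : ¬ r ∣ p - 1) (h3 : ¬ r ∣ p + 1) : φ = 1 := by
  have : Fact r.Prime := ⟨hr⟩
  -- the subgroup of fixed points
  let F : Subgroup A :=
    { carrier := {a | φ a = a}
      mul_mem' := fun {a b} ha hb => by
        have ha' : φ a = a := ha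
        have hb' : φ b = b := hb
        show φ (a * b) = a * b
        rw [map_mul, ha', hb']
      one_mem' := by simp
      inv_mem' := fun {a} ha => by
        have ha' : φ a = a := ha
        show φ a⁻¹ = a⁻¹
        rw [map_inv, ha'] }
  have hH : IsPGroup r (Subgroup.zpowers φ) := by
    rintro ⟨ψ, hψ⟩
    refine ⟨1, ?_⟩
    obtain ⟨k, rfl⟩ := Subgroup.mem_zpowers_iff.mp hψ
    apply Subtype.ext
    simp only [pow_one, Subgroup.coe_pow, Subgroup.coe_one]
    rw [← zpow_natCast, ← zpow_mul, mul_comm, zpow_mul, zpow_natCast, hφ, one_zpow]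
  have hmod := hH.card_modEq_card_fixedPoints A
  have hfix : (MulAction.fixedPoints (Subgroup.zpowers φ) A) = (F : Set A) := by
    ext a
    simp only [MulAction.mem_fixedPoints, Subtype.forall]
    constructor
    · intro h
      exact h φ (Subgroup.mem_zpowers φ)
    · intro h ψ hψ
      obtain ⟨k, rfl⟩ := Subgroup.mem_zpowers_iff.mp hψ
      have hF : ∀ k : ℤ, (φ ^ k) a = a := by
        intro k
        have h' : φ a = a := h
        induction k using Int.induction_on with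
        | zero => simp
        | succ n ih =>
          rw [zpow_add, zpow_one, MulAut.mul_apply, h', ih]
        | pred n ih =>
          rw [zpow_sub, zpow_one, MulAut.mul_apply]
          have : φ⁻¹ a = a := by
            rw [MulAut.inv_apply]
            exact (MulEquiv.symm_apply_eq φ).mpr h'.symm
          rw [this, ih]
      exact hF k
  have hcardfix : Nat.card (MulAction.fixedPoints (Subgroup.zpowers φ) A) = Nat.card F := by
    rw [hfix]; rfl
  rw [hcardfix, hA] at hmod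
  have hFd : Nat.card F ∣ p ^ 2 := hA ▸ Subgroup.card_subgroup_dvd_card F
  obtain ⟨k, hk, hFk⟩ := (Nat.dvd_prime_pow hp).mp hFd
  have hp1 : 1 ≤ p := hp.one_lt.le
  interval_cases k
  · -- card F = 1
    exfalso
    rw [hFk, pow_zero] at hmod
    have h4 : r ∣ p ^ 2 - 1 := (Nat.modEq_iff_dvd' (Nat.one_le_pow _ _ hp.pos)).mp hmod.symm
    have h5 : p ^ 2 - 1 = (p - 1) * (p + 1) := by
      obtain ⟨q, rfl⟩ : ∃ q, p = q + 1 := ⟨p - 1, by omega⟩
      simp only [Nat.add_sub_cancel]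
      have : (q + 1) ^ 2 = q * (q + 1 + 1) + 1 := by ring
      rw [this, Nat.add_sub_cancel]
    rw [h5] at h4
    rcases (Nat.Prime.dvd_mul hr).mp h4 with h6 | h6
    · exact h2 h6
    · exact h3 h6
  · -- card F = p
    exfalso
    rw [hFk, pow_one] at hmod
    have hle : p ≤ p ^ 2 := by nlinarith
    have h4 : r ∣ p ^ 2 - p := (Nat.modEq_iff_dvd' hle).mp hmod.symm
    have h5 : p ^ 2 - p = p * (p - 1) := by
      obtain ⟨q, rfl⟩ : ∃ q, p = q + 1 := ⟨p - 1, by omega⟩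
      simp only [Nat.add_sub_cancel]
      have : (q + 1) ^ 2 = (q + 1) * q + (q + 1) := by ring
      rw [this, Nat.add_sub_cancel]
    rw [h5] at h4
    rcases (Nat.Prime.dvd_mul hr).mp h4 with h6 | h6
    · exact h1 h6
    · exact h2 h6
  · -- card F = p ^ 2: everything is fixed
    have hFtop : F = ⊤ := Subgroup.eq_top_of_card_eq F (by rw [hFk, hA])
    ext a
    have : a ∈ F := hFtop ▸ Subgroup.mem_top a
    exact this


/-- An automorphism of finite order of a group of order `p ^ 2` is trivial if no prime divisor of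
its order divides `p`, `p - 1` or `p + 1`. -/
theorem mulAut_sq_eq_one {A : Type*} [Group A] [Finite A] {p : ℕ} (hp : p.Prime)
    (hA : Nat.card A = p ^ 2) (φ : MulAut A) (hd : orderOf φ ≠ 0)
    (h : ∀ r : ℕ, r.Prime → r ∣ orderOf φ → ¬ r ∣ p ∧ ¬ r ∣ p - 1 ∧ ¬ r ∣ p + 1) : φ = 1 := by
  by_contra hne
  have hd1 : orderOf φ ≠ 1 := fun h1 => hne (orderOf_eq_one_iff.mp h1)
  obtain ⟨r, hr, hrd⟩ := Nat.exists_prime_and_dvd hd1
  obtain ⟨m, hm⟩ := hrd
  have hm0 : m ≠ 0 := by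
    rintro rfl
    rw [mul_zero] at hm
    exact hd hm
  have hmd : m ∣ orderOf φ := ⟨r, by rw [hm, mul_comm]⟩
  have hord : orderOf (φ ^ m) = r := by
    rw [orderOf_pow_of_dvd hm0 hmd, hm, Nat.mul_div_cancel _ (Nat.pos_of_ne_zero hm0)]
  have hpow : (φ ^ m) ^ r = 1 := by rw [← hord]; exact pow_orderOf_eq_one _
  obtain ⟨h1, h2, h3⟩ := h r hr ⟨m, hm⟩
  have h4 := mulAut_sq_eq_one_of_pow_prime hp hA (φ ^ m) hr hpow h1 h2 h3
  rw [h4, orderOf_one] at hord
  exact hr.one_lt.ne hord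

variable {G : Type*} [Group G]

/-- An element `t` normalizing a subgroup `A` of order `p ^ 2` centralizes it as soon as no prime
divisor of the order of `t` divides `p`, `p - 1` or `p + 1`. -/
theorem centralizes_sq_of_primes [Finite G] {p : ℕ} (hp : p.Prime) {A : Subgroup G}
    (hA : Nat.card A = p ^ 2) {t : G} (ht : t ∈ Subgroup.normalizer (A : Set G))
    (h : ∀ r : ℕ, r.Prime → r ∣ orderOf t → ¬ r ∣ p ∧ ¬ r ∣ p - 1 ∧ ¬ r ∣ p + 1) :
    ∀ a ∈ A, t * a * t⁻¹ = a := by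
  have hdvd := Cfsg.Agent.Lib.Helper15.BG103.orderOf_cAut_dvd A t ht
  have ht0 : orderOf t ≠ 0 := (orderOf_pos t).ne'
  have hd : orderOf (Cfsg.Agent.Lib.Helper15.BG103.cAut A t ht) ≠ 0 := by
    intro h0
    rw [h0, zero_dvd_iff] at hdvd
    exact ht0 hdvd
  have h1 := mulAut_sq_eq_one hp hA (Cfsg.Agent.Lib.Helper15.BG103.cAut A t ht) hd
    (fun r hr hrd => h r hr (hrd.trans hdvd))
  intro a ha
  have h2 := Cfsg.Agent.Lib.Helper15.BG103.cAut_apply A t ht ⟨a, ha⟩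
  rw [h1] at h2
  exact h2.symm


/-! ### The statements of S1416, S1417, S1418 as hypotheses -/

/-- The statement of S1416 (BG Lemma 12.4), first conjunct, for the maximal subgroup `M`. -/
def Hyp16 (M : Subgroup G) : Prop :=
  ∀ (p : ℕ) [Fact p.Prime] (A : Subgroup G),
    (A ≤ M ∧ IsElementaryAbelian p A ∧ Nat.card A = p ^ 2) → Subgroup.centralizer (A : Set G) ≤ M

/-- The statement of S1417 (BG Theorem 12.5) for the maximal subgroup `M`. -/
def Hyp17 (M : Subgroup G) : Prop :=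
  ∀ (p : ℕ) [Fact p.Prime], p ∈ tau2 M → ∀ A : Subgroup G,
    (A ≤ M ∧ IsElementaryAbelian p A ∧ Nat.card A = p ^ 2) →
    Group.IsNilpotent (sigmaCore M) ∧
      (∀ P : Sylow p M, IsMulCommutative (P : Subgroup M) ∧
        (A ≤ (P : Subgroup M).map M.subtype →
          (∀ x ∈ (P : Subgroup M).map M.subtype, x ^ p = 1 ↔ x ∈ A) ∧
          ¬ Subgroup.normalizer ((((P : Subgroup M).map M.subtype : Subgroup G)) : Set G) ≤ M)) ∧
      M ≤ Subgroup.normalizer ((sigmaCore M ⊔ A : Subgroup G) : Set G) ∧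
      sigmaCore M ⊓ Subgroup.centralizer (A : Set G) = ⊥ ∧
      (∀ Mstar : Subgroup G, IsCoatom Mstar → Mstar ≠ M → A ≤ Mstar → sigmaCore M ⊓ Mstar = ⊥) ∧
      ∃ A₁ : Subgroup G, A₁ ≤ A ∧ Nat.card A₁ = p ∧
        sigmaCore M ⊓ Subgroup.centralizer (A₁ : Set G) = ⊥

/-- The statement of S1418 (BG Corollary 12.6) for the maximal subgroup `M`. -/
def Hyp18 (M : Subgroup G) : Prop :=
  ∀ (E : Subgroup G), IsComplIn E (sigmaCore M) M → ∀ (p : ℕ) [Fact p.Prime], p ∈ tau2 M →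
    ∀ A : Subgroup G, (A ≤ E ∧ IsElementaryAbelian p A ∧ Nat.card A = p ^ 2) →
    (E ≤ Subgroup.normalizer (A : Set G) ∧ ∀ X : Subgroup G, X ≤ E → Nat.card X = p → X ≤ A) ∧
      (Subgroup.centralizer (A : Set G) ≤ M ⊓ Subgroup.normalizer (A : Set G) ∧
        M ⊓ Subgroup.normalizer (A : Set G) = E ∧
        ¬ Subgroup.normalizer (A : Set G) ≤ M) ∧
      ∀ X : Subgroup G, X ≤ A → Nat.card X = p →
        sigmaCore M ⊓ Subgroup.centralizer (X : Set G) ≠ ⊥ →
        (Subgroup.centralizer (X : Set G) ≤ M ∧ ∀ L : Subgroup G, IsCoatom L →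
          Subgroup.centralizer (X : Set G) ≤ L → L = M)

/-! ### Small arithmetic and `p`-group facts -/

/-- An odd prime `r` larger than the odd prime `p` divides none of `p`, `p - 1`, `p + 1`. -/
theorem not_dvd_of_lt_prime {p r : ℕ} (hp : p.Prime) (hpodd : Odd p) (hrodd : Odd r)
    (h : p < r) : ¬ r ∣ p ∧ ¬ r ∣ p - 1 ∧ ¬ r ∣ p + 1 := by
  have hp2 := hp.two_le
  refine ⟨fun hd => ?_, fun hd => ?_, fun hd => ?_⟩
  · have := Nat.le_of_dvd hp.pos hd
    omega
  · have := Nat.le_of_dvd (by omega) hd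
    omega
  · have h1 := Nat.le_of_dvd (by omega) hd
    have h2 : r = p + 1 := by omega
    obtain ⟨a, ha⟩ := hpodd
    obtain ⟨b, hb⟩ := hrodd
    omega

/-- A prime of `τ₂(M)` comes with an elementary abelian subgroup of `M` of order `p ^ 2`. -/
theorem exists_elemAb_sq_of_tau2 [Finite G] {M : Subgroup G} {p : ℕ} (hp : p ∈ tau2 M) :
    ∃ A : Subgroup G, A ≤ M ∧ IsElementaryAbelian p A ∧ Nat.card A = p ^ 2 := by
  obtain ⟨hpp, -, hr2, hr1⟩ := hp
  have : Fact p.Prime := ⟨hpp⟩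
  obtain ⟨A, hAM, hAc, hAe, hAcard⟩ := Cfsg.Agent.Lib.Helper55.not_pRankLE_sub_iff.mp hr1
  refine ⟨A, hAM, ⟨⟨⟨fun a b => Subtype.ext (hAc a.1 a.2 b.1 b.2)⟩⟩, hAe⟩, ?_⟩
  have hle : Nat.card A ≤ p ^ 2 := by
    by_contra hlt
    exact (Cfsg.Agent.Lib.Helper55.not_pRankLE_sub_iff.mpr
      ⟨A, hAM, hAc, hAe, not_le.mp hlt⟩) hr2
  have hAp : IsPGroup p A := by
    intro a
    refine ⟨1, ?_⟩
    have := hAe a.1 a.2
    apply Subtype.ext
    simpa using this
  obtain ⟨n, hn⟩ := IsPGroup.iff_card.mp hAp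
  rw [hn] at hAcard hle ⊢
  have h1 : 1 < n := (Nat.pow_lt_pow_iff_right hpp.one_lt).mp hAcard
  have h2 : n ≤ 2 := (Nat.pow_le_pow_iff_right hpp.one_lt).mp hle
  have : n = 2 := by omega
  rw [this]

/-- For odd `p`, a noncyclic `p`-subgroup contains an elementary abelian subgroup of order
`p ^ 2`. -/
theorem exists_elemAb_sq_le [Finite G] {p : ℕ} [Fact p.Prime] (hp2 : p ≠ 2) {P : Subgroup G}
    (hP : IsPGroup p P) (hnc : ¬ IsCyclic P) :
    ∃ A : Subgroup G, A ≤ P ∧ IsElementaryAbelian p A ∧ Nat.card A = p ^ 2 := by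
  obtain ⟨A, -, hAel, hAcard⟩ :=
    Cfsg.Agent.Lib.Helper97.exists_normal_elementary_sq hp2 hP hnc
  refine ⟨A.map P.subtype, Subgroup.map_subtype_le _,
    Cfsg.Agent.Lib.Helper15.BG103.isElementaryAbelian_map P.subtype A hAel, ?_⟩
  rw [Subgroup.card_map_of_injective P.subtype_injective, hAcard]


/-! ### BG Lemma 12.8–12.10 (a), (b), (c) -/

/-- `q`-subgroups of `M` are commutative when `q ∉ σ(M)` (given S1417). -/
theorem comm_of_pgroup_not_sigma [Finite G] (hG : IsMinSimpleOddOrder G) {M : Subgroup G}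
    (hM : IsCoatom M) (h17 : Hyp17 M) {q : ℕ} [Fact q.Prime] (hq : q ∉ sigma M)
    {Q : Subgroup G} (hQM : Q ≤ M) (hQ : IsPGroup q Q) :
    ∀ a ∈ Q, ∀ b ∈ Q, a * b = b * a := by
  have hqp : q.Prime := Fact.out
  by_cases hQ1 : Q = ⊥
  · intro a ha b hb
    rw [hQ1, Subgroup.mem_bot] at ha hb
    rw [ha, hb]
  have hq2 : q ≠ 2 := Cfsg.Agent.Lib.Helper55.ms_prime_ne_two hG hQ hQ1
  by_cases hr2 : PRankLE q 2 ↥M
  swap
  · exact absurd (mem_sigma_of_not_pRankLE_two hG hM hqp hr2) hq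
  by_cases hr1 : PRankLE q 1 ↥M
  · have hcyc : IsCyclic ↥Q := isCyclic_of_pRankLE_one hq2 hr1 hQM hQ
    intro a ha b hb
    let _ : CommGroup ↥Q := IsCyclic.commGroup
    exact congrArg Subtype.val (mul_comm (⟨a, ha⟩ : ↥Q) ⟨b, hb⟩)
  · have htau : q ∈ tau2 M := ⟨hqp, hq, hr2, hr1⟩
    obtain ⟨A, hAM, hAel, hAcard⟩ := exists_elemAb_sq_of_tau2 htau
    have h := (h17 q htau A ⟨hAM, hAel, hAcard⟩).2.1
    have hQ' : IsPGroup q (Q.subgroupOf M) := hQ.comap_of_injective M.subtype M.subtype_injective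
    obtain ⟨P, hP⟩ := hQ'.exists_le_sylow
    have hPc := (h P).1
    intro a ha b hb
    have ha' : (⟨a, hQM ha⟩ : ↥M) ∈ (P : Subgroup ↥M) := hP (Subgroup.mem_subgroupOf.mpr ha)
    have hb' : (⟨b, hQM hb⟩ : ↥M) ∈ (P : Subgroup ↥M) := hP (Subgroup.mem_subgroupOf.mpr hb)
    have := hPc.is_comm.comm (⟨⟨a, hQM ha⟩, ha'⟩ : ↥(P : Subgroup ↥M)) ⟨⟨b, hQM hb⟩, hb'⟩
    exact congrArg (fun z : ↥(P : Subgroup ↥M) => ((z : ↥M) : G)) this

/-- BG 12.10(a)?: nilpotent `σ(M)'`-subgroups of `M` are abelian (given S1417). -/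
theorem nilpotent_sigma'_comm [Finite G] (hG : IsMinSimpleOddOrder G) {M : Subgroup G}
    (hM : IsCoatom M) (h17 : Hyp17 M) {N : Subgroup G} (hNM : N ≤ M)
    (hnil : Group.IsNilpotent N)
    (hσ : ∀ p : ℕ, p.Prime → p ∣ Nat.card N → p ∉ sigma M) : IsMulCommutative N := by
  have hab : Cfsg.Agent.Lib.Helper84.AbSyl ↥N := by
    intro q _ P a ha b hb
    have hqp : q.Prime := Fact.out
    have ha' : a ∈ (P : Subgroup ↥N) := ha
    have hb' : b ∈ (P : Subgroup ↥N) := hb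
    by_cases hP : (P : Subgroup ↥N) = ⊥
    · rw [hP, Subgroup.mem_bot] at ha' hb'
      rw [ha', hb']
    have hPp : IsPGroup q ((P : Subgroup ↥N).map N.subtype) := P.2.map N.subtype
    have hPN : (P : Subgroup ↥N).map N.subtype ≤ N := Subgroup.map_subtype_le _
    have hP1 : (P : Subgroup ↥N).map N.subtype ≠ ⊥ := by
      intro h
      exact hP ((Subgroup.map_eq_bot_iff_of_injective _ N.subtype_injective).mp h)
    have hdvd : q ∣ Nat.card N := by
      obtain ⟨n, hn⟩ := IsPGroup.iff_card.mp hPp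
      have hn0 : n ≠ 0 := by
        rintro rfl
        rw [pow_zero] at hn
        exact hP1 (Subgroup.card_eq_one.mp hn)
      exact ((dvd_pow_self q hn0).trans (hn ▸ dvd_rfl)).trans (Subgroup.card_dvd_of_le hPN)
    have := comm_of_pgroup_not_sigma hG hM h17 (hσ q hqp hdvd) (hPN.trans hNM) hPp
      a.1 ⟨a, ha, rfl⟩ b.1 ⟨b, hb, rfl⟩
    exact Subtype.ext this
  exact ⟨⟨fun a b => hab.comm_of_isNilpotent hnil a b⟩⟩

/-- BG 12.10(b)?: `E'` is abelian for a complement `E` of `M_σ` in `M` (given S1417). -/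
theorem commutator_compl_comm [Finite G] (hG : IsMinSimpleOddOrder G) {M E : Subgroup G}
    (hM : IsCoatom M) (h17 : Hyp17 M) (hE : IsComplIn E (sigmaCore M) M)
    (hHall : IsPiHallOf (sigma M) (sigmaCore M) M) : IsMulCommutative ↥⁅E, E⁆ := by
  have hnil : Group.IsNilpotent ↥⁅E, E⁆ :=
    (lemma_12_1 hG hM hE (hkey_of_sigma_hall hG hM hHall)).1
  refine nilpotent_sigma'_comm hG hM h17 ((Subgroup.commutator_le_self E).trans hE.1) hnil ?_
  intro p hp hpd hpσ
  apply hHall.2.2 p hp hpσ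
  rw [relIndex_eq_card_of_complIn hE]
  exact hpd.trans (Subgroup.card_dvd_of_le (Subgroup.commutator_le_self E))

/-- BG 12.10(c)?: for `p ∈ σ(M)`, the normalizer of a noncyclic `p`-subgroup of `M` lies in `M`
(given S1416 and S1404). -/
theorem normalizer_le_of_noncyclic [Finite G] (hG : IsMinSimpleOddOrder G) {M : Subgroup G}
    (_hM : IsCoatom M) (h16 : Hyp16 M)
    (h1404 : ∀ (p : ℕ) [Fact p.Prime], p ∈ sigma M → ∀ X : Subgroup G, IsPGroup p X → X ≠ ⊥ →
      X ≤ M → Subgroup.normalizer (X : Set G) =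
        (M ⊓ Subgroup.normalizer (X : Set G)) ⊔ Subgroup.centralizer (X : Set G))
    {p : ℕ} {P : Subgroup G} (hp : p ∈ sigma M) (hP : IsPGroup p P) (hPM : P ≤ M)
    (hnc : ¬ IsCyclic P) : Subgroup.normalizer (P : Set G) ≤ M := by
  have : Fact p.Prime := ⟨hp.1⟩
  have hP1 : P ≠ ⊥ := by
    rintro rfl
    exact hnc inferInstance
  have hp2 : p ≠ 2 := Cfsg.Agent.Lib.Helper55.ms_prime_ne_two hG hP hP1
  obtain ⟨A, hAP, hAel, hAcard⟩ := exists_elemAb_sq_le hp2 hP hnc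
  have hCA : Subgroup.centralizer (A : Set G) ≤ M := h16 p A ⟨hAP.trans hPM, hAel, hAcard⟩
  have hCP : Subgroup.centralizer (P : Set G) ≤ M :=
    (Subgroup.centralizer_le (by exact_mod_cast hAP)).trans hCA
  rw [h1404 p hp P hP hP1 hPM]
  exact sup_le inf_le_left hCP


/-! ### Hall complements of `M_σ` -/

/-- Two numbers without a common prime divisor are coprime (set form). -/
theorem coprime_of_primes_disjoint {a b : ℕ} {π : Set ℕ}
    (ha : ∀ p : ℕ, p.Prime → p ∣ a → p ∉ π) (hb : ∀ p : ℕ, p.Prime → p ∣ b → p ∈ π) :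
    a.Coprime b :=
  Nat.coprime_of_dvd fun p hp hpa hpb => ha p hp hpa (hb p hp hpb)

/-- A subgroup `E₁` of `M` whose order is coprime to that of the `M`-invariant subgroup `S ≤ M`,
with `|E₁| |S| = |M|`, complements `S` in `M`. -/
theorem isComplIn_of_card [Finite G] {E₁ S M : Subgroup G} (hE : E₁ ≤ M) (hS : S ≤ M)
    (hn : M ≤ Subgroup.normalizer (S : Set G)) (hcop : (Nat.card E₁).Coprime (Nat.card S))
    (hcard : Nat.card E₁ * Nat.card S = Nat.card M) : IsComplIn E₁ S M := by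
  have hbot : E₁ ⊓ S = ⊥ := (Subgroup.disjoint_of_coprime_natCard hcop).eq_bot
  refine ⟨hE, hS, hbot, ?_⟩
  have hsup : S ⊔ E₁ = M := by
    have hle : S ⊔ E₁ ≤ M := sup_le hS hE
    apply Subgroup.eq_of_le_of_card_ge hle
    have h1 : Nat.card E₁ ∣ Nat.card ↥(S ⊔ E₁) := Subgroup.card_dvd_of_le le_sup_right
    have h2 : Nat.card S ∣ Nat.card ↥(S ⊔ E₁) := Subgroup.card_dvd_of_le le_sup_left
    have h3 : Nat.card E₁ * Nat.card S ∣ Nat.card ↥(S ⊔ E₁) :=
      Nat.Coprime.mul_dvd_of_dvd_of_dvd hcop h1 h2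
    rw [hcard] at h3
    exact Nat.le_of_dvd Nat.card_pos h3
  intro m hm
  have hm' : m⁻¹ ∈ S ⊔ E₁ := by rw [hsup]; exact M.inv_mem hm
  obtain ⟨s, hs, e, he, hse⟩ :=
    Cfsg.Agent.Lib.Helper54.exists_mul_of_mem_sup_of_le_normalizer (hE.trans hn) hm'
  refine ⟨e⁻¹, E₁.inv_mem he, s⁻¹, S.inv_mem hs, ?_⟩
  rw [← mul_inv_rev, ← hse, inv_inv]

/-- Every `σ(M)'`-subgroup `K` of `M` lies in a complement `E₁` of `M_σ` in `M`. -/
theorem exists_complIn_ge [Finite G] (hG : IsMinSimpleOddOrder G) {M : Subgroup G}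
    (hM : IsCoatom M) (hHall : IsPiHallOf (sigma M) (sigmaCore M) M) {K : Subgroup G}
    (hKM : K ≤ M) (hK : ∀ p : ℕ, p.Prime → p ∣ Nat.card K → p ∉ sigma M) :
    ∃ E₁ : Subgroup G, IsComplIn E₁ (sigmaCore M) M ∧ K ≤ E₁ := by
  have : Group.IsSolvable ↥M := Cfsg.Agent.Lib.Helper55.ms_solvable hG hM.1
  have hK' : ∀ p : ℕ, p.Prime → p ∣ Nat.card (K.subgroupOf M) → p ∈ (sigma M)ᶜ := by
    intro p hp hpd
    rw [Nat.card_congr (Subgroup.subgroupOfEquivOfLe hKM).toEquiv] at hpd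
    exact hK p hp hpd
  obtain ⟨L, hKL, hL1, hL2⟩ :=
    Cfsg.Agent.Lib.Helper71.BG10.exists_hall_ge (sigma M)ᶜ (K.subgroupOf M) hK'
  have hn : M ≤ Subgroup.normalizer (sigmaCore M : Set G) :=
    Cfsg.Agent.Lib.Helper31.le_normalizer_piCoreOf (sigma M) M
  have hcL : Nat.card ↥(L.map M.subtype) = Nat.card L :=
    Subgroup.card_map_of_injective M.subtype_injective
  -- arithmetic
  have e1 : Nat.card L * L.index = Nat.card M := Subgroup.card_mul_index L
  have e2 : Nat.card ((sigmaCore M).subgroupOf M) * ((sigmaCore M).subgroupOf M).index =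
      Nat.card M := Subgroup.card_mul_index _
  rw [Nat.card_congr (Subgroup.subgroupOfEquivOfLe hHall.1).toEquiv] at e2
  have hi1 : ∀ p : ℕ, p.Prime → p ∣ L.index → p ∈ sigma M := fun p hp hpd => by
    by_contra h
    exact hL2 p hp hpd h
  have hi2 : ∀ p : ℕ, p.Prime → p ∣ ((sigmaCore M).subgroupOf M).index → p ∉ sigma M :=
    fun p hp hpd hpσ => hHall.2.2 p hp hpσ hpd
  have c1 : (Nat.card L).Coprime (Nat.card (sigmaCore M)) :=
    coprime_of_primes_disjoint (fun p hp hpd => hL1 p hp hpd) hHall.2.1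
  have c2 : (((sigmaCore M).subgroupOf M).index).Coprime L.index :=
    coprime_of_primes_disjoint hi2 hi1
  have d1 : Nat.card L ∣ ((sigmaCore M).subgroupOf M).index := by
    have : Nat.card L ∣ Nat.card (sigmaCore M) * ((sigmaCore M).subgroupOf M).index := by
      rw [e2, ← e1]; exact dvd_mul_right _ _
    exact c1.dvd_of_dvd_mul_left this
  have d2 : ((sigmaCore M).subgroupOf M).index ∣ Nat.card L := by
    have : ((sigmaCore M).subgroupOf M).index ∣ Nat.card L * L.index := by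
      rw [e1, ← e2]; exact dvd_mul_left _ _
    exact c2.dvd_of_dvd_mul_right this
  have e3 : Nat.card L = ((sigmaCore M).subgroupOf M).index := Nat.dvd_antisymm d1 d2
  refine ⟨L.map M.subtype, isComplIn_of_card (Subgroup.map_subtype_le _) hHall.1 hn ?_ ?_, ?_⟩
  · rw [hcL]; exact c1
  · rw [hcL, e3, mul_comm]; exact e2
  · intro k hk
    exact ⟨⟨k, hKM hk⟩, hKL (Subgroup.mem_subgroupOf.mpr hk), rfl⟩


/-- The order of a complement of `M_σ` in `M` involves no prime of `σ(M)`. -/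
theorem complIn_prime_not_mem_sigma [Finite G] {M E₁ : Subgroup G}
    (hHall : IsPiHallOf (sigma M) (sigmaCore M) M) (h₁ : IsComplIn E₁ (sigmaCore M) M) :
    ∀ p : ℕ, p.Prime → p ∣ Nat.card E₁ → p ∉ sigma M := by
  intro p hp hpd hpσ
  apply hHall.2.2 p hp hpσ
  rw [relIndex_eq_card_of_complIn h₁]
  exact hpd

/-- Any two complements of `M_σ` in `M` are conjugate by an element of `M_σ`. -/
theorem complIn_conj [Finite G] (hG : IsMinSimpleOddOrder G) {M : Subgroup G}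
    (hM : IsCoatom M) (hHall : IsPiHallOf (sigma M) (sigmaCore M) M) {E₁ E₂ : Subgroup G}
    (h₁ : IsComplIn E₁ (sigmaCore M) M) (h₂ : IsComplIn E₂ (sigmaCore M) M) :
    ∃ s ∈ sigmaCore M, MulAut.conj s • E₂ = E₁ := by
  have hn : M ≤ Subgroup.normalizer (sigmaCore M : Set G) :=
    Cfsg.Agent.Lib.Helper31.le_normalizer_piCoreOf (sigma M) M
  have hStop : sigmaCore M ≠ ⊤ := fun h => hM.1 (top_le_iff.mp (h ▸ hHall.1))
  have hsolv : Group.IsSolvable ↥(sigmaCore M) := Cfsg.Agent.Lib.Helper55.ms_solvable hG hStop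
  have hcop : (Nat.card (sigmaCore M)).Coprime (Nat.card E₁) :=
    (coprime_of_primes_disjoint (complIn_prime_not_mem_sigma hHall h₁) hHall.2.1).symm
  have hB : E₂ ≤ E₁ ⊔ sigmaCore M := by
    intro e he
    obtain ⟨a, ha, b, hb, rfl⟩ := h₁.2.2.2 e (h₂.1 he)
    exact Subgroup.mul_mem_sup ha hb
  have hcard : Nat.card E₂ = Nat.card E₁ := by
    rw [← relIndex_eq_card_of_complIn h₁, ← relIndex_eq_card_of_complIn h₂]
  exact Cfsg.Agent.Lib.Helper01.conj_by_normal_of_card_eq (h₁.1.trans hn) hcop (Or.inl hsolv)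
    hB hcard

/-- For `p ∈ τ₂(M)`, every complement of `M_σ` in `M` contains an elementary abelian subgroup of
order `p ^ 2`. -/
theorem exists_elemAb_sq_le_compl [Finite G] (hG : IsMinSimpleOddOrder G) {M : Subgroup G}
    (hM : IsCoatom M) (hHall : IsPiHallOf (sigma M) (sigmaCore M) M) {p : ℕ}
    (hp : p ∈ tau2 M) {E₁ : Subgroup G} (h₁ : IsComplIn E₁ (sigmaCore M) M) :
    ∃ A : Subgroup G, A ≤ E₁ ∧ IsElementaryAbelian p A ∧ Nat.card A = p ^ 2 := by
  obtain ⟨A', hA'M, hA'el, hA'card⟩ := exists_elemAb_sq_of_tau2 hp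
  have hK : ∀ q : ℕ, q.Prime → q ∣ Nat.card A' → q ∉ sigma M := by
    intro q hq hqd
    rw [hA'card] at hqd
    have : q = p := (Nat.prime_dvd_prime_iff_eq hq hp.1).mp (hq.dvd_of_dvd_pow hqd)
    rw [this]
    exact hp.2.1
  obtain ⟨E₂, h₂, hA'E₂⟩ := exists_complIn_ge hG hM hHall hA'M hK
  obtain ⟨s, -, hs⟩ := complIn_conj hG hM hHall h₁ h₂
  refine ⟨A'.map (MulAut.conj s).toMonoidHom, ?_,
    Cfsg.Agent.Lib.Helper15.BG103.isElementaryAbelian_map _ A' hA'el, ?_⟩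
  · rw [← hs]
    rintro _ ⟨a, ha, rfl⟩
    exact Subgroup.smul_mem_pointwise_smul a (MulAut.conj s) E₂ (hA'E₂ ha)
  · rw [Subgroup.card_map_of_injective (MulAut.conj s).injective, hA'card]

/-- A `p`-element of `M` normalizing a `p`-subgroup `A` of `M` centralizes it when `p ∉ σ(M)`
(given S1417). -/
theorem comm_of_pElement_normalizing [Finite G] (hG : IsMinSimpleOddOrder G) {M : Subgroup G}
    (hM : IsCoatom M) (h17 : Hyp17 M) {p : ℕ} [Fact p.Prime] (hp : p ∉ sigma M)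
    {A : Subgroup G} (hAM : A ≤ M) (hA : IsPGroup p A) {u : G} (huM : u ∈ M)
    (hu : ∃ k : ℕ, orderOf u = p ^ k) (hun : u ∈ Subgroup.normalizer (A : Set G)) :
    ∀ a ∈ A, u * a = a * u := by
  have hpp : p.Prime := Fact.out
  have hZn : Subgroup.zpowers u ≤ Subgroup.normalizer (A : Set G) :=
    (Subgroup.zpowers_le).mpr hun
  have h1 := Cfsg.Agent.Lib.Helper01.card_sup_mul_card_inf_of_le_normalizer A
    (Subgroup.zpowers u) hZn
  obtain ⟨k, hk⟩ := hu
  obtain ⟨n, hn⟩ := IsPGroup.iff_card.mp hA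
  rw [hn, Nat.card_zpowers, hk, ← pow_add] at h1
  have h2 : Nat.card ↥(Subgroup.zpowers u ⊔ A) ∣ p ^ (n + k) := ⟨_, h1.symm⟩
  obtain ⟨j, -, hj⟩ := (Nat.dvd_prime_pow hpp).mp h2
  have hQ : IsPGroup p ↥(Subgroup.zpowers u ⊔ A) := IsPGroup.of_card hj
  have hQM : Subgroup.zpowers u ⊔ A ≤ M := sup_le ((Subgroup.zpowers_le).mpr huM) hAM
  intro a ha
  exact comm_of_pgroup_not_sigma hG hM h17 hp hQM hQ u
    (Subgroup.mem_sup_left (Subgroup.mem_zpowers u)) a (Subgroup.mem_sup_right ha)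


/-- BG 12.10(d)?: a `τ₂(M)`-element `x ≠ 1` of `M` centralizing a non-identity element of `M_σ` has
`C_G(x) ≤ M`, and `M` is the only maximal subgroup containing `C_G(x)` (given S1350, S1417 and
S1418). -/
theorem cent_tau2_sigmaHat [Finite G] (hG : IsMinSimpleOddOrder G) {M : Subgroup G}
    (hM : IsCoatom M) (hHall : IsPiHallOf (sigma M) (sigmaCore M) M) (h17 : Hyp17 M)
    (h18 : Hyp18 M) {x : G} (hxM : x ∈ M) (hx1 : x ≠ 1)
    (hτ : ∀ p : ℕ, p.Prime → p ∣ orderOf x → p ∈ tau2 M) (hxσ : x ∈ sigmaHat M) :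
    Subgroup.centralizer ({x} : Set G) ≤ M ∧
      ∀ L : Subgroup G, IsCoatom L → Subgroup.centralizer ({x} : Set G) ≤ L → L = M := by
  obtain ⟨-, y, hyS, hy1, hxy⟩ := hxσ
  have hn0 : orderOf x ≠ 0 := (orderOf_pos x).ne'
  have hn1 : orderOf x ≠ 1 := fun h => hx1 (orderOf_eq_one_iff.mp h)
  have hpp : ((orderOf x).minFac).Prime := Nat.minFac_prime hn1
  obtain ⟨p, hpdef⟩ : ∃ p, p = (orderOf x).minFac := ⟨_, rfl⟩
  rw [← hpdef] at hpp
  have hpn : p ∣ orderOf x := hpdef ▸ Nat.minFac_dvd _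
  have hpτ : p ∈ tau2 M := hτ p hpp hpn
  have : Fact p.Prime := ⟨hpp⟩
  have hoddn : Odd (orderOf x) := Odd.of_dvd_nat hG.1 (orderOf_dvd_natCard x)
  have hpodd : Odd p := Odd.of_dvd_nat hoddn hpn
  -- a complement containing `x`
  have hKM : Subgroup.zpowers x ≤ M := Subgroup.zpowers_le.mpr hxM
  have hK : ∀ q : ℕ, q.Prime → q ∣ Nat.card (Subgroup.zpowers x) → q ∉ sigma M := by
    intro q hq hqd
    rw [Nat.card_zpowers] at hqd
    exact (hτ q hq hqd).2.1
  obtain ⟨E₁, hE₁, hKE₁⟩ := exists_complIn_ge hG hM hHall hKM hK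
  obtain ⟨A, hAE₁, hAel, hAcard⟩ := exists_elemAb_sq_le_compl hG hM hHall hpτ hE₁
  obtain ⟨⟨hnormA, hXA⟩, -, hcent⟩ := h18 E₁ hE₁ p hpτ A ⟨hAE₁, hAel, hAcard⟩
  have hxE₁ : x ∈ E₁ := hKE₁ (Subgroup.mem_zpowers x)
  -- the subgroup `X` of order `p` of `⟨x⟩`
  obtain ⟨m, hm⟩ := hpn
  have hm0 : m ≠ 0 := by
    rintro rfl
    rw [mul_zero] at hm
    exact hn0 hm
  have hmd : m ∣ orderOf x := ⟨p, by rw [hm, mul_comm]⟩
  have hord : orderOf (x ^ m) = p := by
    rw [orderOf_pow_of_dvd hm0 hmd]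
    conv_lhs => rw [hm]
    exact Nat.mul_div_cancel _ (Nat.pos_of_ne_zero hm0)
  have hXcard : Nat.card (Subgroup.zpowers (x ^ m)) = p := by rw [Nat.card_zpowers, hord]
  have hXE₁ : Subgroup.zpowers (x ^ m) ≤ E₁ := Subgroup.zpowers_le.mpr (E₁.pow_mem hxE₁ m)
  have hXleA : Subgroup.zpowers (x ^ m) ≤ A := hXA _ hXE₁ hXcard
  have hyX : y ∈ Subgroup.centralizer ((Subgroup.zpowers (x ^ m) : Subgroup G) : Set G) := by
    rw [Subgroup.mem_centralizer_iff]
    intro g hg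
    obtain ⟨k, rfl⟩ := Subgroup.mem_zpowers_iff.mp hg
    have hc : Commute x y := hxy
    exact ((hc.pow_left m).zpow_left k).eq
  have hne : sigmaCore M ⊓
      Subgroup.centralizer ((Subgroup.zpowers (x ^ m) : Subgroup G) : Set G) ≠ ⊥ := by
    intro h
    have : y ∈ sigmaCore M ⊓
        Subgroup.centralizer ((Subgroup.zpowers (x ^ m) : Subgroup G) : Set G) := ⟨hyS, hyX⟩
    rw [h, Subgroup.mem_bot] at this
    exact hy1 this
  obtain ⟨hCXM, -⟩ := hcent _ hXleA hXcard hne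
  have hCxCX : Subgroup.centralizer ({x} : Set G) ≤
      Subgroup.centralizer ((Subgroup.zpowers (x ^ m) : Subgroup G) : Set G) := by
    intro g hg
    rw [Subgroup.mem_centralizer_singleton_iff] at hg
    rw [Subgroup.mem_centralizer_iff]
    intro h hh
    obtain ⟨k, rfl⟩ := Subgroup.mem_zpowers_iff.mp hh
    have hc : Commute x g := hg.symm
    exact ((hc.pow_left m).zpow_left k).eq
  refine ⟨hCxCX.trans hCXM, ?_⟩
  intro L hL hCL
  by_contra hLM
  have hxN : x ∈ Subgroup.normalizer (A : Set G) := hnormA hxE₁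
  have hAM : A ≤ M := hAE₁.trans hE₁.1
  have hAp : IsPGroup p A := IsPGroup.of_card hAcard
  -- the `p`-part of `x` centralizes `A`
  have hm'd : ordCompl[p] (orderOf x) ∣ orderOf x := Nat.ordCompl_dvd _ p
  have hm'0 : ordCompl[p] (orderOf x) ≠ 0 := fun h0 => by
    rw [h0, zero_dvd_iff] at hm'd
    exact hn0 hm'd
  have hpm' : ¬ p ∣ ordCompl[p] (orderOf x) := Nat.not_dvd_ordCompl hpp hn0
  have hu : ∃ k : ℕ, orderOf (x ^ ordCompl[p] (orderOf x)) = p ^ k := by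
    refine ⟨(orderOf x).factorization p, ?_⟩
    rw [orderOf_pow_of_dvd hm'0 hm'd]
    exact Nat.div_eq_of_eq_mul_left (Nat.pos_of_ne_zero hm'0)
      (Nat.ordProj_mul_ordCompl_eq_self (orderOf x) p).symm
  have hucomm := comm_of_pElement_normalizing hG hM h17 hpτ.2.1 hAM hAp
    (M.pow_mem hxM (ordCompl[p] (orderOf x))) hu
    ((Subgroup.normalizer (A : Set G)).pow_mem hxN (ordCompl[p] (orderOf x)))
  have hφd : orderOf (Cfsg.Agent.Lib.Helper15.BG103.cAut A x hxN) ∣ orderOf x :=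
    Cfsg.Agent.Lib.Helper15.BG103.orderOf_cAut_dvd A x hxN
  have hφm : (Cfsg.Agent.Lib.Helper15.BG103.cAut A x hxN) ^ ordCompl[p] (orderOf x) = 1 := by
    ext a
    rw [Cfsg.Agent.Lib.Helper15.BG103.cAut_pow, hucomm a.1 a.2]
    simp
  have hφ0 : orderOf (Cfsg.Agent.Lib.Helper15.BG103.cAut A x hxN) ≠ 0 := by
    intro h0
    rw [h0, zero_dvd_iff] at hφd
    exact hn0 hφd
  have hφ1 : Cfsg.Agent.Lib.Helper15.BG103.cAut A x hxN = 1 := by
    apply mulAut_sq_eq_one hpp hAcard _ hφ0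
    intro r hr hrd
    have hrn : r ∣ orderOf x := hrd.trans hφd
    have hrm' : r ∣ ordCompl[p] (orderOf x) := hrd.trans (orderOf_dvd_of_pow_eq_one hφm)
    have hrp : r ≠ p := by
      rintro rfl
      exact hpm' hrm'
    have hpr : p ≤ r := hpdef ▸ Nat.minFac_le_of_dvd hr.two_le hrn
    have hrodd : Odd r := Odd.of_dvd_nat hoddn hrn
    exact not_dvd_of_lt_prime hpp hpodd hrodd (lt_of_le_of_ne hpr (Ne.symm hrp))
  have hAC : A ≤ Subgroup.centralizer ({x} : Set G) := by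
    intro a ha
    rw [Subgroup.mem_centralizer_singleton_iff]
    have h2 := Cfsg.Agent.Lib.Helper15.BG103.cAut_apply A x hxN ⟨a, ha⟩
    rw [hφ1] at h2
    have h3 : a = x * a * x⁻¹ := h2
    calc a * x = x * a * x⁻¹ * x := by rw [← h3]
      _ = x * a := by group
  have hAL : A ≤ L := hAC.trans hCL
  have hbot := (h17 p hpτ A ⟨hAM, hAel, hAcard⟩).2.2.2.2.1 L hL hLM hAL
  have hyL : y ∈ L := hCL (Subgroup.mem_centralizer_singleton_iff.mpr hxy.symm)
  have : y ∈ sigmaCore M ⊓ L := ⟨hyS, hyL⟩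
  rw [hbot, Subgroup.mem_bot] at this
  exact hy1 this


/-- The statement of S1420 (BG 12.8–12.10), from S1350, S1404 and the statements of S1416, S1417,
S1418 for `M`. -/
theorem s1420_of_hyps [Finite G] (hG : IsMinSimpleOddOrder G) (M : Subgroup G) (hM : IsCoatom M)
    (E : Subgroup G) (hE : IsComplIn E (sigmaCore M) M)
    (hHall : IsPiHallOf (sigma M) (sigmaCore M) M)
    (h1404 : ∀ (p : ℕ) [Fact p.Prime], p ∈ sigma M → ∀ X : Subgroup G, IsPGroup p X → X ≠ ⊥ →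
      X ≤ M → Subgroup.normalizer (X : Set G) =
        (M ⊓ Subgroup.normalizer (X : Set G)) ⊔ Subgroup.centralizer (X : Set G))
    (h16 : Hyp16 M) (h17 : Hyp17 M) (h18 : Hyp18 M) :
    (∀ N : Subgroup G, N ≤ M → Group.IsNilpotent N →
        (∀ p : ℕ, p.Prime → p ∣ Nat.card N → p ∉ sigma M) → IsMulCommutative N) ∧
      IsMulCommutative ↥⁅E, E⁆ ∧
      (∀ (p : ℕ) (P : Subgroup G), p ∈ sigma M → IsPGroup p P → P ≤ M → ¬ IsCyclic P →
        Subgroup.normalizer (P : Set G) ≤ M) ∧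
      ∀ x ∈ M, x ≠ 1 → (∀ p : ℕ, p.Prime → p ∣ orderOf x → p ∈ tau2 M) → x ∈ sigmaHat M →
        Subgroup.centralizer ({x} : Set G) ≤ M ∧ ∀ L : Subgroup G, IsCoatom L →
          Subgroup.centralizer ({x} : Set G) ≤ L → L = M :=
  ⟨fun _ hNM hnil hσ => nilpotent_sigma'_comm hG hM h17 hNM hnil hσ,
    commutator_compl_comm hG hM h17 hE hHall,
    fun _ _ hp hP hPM hnc => normalizer_le_of_noncyclic hG hM h16 h1404 hp hP hPM hnc,
    fun _ hxM hx1 hτ hxσ => cent_tau2_sigmaHat hG hM hHall h17 h18 hxM hx1 hτ hxσ⟩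

end Cfsg.Agent.Lib.Helper13.BG12
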