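import Mathlib
import Cfsg.Agent.S1350
import Cfsg.Agent.S1410
import Cfsg.Agent.Lib.Helper71.BG11b
import Cfsg.Agent.Lib.Helper91.BGFusion
import Cfsg.Agent.Lib.Helper32.OddFix
import Cfsg.Agent.Lib.Helper32.Coprime
import Cfsg.Agent.Lib.Helper31.Bg10a

/-!
# BG Proposition 12.4, the crux: `p ∈ τ₂(M)` is impossible in the non-unique case

A transfer argument (`P ≤ [P, N_G(P)]` for Sylow subgroups of a minimal simple group of odd
order all of whose proper subgroups have `p`-length one) together with a Sylow trick.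
-/

set_option autoImplicit false

namespace Cfsg.Agent.Lib.Helper13.BG12

open Cfsg Cfsg.Agent.Lib.Helper55 Cfsg.Agent.Lib.Helper31 Cfsg.Agent.Lib.Helper71.BG10
  Cfsg.Agent.Lib.Helper71.BG11
open scoped commutatorElement

variable {G : Type*} [Group G] [Finite G]

/-- **Sylow trick.** If `Q` is a Sylow `q`-subgroup of `G` with `N_G(Q) ≤ M` and `Q` centralizes
`X`, then `N_G(X) = (M ∩ N_G(X)) C_G(X)`. -/
theorem sylow_trick {q : ℕ} [Fact q.Prime] {M Q X : Subgroup G} (hQ : IsSylowIn q ⊤ Q)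
    (hNQ : Subgroup.normalizer (Q : Set G) ≤ M)
    (hQX : Q ≤ Subgroup.centralizer (X : Set G)) :
    ∀ n ∈ Subgroup.normalizer (X : Set G),
      ∃ m ∈ M ⊓ Subgroup.normalizer (X : Set G), ∃ c ∈ Subgroup.centralizer (X : Set G),
        n = m * c := by
  intro n hn
  have hn' : n⁻¹ ∈ Subgroup.normalizer (X : Set G) := Subgroup.inv_mem _ hn
  have hC : IsSylowIn q (Subgroup.centralizer (X : Set G)) Q :=
    ⟨hQX, hQ.2.1, fun T' _ hT'p hle => hQ.2.2 T' le_top hT'p hle⟩
  have h1 : cj n⁻¹ Q ≤ Subgroup.centralizer (X : Set G) := by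
    have h2 : cj n⁻¹ Q ≤ cj n⁻¹ (Subgroup.centralizer (X : Set G)) := cj_mono hQX
    rw [cj_centralizer, cj_eq_self_iff.mpr hn'] at h2
    exact h2
  have hC2 : IsSylowIn q (Subgroup.centralizer (X : Set G)) (cj n⁻¹ Q) := by
    have h3 : IsSylowIn q ⊤ (cj n⁻¹ Q) := by
      have := isSylowIn_cj hQ n⁻¹
      rwa [cj_top] at this
    exact ⟨h1, h3.2.1, fun T' _ hT'p hle => h3.2.2 T' le_top hT'p hle⟩
  obtain ⟨k, hk, hkQ⟩ := hC.exists_conj hC2
  -- `cj (n * k) Q = Q`
  have h4 : cj (n * k) Q = Q := by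
    rw [cj_mul, hkQ]
    have := cj_cj_inv n Q
    simpa using this
  have h5 : n * k ∈ M := hNQ (cj_eq_self_iff.mp h4)
  have hkN : k ∈ Subgroup.normalizer (X : Set G) := Subgroup.centralizer_le_normalizer _ hk
  refine ⟨n * k, ⟨h5, Subgroup.mul_mem _ hn hkN⟩, k⁻¹, Subgroup.inv_mem _ hk, ?_⟩
  group

/-- With the Sylow trick, `[X, N_G(X)] ≤ M'` for `X ≤ M`. -/
theorem commutator_le_of_trick {M X Y N : Subgroup G} (hYM : Y ≤ M) (hYX : Y ≤ X)
    (h : ∀ n ∈ N, ∃ m ∈ M, ∃ c ∈ Subgroup.centralizer (X : Set G), n = m * c) :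
    ⁅Y, N⁆ ≤ ⁅M, M⁆ := by
  rw [Subgroup.commutator_le]
  intro x hx n hn
  obtain ⟨m, hm, c, hc, rfl⟩ := h n hn
  have hcx : c * x⁻¹ = x⁻¹ * c :=
    (Subgroup.mem_centralizer_iff.mp hc x⁻¹ (Subgroup.inv_mem _ (hYX hx))).symm
  have h1 : ⁅x, m * c⁆ = ⁅x, m⁆ := by
    rw [commutatorElement_def, commutatorElement_def, mul_inv_rev]
    calc x * (m * c) * x⁻¹ * (c⁻¹ * m⁻¹) = x * m * (c * x⁻¹) * c⁻¹ * m⁻¹ := by group
      _ = x * m * (x⁻¹ * c) * c⁻¹ * m⁻¹ := by rw [hcx]
      _ = x * m * x⁻¹ * m⁻¹ := by group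
  rw [h1]
  exact Subgroup.commutator_mem_commutator (hYM hx) hm


/-- conjugation invariance in one direction suffices for a subgroup -/
theorem le_normalizer_of_conj_mem124 {K N : Subgroup G}
    (h : ∀ k ∈ K, ∀ n ∈ N, k * n * k⁻¹ ∈ N) : K ≤ Subgroup.normalizer (N : Set G) := by
  intro k hk
  rw [Subgroup.mem_normalizer_iff]
  intro n
  constructor
  · intro hn; exact h k hk n hn
  · intro hn
    have := h k⁻¹ (Subgroup.inv_mem _ hk) _ hn
    simpa [mul_assoc] using this

/-- elements of `C_G(A)` of order dividing `p` lie in `A`, for `A` maximal elementary abelian -/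
theorem mem_of_cent_of_max {p : ℕ} [Fact p.Prime] {A : Subgroup G}
    (hAe : IsElementaryAbelian p A)
    (hAmax : ∀ B : Subgroup G, IsElementaryAbelian p B → A ≤ B → B = A) {x : G}
    (hx : x ∈ Subgroup.centralizer (A : Set G)) (hxp : x ^ p = 1) : x ∈ A := by
  have hZ : IsElementaryAbelian p (Subgroup.zpowers x) := by
    refine ⟨inferInstance, ?_⟩
    intro y hy
    obtain ⟨k, rfl⟩ := Subgroup.mem_zpowers_iff.mp hy
    rw [← zpow_natCast, ← zpow_mul, mul_comm, zpow_mul, zpow_natCast, hxp, one_zpow]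
  have hc : ∀ a ∈ A, ∀ b ∈ Subgroup.zpowers x, a * b = b * a := by
    intro a ha b hb
    obtain ⟨k, rfl⟩ := Subgroup.mem_zpowers_iff.mp hb
    have h1 : Commute a x := (Subgroup.mem_centralizer_iff.mp hx a ha)
    exact (h1.zpow_right k).eq
  have h2 := hAmax _ (Cfsg.Agent.Lib.Helper99.isEA_sup hAe hZ hc) le_sup_left
  rw [← h2]
  exact (le_sup_right : Subgroup.zpowers x ≤ A ⊔ Subgroup.zpowers x) (Subgroup.mem_zpowers x)

/-- a nontrivial `p`-subgroup has a central element of order `p` -/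
theorem exists_central_order_p {p : ℕ} [Fact p.Prime] {S : Subgroup G} (hS : IsPGroup p S)
    (hS1 : S ≠ ⊥) : ∃ z ∈ S, (∀ s ∈ S, s * z = z * s) ∧ orderOf z = p := by
  haveI : Nontrivial S := (Subgroup.nontrivial_iff_ne_bot S).mpr hS1
  haveI := hS.center_nontrivial
  have hZp : IsPGroup p (Subgroup.center S) := hS.to_subgroup _
  have hd : p ∣ Nat.card (Subgroup.center S) := by
    obtain ⟨n, hn⟩ := IsPGroup.iff_card.mp hZp
    rw [hn]
    have hn0 : n ≠ 0 := by
      rintro rfl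
      rw [pow_zero] at hn
      have : Subsingleton (Subgroup.center S) := (Nat.card_eq_one_iff_unique.mp hn).1
      exact not_nontrivial _ ‹Nontrivial (Subgroup.center S)›
    exact dvd_pow_self p hn0
  obtain ⟨z, hz⟩ := exists_prime_orderOf_dvd_card' p hd
  refine ⟨((z : S) : G), (z : S).2, ?_, ?_⟩
  · intro s hs
    have h1 := Subgroup.mem_center_iff.mp z.2 ⟨s, hs⟩
    have h2 := congrArg (Subtype.val) h1
    simpa using h2
  · rw [← hz, Subgroup.orderOf_coe, Subgroup.orderOf_coe]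


/-- `M` normalizes its derived subgroup (as subgroups of `G`). -/
theorem le_normalizer_commutator_self124 (M : Subgroup G) :
    M ≤ Subgroup.normalizer ((⁅M, M⁆ : Subgroup G) : Set G) := by
  apply le_normalizer_of_conj_mem124
  intro m hm x hx
  have h1 : cj m ⁅M, M⁆ = ⁅M, M⁆ := by
    have h2 : cj m ⁅M, M⁆ = ⁅cj m M, cj m M⁆ := Subgroup.map_commutator _ _ _
    rw [h2, cj_eq_self_of_mem hm]
  have h3 : m * x * m⁻¹ ∈ cj m ⁅M, M⁆ := by
    rw [mem_cj]
    have : m⁻¹ * (m * x * m⁻¹) * m = x := by group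
    rw [this]; exact hx
  rwa [h1] at h3

/-- **BG Proposition 12.4, the crux.** `p ∉ σ(M)` is impossible when `A = E_{p²} ≤ M` centralizes the
nilpotent `M_σ ≠ 1`, `M'` is nilpotent, and each `N_G(A₀)` lies in a maximal subgroup other than
`M`.  The hypothesis `h11` is BG 11.5 + 11.6(a) for exceptional tuples. -/
theorem not_tau2_of_nonuniq (hG : IsMinSimpleOddOrder G) {M : Subgroup G} (hM : IsCoatom M)
    {p : ℕ} [Fact p.Prime] (hpσ : p ∉ sigma M) {A : Subgroup G} (hAM : A ≤ M)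
    (hAe : IsElementaryAbelian p A) (hAc : Nat.card A = p ^ 2)
    (hAmax : ∀ B : Subgroup G, IsElementaryAbelian p B → A ≤ B → B = A)
    (hH : ∀ A₀ : Subgroup G, A₀ ≤ A → Nat.card A₀ = p →
      ∃ H : Subgroup G, IsCoatom H ∧ Subgroup.normalizer (A₀ : Set G) ≤ H ∧ H ≠ M)
    (hder : Group.IsNilpotent ↥(⁅M, M⁆ : Subgroup G))
    (hσne : sigmaCore M ≠ ⊥) (hσnil : Group.IsNilpotent ↥(sigmaCore M))
    (hcent : sigmaCore M ≤ Subgroup.centralizer (A : Set G))
    (h11 : ∀ (H A₀ S : Subgroup G), Exc H p A A₀ → IsSylowIn p H S → A ≤ S →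
      (∀ x ∈ S, ∀ y ∈ S, x * y = y * x) ∧ ∀ x ∈ S, x ^ p = 1 → x ∈ A) : False := by
  have hpp : p.Prime := Fact.out
  have hAp : IsPGroup p A := IsPGroup.of_card hAc
  have hA1 : A ≠ ⊥ := by
    intro hA
    rw [hA, Subgroup.card_bot] at hAc
    have : 1 < p ^ 2 := Nat.one_lt_pow two_ne_zero hpp.one_lt
    omega
  -- the prime `q` and the Sylow subgroup `Q` of `M_σ`
  have hc1 : Nat.card (sigmaCore M) ≠ 1 := fun h1 => hσne (Subgroup.card_eq_one.mp h1)
  obtain ⟨q, hqp, hqd⟩ := Nat.exists_prime_and_dvd hc1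
  haveI : Fact q.Prime := ⟨hqp⟩
  have hqσ : q ∈ sigma M := sigmaCore_pi hG hM hqp hqd
  have hqp_ne : q ≠ p := fun e => hpσ (e ▸ hqσ)
  obtain ⟨Q, hQ, -⟩ := exists_isSylowIn_ge (p := q) (K := sigmaCore M) (Z := ⊥) bot_le
    IsPGroup.of_bot
  have hQ1 : Q ≠ ⊥ := sylow_ne_bot hqd hQ
  have hMQ : M ≤ Subgroup.normalizer (Q : Set G) :=
    sylow_normal_of_nilpotent hσnil hQ (le_normalizer_sigmaCore M)
  have hQM : Q ≤ M := hQ.1.trans (sigmaCore_le M)
  have hNQ : Subgroup.normalizer (Q : Set G) = M := ms_normalizer_eq hG hM hQ1 hQM hMQ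
  have hQtop : IsSylowIn q ⊤ Q :=
    isSylowIn_top_of_not_dvd_index hQ.2.1
      (not_dvd_index_of_isSylowIn hQ (sigmaCore_index hG hM hqσ))
  have hQA : Q ≤ Subgroup.centralizer (A : Set G) := hQ.1.trans hcent
  -- Sylow subgroups
  obtain ⟨P, hP, hAP⟩ := exists_isSylowIn_ge hAM hAp
  have hP1 : P ≠ ⊥ := fun e => hA1 (le_bot_iff.mp (e ▸ hAP))
  obtain ⟨S, hPS⟩ := IsPGroup.exists_le_sylow hP.2.1
  have hAS : A ≤ (S : Subgroup G) := hAP.trans hPS
  have hS1 : (S : Subgroup G) ≠ ⊥ := fun e => hA1 (le_bot_iff.mp (e ▸ hAS))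
  obtain ⟨z, hzS, hzc, hzo⟩ := exists_central_order_p S.isPGroup' hS1
  have hzp : z ^ p = 1 := by rw [← hzo]; exact pow_orderOf_eq_one z
  have hzCA : z ∈ Subgroup.centralizer (A : Set G) := by
    rw [Subgroup.mem_centralizer_iff]
    intro a ha
    exact hzc a (hAS ha)
  have hzA : z ∈ A := mem_of_cent_of_max hAe hAmax hzCA hzp
  have hA₀A : Subgroup.zpowers z ≤ A := by
    rw [Subgroup.zpowers_le]; exact hzA
  have hA₀c : Nat.card (Subgroup.zpowers z) = p := by rw [Nat.card_zpowers, hzo]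
  obtain ⟨H, hHco, hNH, hHM⟩ := hH _ hA₀A hA₀c
  have hCA₀ : Subgroup.centralizer ((Subgroup.zpowers z : Subgroup G) : Set G) ≤ H :=
    (Subgroup.centralizer_le_normalizer _).trans hNH
  have hSH : (S : Subgroup G) ≤ H := by
    intro s hs
    apply hCA₀
    rw [Subgroup.mem_centralizer_iff]
    intro y hy
    obtain ⟨k, rfl⟩ := Subgroup.mem_zpowers_iff.mp hy
    have h1 : Commute s z := hzc s hs
    exact ((h1.zpow_right k).eq).symm
  have hCAH : Subgroup.centralizer (A : Set G) ≤ H :=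
    (Subgroup.centralizer_le (SetLike.coe_subset_coe.mpr hA₀A)).trans hCA₀
  have hQH : Q ≤ H := hQA.trans hCAH
  have hAH : A ≤ H := hAS.trans hSH
  have hqH : q ∉ sigma H := by
    intro hqH
    have hQHs : IsSylowIn q H Q :=
      ⟨hQH, hQ.2.1, fun T' _ hT'p hle => hQtop.2.2 T' le_top hT'p hle⟩
    have h1 := sigma_normalizer_le hqH hQHs
    rw [hNQ] at h1
    exact hHM (ms_coatom_eq_of_le hHco hM h1).symm
  -- the Sylow trick for `A`
  have hTA := sylow_trick hQtop hNQ.le hQA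
  -- the Sylow `p`-subgroup of `M'`
  obtain ⟨D, hD, -⟩ := exists_isSylowIn_ge (p := p) (K := ⁅M, M⁆) (Z := ⊥) bot_le
    IsPGroup.of_bot
  have hMD : M ≤ Subgroup.normalizer (D : Set G) :=
    sylow_normal_of_nilpotent hder hD (le_normalizer_commutator_self124 M)
  have hDle : ∀ X : Subgroup G, X ≤ ⁅M, M⁆ → IsPGroup p X → X ≤ D := fun X hX hXp =>
    le_sylow_of_nilpotent hder hD hX hXp
  have hderM : (⁅M, M⁆ : Subgroup G) ≤ M := by
    rw [Subgroup.commutator_le]
    intro x hx y hy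
    exact Subgroup.mul_mem _ (Subgroup.mul_mem _ (Subgroup.mul_mem _ hx hy) (Subgroup.inv_mem _ hx))
      (Subgroup.inv_mem _ hy)
  have hDM : D ≤ M := hD.1.trans hderM
  have hDP : D ≤ P := hP.normal_le hDM hD.2.1 hMD
  have hloc : Cfsg.Agent.Lib.Helper91.BGFusion.LocCtl p G :=
    Cfsg.Agent.Lib.Helper91.BGFusion.ms_locCtl hG (fun K hK => Cfsg.Agent.S1410.result hG p K hK)
  have hSN := Cfsg.Agent.Lib.Helper91.BGFusion.sylow_le_commutator_normalizer hloc S
    (Cfsg.Agent.Lib.Helper91.BGFusion.ms_perfect hG)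
  by_cases hpH : p ∈ sigma H
  · -- CASE II
    have hHallH := (Cfsg.Agent.S1350.result hG H hHco).1
    have hPH : P ≤ H := hPS.trans hSH
    have hPHσ : P ≤ sigmaCore H := by
      apply le_of_isPiHallOf_normal hHallH (le_normalizer_sigmaCore H) hPH
      intro r hr hrd
      obtain ⟨n, hn⟩ := IsPGroup.iff_card.mp hP.2.1
      rw [hn] at hrd
      have : r = p := (Nat.prime_dvd_prime_iff_eq hr hpp).mp (hr.dvd_of_dvd_pow hrd)
      rw [this]; exact hpH
    have hcopQ : (Nat.card Q).Coprime (Nat.card (sigmaCore H)) := by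
      obtain ⟨n, hn⟩ := IsPGroup.iff_card.mp hQ.2.1
      rw [hn]
      apply Nat.Coprime.pow_left
      rw [Nat.Prime.coprime_iff_not_dvd hqp]
      intro hd
      exact hqH (sigmaCore_pi hG hHco hqp hd)
    have hQσ : Q ⊓ sigmaCore H = ⊥ := (Subgroup.disjoint_of_coprime_natCard hcopQ).eq_bot
    have hQP : Q ≤ Subgroup.centralizer (P : Set G) := by
      intro x hx
      rw [Subgroup.mem_centralizer_iff]
      intro y hy
      have h1 : x * y * x⁻¹ * y⁻¹ ∈ Q := by
        have hyM : y ∈ M := hP.1 hy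
        have h0 : y * x⁻¹ * y⁻¹ ∈ Q :=
          (Subgroup.mem_normalizer_iff.mp (hMQ hyM) x⁻¹).mp (Subgroup.inv_mem _ hx)
        have h2 : x * y * x⁻¹ * y⁻¹ = x * (y * x⁻¹ * y⁻¹) := by group
        rw [h2]; exact Subgroup.mul_mem _ hx h0
      have h2 : x * y * x⁻¹ * y⁻¹ ∈ sigmaCore H := by
        have hxH : x ∈ H := hQH hx
        have h0 : x * y * x⁻¹ ∈ sigmaCore H :=
          (Subgroup.mem_normalizer_iff.mp (le_normalizer_sigmaCore H hxH) y).mp (hPHσ hy)
        exact Subgroup.mul_mem _ h0 (Subgroup.inv_mem _ (hPHσ hy))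
      have h4 : x * y * x⁻¹ * y⁻¹ = 1 := by
        have : x * y * x⁻¹ * y⁻¹ ∈ Q ⊓ sigmaCore H := ⟨h1, h2⟩
        rwa [hQσ, Subgroup.mem_bot] at this
      have h5 : x * y = y * x := by
        have : x * y * x⁻¹ * y⁻¹ = (x * y) * (y * x)⁻¹ := by group
        rw [this, mul_inv_eq_one] at h4
        exact h4
      exact h5.symm
    -- a `Q`-invariant Sylow `p`-subgroup `T` of `G` over `P`
    have hsolvQ : Group.IsSolvable Q := ms_solvable hG (ms_pgroup_ne_top hG hQ.2.1)
    have hQK : Q ≤ Subgroup.normalizer (sigmaCore H : Set G) :=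
      hQH.trans (le_normalizer_sigmaCore H)
    have hQNP : Q ≤ Subgroup.normalizer (P : Set G) :=
      hQP.trans (Subgroup.centralizer_le_normalizer _)
    obtain ⟨T, hPT, hTK, hQT, hTtop, -⟩ := exists_inv_sylow_ge hsolvQ hQK hcopQ
      (sigmaCore_index hG hHco hpH) hPHσ hP.2.1 hQNP
    have hTP : T = P := by
      apply hP.eq_of_normalizer_le hTtop.2.1 hPT
      have hQN₁ : Q ≤ Subgroup.normalizer
          ((T ⊓ Subgroup.normalizer (P : Set G) : Subgroup G) : Set G) := by
        apply le_normalizer_of_conj_mem124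
        intro x hx n hn
        refine ⟨(Subgroup.mem_normalizer_iff.mp (hQT hx) n).mp hn.1, ?_⟩
        exact Subgroup.mul_mem _ (Subgroup.mul_mem _ (hQNP hx) hn.2)
          (Subgroup.inv_mem _ (hQNP hx))
      have hN₁p : IsPGroup p (T ⊓ Subgroup.normalizer (P : Set G) : Subgroup G) :=
        hTtop.2.1.to_le inf_le_left
      have hcopN : (Nat.card Q).Coprime
          (Nat.card (T ⊓ Subgroup.normalizer (P : Set G) : Subgroup G)) := by
        obtain ⟨n, hn⟩ := IsPGroup.iff_card.mp hQ.2.1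
        obtain ⟨n', hn'⟩ := IsPGroup.iff_card.mp hN₁p
        rw [hn, hn']
        apply Nat.Coprime.pow
        exact (Nat.coprime_primes hqp hpp).mpr hqp_ne
      have hQP0 : ⁅Q, P⁆ = ⊥ := Subgroup.commutator_eq_bot_iff_le_centralizer.mpr hQP
      have h1 : ⁅(T ⊓ Subgroup.normalizer (P : Set G) : Subgroup G), Q⁆ ≤
          (T ⊓ Subgroup.normalizer (P : Set G)) ⊓ Subgroup.centralizer (P : Set G) := by
        apply le_inf
        · rw [Subgroup.commutator_le]
          intro n hn x hx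
          have h0 : x * n⁻¹ * x⁻¹ ∈ (T ⊓ Subgroup.normalizer (P : Set G) : Subgroup G) :=
            (Subgroup.mem_normalizer_iff.mp (hQN₁ hx) n⁻¹).mp (Subgroup.inv_mem _ hn)
          have h2 : ⁅n, x⁆ = n * (x * n⁻¹ * x⁻¹) := by
            rw [commutatorElement_def]; group
          rw [h2]; exact Subgroup.mul_mem _ hn h0
        · rw [← Subgroup.commutator_eq_bot_iff_le_centralizer]
          apply Subgroup.commutator_commutator_eq_bot_of_rotate
          · rw [hQP0]; exact Subgroup.commutator_bot_left _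
          · have h5 : ⁅P, (T ⊓ Subgroup.normalizer (P : Set G) : Subgroup G)⁆ ≤ P := by
              rw [Subgroup.commutator_le]
              intro y hy n hn
              have h0 : n * y⁻¹ * n⁻¹ ∈ P :=
                (Subgroup.mem_normalizer_iff.mp hn.2 y⁻¹).mp (Subgroup.inv_mem _ hy)
              have h2 : ⁅y, n⁆ = y * (n * y⁻¹ * n⁻¹) := by
                rw [commutatorElement_def]; group
              rw [h2]; exact Subgroup.mul_mem _ hy h0
            rw [eq_bot_iff]
            calc ⁅⁅P, (T ⊓ Subgroup.normalizer (P : Set G) : Subgroup G)⁆, Q⁆ ≤ ⁅P, Q⁆ :=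
                  Subgroup.commutator_mono h5 le_rfl
              _ = ⊥ := by rw [Subgroup.commutator_comm, hQP0]
      have h2 : (T ⊓ Subgroup.normalizer (P : Set G)) ⊓ Subgroup.centralizer (P : Set G) ≤
          Subgroup.centralizer (Q : Set G) := by
        have hp2 : p ≠ 2 := ms_prime_ne_two hG hAp hA1
        have hcopQp : (Nat.card Q).Coprime p := by
          obtain ⟨n, hn⟩ := IsPGroup.iff_card.mp hQ.2.1
          rw [hn]
          apply Nat.Coprime.pow_left
          exact (Nat.coprime_primes hqp hpp).mpr hqp_ne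
        refine Cfsg.Agent.Lib.Helper32.centralizes_of_fixes_order_p p hp2 Q hcopQp _ _ rfl
          (hN₁p.to_le inf_le_left) ?_ ?_
        · apply le_normalizer_of_conj_mem124
          intro x hx n hn
          refine ⟨(Subgroup.mem_normalizer_iff.mp (hQN₁ hx) n).mp hn.1, ?_⟩
          have hxN : x ∈ Subgroup.normalizer
              ((Subgroup.centralizer (P : Set G) : Subgroup G) : Set G) := by
            have h0 : cj x (Subgroup.centralizer (P : Set G)) = Subgroup.centralizer (P : Set G) := by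
              rw [cj_centralizer, cj_eq_self_iff.mpr (hQNP hx)]
            exact cj_eq_self_iff.mp h0
          exact (Subgroup.mem_normalizer_iff.mp hxN n).mp hn.2
        · intro x hx hxp
          have hxCA : x ∈ Subgroup.centralizer (A : Set G) :=
            Subgroup.centralizer_le (SetLike.coe_subset_coe.mpr hAP) hx.2
          have hxA : x ∈ A := mem_of_cent_of_max hAe hAmax hxCA hxp
          rw [Subgroup.mem_centralizer_iff]
          intro g hg
          exact ((Subgroup.mem_centralizer_iff.mp (hQA hg)) x hxA).symm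
      have h3 := Cfsg.Agent.Lib.Helper32.le_centralizer_of_stable _ _ Q h1 h2 inf_le_left hcopN
      exact h3.trans ((Subgroup.centralizer_le_normalizer _).trans hNQ.le)
    -- so `P` is a Sylow subgroup of `G`
    have hSP : (S : Subgroup G) = P := by
      have := hTtop.2.2 _ le_top S.isPGroup' (hTP ▸ hPS)
      rw [this, hTP]
    have hQS : Q ≤ Subgroup.centralizer (((S : Subgroup G)) : Set G) := hSP ▸ hQP
    have hTS := sylow_trick hQtop hNQ.le hQS
    have hSM : (S : Subgroup G) ≤ M := hSP ▸ hP.1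
    have hSder : (S : Subgroup G) ≤ ⁅M, M⁆ :=
      hSN.trans (commutator_le_of_trick hSM le_rfl (fun n hn => by
        obtain ⟨m, hm, c, hc, e⟩ := hTS n hn
        exact ⟨m, hm.1, c, hc, e⟩))
    have hPD : P ≤ D := hDle P (hSP ▸ hSder) hP.2.1
    have hDP' : D = P := le_antisymm hDP hPD
    have hNP : Subgroup.normalizer (P : Set G) = M :=
      ms_normalizer_eq hG hM hP1 hP.1 (hDP' ▸ hMD)
    exact hpσ (Cfsg.Agent.Lib.Helper31.Bg10.mem_sigma_of_normalizer_le hP hP1 hNP.le)
  · -- CASE I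
    have hExc : Exc H p A (Subgroup.zpowers z) := ⟨hHco, hpH, hAH, hAe, hAc, hA₀A, hA₀c, hNH⟩
    have hSH' : IsSylowIn p H (S : Subgroup G) := isSylowIn_of_sylow_le S hSH
    obtain ⟨hScomm, hSΩ⟩ := h11 H _ _ hExc hSH' hAS
    have hconjp : ∀ (n a : G), a ^ p = 1 → (n * a * n⁻¹) ^ p = 1 := by
      intro n a ha
      rw [conj_pow, ha]; group
    have hNSA : Subgroup.normalizer ((S : Subgroup G) : Set G) ≤
        Subgroup.normalizer (A : Set G) := by
      apply le_normalizer_of_conj_mem124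
      intro n hn a ha
      have h1 : n * a * n⁻¹ ∈ (S : Subgroup G) :=
        (Subgroup.mem_normalizer_iff.mp hn a).mp (hAS ha)
      exact hSΩ _ h1 (hconjp n a (hAe.2 a ha))
    have hTS : ∀ n ∈ Subgroup.normalizer ((S : Subgroup G) : Set G),
        ∃ m ∈ M, ∃ c ∈ Subgroup.centralizer (A : Set G), n = m * c := by
      intro n hn
      obtain ⟨m, hm, c, hc, e⟩ := hTA n (hNSA hn)
      exact ⟨m, hm.1, c, hc, e⟩
    have hAN : ⁅A, Subgroup.normalizer ((S : Subgroup G) : Set G)⁆ ≤ ⁅M, M⁆ :=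
      commutator_le_of_trick hAM le_rfl hTS
    -- an element of maximal order
    haveI : Nonempty (S : Subgroup G) := ⟨1⟩
    obtain ⟨x₀, hx₀⟩ := Finite.exists_max (fun s : (S : Subgroup G) => orderOf (s : G))
    have hord : ∀ s : (S : Subgroup G), ∃ j : ℕ, orderOf (s : G) = p ^ j := by
      intro s
      obtain ⟨j, hj⟩ := IsPGroup.iff_orderOf.mp S.isPGroup' s
      exact ⟨j, by rw [Subgroup.orderOf_coe, hj]⟩
    obtain ⟨e, he⟩ := hord x₀
    have he1 : 1 ≤ e := by
      by_contra hlt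
      have he0 : e = 0 := by omega
      have h1 := hx₀ ⟨z, hzS⟩
      simp only [he, he0, pow_zero] at h1
      rw [hzo] at h1
      have := hpp.one_lt
      omega
    set k : ℕ := p ^ (e - 1) with hk
    have hkp : k * p = p ^ e := by
      rw [hk, ← pow_succ]; congr 1; omega
    have hpow : ∀ s ∈ (S : Subgroup G), (s ^ k) ^ p = 1 := by
      intro s hs
      obtain ⟨j, hj⟩ := hord ⟨s, hs⟩
      have h1 := hx₀ ⟨s, hs⟩
      simp only [he] at h1
      rw [show orderOf ((⟨s, hs⟩ : (S : Subgroup G)) : G) = orderOf s from rfl] at hj h1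
      rw [hj] at h1
      have hje : j ≤ e := (Nat.pow_le_pow_iff_right hpp.one_lt).mp h1
      rw [← pow_mul, hkp]
      apply orderOf_dvd_iff_pow_eq_one.mp
      rw [hj]
      exact pow_dvd_pow p hje
    have hpowA : ∀ s ∈ (S : Subgroup G), s ^ k ∈ A := fun s hs =>
      hSΩ _ (Subgroup.pow_mem _ hs k) (hpow s hs)
    have key : ∀ x ∈ (⁅(S : Subgroup G), Subgroup.normalizer ((S : Subgroup G) : Set G)⁆ :
        Subgroup G), x ∈ (S : Subgroup G) ∧ x ^ k ∈ (⁅M, M⁆ : Subgroup G) := by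
      intro x hx
      rw [Subgroup.commutator_def] at hx
      induction hx using Subgroup.closure_induction with
      | mem g hg =>
        obtain ⟨s, hs, n, hn, rfl⟩ := hg
        have ht : n * s⁻¹ * n⁻¹ ∈ (S : Subgroup G) :=
          (Subgroup.mem_normalizer_iff.mp hn s⁻¹).mp (Subgroup.inv_mem _ hs)
        have hst : ⁅s, n⁆ = s * (n * s⁻¹ * n⁻¹) := by
          rw [commutatorElement_def]; group
        refine ⟨hst ▸ Subgroup.mul_mem _ hs ht, ?_⟩
        have hc : Commute s (n * s⁻¹ * n⁻¹) := hScomm s hs _ ht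
        have h2 : ⁅s, n⁆ ^ k = ⁅s ^ k, n⁆ := by
          rw [hst, hc.mul_pow, conj_pow, commutatorElement_def, inv_pow]
          group
        rw [h2]
        exact hAN (Subgroup.commutator_mem_commutator (hpowA s hs) hn)
      | one => exact ⟨Subgroup.one_mem _, by rw [one_pow]; exact Subgroup.one_mem _⟩
      | mul x y _ _ ihx ihy =>
        refine ⟨Subgroup.mul_mem _ ihx.1 ihy.1, ?_⟩
        have hc : Commute x y := hScomm x ihx.1 y ihy.1
        rw [hc.mul_pow]
        exact Subgroup.mul_mem _ ihx.2 ihy.2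
      | inv x _ ih =>
        exact ⟨Subgroup.inv_mem _ ih.1, by rw [inv_pow]; exact Subgroup.inv_mem _ ih.2⟩
    -- the element `a`
    have ha_der : (x₀ : G) ^ k ∈ (⁅M, M⁆ : Subgroup G) := (key _ (hSN x₀.2)).2
    have ha_A : (x₀ : G) ^ k ∈ A := hpowA _ x₀.2
    have ha_ne : (x₀ : G) ^ k ≠ 1 := by
      intro h1
      have h2 := orderOf_dvd_iff_pow_eq_one.mpr h1
      rw [he, hk] at h2
      have := (Nat.pow_dvd_pow_iff_le_right hpp.one_lt).mp h2
      omega
    have ha_D : (x₀ : G) ^ k ∈ D := by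
      have h1 : Subgroup.zpowers ((x₀ : G) ^ k) ≤ D := by
        apply hDle
        · rw [Subgroup.zpowers_le]; exact ha_der
        · exact hAp.to_le (by rw [Subgroup.zpowers_le]; exact ha_A)
      exact h1 (Subgroup.mem_zpowers _)
    have hA₂1 : D ⊓ A ≠ ⊥ := by
      intro h1
      have : (x₀ : G) ^ k ∈ D ⊓ A := ⟨ha_D, ha_A⟩
      rw [h1, Subgroup.mem_bot] at this
      exact ha_ne this
    have hMA₂ : M ≤ Subgroup.normalizer ((D ⊓ A : Subgroup G) : Set G) := by
      apply le_normalizer_of_conj_mem124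
      intro m hm x hx
      have h1 : m * x * m⁻¹ ∈ D := (Subgroup.mem_normalizer_iff.mp (hMD hm) x).mp hx.1
      exact ⟨h1, hSΩ _ (hPS (hDP h1)) (hconjp m x (hAe.2 x hx.2))⟩
    have hNA₂ : Subgroup.normalizer ((D ⊓ A : Subgroup G) : Set G) = M :=
      ms_normalizer_eq hG hM hA₂1 (inf_le_right.trans hAM) hMA₂
    have hdvd : Nat.card (D ⊓ A : Subgroup G) ∣ p ^ 2 :=
      hAc ▸ Subgroup.card_dvd_of_le (inf_le_right : D ⊓ A ≤ A)
    obtain ⟨j, hj2, hj⟩ := (Nat.dvd_prime_pow hpp).mp hdvd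
    have hj0 : j ≠ 0 := by
      rintro rfl
      rw [pow_zero] at hj
      exact hA₂1 (Subgroup.card_eq_one.mp hj)
    have hj12 : j = 1 ∨ j = 2 := by omega
    rcases hj12 with rfl | rfl
    · rw [pow_one] at hj
      obtain ⟨H₂, hH₂co, hN₂, hH₂M⟩ := hH _ inf_le_right hj
      rw [hNA₂] at hN₂
      exact hH₂M (ms_coatom_eq_of_le hH₂co hM hN₂).symm
    · have hA₂A : D ⊓ A = A :=
        Subgroup.eq_of_le_of_card_ge inf_le_right (by rw [hj, hAc])
      rw [hA₂A] at hNA₂
      have hSCA : (S : Subgroup G) ≤ Subgroup.centralizer (A : Set G) := by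
        intro s hs
        rw [Subgroup.mem_centralizer_iff]
        intro a ha
        exact hScomm a (hAS ha) s hs
      have hSM : (S : Subgroup G) ≤ M :=
        hSCA.trans ((Subgroup.centralizer_le_normalizer _).trans hNA₂.le)
      have hSP : (S : Subgroup G) = P := hP.2.2 _ hSM S.isPGroup' hPS
      have hNP : Subgroup.normalizer (P : Set G) ≤ M := by
        rw [← hSP]; exact hNSA.trans hNA₂.le
      exact hpσ (Cfsg.Agent.Lib.Helper31.Bg10.mem_sigma_of_normalizer_le hP hP1 hNP)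

end Cfsg.Agent.Lib.Helper13.BG12
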