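import Mathlib
import Cfsg.Agent.Lib.Helper55.SylowIn
import Cfsg.Agent.Lib.Helper66.PrimeOrderCentral

/-!
# Group-theoretic lemmas for Bender–Glauberman Theorem 12.7

Subgroups of an elementary abelian group `A` of order `p ^ 2` ("lines"), and the action of a
`p`-element normalizing `A` and centralizing exactly one line `Z₀`: all other lines are conjugate
under its powers.
-/

set_option autoImplicit false
set_option linter.unusedSectionVars false
set_option linter.unusedVariables false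

namespace Cfsg.Agent.Lib.Helper13.BG127

open Cfsg Cfsg.Agent.Lib.Helper55

variable {G : Type*} [Group G]

/-- `Ω₁(Z(U))` as an explicit subgroup: the central elements of `U` of order dividing `r`. -/
def omz (r : ℕ) (U : Subgroup G) : Subgroup G where
  carrier := {u | u ∈ U ∧ (∀ s ∈ U, s * u = u * s) ∧ u ^ r = 1}
  one_mem' := ⟨U.one_mem, fun s _ => by simp, one_pow r⟩
  mul_mem' := by
    rintro a b ⟨ha, hac, har⟩ ⟨hb, hbc, hbr⟩
    refine ⟨U.mul_mem ha hb, fun s hs => ?_, ?_⟩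
    · rw [← mul_assoc, hac s hs, mul_assoc, hbc s hs, mul_assoc]
    · have hab : Commute a b := hbc a ha
      rw [hab.mul_pow, har, hbr, one_mul]
  inv_mem' := by
    rintro a ⟨ha, hac, har⟩
    refine ⟨U.inv_mem ha, fun s hs => ?_, by rw [inv_pow, har, inv_one]⟩
    have := hac s hs
    calc s * a⁻¹ = a⁻¹ * (a * s) * a⁻¹ := by group
      _ = a⁻¹ * (s * a) * a⁻¹ := by rw [this]
      _ = a⁻¹ * s := by group

theorem mem_omz {r : ℕ} {U : Subgroup G} {u : G} :
    u ∈ omz r U ↔ u ∈ U ∧ (∀ s ∈ U, s * u = u * s) ∧ u ^ r = 1 := Iff.rfl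

theorem omz_le (r : ℕ) (U : Subgroup G) : omz r U ≤ U := fun _ h => h.1

theorem omz_comm {r : ℕ} {U : Subgroup G} : ∀ a ∈ omz r U, ∀ b ∈ omz r U, a * b = b * a :=
  fun a ha b hb => hb.2.1 a ha.1

theorem le_centralizer_omz (r : ℕ) (U : Subgroup G) :
    U ≤ Subgroup.centralizer ((omz r U : Subgroup G) : Set G) := by
  intro s hs
  rw [Subgroup.mem_centralizer_iff]
  intro u hu
  exact (hu.2.1 s hs).symm

theorem conj_mem_omz {r : ℕ} {U : Subgroup G} {g u : G}
    (hg : g ∈ Subgroup.normalizer (U : Set G)) (hu : u ∈ omz r U) : g * u * g⁻¹ ∈ omz r U := by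
  refine ⟨(Subgroup.mem_normalizer_iff.1 hg u).1 hu.1, fun s hs => ?_, ?_⟩
  · have hs' : g⁻¹ * s * g ∈ U := by
      have := (Subgroup.mem_normalizer_iff.1 hg (g⁻¹ * s * g)).2
      apply this
      have e : g * (g⁻¹ * s * g) * g⁻¹ = s := by group
      rw [e]; exact hs
    have := hu.2.1 _ hs'
    calc s * (g * u * g⁻¹) = g * ((g⁻¹ * s * g) * u) * g⁻¹ := by group
      _ = g * (u * (g⁻¹ * s * g)) * g⁻¹ := by rw [this]
      _ = g * u * g⁻¹ * s := by group
  · rw [conj_pow, hu.2.2]; group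

theorem le_normalizer_omz (r : ℕ) (U : Subgroup G) :
    Subgroup.normalizer (U : Set G) ≤ Subgroup.normalizer ((omz r U : Subgroup G) : Set G) := by
  intro g hg
  rw [Subgroup.mem_normalizer_iff]
  intro u
  refine ⟨fun hu => conj_mem_omz hg hu, fun hu => ?_⟩
  have := conj_mem_omz (Subgroup.inv_mem _ hg) hu
  have e : g⁻¹ * (g * u * g⁻¹) * g⁻¹⁻¹ = u := by group
  rwa [e] at this

/-- products in a join of elementwise commuting subgroups -/
theorem exists_mul_of_mem_sup' {H K : Subgroup G} (hc : ∀ h ∈ H, ∀ k ∈ K, h * k = k * h) {x : G}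
    (hx : x ∈ H ⊔ K) : ∃ h ∈ H, ∃ k ∈ K, x = h * k := by
  have hle : H ⊔ K ≤
      { carrier := {x | ∃ h ∈ H, ∃ k ∈ K, x = h * k}
        one_mem' := ⟨1, H.one_mem, 1, K.one_mem, by simp⟩
        mul_mem' := by
          rintro _ _ ⟨h, hh, k, hk, rfl⟩ ⟨h', hh', k', hk', rfl⟩
          refine ⟨h * h', H.mul_mem hh hh', k * k', K.mul_mem hk hk', ?_⟩
          have := hc h' hh' k hk
          calc h * k * (h' * k') = h * (k * h') * k' := by group
            _ = h * (h' * k) * k' := by rw [this]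
            _ = h * h' * (k * k') := by group
        inv_mem' := by
          rintro _ ⟨h, hh, k, hk, rfl⟩
          refine ⟨h⁻¹, H.inv_mem hh, k⁻¹, K.inv_mem hk, ?_⟩
          have := hc h⁻¹ (H.inv_mem hh) k⁻¹ (K.inv_mem hk)
          rw [mul_inv_rev, this] : Subgroup G } := by
    refine sup_le (fun h hh => ⟨h, hh, 1, K.one_mem, by simp⟩) (fun k hk => ⟨1, H.one_mem, k, hk, by simp⟩)
  exact hle hx

section Lines

variable [Finite G] {p : ℕ} [hp : Fact p.Prime]

/-- a subgroup of a group of order `p ^ 2` has order `1`, `p` or `p ^ 2` -/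
theorem card_of_le_sq {A H : Subgroup G} (hAc : Nat.card A = p ^ 2) (hHA : H ≤ A) :
    Nat.card H = 1 ∨ Nat.card H = p ∨ Nat.card H = p ^ 2 := by
  have h1 : Nat.card H ∣ p ^ 2 := hAc ▸ Subgroup.card_dvd_of_le hHA
  obtain ⟨m, hm, hmc⟩ := (Nat.dvd_prime_pow hp.out).1 h1
  interval_cases m
  · left; simpa using hmc
  · right; left; simpa using hmc
  · right; right; exact hmc

/-- a subgroup of prime order is generated by any of its non-identity elements -/
theorem zpowers_eq_of_card_prime {X : Subgroup G} (hX : Nat.card X = p) {a : G} (ha : a ∈ X)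
    (ha1 : a ≠ 1) : Subgroup.zpowers a = X := by
  have hle : Subgroup.zpowers a ≤ X := by rwa [Subgroup.zpowers_le]
  apply Subgroup.eq_of_le_of_card_ge hle
  rw [Nat.card_zpowers, hX]
  have h1 : orderOf a ∣ p := by
    have := Subgroup.card_dvd_of_le hle
    rwa [Nat.card_zpowers, hX] at this
  rcases (Nat.dvd_prime hp.out).1 h1 with h | h
  · exact absurd (orderOf_eq_one_iff.1 h) ha1
  · exact h.ge

/-- two subgroups of prime order sharing a non-identity element are equal -/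
theorem eq_of_card_prime_of_mem {X Y : Subgroup G} (hX : Nat.card X = p) (hY : Nat.card Y = p)
    {a : G} (haX : a ∈ X) (haY : a ∈ Y) (ha1 : a ≠ 1) : X = Y := by
  rw [← zpowers_eq_of_card_prime hX haX ha1, ← zpowers_eq_of_card_prime hY haY ha1]

/-- a subgroup of prime order inside another one of the same order equals it -/
theorem eq_of_le_of_card_prime {X Y : Subgroup G} (hX : Nat.card X = p) (hY : Nat.card Y = p)
    (hle : X ≤ Y) : X = Y :=
  Subgroup.eq_of_le_of_card_ge hle (by rw [hX, hY])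

/-- two distinct lines generate the plane -/
theorem sup_eq_of_card_sq {A X Z : Subgroup G} (hAc : Nat.card A = p ^ 2) (hXA : X ≤ A)
    (hZA : Z ≤ A) (hX : Nat.card X = p) (hZ : Nat.card Z = p) (hne : X ≠ Z) : X ⊔ Z = A := by
  have hle : X ⊔ Z ≤ A := sup_le hXA hZA
  have hp1 : 1 < p := hp.out.one_lt
  rcases card_of_le_sq hAc hle with h | h | h
  · have : Nat.card X ∣ Nat.card ↥(X ⊔ Z) := Subgroup.card_dvd_of_le le_sup_left
    rw [h, hX] at this
    have := Nat.le_of_dvd Nat.one_pos this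
    omega
  · have h1 : X = X ⊔ Z := Subgroup.eq_of_le_of_card_ge le_sup_left (by rw [h, hX])
    have h2 : Z = X ⊔ Z := Subgroup.eq_of_le_of_card_ge le_sup_right (by rw [h, hZ])
    exact absurd (h1.trans h2.symm) hne
  · exact Subgroup.eq_of_le_of_card_ge hle (by rw [h, hAc])

/-- a proper nontrivial subgroup of a group of order `p ^ 2` has order `p` -/
theorem card_eq_prime_of_ne {A H : Subgroup G} (hAc : Nat.card A = p ^ 2) (hHA : H ≤ A)
    (h1 : H ≠ ⊥) (h2 : H ≠ A) : Nat.card H = p := by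
  rcases card_of_le_sq hAc hHA with h | h | h
  · exact absurd (Subgroup.card_eq_one.1 h) h1
  · exact h
  · exact absurd (Subgroup.eq_of_le_of_card_ge hHA (by rw [h, hAc])) h2

end Lines

section Transvection

/-- the commutator map `b ↦ x b x⁻¹ b⁻¹` on an abelian subgroup `A` normalized by `x` -/
def commHom {A : Subgroup G} (hAc : ∀ a ∈ A, ∀ b ∈ A, a * b = b * a) {x : G}
    (hx : x ∈ Subgroup.normalizer (A : Set G)) : A →* A where
  toFun b := ⟨x * b * x⁻¹ * (b : G)⁻¹,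
    A.mul_mem ((Subgroup.mem_normalizer_iff.1 hx _).1 b.2) (A.inv_mem b.2)⟩
  map_one' := by ext; simp
  map_mul' b b' := by
    ext
    simp only [Subgroup.coe_mul]
    have h1 : x * b' * x⁻¹ * (b' : G)⁻¹ ∈ A :=
      A.mul_mem ((Subgroup.mem_normalizer_iff.1 hx _).1 b'.2) (A.inv_mem b'.2)
    have := hAc _ (A.inv_mem b.2) _ h1
    calc x * ((b : G) * b') * x⁻¹ * ((b : G) * b')⁻¹
        = (x * b * x⁻¹) * ((x * b' * x⁻¹ * (b' : G)⁻¹) * (b : G)⁻¹) := by group
      _ = (x * b * x⁻¹) * ((b : G)⁻¹ * (x * b' * x⁻¹ * (b' : G)⁻¹)) := by rw [this]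
      _ = _ := by group

theorem coe_commHom {A : Subgroup G} (hAc : ∀ a ∈ A, ∀ b ∈ A, a * b = b * a) {x : G}
    (hx : x ∈ Subgroup.normalizer (A : Set G)) (b : A) :
    ((commHom hAc hx b : A) : G) = x * b * x⁻¹ * (b : G)⁻¹ := rfl

variable [Finite G] {p : ℕ} [hp : Fact p.Prime]

/-- A `p`-element `x` normalizing `A ≅ E_{p²}`, centralizing the line `Z₀` but not `A`:
`C_A(x) = Z₀` and `[x, A] ≤ Z₀`. -/
theorem comm_mem_of_pElement {A Z₀ : Subgroup G} (hAcomm : ∀ a ∈ A, ∀ b ∈ A, a * b = b * a)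
    (hAc : Nat.card A = p ^ 2) (hZA : Z₀ ≤ A) (hZc : Nat.card Z₀ = p) {x : G}
    (hxA : x ∈ Subgroup.normalizer (A : Set G)) (hxZ : ∀ z ∈ Z₀, x * z = z * x)
    (hxp : ∃ k : ℕ, x ^ p ^ k = 1) (hxnc : ¬ ∀ a ∈ A, x * a = a * x) :
    (∀ a ∈ A, x * a = a * x → a ∈ Z₀) ∧ ∀ a ∈ A, x * a * x⁻¹ * a⁻¹ ∈ Z₀ := by
  classical
  set φ := commHom hAcomm hxA with hφ
  -- the fixed points of `x` in `A`
  let F : Subgroup G :=
    { carrier := {a | a ∈ A ∧ x * a = a * x}
      one_mem' := ⟨A.one_mem, by simp⟩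
      mul_mem' := by
        rintro a b ⟨ha, hax⟩ ⟨hb, hbx⟩
        exact ⟨A.mul_mem ha hb, by rw [← mul_assoc, hax, mul_assoc, hbx, mul_assoc]⟩
      inv_mem' := by
        rintro a ⟨ha, hax⟩
        refine ⟨A.inv_mem ha, ?_⟩
        calc x * a⁻¹ = a⁻¹ * (a * x) * a⁻¹ := by group
          _ = a⁻¹ * (x * a) * a⁻¹ := by rw [hax]
          _ = a⁻¹ * x := by group }
  have hFA : F ≤ A := fun a ha => ha.1
  have hZF : Z₀ ≤ F := fun z hz => ⟨hZA hz, hxZ z hz⟩
  have hFne : F ≠ A := by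
    intro h
    apply hxnc
    intro a ha
    have : a ∈ F := h ▸ ha
    exact this.2
  have hZ1 : Z₀ ≠ ⊥ := by
    intro h
    rw [h, Subgroup.card_bot] at hZc
    exact hp.out.one_lt.ne hZc
  have hF1 : F ≠ ⊥ := fun h => hZ1 (le_bot_iff.1 (h ▸ hZF))
  have hFc : Nat.card F = p := card_eq_prime_of_ne hAc hFA hF1 hFne
  have hFZ : Z₀ = F := eq_of_le_of_card_prime hZc hFc hZF
  refine ⟨fun a ha hax => hFZ ▸ (⟨ha, hax⟩ : a ∈ F), ?_⟩
  -- kernel and range of the commutator map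
  have hker : ∀ b : A, b ∈ φ.ker ↔ (b : G) ∈ F := by
    intro b
    rw [MonoidHom.mem_ker]
    constructor
    · intro h
      have h' : x * b * x⁻¹ * (b : G)⁻¹ = 1 := by
        have := congrArg (fun t : A => (t : G)) h
        simpa [hφ, coe_commHom] using this
      refine ⟨b.2, ?_⟩
      calc x * (b : G) = (x * b * x⁻¹ * (b : G)⁻¹) * (b * x) := by group
        _ = b * x := by rw [h', one_mul]
    · intro h
      apply Subtype.ext
      rw [hφ, coe_commHom]
      have := h.2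
      calc x * (b : G) * x⁻¹ * (b : G)⁻¹ = (x * b) * x⁻¹ * (b : G)⁻¹ := by group
        _ = (b * x) * x⁻¹ * (b : G)⁻¹ := by rw [this]
        _ = 1 := by group
  have hkerc : Nat.card φ.ker = p := by
    have e : φ.ker = F.subgroupOf A := by
      ext b
      rw [hker b, Subgroup.mem_subgroupOf]
    rw [e, Nat.card_congr (Subgroup.subgroupOfEquivOfLe hFA).toEquiv, hFc]
  have hrangec : Nat.card φ.range = p := by
    have h1 := Subgroup.card_mul_index φ.ker
    rw [Subgroup.index_ker, hkerc, hAc, pow_two] at h1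
    exact Nat.eq_of_mul_eq_mul_left hp.out.pos h1
  let C : Subgroup G := φ.range.map A.subtype
  have hCc : Nat.card C = p := by
    rw [← hrangec]
    exact Nat.card_congr
      (Subgroup.equivMapOfInjective φ.range A.subtype A.subtype_injective).symm.toEquiv
  have hCmem : ∀ c ∈ C, ∃ b ∈ A, c = x * b * x⁻¹ * b⁻¹ := by
    rintro c ⟨y, ⟨b, rfl⟩, rfl⟩
    exact ⟨b, b.2, rfl⟩
  have hmemC : ∀ b ∈ A, x * b * x⁻¹ * b⁻¹ ∈ C :=
    fun b hb => ⟨φ ⟨b, hb⟩, ⟨⟨b, hb⟩, rfl⟩, rfl⟩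
  have hxC : x ∈ Subgroup.normalizer (C : Set G) := by
    rw [← cj_eq_self_iff]
    apply Subgroup.eq_of_le_of_card_ge
    · intro y hy
      rw [mem_cj] at hy
      obtain ⟨b, hb, hyb⟩ := hCmem _ hy
      have hb' : x * b * x⁻¹ ∈ A := (Subgroup.mem_normalizer_iff.1 hxA b).1 hb
      have h2 := hmemC _ hb'
      have e : y = x * (x * b * x⁻¹) * x⁻¹ * (x * b * x⁻¹)⁻¹ := by
        have e1 : y = x * (x⁻¹ * y * x) * x⁻¹ := by group
        rw [e1, hyb]; group
      rw [e]; exact h2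
    · rw [card_cj]
  have hK : IsPGroup p (Subgroup.zpowers x) := by
    obtain ⟨k, hk⟩ := hxp
    apply IsPGroup.of_card_dvd_pow (n := k)
    rw [Nat.card_zpowers]
    exact orderOf_dvd_of_pow_eq_one hk
  have hcent := Cfsg.Agent.Lib.Helper66.le_centralizer_of_card_prime (Subgroup.zpowers x) C hK hCc
    (by rw [Subgroup.zpowers_le]; exact hxC)
  intro a ha
  have hc : x * a * x⁻¹ * a⁻¹ ∈ C := hmemC a ha
  have hx' : x ∈ Subgroup.centralizer (C : Set G) := hcent (Subgroup.mem_zpowers x)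
  have hcomm := Subgroup.mem_centralizer_iff.1 hx' _ hc
  rw [hFZ]
  exact ⟨A.mul_mem ((Subgroup.mem_normalizer_iff.1 hxA a).1 ha) (A.inv_mem ha), hcomm.symm⟩

/-- **Transitivity.** Under the hypotheses of `comm_mem_of_pElement`, any two lines of `A` other
than `Z₀` are conjugate under a power of `x`. -/
theorem exists_pow_conj_eq {A Z₀ X X' : Subgroup G} (hAcomm : ∀ a ∈ A, ∀ b ∈ A, a * b = b * a)
    (hAc : Nat.card A = p ^ 2) (hZA : Z₀ ≤ A) (hZc : Nat.card Z₀ = p) {x : G}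
    (hxA : x ∈ Subgroup.normalizer (A : Set G)) (hxZ : ∀ z ∈ Z₀, x * z = z * x)
    (hxp : ∃ k : ℕ, x ^ p ^ k = 1) (hxnc : ¬ ∀ a ∈ A, x * a = a * x)
    (hXA : X ≤ A) (hXc : Nat.card X = p) (hXZ : X ≠ Z₀)
    (hX'A : X' ≤ A) (hX'c : Nat.card X' = p) (hX'Z : X' ≠ Z₀) :
    ∃ i : ℕ, cj (x ^ i) X = X' := by
  obtain ⟨hfix, hcomm⟩ := comm_mem_of_pElement hAcomm hAc hZA hZc hxA hxZ hxp hxnc
  have hX1 : X ≠ ⊥ := by
    intro h
    rw [h, Subgroup.card_bot] at hXc
    exact hp.out.one_lt.ne hXc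
  obtain ⟨a, haX, ha1⟩ := (Subgroup.ne_bot_iff_exists_ne_one.1 hX1 : ∃ a : X, a ≠ 1) |>
    fun ⟨a, ha⟩ => (⟨(a : G), a.2, fun h => ha (Subtype.ext h)⟩ : ∃ a : G, a ∈ X ∧ a ≠ 1)
  have haA := hXA haX
  have haZ : a ∉ Z₀ := fun h => hXZ (eq_of_card_prime_of_mem hXc hZc haX h ha1)
  set c := x * a * x⁻¹ * a⁻¹ with hc
  have hcZ : c ∈ Z₀ := hcomm a haA
  have hc1 : c ≠ 1 := by
    intro h
    apply haZ
    apply hfix a haA
    calc x * a = (x * a * x⁻¹ * a⁻¹) * (a * x) := by group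
      _ = a * x := by rw [← hc, h, one_mul]
  have hcx : Commute x c := hxZ c hcZ
  have hca : c * a = a * c := hAcomm c (hZA hcZ) a haA
  have hconj1 : x * a * x⁻¹ = a * c := by
    rw [← hca, hc]; group
  have hconj : ∀ i : ℕ, x ^ i * a * (x ^ i)⁻¹ = a * c ^ i := by
    intro i
    induction i with
    | zero => simp
    | succ n ih =>
      have h3 : x * c ^ n * x⁻¹ = c ^ n := by
        have : x * c ^ n = c ^ n * x := hcx.pow_right n
        rw [this]; group
      calc x ^ (n + 1) * a * (x ^ (n + 1))⁻¹ = x * (x ^ n * a * (x ^ n)⁻¹) * x⁻¹ := by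
            rw [pow_succ']; group
        _ = x * (a * c ^ n) * x⁻¹ := by rw [ih]
        _ = (x * a * x⁻¹) * (x * c ^ n * x⁻¹) := by group
        _ = a * c * c ^ n := by rw [hconj1, h3]
        _ = a * c ^ (n + 1) := by rw [pow_succ', mul_assoc]
  have hsup : X' ⊔ Z₀ = A := sup_eq_of_card_sq hAc hX'A hZA hX'c hZc hX'Z
  have haS : a ∈ X' ⊔ Z₀ := hsup ▸ haA
  obtain ⟨a', ha', z', hz', haz⟩ :=
    exists_mul_of_mem_sup' (fun h hh k hk => hAcomm h (hX'A hh) k (hZA hk)) haS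
  have hzc : Subgroup.zpowers c = Z₀ := zpowers_eq_of_card_prime hZc hcZ hc1
  have hz'' : z'⁻¹ ∈ Subgroup.zpowers c := hzc ▸ Z₀.inv_mem hz'
  obtain ⟨i, hi⟩ : ∃ i : ℕ, c ^ i = z'⁻¹ := by
    have := (isOfFinOrder_of_finite c).mem_powers_iff_mem_zpowers.2 hz''
    exact (Submonoid.mem_powers_iff _ _).1 this
  refine ⟨i, ?_⟩
  have ha'eq : a' = x ^ i * a * (x ^ i)⁻¹ := by
    rw [hconj i, hi, haz]; group
  have ha'1 : a' ≠ 1 := by
    intro h
    apply haZ
    rw [haz, h, one_mul]; exact hz'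
  have hmem : a' ∈ cj (x ^ i) X := by
    rw [ha'eq]; exact conj_mem_cj haX
  exact eq_of_card_prime_of_mem (by rw [card_cj]; exact hXc) hX'c hmem ha' ha'1

end Transvection

end Cfsg.Agent.Lib.Helper13.BG127
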