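import Mathlib

set_option autoImplicit false

namespace Cfsg.Agent.Lib.Helper13

variable {G : Type*} [Group G]

/-- A minimal normal subgroup. -/
def IsMinNormal (M : Subgroup G) : Prop :=
  M.Normal ∧ M ≠ ⊥ ∧ ∀ K : Subgroup G, K.Normal → K ≤ M → K = ⊥ ∨ K = M

lemma exists_isMinNormal_le [Finite G] (N : Subgroup G) (hNn : N.Normal) (hN : N ≠ ⊥) :
    ∃ M ≤ N, IsMinNormal M := by
  obtain ⟨M, hMN, hM⟩ := exists_minimal_le_of_wellFoundedLT
    (fun K : Subgroup G => K.Normal ∧ K ≠ ⊥) N ⟨hNn, hN⟩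
  refine ⟨M, hMN, hM.1.1, hM.1.2, ?_⟩
  intro K hKn hKM
  by_cases hK : K = ⊥
  · exact Or.inl hK
  · exact Or.inr (le_antisymm hKM (hM.2 ⟨hKn, hK⟩ hKM))

lemma exists_isMinNormal [Finite G] [Nontrivial G] : ∃ M : Subgroup G, IsMinNormal M := by
  obtain ⟨M, _, hM⟩ := exists_isMinNormal_le (⊤ : Subgroup G) inferInstance top_ne_bot
  exact ⟨M, hM⟩

lemma IsMinNormal.map_equiv {G' : Type*} [Group G'] {M : Subgroup G} (hM : IsMinNormal M)
    (φ : G ≃* G') : IsMinNormal (M.map φ.toMonoidHom) := by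
  obtain ⟨hMn, hMne, hMmin⟩ := hM
  refine ⟨hMn.map _ φ.surjective, ?_, ?_⟩
  · intro h
    apply hMne
    rw [eq_bot_iff] at h ⊢
    intro x hx
    have : φ x ∈ M.map φ.toMonoidHom := ⟨x, hx, rfl⟩
    have := h this
    rw [Subgroup.mem_bot] at this ⊢
    exact φ.injective (this.trans (map_one φ).symm)
  · intro K hKn hKM
    have h1 : (K.comap φ.toMonoidHom).Normal := hKn.comap _
    have h2 : K.comap φ.toMonoidHom ≤ M := by
      intro x hx
      obtain ⟨y, hy, hyx⟩ := hKM hx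
      have : y = x := φ.injective hyx
      rwa [← this]
    have h3 : (K.comap φ.toMonoidHom).map φ.toMonoidHom = K :=
      Subgroup.map_comap_eq_self_of_surjective φ.surjective K
    rcases hMmin _ h1 h2 with h | h
    · left; rw [← h3, h, Subgroup.map_bot]
    · right; rw [← h3, h]

end Cfsg.Agent.Lib.Helper13
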