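import Mathlib
import Cfsg.Agent.Lib.Helper13.MinNormal

set_option autoImplicit false

namespace Cfsg.Agent.Lib.Helper13

universe u

/-- A minimal normal subgroup of a finite group normalizes every subnormal subgroup. -/
theorem minNormal_le_normalizer_aux (n : ℕ) : ∀ (G : Type u) [Group G] [Finite G], Nat.card G = n →
    ∀ (S M : Subgroup G), S.IsSubnormal → IsMinNormal M →
    M ≤ Subgroup.normalizer (S : Set G) := by
  induction n using Nat.strong_induction_on with
  | _ n ih =>
    intro G _ _ hn S M hS hM
    obtain ⟨hMn, hMne, hMmin⟩ := hM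
    by_cases hStop : S = ⊤
    · subst hStop
      intro x _
      rw [Subgroup.mem_normalizer_iff]
      intro h; simp
    obtain ⟨N, hNn, hSN, hNlt⟩ := hS.exists_normal_and_le_and_lt_top_of_ne hStop
    by_cases hMN : M ⊓ N = ⊥
    · have h1 : ⁅M, N⁆ = ⊥ := Subgroup.commutator_eq_bot_of_disjoint (disjoint_iff.mpr hMN)
      have h2 : M ≤ Subgroup.centralizer (N : Set G) :=
        Subgroup.commutator_eq_bot_iff_le_centralizer.mp h1
      exact h2.trans ((Subgroup.centralizer_le hSN).trans (Subgroup.centralizer_le_normalizer _))
    · have hMleN : M ≤ N := by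
        have hinf : (M ⊓ N).Normal := inferInstance
        rcases hMmin (M ⊓ N) hinf inf_le_left with h | h
        · exact absurd h hMN
        · exact inf_eq_left.mp h
      have hNcard : Nat.card N < n := by
        rw [← hn]
        apply lt_of_le_of_ne (Subgroup.card_le_card_group N)
        intro h
        exact hNlt.ne (Subgroup.eq_top_of_card_eq N h)
      have hM'n : (M.subgroupOf N).Normal := hMn.subgroupOf N
      have hM'ne : M.subgroupOf N ≠ ⊥ := by
        rw [Ne, Subgroup.subgroupOf_eq_bot, disjoint_iff, inf_eq_left.mpr hMleN]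
        exact hMne
      obtain ⟨M0, hM0le, hM0⟩ := exists_isMinNormal_le (M.subgroupOf N) hM'n hM'ne
      have hTle : Subgroup.normalClosure ((M0.map N.subtype : Subgroup G) : Set G) ≤ M := by
        apply Subgroup.normalClosure_le_normal
        rintro _ ⟨m0, hm0, rfl⟩
        exact hM0le hm0
      have hTne : Subgroup.normalClosure ((M0.map N.subtype : Subgroup G) : Set G) ≠ ⊥ := by
        intro h
        apply hM0.2.1
        rw [eq_bot_iff]
        intro x hx
        have h1 : (x : G) ∈ Subgroup.normalClosure ((M0.map N.subtype : Subgroup G) : Set G) :=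
          Subgroup.subset_normalClosure ⟨x, hx, rfl⟩
        rw [h, Subgroup.mem_bot] at h1
        rw [Subgroup.mem_bot]
        exact Subtype.ext h1
      have hTM : Subgroup.normalClosure ((M0.map N.subtype : Subgroup G) : Set G) = M :=
        (hMmin _ Subgroup.normalClosure_normal hTle).resolve_left hTne
      rw [← hTM]
      show Subgroup.closure (Group.conjugatesOfSet _) ≤ _
      rw [Subgroup.closure_le]
      intro x hx
      rw [Group.mem_conjugatesOfSet_iff] at hx
      obtain ⟨m, hm, hconj⟩ := hx
      obtain ⟨g, rfl⟩ := isConj_iff.mp hconj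
      obtain ⟨m0, hm0, rfl⟩ := hm
      have hM1 : IsMinNormal (M0.map (MulAut.conjNormal g : N ≃* N).toMonoidHom) :=
        hM0.map_equiv _
      have key := ih (Nat.card N) hNcard N rfl (S.subgroupOf N) _ hS.subgroupOf hM1
      have hx1 : (MulAut.conjNormal g m0 : N) ∈ Subgroup.normalizer ((S.subgroupOf N : Subgroup N) : Set N) :=
        key ⟨m0, hm0, rfl⟩
      rw [← Subgroup.subgroupOf_normalizer_eq hSN, Subgroup.mem_subgroupOf,
        MulAut.conjNormal_apply] at hx1
      exact hx1

theorem minNormal_le_normalizer {G : Type u} [Group G] [Finite G] (S M : Subgroup G)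
    (hS : S.IsSubnormal) (hM : IsMinNormal M) : M ≤ Subgroup.normalizer (S : Set G) :=
  minNormal_le_normalizer_aux (Nat.card G) G rfl S M hS hM

/-- Wielandt: the join of two subnormal subgroups of a finite group is subnormal. -/
theorem isSubnormal_sup_aux (n : ℕ) : ∀ (G : Type u) [Group G] [Finite G], Nat.card G = n →
    ∀ (H K : Subgroup G), H.IsSubnormal → K.IsSubnormal → (H ⊔ K).IsSubnormal := by
  induction n using Nat.strong_induction_on with
  | _ n ih =>
    intro G _ _ hn H K hH hK
    rcases subsingleton_or_nontrivial G with hsub | hnon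
    · have : H ⊔ K = ⊤ := Subsingleton.elim _ _
      rw [this]; exact Subgroup.IsSubnormal.top
    · obtain ⟨M, hM⟩ := exists_isMinNormal (G := G)
      have hMn : M.Normal := hM.1
      have hcard : Nat.card (G ⧸ M) < n := by
        rw [← hn, ← Subgroup.index_eq_card, ← Subgroup.card_mul_index M]
        have h1 : 1 < Nat.card M := (Subgroup.one_lt_card_iff_ne_bot M).mpr hM.2.1
        have h2 : 0 < M.index := Nat.pos_of_ne_zero Subgroup.index_ne_zero_of_finite
        exact lt_mul_of_one_lt_left h2 h1
      have h1 := ih (Nat.card (G ⧸ M)) hcard (G ⧸ M) rfl _ _ (hH.quotient (K := M)) (hK.quotient (K := M))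
      have h2 := h1.comap (QuotientGroup.mk' M)
      rw [← Subgroup.map_sup, Subgroup.comap_map_eq, QuotientGroup.ker_mk'] at h2
      have hle : H ⊔ K ≤ H ⊔ K ⊔ M := le_sup_left
      refine Subgroup.IsSubnormal.step _ _ hle h2 ?_
      rw [Subgroup.normal_subgroupOf_iff_le_normalizer hle]
      apply sup_le Subgroup.le_normalizer
      refine le_trans ?_ (Subgroup.normalizer_inf_normalizer_le_normalizer_sup H K)
      exact le_inf (minNormal_le_normalizer H M hH hM) (minNormal_le_normalizer K M hK hM)

theorem isSubnormal_sup {G : Type u} [Group G] [Finite G] (H K : Subgroup G)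
    (hH : H.IsSubnormal) (hK : K.IsSubnormal) : (H ⊔ K).IsSubnormal :=
  isSubnormal_sup_aux (Nat.card G) G rfl H K hH hK

/-- The join of any family of subnormal subgroups of a finite group is subnormal. -/
theorem isSubnormal_sSup {G : Type u} [Group G] [Finite G] (S : Set (Subgroup G))
    (hS : ∀ U ∈ S, U.IsSubnormal) : (sSup S).IsSubnormal := by
  have hfin : S.Finite := Set.toFinite S
  induction S, hfin using Set.Finite.induction_on with
  | empty => simp
  | insert _ _ ih =>
    rw [sSup_insert]
    exact isSubnormal_sup _ _ (hS _ (Set.mem_insert _ _))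
      (ih (fun U hU => hS U (Set.mem_insert_of_mem _ hU)))

end Cfsg.Agent.Lib.Helper13
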