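import Mathlib
import Cfsg.Agent.Lib.Helper13.BG127A
import Cfsg.Agent.Lib.Helper13.BG12B
import Cfsg.Agent.Lib.Helper13.BG124
import Cfsg.Agent.Lib.Helper30.Generation
import Cfsg.Agent.Lib.Helper68.BGCentAb2
import Cfsg.Agent.Lib.Helper55.FitUniq
import Cfsg.Agent.Lib.Helper54.Subnormal
import Cfsg.Agent.S1408
import Cfsg.Agent.S1409
import Cfsg.Agent.S1414

/-!
# Bender–Glauberman, Theorem 12.7 (from the statements of 12.4–12.6)
-/

set_option autoImplicit false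
set_option linter.unusedSectionVars false
set_option linter.unusedVariables false

namespace Cfsg.Agent.Lib.Helper13.BG127

open Cfsg Cfsg.Agent.Lib.Helper55 Cfsg.Agent.Lib.Helper31 Cfsg.Agent.Lib.Helper71.BG10
  Cfsg.Agent.Lib.Helper71.BG11 Cfsg.Agent.Lib.Helper13.BG12
open scoped commutatorElement

variable {G : Type*} [Group G] [Finite G]

/-- a `q`-element lies in every normal subgroup whose index is a power of `p ≠ q` -/
theorem mem_of_index_pow {K : Type*} [Group K] [Finite K] {p q : ℕ} (hp : p.Prime) (hq : q.Prime)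
    (hpq : p ≠ q) {N : Subgroup K} [N.Normal] {n : ℕ} (hN : N.index = q ^ n) {g : K} {m : ℕ}
    (hg : g ^ p ^ m = 1) : g ∈ N := by
  rw [← QuotientGroup.eq_one_iff]
  have h1 : orderOf (g : K ⧸ N) ∣ p ^ m := by
    apply orderOf_dvd_of_pow_eq_one
    rw [← QuotientGroup.mk_pow, hg]; rfl
  have h2 : orderOf (g : K ⧸ N) ∣ q ^ n := by
    rw [← hN, Subgroup.index_eq_card]; exact orderOf_dvd_natCard _
  have hcop : Nat.Coprime (p ^ m) (q ^ n) :=
    Nat.Coprime.pow _ _ ((Nat.coprime_primes hp hq).2 hpq)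
  exact orderOf_eq_one_iff.1 (Nat.eq_one_of_dvd_coprimes hcop h1 h2)

/-- In a group with a normal `q`-complement, a `p`-element `x` (`p ≠ q`) commutes with every `b`
such that `[x, b]` has order dividing `q`. -/
theorem commute_of_normal_complement {K : Type*} [Group K] [Finite K] {p q : ℕ} [hp : Fact p.Prime]
    [hq : Fact q.Prime] (hpq : p ≠ q) (hc : HasNormalPComplement q K) {x b : K}
    (hx : ∃ k : ℕ, x ^ p ^ k = 1) (ht : (x * b * x⁻¹ * b⁻¹) ^ q = 1) : x * b = b * x := by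
  obtain ⟨Q, N, hNn, hNc⟩ := hc
  obtain ⟨n, hn⟩ := (IsPGroup.iff_card).1 Q.isPGroup'
  have hidx : N.index = q ^ n := by rw [hNc.symm.index_eq_card, hn]
  obtain ⟨k, hk⟩ := hx
  have hxN : x ∈ N := mem_of_index_pow hp.out hq.out hpq hidx hk
  have htN : x * b * x⁻¹ * b⁻¹ ∈ N := by
    have : x * b * x⁻¹ * b⁻¹ = x * (b * x⁻¹ * b⁻¹) := by group
    rw [this]
    exact N.mul_mem hxN (hNn.conj_mem _ (N.inv_mem hxN) b)
  have hqN : ¬ q ∣ Nat.card N := by
    rw [← hNc.index_eq_card]; exact Q.not_dvd_index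
  have h1 : orderOf (x * b * x⁻¹ * b⁻¹) ∣ q := orderOf_dvd_of_pow_eq_one ht
  have h2 : orderOf (x * b * x⁻¹ * b⁻¹) ∣ Nat.card N := Subgroup.orderOf_dvd_natCard N htN
  have h3 : x * b * x⁻¹ * b⁻¹ = 1 := by
    rcases (Nat.dvd_prime hq.out).1 h1 with h | h
    · exact orderOf_eq_one_iff.1 h
    · exact absurd (h ▸ h2) hqN
  calc x * b = (x * b * x⁻¹ * b⁻¹) * (b * x) := by group
    _ = b * x := by rw [h3, one_mul]

/-- for `r ∈ σ(M)`, every `r`-subgroup of `M` lies in `M_σ` -/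
theorem pgroup_le_sigmaCore (hG : IsMinSimpleOddOrder G) {M : Subgroup G} (hM : IsCoatom M)
    {r : ℕ} [hr : Fact r.Prime] (hrσ : r ∈ sigma M) {Q : Subgroup G} (hQM : Q ≤ M)
    (hQ : IsPGroup r Q) : Q ≤ sigmaCore M := by
  have hHall := (Cfsg.Agent.S1350.result hG M hM).1
  refine le_of_isPiHallOf_normal hHall (le_normalizer_sigmaCore M) hQM ?_
  intro s hs hsd
  obtain ⟨n, hn⟩ := (IsPGroup.iff_card).1 hQ
  rw [hn] at hsd
  have := (Nat.prime_dvd_prime_iff_eq hs hr.out).1 (hs.dvd_of_dvd_pow hsd)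
  rw [this]; exact hrσ

/-- a nilpotent subgroup of `M` normalized by `M` lies in `F(M)` -/
theorem le_fittingOf_of_nilpotent {N M : Subgroup G} (hNM : N ≤ M)
    (hn : M ≤ Subgroup.normalizer (N : Set G)) (hnil : Group.IsNilpotent N) : N ≤ fittingOf M := by
  have hnorm : (N.subgroupOf M).Normal := (Subgroup.normal_subgroupOf_iff_le_normalizer hNM).2 hn
  have hnil' : Group.IsNilpotent (N.subgroupOf M) :=
    Group.nilpotent_of_mulEquiv (Subgroup.subgroupOfEquivOfLe hNM).symm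
  have := Cfsg.Agent.Lib.Helper13.le_fittingSubgroup (N.subgroupOf M) hnorm hnil'
  intro n hn'
  exact ⟨⟨n, hNM hn'⟩, this (Subgroup.mem_subgroupOf.2 hn'), rfl⟩

/-- The configuration of BG Theorem 12.7: `A ≤ E` elementary abelian of order `p ^ 2`,
`S ⊇ A` an abelian Sylow `p`-subgroup of `M` with `Ω₁(S) = A`, `P ⊇ S` a Sylow `p`-subgroup of `G`
not contained in `M`, and `x ∈ N_P(S) \ S`. -/
structure Ctx (M E A S : Subgroup G) (p : ℕ) [Fact p.Prime] (P : Sylow p G) (x : G) : Prop where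
  hG : IsMinSimpleOddOrder G
  hM : IsCoatom M
  hE : IsComplIn E (sigmaCore M) M
  hHall : IsPiHallOf (sigma M) (sigmaCore M) M
  hpσ : p ∉ sigma M
  hnil : Group.IsNilpotent ↥(sigmaCore M)
  hAE : A ≤ E
  hAe : IsElementaryAbelian p A
  hAc : Nat.card A = p ^ 2
  hAmax : ∀ B : Subgroup G, IsElementaryAbelian p B → A ≤ B → B = A
  hEA : E ≤ Subgroup.normalizer (A : Set G)
  hXA : ∀ X : Subgroup G, X ≤ E → Nat.card X = p → X ≤ A
  hCA : Subgroup.centralizer (A : Set G) ≤ E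
  hME : M ⊓ Subgroup.normalizer (A : Set G) ≤ E
  h18c : ∀ X : Subgroup G, X ≤ A → Nat.card X = p →
    sigmaCore M ⊓ Subgroup.centralizer (X : Set G) ≠ ⊥ →
      (Subgroup.centralizer (X : Set G) ≤ M ∧ ∀ L : Subgroup G, IsCoatom L →
        Subgroup.centralizer (X : Set G) ≤ L → L = M)
  hS : IsSylowIn p M S
  hAS : A ≤ S
  hScomm : ∀ a ∈ S, ∀ b ∈ S, a * b = b * a
  hSΩ : ∀ s ∈ S, s ^ p = 1 → s ∈ A
  hSP : S ≤ (P : Subgroup G)
  hPM : ¬ (P : Subgroup G) ≤ M
  hxP : x ∈ (P : Subgroup G)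
  hxS : x ∈ Subgroup.normalizer (S : Set G)
  hxnS : x ∉ S

namespace Ctx

variable {M E A S : Subgroup G} {p : ℕ} [hp : Fact p.Prime] {P : Sylow p G} {x : G}

theorem hEM (c : Ctx M E A S p P x) : E ≤ M := c.hE.1
theorem hAM (c : Ctx M E A S p P x) : A ≤ M := c.hAE.trans c.hEM
theorem hSM (c : Ctx M E A S p P x) : S ≤ M := c.hS.1
theorem hAP (c : Ctx M E A S p P x) : A ≤ (P : Subgroup G) := c.hAS.trans c.hSP

theorem hAcomm (c : Ctx M E A S p P x) : ∀ a ∈ A, ∀ b ∈ A, a * b = b * a := by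
  intro a ha b hb
  have := (c.hAe.1).is_comm.comm ⟨a, ha⟩ ⟨b, hb⟩
  exact congrArg Subtype.val this

theorem inf_eq (c : Ctx M E A S p P x) : (P : Subgroup G) ⊓ M = S :=
  c.hS.2.2 _ inf_le_right (P.isPGroup'.to_le inf_le_left) (le_inf c.hSP c.hSM)

theorem hxM (c : Ctx M E A S p P x) : x ∉ M := fun h =>
  c.hxnS (c.inf_eq ▸ (⟨c.hxP, h⟩ : x ∈ (P : Subgroup G) ⊓ M))

theorem hxA (c : Ctx M E A S p P x) : x ∈ Subgroup.normalizer (A : Set G) := by
  rw [← cj_eq_self_iff]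
  apply Subgroup.eq_of_le_of_card_ge
  · intro y hy
    rw [mem_cj] at hy
    have h1 : x * (x⁻¹ * y * x) * x⁻¹ ∈ S :=
      (Subgroup.mem_normalizer_iff.1 c.hxS _).1 (c.hAS hy)
    have e : x * (x⁻¹ * y * x) * x⁻¹ = y := by group
    rw [e] at h1
    apply c.hSΩ y h1
    have h2 : (x⁻¹ * y * x) ^ p = 1 := c.hAe.2 _ hy
    have e2 : y = x * (x⁻¹ * y * x) * x⁻¹ := e.symm
    rw [e2, conj_pow, h2]; group
  · rw [card_cj]

theorem hp2 (c : Ctx M E A S p P x) : p ≠ 2 := by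
  intro h
  have h1 : Nat.card A ∣ Nat.card G := Subgroup.card_subgroup_dvd_card A
  rw [c.hAc, h] at h1
  have h2 : 2 ∣ Nat.card G := (Dvd.intro_left 2 rfl : 2 ∣ 2 ^ 2).trans h1
  exact (Nat.not_even_iff_odd.2 c.hG.1) (even_iff_two_dvd.2 h2)

theorem hA1 (c : Ctx M E A S p P x) : A ≠ ⊥ := by
  intro h
  have := c.hAc
  rw [h, Subgroup.card_bot] at this
  have := hp.out.one_lt
  nlinarith

/-- `Z₀ = Ω₁(Z(P)) ≤ A` -/
theorem hZA (c : Ctx M E A S p P x) : omz p (P : Subgroup G) ≤ A := by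
  intro z hz
  apply mem_of_cent_of_max c.hAe c.hAmax _ hz.2.2
  rw [Subgroup.mem_centralizer_iff]
  intro a ha
  exact hz.2.1 a (c.hAP ha)

theorem hZ1 (c : Ctx M E A S p P x) : omz p (P : Subgroup G) ≠ ⊥ := by
  have hP1 : (P : Subgroup G) ≠ ⊥ := fun h => c.hA1 (le_bot_iff.1 (h ▸ c.hAP))
  obtain ⟨z, hzP, hzc, hzo⟩ := exists_central_order_p P.isPGroup' hP1
  intro h
  have hz : z ∈ omz p (P : Subgroup G) := ⟨hzP, hzc, by rw [← hzo]; exact pow_orderOf_eq_one z⟩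
  rw [h, Subgroup.mem_bot] at hz
  rw [hz, orderOf_one] at hzo
  exact hp.out.one_lt.ne hzo

theorem hCZ (c : Ctx M E A S p P x) :
    ¬ Subgroup.centralizer ((omz p (P : Subgroup G) : Subgroup G) : Set G) ≤ M :=
  fun h => c.hPM ((le_centralizer_omz p _).trans h)

theorem hZA' (c : Ctx M E A S p P x) : omz p (P : Subgroup G) ≠ A := by
  intro h
  apply c.hPM
  have : (P : Subgroup G) ≤ Subgroup.centralizer (A : Set G) := h ▸ le_centralizer_omz p _
  exact this.trans (c.hCA.trans c.hEM)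

theorem hZc (c : Ctx M E A S p P x) : Nat.card (omz p (P : Subgroup G)) = p :=
  card_eq_prime_of_ne c.hAc c.hZA c.hZ1 c.hZA'

theorem hxZ (c : Ctx M E A S p P x) : ∀ z ∈ omz p (P : Subgroup G), x * z = z * x :=
  fun z hz => hz.2.1 x c.hxP

theorem hxnc (c : Ctx M E A S p P x) : ¬ ∀ a ∈ A, x * a = a * x := by
  intro h
  apply c.hxM
  apply c.hEM
  apply c.hCA
  rw [Subgroup.mem_centralizer_iff]
  intro a ha
  exact (h a ha).symm

theorem hxp (c : Ctx M E A S p P x) : ∃ k : ℕ, x ^ p ^ k = 1 := by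
  obtain ⟨k, hk⟩ := P.isPGroup' ⟨x, c.hxP⟩
  exact ⟨k, by simpa using congrArg Subtype.val hk⟩

/-- transitivity on the lines other than `Z₀` -/
theorem trans (c : Ctx M E A S p P x) {X X' : Subgroup G} (hXA : X ≤ A) (hXc : Nat.card X = p)
    (hXZ : X ≠ omz p (P : Subgroup G)) (hX'A : X' ≤ A) (hX'c : Nat.card X' = p)
    (hX'Z : X' ≠ omz p (P : Subgroup G)) : ∃ i : ℕ, cj (x ^ i) X = X' :=
  exists_pow_conj_eq c.hAcomm c.hAc c.hZA c.hZc c.hxA c.hxZ c.hxp c.hxnc hXA hXc hXZ hX'A hX'c hX'Z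

theorem pow_mem_P (c : Ctx M E A S p P x) (i : ℕ) : x ^ i ∈ (P : Subgroup G) :=
  Subgroup.pow_mem _ c.hxP i

theorem pow_not_mem (c : Ctx M E A S p P x) {X : Subgroup G} (hXA : X ≤ A) {i : ℕ}
    (h : cj (x ^ i) X ≠ X) : x ^ i ∉ M := by
  intro hM
  apply h
  have hS : x ^ i ∈ S := c.inf_eq ▸ (⟨c.pow_mem_P i, hM⟩ : x ^ i ∈ (P : Subgroup G) ⊓ M)
  rw [cj_eq_self_iff]
  have : x ^ i ∈ Subgroup.centralizer (X : Set G) := by
    rw [Subgroup.mem_centralizer_iff]
    intro a ha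
    exact c.hScomm a (c.hAS (hXA ha)) _ hS
  exact Subgroup.centralizer_le_normalizer _ this

theorem pow_mem_normalizer (c : Ctx M E A S p P x) (i : ℕ) :
    x ^ i ∈ Subgroup.normalizer (A : Set G) := Subgroup.pow_mem _ c.hxA i

theorem cj_le (c : Ctx M E A S p P x) {X : Subgroup G} (hXA : X ≤ A) (i : ℕ) :
    cj (x ^ i) X ≤ A := by
  have := cj_mono (g := x ^ i) hXA
  rwa [cj_eq_self_iff.2 (c.pow_mem_normalizer i)] at this

/-- a line centralizing part of `M_σ` is moved by every `g ∉ M` to a line that does not -/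
theorem cent_cj (c : Ctx M E A S p P x) {X : Subgroup G} (hXA : X ≤ A) (hXc : Nat.card X = p)
    (hX : sigmaCore M ⊓ Subgroup.centralizer (X : Set G) ≠ ⊥) {i : ℕ} (hi : x ^ i ∉ M) :
    sigmaCore M ⊓ Subgroup.centralizer ((cj (x ^ i) X : Subgroup G) : Set G) = ⊥ ∧
      ¬ Subgroup.centralizer ((cj (x ^ i) X : Subgroup G) : Set G) ≤ M := by
  obtain ⟨h1, h2⟩ := c.h18c X hXA hXc hX
  have hn : ¬ Subgroup.centralizer ((cj (x ^ i) X : Subgroup G) : Set G) ≤ M := by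
    intro hle
    rw [← cj_centralizer, cj_le_iff] at hle
    have h3 := h2 _ (isCoatom_cj (x ^ i)⁻¹ c.hM) hle
    have h4 : (x ^ i)⁻¹ ∈ Subgroup.normalizer (M : Set G) := cj_eq_self_iff.1 h3
    have hNM : Subgroup.normalizer (M : Set G) = M := by
      rcases c.hM.le_iff.1 (Subgroup.le_normalizer (H := M)) with h | h
      · exfalso
        have hM1 : M ≠ ⊥ := fun hb => c.hA1 (le_bot_iff.1 (hb ▸ c.hAM))
        exact ms_normalizer_ne_top c.hG hM1 c.hM.1 h
      · exact h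
    rw [hNM] at h4
    exact hi (by simpa using M.inv_mem h4)
  refine ⟨?_, hn⟩
  by_contra hne
  exact hn (c.h18c _ (c.cj_le hXA i) (by rw [card_cj]; exact hXc) hne).1

theorem hAp (c : Ctx M E A S p P x) : IsPGroup p A := IsPGroup.of_card c.hAc

theorem hσ1 (c : Ctx M E A S p P x) : sigmaCore M ≠ ⊥ := by
  intro h
  have hME : M ≤ E := by
    intro m hm
    obtain ⟨a, ha, b, hb, rfl⟩ := c.hE.2.2.2 m hm
    rw [h, Subgroup.mem_bot] at hb
    rw [hb, mul_one]; exact ha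
  have hMN : M ≤ Subgroup.normalizer (A : Set G) := hME.trans c.hEA
  rcases c.hM.le_iff.1 hMN with h1 | h1
  · exact Cfsg.Agent.Lib.Helper91.BGFusion.ms_normalizer_ne_top_of_pgroup c.hG c.hA1 c.hAp h1
  · exact c.hxM (h1 ▸ c.hxA)

theorem not_dvd_card_sigmaCore (c : Ctx M E A S p P x) : ¬ p ∣ Nat.card (sigmaCore M) :=
  fun h => c.hpσ (sigmaCore_pi c.hG c.hM hp.out h)

theorem hAσ (c : Ctx M E A S p P x) : A ≤ Subgroup.normalizer (sigmaCore M : Set G) :=
  c.hAM.trans (le_normalizer_sigmaCore M)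

theorem card_of_relIndex (c : Ctx M E A S p P x) {B : Subgroup G} (hBA : B ≤ A)
    (hB : B.relIndex A = p) : Nat.card B = p := by
  have h1 : Nat.card B * B.relIndex A = Nat.card A := by
    rw [← Subgroup.relIndex_bot_left, ← Subgroup.relIndex_bot_left]
    exact Subgroup.relIndex_mul_relIndex _ _ _ bot_le hBA
  rw [hB, c.hAc, pow_two] at h1
  exact Nat.eq_of_mul_eq_mul_right hp.out.pos h1

/-- coprime generation of `M_σ` by the centralizers of the lines of `A` -/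
theorem gen (c : Ctx M E A S p P x) (T : Subgroup G)
    (hT : ∀ B : Subgroup G, B ≤ A → Nat.card B = p →
      sigmaCore M ⊓ Subgroup.centralizer (B : Set G) ≤ T) : sigmaCore M ≤ T :=
  Cfsg.Agent.Lib.Helper30.coprime_generation p A c.hAcomm c.hAe.2 (le_of_eq c.hAc.symm)
    (sigmaCore M) c.hAσ c.not_dvd_card_sigmaCore T
    (fun B hBA hB => hT B hBA (c.card_of_relIndex hBA hB))

theorem exists_A0 (c : Ctx M E A S p P x) : ∃ A₀ : Subgroup G, A₀ ≤ A ∧ Nat.card A₀ = p ∧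
    sigmaCore M ⊓ Subgroup.centralizer (A₀ : Set G) ≠ ⊥ := by
  by_contra hcon
  push Not at hcon
  have := c.gen ⊥ (fun B hBA hB => le_of_eq (hcon B hBA hB))
  exact c.hσ1 (le_bot_iff.1 this)

/-- the lines other than a line `A₀` centralizing part of `M_σ` -/
theorem other_lines (c : Ctx M E A S p P x) {A₀ : Subgroup G} (hA₀A : A₀ ≤ A)
    (hA₀c : Nat.card A₀ = p) (hA₀ : sigmaCore M ⊓ Subgroup.centralizer (A₀ : Set G) ≠ ⊥) :
    A₀ ≠ omz p (P : Subgroup G) ∧ ∀ X : Subgroup G, X ≤ A → Nat.card X = p → X ≠ A₀ →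
      sigmaCore M ⊓ Subgroup.centralizer (X : Set G) = ⊥ ∧
        ¬ Subgroup.centralizer (X : Set G) ≤ M := by
  have hA₀Z : A₀ ≠ omz p (P : Subgroup G) := by
    intro h
    exact c.hCZ (h ▸ (c.h18c A₀ hA₀A hA₀c hA₀).1)
  refine ⟨hA₀Z, ?_⟩
  intro X hXA hXc hXne
  by_cases hXZ : X = omz p (P : Subgroup G)
  · have hn : ¬ Subgroup.centralizer (X : Set G) ≤ M := hXZ ▸ c.hCZ
    refine ⟨?_, hn⟩
    by_contra hne
    exact hn (c.h18c X hXA hXc hne).1
  · obtain ⟨i, hi⟩ := c.trans hA₀A hA₀c hA₀Z hXA hXc hXZ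
    have hne : cj (x ^ i) A₀ ≠ A₀ := by rw [hi]; exact hXne
    have := c.cent_cj hA₀A hA₀c hA₀ (c.pow_not_mem hA₀A hne)
    rwa [hi] at this

/-- **BG 12.7 (b), first half, and (c)**. -/
theorem main_c (c : Ctx M E A S p P x) :
    Nat.card ↥(A ⊓ Subgroup.centralizer (sigmaCore M : Set G)) = p ∧
    sigmaCore M ⊓ Subgroup.centralizer
      ((A ⊓ Subgroup.centralizer (sigmaCore M : Set G) : Subgroup G) : Set G) ≠ ⊥ ∧
    A ⊓ Subgroup.centralizer (sigmaCore M : Set G) ≠ omz p (P : Subgroup G) ∧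
    ∀ X : Subgroup G, X ≤ A → Nat.card X = p →
      X ≠ A ⊓ Subgroup.centralizer (sigmaCore M : Set G) →
        sigmaCore M ⊓ Subgroup.centralizer (X : Set G) = ⊥ ∧
          ¬ Subgroup.centralizer (X : Set G) ≤ M := by
  obtain ⟨A₀, hA₀A, hA₀c, hA₀⟩ := c.exists_A0
  obtain ⟨hA₀Z, hoth⟩ := c.other_lines hA₀A hA₀c hA₀
  have hle : sigmaCore M ≤ Subgroup.centralizer (A₀ : Set G) := by
    apply c.gen
    intro B hBA hB
    by_cases hBA₀ : B = A₀
    · rw [hBA₀]; exact inf_le_right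
    · rw [(hoth B hBA hB hBA₀).1]; exact bot_le
  have hA₀le : A₀ ≤ A ⊓ Subgroup.centralizer (sigmaCore M : Set G) := by
    refine le_inf hA₀A ?_
    intro a ha
    rw [Subgroup.mem_centralizer_iff]
    intro s hs
    exact (Subgroup.mem_centralizer_iff.1 (hle hs) a ha).symm
  have hA₀1 : A₀ ≠ ⊥ := by
    intro h
    rw [h, Subgroup.card_bot] at hA₀c
    exact hp.out.one_lt.ne hA₀c
  have hne1 : A ⊓ Subgroup.centralizer (sigmaCore M : Set G) ≠ ⊥ :=
    fun h => hA₀1 (le_bot_iff.1 (h ▸ hA₀le))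
  have hneA : A ⊓ Subgroup.centralizer (sigmaCore M : Set G) ≠ A := by
    intro h
    have hAle : A ≤ Subgroup.centralizer (sigmaCore M : Set G) := by
      rw [← h]; exact inf_le_right
    have hZ := (hoth _ c.hZA c.hZc (Ne.symm hA₀Z)).1
    apply c.hσ1
    rw [← le_bot_iff, ← hZ]
    refine le_inf le_rfl ?_
    intro s hs
    rw [Subgroup.mem_centralizer_iff]
    intro z hz
    exact (Subgroup.mem_centralizer_iff.1 (hAle (c.hZA hz)) s hs).symm
  have hcard : Nat.card ↥(A ⊓ Subgroup.centralizer (sigmaCore M : Set G)) = p :=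
    card_eq_prime_of_ne c.hAc inf_le_left hne1 hneA
  have heq : A₀ = A ⊓ Subgroup.centralizer (sigmaCore M : Set G) :=
    eq_of_le_of_card_prime hA₀c hcard hA₀le
  rw [← heq]
  exact ⟨hA₀c, hA₀, hA₀Z, hoth⟩

theorem hP1 (c : Ctx M E A S p P x) : (P : Subgroup G) ≠ ⊥ :=
  fun h => c.hA1 (le_bot_iff.1 (h ▸ c.hAP))

/-- **BG 12.7 (a)**: `τ₂(M) = {p}`. -/
theorem tau2_eq (c : Ctx M E A S p P x) (hpτ : p ∈ tau2 M) (h16 : Hyp16 M)
    (h17 : ∀ M' : Subgroup G, IsCoatom M' → Hyp17 M') (h18 : Hyp18 M) : tau2 M = {p} := by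
  ext q
  simp only [Set.mem_singleton_iff]
  refine ⟨fun hq => ?_, fun h => h ▸ hpτ⟩
  by_contra hne
  have hqP : Fact q.Prime := ⟨hq.1⟩
  obtain ⟨B, hBE, hBe, hBc⟩ := exists_elemAb_sq_le_compl c.hG c.hM c.hHall hq c.hE
  obtain ⟨⟨hEB, hYB⟩, -, -⟩ := h18 E c.hE q hq B ⟨hBE, hBe, hBc⟩
  have hBM : B ≤ M := hBE.trans c.hEM
  have hCBM : Subgroup.centralizer (B : Set G) ≤ M := h16 q B ⟨hBM, hBe, hBc⟩
  -- `A ∩ B = 1`
  have hAB : ∀ g, g ∈ A → g ∈ B → g = 1 := by
    intro g hgA hgB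
    have h1 : g ^ p = 1 := c.hAe.2 g hgA
    have h2 : g ^ q = 1 := hBe.2 g hgB
    have h3 : orderOf g ∣ Nat.gcd p q :=
      Nat.dvd_gcd (orderOf_dvd_of_pow_eq_one h1) (orderOf_dvd_of_pow_eq_one h2)
    have h4 : Nat.gcd p q = 1 := (Nat.coprime_primes hp.out hq.1).2 (Ne.symm hne)
    rw [h4] at h3
    exact orderOf_eq_one_iff.1 (Nat.dvd_one.1 h3)
  -- `A` and `B` commute
  have hcomm : ∀ a ∈ A, ∀ b ∈ B, a * b = b * a := by
    intro a ha b hb
    have h1 : a * b * a⁻¹ ∈ B := (Subgroup.mem_normalizer_iff.1 (hEB (c.hAE ha)) b).1 hb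
    have h2 : b * a⁻¹ * b⁻¹ ∈ A :=
      (Subgroup.mem_normalizer_iff.1 (c.hEA (hBE hb)) a⁻¹).1 (A.inv_mem ha)
    have h3 : a * b * a⁻¹ * b⁻¹ ∈ B := B.mul_mem h1 (B.inv_mem hb)
    have h4 : a * b * a⁻¹ * b⁻¹ ∈ A := by
      have e : a * b * a⁻¹ * b⁻¹ = a * (b * a⁻¹ * b⁻¹) := by group
      rw [e]; exact A.mul_mem ha h2
    have h5 := hAB _ h4 h3
    calc a * b = (a * b * a⁻¹ * b⁻¹) * (b * a) := by group
      _ = b * a := by rw [h5, one_mul]
  -- `x` normalizes `B`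
  have hxB : x ∈ Subgroup.normalizer (B : Set G) := by
    rw [← cj_eq_self_iff]
    apply Subgroup.eq_of_le_of_card_ge
    · intro y hy
      rw [mem_cj] at hy
      have hyC : y ∈ Subgroup.centralizer (A : Set G) := by
        rw [Subgroup.mem_centralizer_iff]
        intro a ha
        have ha' : x⁻¹ * a * x ∈ A := by
          have := (Subgroup.mem_normalizer_iff.1 (Subgroup.inv_mem _ c.hxA) a).1 ha
          simpa using this
        have h1 := hcomm _ ha' _ hy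
        calc a * y = x * ((x⁻¹ * a * x) * (x⁻¹ * y * x)) * x⁻¹ := by group
          _ = x * ((x⁻¹ * y * x) * (x⁻¹ * a * x)) * x⁻¹ := by rw [h1]
          _ = y * a := by group
      have hyE : y ∈ E := c.hCA hyC
      have hyq : y ^ q = 1 := by
        have h2 : (x⁻¹ * y * x) ^ q = 1 := hBe.2 _ hy
        have e : y = x * (x⁻¹ * y * x) * x⁻¹ := by group
        rw [e, conj_pow, h2]; group
      by_cases hy1 : y = 1
      · rw [hy1]; exact B.one_mem
      · have hcard : Nat.card (Subgroup.zpowers y) = q := by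
          rw [Nat.card_zpowers]
          rcases (Nat.dvd_prime hq.1).1 (orderOf_dvd_of_pow_eq_one hyq) with h | h
          · exact absurd (orderOf_eq_one_iff.1 h) hy1
          · exact h
        exact hYB _ (by rw [Subgroup.zpowers_le]; exact hyE) hcard (Subgroup.mem_zpowers y)
    · rw [card_cj]
  -- the maximal subgroup `M* ⊇ N(Z₀)`
  have hZp : IsPGroup p (omz p (P : Subgroup G)) := P.isPGroup'.to_le (omz_le p _)
  obtain ⟨Ms, hMs, hNMs⟩ := ms_exists_coatom_ge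
    (Cfsg.Agent.Lib.Helper91.BGFusion.ms_normalizer_ne_top_of_pgroup c.hG c.hZ1 hZp)
  have hNP : Subgroup.normalizer ((P : Subgroup G) : Set G) ≤ Ms :=
    (le_normalizer_omz p _).trans hNMs
  have hPMs : (P : Subgroup G) ≤ Ms := Subgroup.le_normalizer.trans hNP
  have hpσs : p ∈ sigma Ms :=
    Bg10.mem_sigma_of_normalizer_le (isSylowIn_of_sylow_le P hPMs) c.hP1 hNP
  have hBMs : B ≤ Ms := by
    intro b hb
    apply hNMs
    apply Subgroup.centralizer_le_normalizer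
    rw [Subgroup.mem_centralizer_iff]
    intro z hz
    exact hcomm z (c.hZA hz) b hb
  have hBq : IsPGroup q B := IsPGroup.of_card hBc
  have hqσs : q ∈ sigma Ms := by
    by_contra hqn
    have hr2 : PRankLE q 2 Ms := by
      by_contra h
      exact hqn (mem_sigma_of_not_pRankLE_two c.hG hMs hq.1 h)
    have hr1 : ¬ PRankLE q 1 Ms := by
      apply Cfsg.Agent.Lib.Helper15.BG103.not_pRankLE_of_le Ms B hBMs hBe
      rw [hBc, pow_one, pow_two]
      have := hq.1.one_lt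
      nlinarith
    have hqτ : q ∈ tau2 Ms := ⟨hq.1, hqn, hr2, hr1⟩
    obtain ⟨-, -, -, hd, -, -⟩ := h17 Ms hMs q hqτ B ⟨hBMs, hBe, hBc⟩
    have hAσ : A ≤ sigmaCore Ms :=
      pgroup_le_sigmaCore c.hG hMs hpσs (c.hAP.trans hPMs) c.hAp
    have hle : A ≤ sigmaCore Ms ⊓ Subgroup.centralizer (B : Set G) := by
      refine le_inf hAσ ?_
      intro a ha
      rw [Subgroup.mem_centralizer_iff]
      intro b hb
      exact (hcomm a ha b hb).symm
    rw [hd] at hle
    exact c.hA1 (le_bot_iff.1 hle)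
  have hxσ : x ∈ sigmaCore Ms :=
    pgroup_le_sigmaCore c.hG hMs hpσs hPMs P.isPGroup' c.hxP
  have hBσ : B ≤ sigmaCore Ms := pgroup_le_sigmaCore c.hG hMs hqσs hBMs hBq
  -- `q` is not an ideal prime
  have hqni : ¬ IsIdealPrime q G := (Cfsg.Agent.S1408.result c.hG M c.hM q hq.2.1 hq.2.2.1 hq.2.2.2).1
  have hqβ : q ∉ beta Ms := fun h => hqni h.2
  have hnpc : HasNormalPComplement q ↥(sigmaCore Ms) :=
    ((Cfsg.Agent.S1414.result c.hG Ms hMs).2.2.2.2 q hq.1 hqσs.2.1 hqβ).2.1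
  -- `x` centralizes `B`
  apply c.hxM
  apply hCBM
  rw [Subgroup.mem_centralizer_iff]
  intro b hb
  have hbx : x * b * x⁻¹ ∈ B := (Subgroup.mem_normalizer_iff.1 hxB b).1 hb
  have ht : (x * b * x⁻¹ * b⁻¹) ^ q = 1 := hBe.2 _ (B.mul_mem hbx (B.inv_mem hb))
  obtain ⟨k, hk⟩ := c.hxp
  have := commute_of_normal_complement (K := ↥(sigmaCore Ms)) (p := p) (q := q) (Ne.symm hne) hnpc
    (x := ⟨x, hxσ⟩) (b := ⟨b, hBσ hb⟩) ⟨k, Subtype.ext (by simpa using hk)⟩
    (Subtype.ext (by simpa using ht))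
  exact (congrArg Subtype.val this).symm

/-- `A₀ = C_A(M_σ)` is normal in `M` -/
theorem le_normalizer_A0 (c : Ctx M E A S p P x) :
    M ≤ Subgroup.normalizer
      ((A ⊓ Subgroup.centralizer (sigmaCore M : Set G) : Subgroup G) : Set G) := by
  intro m hm
  obtain ⟨e, he, s, hs, rfl⟩ := c.hE.2.2.2 m hm
  apply Subgroup.mul_mem
  · rw [← cj_eq_self_iff, cj_inf, cj_centralizer,
      cj_eq_self_iff.2 (c.hEA he), cj_eq_self_iff.2 (le_normalizer_sigmaCore M (c.hEM he))]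
  · apply Subgroup.centralizer_le_normalizer
    rw [Subgroup.mem_centralizer_iff]
    intro a ha
    exact (Subgroup.mem_centralizer_iff.1 ha.2 s hs).symm

/-- **BG 12.7 (b)**: `F(M) = M_σ × A₀`. -/
theorem fitting_eq (c : Ctx M E A S p P x) (hτ : tau2 M = {p}) :
    fittingOf M = sigmaCore M ⊔ (A ⊓ Subgroup.centralizer (sigmaCore M : Set G)) := by
  obtain ⟨hA₀c, hA₀, hA₀Z, -⟩ := c.main_c
  set A₀ := A ⊓ Subgroup.centralizer (sigmaCore M : Set G) with hA₀def
  have hA₀p : IsPGroup p A₀ := c.hAp.to_le inf_le_left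
  apply le_antisymm
  · rw [fittingOf_eq_iSup]
    apply iSup_le
    intro r
    have hrP : Fact (r : ℕ).Prime := ⟨r.2⟩
    set U := pCoreOf (r : ℕ) M with hUdef
    have hU : IsPGroup (r : ℕ) U := Cfsg.Agent.Lib.Helper54.isPGroup_pCoreOf _ M
    have hUM : U ≤ M := Cfsg.Agent.Lib.Helper54.pCoreOf_le _ M
    have hMU : M ≤ Subgroup.normalizer (U : Set G) :=
      Cfsg.Agent.Lib.Helper54.le_normalizer_pCoreOf _ M
    by_cases hrσ : (r : ℕ) ∈ sigma M
    · exact (pgroup_le_sigmaCore c.hG c.hM hrσ hUM hU).trans le_sup_left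
    by_cases hU1 : U = ⊥
    · rw [hU1]; exact bot_le
    -- `r ∈ τ₂(M)`
    have hr2 : PRankLE (r : ℕ) 2 M := by
      by_contra h
      exact hrσ (mem_sigma_of_not_pRankLE_two c.hG c.hM r.2 h)
    have hr1 : ¬ PRankLE (r : ℕ) 1 M := by
      intro h1
      set V := omz (r : ℕ) U with hVdef
      have hVU : V ≤ U := omz_le _ _
      have hVM : V ≤ M := hVU.trans hUM
      have hV1 : V ≠ ⊥ := by
        obtain ⟨z, hzU, hzc, hzo⟩ := exists_central_order_p hU hU1
        intro h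
        have hz : z ∈ V := ⟨hzU, hzc, by rw [← hzo]; exact pow_orderOf_eq_one z⟩
        rw [h, Subgroup.mem_bot] at hz
        rw [hz, orderOf_one] at hzo
        exact r.2.one_lt.ne hzo
      have hVe : IsElementaryAbelian (r : ℕ) V :=
        ⟨Cfsg.Agent.Lib.Helper68.BGCentAb.isMulCommutative_of_comm omz_comm, fun a ha => ha.2.2⟩
      have hVp : IsPGroup (r : ℕ) V := hU.to_le hVU
      have hVc : Nat.card V = r := by
        have hle : Nat.card V ≤ (r : ℕ) ^ 1 := by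
          by_contra hlt
          exact Cfsg.Agent.Lib.Helper15.BG103.not_pRankLE_of_le M V hVM hVe (not_le.1 hlt) h1
        rw [pow_one] at hle
        have hd : (r : ℕ) ∣ Nat.card V := ms_prime_dvd_card c.hG hVp hV1
        exact le_antisymm hle (Nat.le_of_dvd Nat.card_pos hd)
      have hMV : M ≤ Subgroup.normalizer (V : Set G) := hMU.trans (le_normalizer_omz _ _)
      have hNV : Subgroup.normalizer (V : Set G) = M := ms_normalizer_eq c.hG c.hM hV1 hVM hMV
      exact (Cfsg.Agent.S1409.result c.hG M c.hM r hrσ V hVc (le_of_eq hNV)).1.2 h1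
    have hrτ : (r : ℕ) ∈ tau2 M := ⟨r.2, hrσ, hr2, hr1⟩
    rw [hτ, Set.mem_singleton_iff] at hrτ
    -- now `r = p`
    have hU' : IsPGroup p U := hrτ ▸ hU
    have hUS : U ≤ S := c.hS.normal_le hUM hU' hMU
    -- `U` centralizes `M_σ`
    have hUσ : ∀ g, g ∈ U → g ∈ sigmaCore M → g = 1 := by
      intro g hgU hgσ
      obtain ⟨k, hk⟩ := (IsPGroup.iff_orderOf.1 hU') ⟨g, hgU⟩
      have hk' : orderOf g = p ^ k := by
        rw [← hk]; exact (Subgroup.orderOf_mk g hgU).symm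
      have hd : orderOf g ∣ Nat.card (sigmaCore M) := Subgroup.orderOf_dvd_natCard _ hgσ
      rcases Nat.eq_zero_or_pos k with h0 | h0
      · rw [h0, pow_zero] at hk'
        exact orderOf_eq_one_iff.1 hk'
      · exfalso
        apply c.not_dvd_card_sigmaCore
        refine dvd_trans ?_ hd
        rw [hk']
        exact dvd_pow_self p h0.ne'
    have hUC : U ≤ Subgroup.centralizer (sigmaCore M : Set G) := by
      intro u hu
      rw [Subgroup.mem_centralizer_iff]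
      intro s hs
      have hsM : s ∈ M := sigmaCore_le M hs
      have h1 : u * s * u⁻¹ ∈ sigmaCore M :=
        (Subgroup.mem_normalizer_iff.1 (le_normalizer_sigmaCore M (hUM hu)) s).1 hs
      have h2 : s * u⁻¹ * s⁻¹ ∈ U :=
        (Subgroup.mem_normalizer_iff.1 (hMU hsM) u⁻¹).1 (U.inv_mem hu)
      have h3 : u * s * u⁻¹ * s⁻¹ ∈ sigmaCore M :=
        Subgroup.mul_mem _ h1 (Subgroup.inv_mem _ hs)
      have h4 : u * s * u⁻¹ * s⁻¹ ∈ U := by
        have e : u * s * u⁻¹ * s⁻¹ = u * (s * u⁻¹ * s⁻¹) := by group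
        rw [e]; exact U.mul_mem hu h2
      have h5 := hUσ _ h4 h3
      calc s * u = (u * s * u⁻¹ * s⁻¹)⁻¹ * (u * s) := by group
        _ = u * s := by rw [h5, inv_one, one_mul]
    -- elements of order dividing `p` of `U` lie in `A₀`
    have hΩ : ∀ u ∈ U, u ^ p = 1 → u ∈ A₀ :=
      fun u hu hup => ⟨c.hSΩ u (hUS hu) hup, hUC hu⟩
    -- `U` has exponent `p`
    have hexp : ∀ u ∈ U, u ^ p = 1 := by
      intro u hu
      by_contra hup
      obtain ⟨k, hk⟩ := (IsPGroup.iff_orderOf.1 hU') ⟨u, hu⟩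
      have hk' : orderOf u = p ^ k := by
        rw [← hk]; exact (Subgroup.orderOf_mk u hu).symm
      have hk2 : 2 ≤ k := by
        by_contra hlt
        apply hup
        have : orderOf u ∣ p := by
          rw [hk']
          have : k ≤ 1 := by omega
          exact (pow_dvd_pow p this).trans (by rw [pow_one])
        exact orderOf_dvd_iff_pow_eq_one.1 this
      set v := u ^ p ^ (k - 2) with hv
      have hvU : v ∈ U := U.pow_mem hu _
      have hvpp : v ^ (p * p) = 1 := by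
        rw [hv, ← pow_mul, ← pow_two, ← pow_add, show k - 2 + 2 = k by omega, ← hk']
        exact pow_orderOf_eq_one u
      have hvp : v ^ p ≠ 1 := by
        rw [hv, ← pow_mul, ← pow_succ]
        intro h
        have hd := orderOf_dvd_of_pow_eq_one h
        rw [hk', show k - 2 + 1 = k - 1 by omega] at hd
        have := (Nat.pow_dvd_pow_iff_le_right hp.out.one_lt).1 hd
        omega
      have hvS : v ∈ S := hUS hvU
      have hvC : v ∈ (P : Subgroup G) ⊓ Subgroup.centralizer (A : Set G) := by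
        refine ⟨c.hSP hvS, ?_⟩
        show v ∈ Subgroup.centralizer (A : Set G)
        rw [Subgroup.mem_centralizer_iff]
        intro a ha
        exact c.hScomm a (c.hAS ha) v hvS
      have hcen := (Cfsg.Agent.Lib.Helper68.BGCentAb.comm_of_sylow c.hG p P A c.hAP c.hAe c.hAc
        (fun B _ hBe hAB => c.hAmax B hBe hAB)).2 v hvC hvpp
      have hwU : v ^ p ∈ U := U.pow_mem hvU _
      have hwp : (v ^ p) ^ p = 1 := by rw [← pow_mul]; exact hvpp
      have hwA₀ : v ^ p ∈ A₀ := hΩ _ hwU hwp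
      have hwZ : v ^ p ∈ omz p (P : Subgroup G) :=
        ⟨c.hSP (S.pow_mem hvS _), fun s hs => (hcen s hs).symm, hwp⟩
      exact hA₀Z (eq_of_card_prime_of_mem hA₀c c.hZc hwA₀ hwZ hvp)
    have hUA₀ : U ≤ A₀ := fun u hu => hΩ u hu (hexp u hu)
    exact hUA₀.trans le_sup_right
  · apply sup_le
    · exact le_fittingOf_of_nilpotent (sigmaCore_le M) (le_normalizer_sigmaCore M) c.hnil
    · exact le_fittingOf_of_nilpotent (inf_le_left.trans c.hAM) c.le_normalizer_A0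
        hA₀p.isNilpotent

end Ctx

/-- the configuration of BG 12.7 exists -/
theorem exists_ctx (hG : IsMinSimpleOddOrder G) {M : Subgroup G} (hM : IsCoatom M) {E : Subgroup G}
    (hE : IsComplIn E (sigmaCore M) M) {p : ℕ} [hp : Fact p.Prime] (hpτ : p ∈ tau2 M)
    (hSyl : ∀ S : Sylow p G, ¬ IsMulCommutative (S : Subgroup G)) {A : Subgroup G}
    (hA : A ≤ E ∧ IsElementaryAbelian p A ∧ Nat.card A = p ^ 2) (h17 : Hyp17 M) (h18 : Hyp18 M) :
    ∃ (S : Subgroup G) (P : Sylow p G) (x : G), Ctx M E A S p P x := by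
  have hEM : E ≤ M := hE.1
  have hAM : A ≤ M := hA.1.trans hEM
  obtain ⟨h17a, h17b, -, -, -, -⟩ := h17 p hpτ A ⟨hAM, hA.2.1, hA.2.2⟩
  obtain ⟨⟨hEA, hXA⟩, ⟨hCA, hME, -⟩, h18c⟩ := h18 E hE p hpτ A hA
  have hAmax := (Cfsg.Agent.S1408.result hG M hM p hpτ.2.1 hpτ.2.2.1 hpτ.2.2.2).2 A hAM hA.2.1 hA.2.2
  obtain ⟨S, hS, hAS⟩ := exists_isSylowIn_ge hAM (IsPGroup.of_card hA.2.2 : IsPGroup p A)
  obtain ⟨hSc, hS2⟩ := h17b hS.toSylow
  rw [hS.map_toSylow] at hS2
  obtain ⟨hSΩ, -⟩ := hS2 hAS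
  have hScomm : ∀ a ∈ S, ∀ b ∈ S, a * b = b * a := by
    intro a ha b hb
    have haM : a ∈ M := hS.1 ha
    have hbM : b ∈ M := hS.1 hb
    have ha' : (⟨a, haM⟩ : M) ∈ (hS.toSylow : Subgroup M) := by
      rw [hS.coe_toSylow, Subgroup.mem_subgroupOf]; exact ha
    have hb' : (⟨b, hbM⟩ : M) ∈ (hS.toSylow : Subgroup M) := by
      rw [hS.coe_toSylow, Subgroup.mem_subgroupOf]; exact hb
    have := hSc.is_comm.comm ⟨⟨a, haM⟩, ha'⟩ ⟨⟨b, hbM⟩, hb'⟩
    exact congrArg (fun t : (hS.toSylow : Subgroup M) => ((t : M) : G)) this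
  obtain ⟨P, hSP⟩ := hS.2.1.exists_le_sylow
  have hPM : ¬ (P : Subgroup G) ≤ M := by
    intro h
    have hPS : (P : Subgroup G) = S := hS.2.2 _ h P.isPGroup' hSP
    apply hSyl P
    rw [hPS]
    exact Cfsg.Agent.Lib.Helper68.BGCentAb.isMulCommutative_of_comm hScomm
  have hlt : S < (P : Subgroup G) := lt_of_le_of_ne hSP (fun h => hPM (h ▸ hS.1))
  obtain ⟨x, hxP, hxN, hxnS⟩ := exists_mem_normalizer_not_mem P.isPGroup' hlt
  exact ⟨S, P, x,
    { hG := hG
      hM := hM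
      hE := hE
      hHall := (Cfsg.Agent.S1350.result hG M hM).1
      hpσ := hpτ.2.1
      hnil := h17a
      hAE := hA.1
      hAe := hA.2.1
      hAc := hA.2.2
      hAmax := hAmax
      hEA := hEA
      hXA := hXA
      hCA := hCA.trans (le_of_eq hME)
      hME := le_of_eq hME
      h18c := h18c
      hS := hS
      hAS := hAS
      hScomm := hScomm
      hSΩ := fun s hs hsp => (hSΩ s hs).1 hsp
      hSP := hSP
      hPM := hPM
      hxP := hxP
      hxS := hxN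
      hxnS := hxnS }⟩

/-- The statement of S1419 (BG Theorem 12.7), from the statements of S1416, S1417, S1418. -/
theorem s1419_of_hyps (hG : IsMinSimpleOddOrder G) (M : Subgroup G) (hM : IsCoatom M)
    (E : Subgroup G) (hE : IsComplIn E (sigmaCore M) M) (p : ℕ) [Fact p.Prime] (hp : p ∈ tau2 M)
    (hS : ∀ S : Sylow p G, ¬ IsMulCommutative (S : Subgroup G)) (A : Subgroup G)
    (hA : A ≤ E ∧ IsElementaryAbelian p A ∧ Nat.card A = p ^ 2)
    (h16 : Hyp16 M) (h17 : ∀ M' : Subgroup G, IsCoatom M' → Hyp17 M') (h18 : Hyp18 M) :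
    tau2 M = {p} ∧
      (Nat.card ↥(A ⊓ Subgroup.centralizer (sigmaCore M : Set G)) = p ∧
        fittingOf M = sigmaCore M ⊔ (A ⊓ Subgroup.centralizer (sigmaCore M : Set G))) ∧
      ∀ X : Subgroup G, X ≤ E → Nat.card X = p →
        X ≠ A ⊓ Subgroup.centralizer (sigmaCore M : Set G) →
        sigmaCore M ⊓ Subgroup.centralizer (X : Set G) = ⊥ ∧
          ¬ Subgroup.centralizer (X : Set G) ≤ M := by
  obtain ⟨S, P, x, c⟩ := exists_ctx hG hM hE hp hS hA (h17 M hM) h18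
  have hτ := c.tau2_eq hp h16 h17 h18
  obtain ⟨h1, -, -, h4⟩ := c.main_c
  exact ⟨hτ, ⟨h1, c.fitting_eq hτ⟩, fun X hXE hXc hXne => h4 X (c.hXA X hXE hXc) hXc hXne⟩

end Cfsg.Agent.Lib.Helper13.BG127
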