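import Mathlib
import Cfsg.Agent.Lib.Helper31.BG134Defs2
import Cfsg.Agent.Lib.Helper55.SylowIn
import Cfsg.Agent.Lib.Helper69.BGSigmaTrans
import Cfsg.Agent.Lib.Helper13.BG127
import Cfsg.Agent.S1350
import Cfsg.Agent.S1424

/-!
# S1428 (BG Lemma 13.4), keystone 142823 / 142833 (K-S1428-A1): CASE A, step A1

`P` centralizes a full Sylow `q`-subgroup of `G`, whose normalizer lies in `M ∩ H`.
-/

set_option autoImplicit false

namespace Cfsg.Agent.Lib.Helper13.BG134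

open Cfsg Cfsg.Agent.Lib.Helper55 Cfsg.Agent.Lib.Helper31.BG134
open Cfsg.Agent.Lib.Helper69.BG10 (Good exists_good_of_sigma good_cj)

variable {G : Type*} [Group G] [Finite G]

/-- a `q`-subgroup of `K` of index prime to `q` in `K` is a Sylow `q`-subgroup of `K` -/
theorem a1_isSylowIn_of_not_dvd_relIndex {q : ℕ} [Fact q.Prime] {K T : Subgroup G} (hTK : T ≤ K)
    (hT : IsPGroup q T) (hidx : ¬ q ∣ T.relIndex K) : IsSylowIn q K T := by
  obtain ⟨S, hS, hTS⟩ := exists_isSylowIn_ge hTK hT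
  have h1 : T.relIndex S * S.relIndex K = T.relIndex K :=
    Subgroup.relIndex_mul_relIndex _ _ _ hTS hS.1
  have h2 : ¬ q ∣ T.relIndex S := fun h => hidx (by rw [← h1]; exact Dvd.dvd.mul_right h _)
  obtain ⟨n, hn⟩ := hS.2.1.index (T.subgroupOf S)
  have hn' : T.relIndex S = q ^ n := hn
  have hn0 : n = 0 := by
    by_contra hne
    exact h2 (by rw [hn']; exact dvd_pow_self q hne)
  rw [hn0, pow_zero, Subgroup.relIndex_eq_one] at hn'
  have : T = S := le_antisymm hTS hn'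
  rw [this]; exact hS

/-- context-free form of A1 -/
theorem caseA_sylow_core (hG : IsMinSimpleOddOrder G) {M H : Subgroup G} (hM : IsCoatom M)
    (hH : IsCoatom H) (hne : H ≠ M) {q : ℕ} [Fact q.Prime] (hqH : q ∈ sigma H) {Q : Subgroup G}
    (hQMs : Q ≤ sigmaCore M) (hQq : IsPGroup q Q) (hQ1 : Q ≠ ⊥)
    (hNQ : Subgroup.normalizer (Q : Set G) ≤ H) :
    ∃ Sq : Subgroup G, IsSylowIn q ⊤ Sq ∧ Q ≤ Sq ∧ Sq ≤ sigmaCore M ⊓ H ∧
      Subgroup.normalizer (Sq : Set G) ≤ M ⊓ H := by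
  have hq : q.Prime := Fact.out
  have hMsM : sigmaCore M ≤ M := (Cfsg.Agent.S1350.result hG M hM).1.1
  have hQM : Q ≤ M := hQMs.trans hMsM
  have hQH : Q ≤ H := Subgroup.le_normalizer.trans hNQ
  -- `q ∈ σ(M)`
  have hqM : q ∈ sigma M := by
    apply (Cfsg.Agent.S1350.result hG M hM).1.2.1 q hq
    have hdvd : q ∣ Nat.card Q := by
      obtain ⟨k, hk⟩ := (IsPGroup.iff_card).1 hQq
      have hk0 : k ≠ 0 := by
        intro h0
        rw [h0, pow_zero] at hk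
        exact hQ1 (Subgroup.card_eq_one.mp hk)
      rw [hk]
      exact dvd_pow_self q hk0
    exact hdvd.trans (Subgroup.card_dvd_of_le hQMs)
  obtain ⟨T, hT, hQT⟩ := exists_isSylowIn_ge (p := q) (le_inf hQM hQH) hQq
  have h24 := Cfsg.Agent.S1424.result hG M hM q hqM Q hQq hQ1 hQM H hH hne hNQ hT.toSylow
    (by rw [hT.map_toSylow]; exact hQT)
  rw [hT.map_toSylow] at h24
  obtain ⟨-, hNTM, hidx⟩ := h24
  have hTH : IsSylowIn q H T :=
    a1_isSylowIn_of_not_dvd_relIndex (hT.1.trans inf_le_right) hT.2.1 hidx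
  obtain ⟨S0, hS0⟩ := exists_good_of_sigma (p := q) hqH
  obtain ⟨k, hk, hkT⟩ := hS0.sylowIn.exists_conj hTH
  have hgood : Good q T H := by
    have := good_cj hS0 k
    rwa [hkT, cj_eq_self_of_mem hk] at this
  refine ⟨T, hgood.1, hQT, le_inf ?_ hTH.1, le_inf hNTM hgood.2.2⟩
  exact Cfsg.Agent.Lib.Helper13.BG127.pgroup_le_sigmaCore hG hM hqM (hT.1.trans inf_le_left) hT.2.1

/-- **KEYSTONE 142823 (K-S1428-A1)**. -/
theorem Ctx.caseA_sylow {M P R H : Subgroup G} {p r : ℕ} (c : Ctx M P R H p r)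
    (hnc : ∀ g : G, cj g M ≠ H) (hC : sigmaCore M ⊓ H = CP M P)
    {q : ℕ} [Fact q.Prime] (hqH : q ∈ sigma H) {Q : Subgroup G} (hQC : Q ≤ CP M P)
    (hQq : IsPGroup q Q) (hQ1 : Q ≠ ⊥) (hNQ : Subgroup.normalizer (Q : Set G) ≤ H) :
    ∃ Sq : Subgroup G, IsSylowIn q ⊤ Sq ∧ Sq ≤ CP M P ∧
      Subgroup.normalizer (Sq : Set G) ≤ M ⊓ H := by
  have hne : H ≠ M := fun h => hnc 1 (by rw [cj_one]; exact h.symm)
  obtain ⟨Sq, h1, -, h2, h3⟩ := caseA_sylow_core c.hG c.hM c.hH hne hqH (hQC.trans inf_le_left)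
    hQq hQ1 hNQ
  exact ⟨Sq, h1, by rw [← hC]; exact h2, h3⟩

end Cfsg.Agent.Lib.Helper13.BG134
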