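import Mathlib
import Cfsg.Agent.Lib.Helper55.SylowIn
import Cfsg.Agent.Lib.Helper71.BG10Hall
import Cfsg.Agent.Lib.Helper71.DirectFactor
import Cfsg.Agent.Lib.Helper13.BG134A1
import Cfsg.Agent.S1427

/-!
# BG Lemma 13.5 (prime action): from S1428 and S1427

For `M` maximal, `E` a complement of `M_σ` in `M` and `E₁` a cyclic Hall `τ₁(M)`-subgroup of `E`:
`C_{M_σ}(x) = C_{M_σ}(E₁)` for every `x ∈ E₁ - 1`.  The statement of S1428 enters as the
hypothesis `H1428 G`.
-/

set_option autoImplicit false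

namespace Cfsg.Agent.Lib.Helper13.BG135

open Cfsg Cfsg.Agent.Lib.Helper55

variable {G : Type*} [Group G] [Finite G]

/-- the statement of S1428 (BG 13.4) for all maximal subgroups -/
def H1428 (G : Type*) [Group G] [Finite G] : Prop :=
  ∀ (M : Subgroup G), IsCoatom M → ∀ (E : Subgroup G), IsComplIn E (sigmaCore M) M →
    ∀ (p : ℕ), p ∈ tau1 M → ∀ (P : Subgroup G), P ≤ E → Nat.card P = p →
      ∀ (R : Subgroup G), R ≤ E ⊓ Subgroup.centralizer (P : Set G) → (Nat.card R).Prime →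
        sigmaCore M ⊓ Subgroup.centralizer (P : Set G) ≤
          sigmaCore M ⊓ Subgroup.centralizer (R : Set G)

/-- `y` centralizes `zpowers x` when it commutes with `x` -/
theorem mem_centralizer_zpowers {x y : G} (h : y ∈ Subgroup.centralizer ({x} : Set G)) :
    y ∈ Subgroup.centralizer ((Subgroup.zpowers x : Subgroup G) : Set G) := by
  have hx : x ∈ Subgroup.centralizer ({y} : Set G) := by
    rw [Subgroup.mem_centralizer_iff]
    intro g hg
    rw [Set.mem_singleton_iff] at hg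
    subst hg
    exact ((Subgroup.mem_centralizer_iff.mp h) x rfl).symm
  have hle : Subgroup.zpowers x ≤ Subgroup.centralizer ({y} : Set G) := by
    rw [Subgroup.zpowers_le]; exact hx
  rw [Subgroup.mem_centralizer_iff]
  intro g hg
  exact ((Subgroup.mem_centralizer_iff.mp (hle hg)) y rfl).symm

/-- **BG 13.5**: a cyclic Hall `τ₁(M)`-subgroup `E₁` of a complement `E` of `M_σ` acts in a prime
manner on `M_σ`. -/
theorem prime_action (hG : IsMinSimpleOddOrder G) (h28 : H1428 G) {M E E₁ : Subgroup G}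
    (hM : IsCoatom M) (hE : IsComplIn E (sigmaCore M) M) (hE₁ : IsPiHallOf (tau1 M) E₁ E)
    (hE₁c : IsCyclic E₁) {x : G} (hx : x ∈ E₁) (hx1 : x ≠ 1) :
    sigmaCore M ⊓ Subgroup.centralizer ({x} : Set G) =
      sigmaCore M ⊓ Subgroup.centralizer (E₁ : Set G) := by
  apply le_antisymm
  swap
  · exact inf_le_inf_left _ (Subgroup.centralizer_le (Set.singleton_subset_iff.mpr hx))
  intro y hy
  rw [Subgroup.mem_inf] at hy ⊢
  obtain ⟨hyσ, hyx⟩ := hy
  refine ⟨hyσ, ?_⟩
  have hcomm : ∀ a ∈ E₁, ∀ b ∈ E₁, a * b = b * a := by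
    intro a ha b hb
    have := (IsCyclic.isMulCommutative (α := ↥E₁)).is_comm.comm ⟨a, ha⟩ ⟨b, hb⟩
    exact congrArg Subtype.val this
  -- a subgroup `P₀ ≤ ⟨x⟩` of prime order `p`
  have ho1 : orderOf x ≠ 1 := fun h => hx1 (orderOf_eq_one_iff.mp h)
  have ho0 : orderOf x ≠ 0 := (orderOf_pos x).ne'
  obtain ⟨p, hp, hpo⟩ := Nat.exists_prime_and_dvd ho1
  set x₀ := x ^ (orderOf x / p) with hx₀
  have hx₀o : orderOf x₀ = p := orderOf_pow_orderOf_div ho0 hpo
  have hx₀E₁ : x₀ ∈ E₁ := Subgroup.pow_mem _ hx _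
  have hP₀c : Nat.card (Subgroup.zpowers x₀) = p := by rw [Nat.card_zpowers, hx₀o]
  have hP₀E₁ : Subgroup.zpowers x₀ ≤ E₁ := by rw [Subgroup.zpowers_le]; exact hx₀E₁
  have hpE₁ : p ∣ Nat.card E₁ := by
    rw [← hP₀c]; exact Subgroup.card_dvd_of_le hP₀E₁
  have hpτ : p ∈ tau1 M := hE₁.2.1 p hp hpE₁
  have hyP₀ : y ∈ Subgroup.centralizer ((Subgroup.zpowers x₀ : Subgroup G) : Set G) := by
    have h1 := mem_centralizer_zpowers hyx
    have hle : Subgroup.zpowers x₀ ≤ Subgroup.zpowers x := by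
      rw [Subgroup.zpowers_le]; exact Subgroup.pow_mem _ (Subgroup.mem_zpowers x) _
    exact Subgroup.centralizer_le (by exact_mod_cast hle) h1
  -- `C(y) ∩ E₁` contains a Sylow `u`-subgroup of `E₁` for every prime `u`
  have key : (Subgroup.centralizer ({y} : Set G)).subgroupOf E₁ = ⊤ := by
    apply Cfsg.Agent.Lib.Helper71.eq_top_of_forall_sylow_le
    intro u hu
    obtain ⟨S⟩ : Nonempty (Sylow u ↥E₁) := inferInstance
    refine ⟨S, ?_⟩
    by_cases hS1 : (S : Subgroup ↥E₁) = ⊥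
    · rw [hS1]; exact bot_le
    have hSG : IsSylowIn u E₁ ((S : Subgroup ↥E₁).map E₁.subtype) := isSylowIn_of_sylow S
    set SG := (S : Subgroup ↥E₁).map E₁.subtype with hSGdef
    have hSG1 : SG ≠ ⊥ := by
      intro h
      apply hS1
      rw [hSGdef, Subgroup.map_eq_bot_iff_of_injective _ (Subgroup.subtype_injective _)] at h
      exact h
    -- `u ∣ |E₁|`, so `u ∈ τ₁(M)`
    have huSG : u ∣ Nat.card SG := by
      obtain ⟨k, hk⟩ := (IsPGroup.iff_card).1 hSG.2.1
      have hk0 : k ≠ 0 := by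
        intro h0
        rw [h0, pow_zero] at hk
        exact hSG1 (Subgroup.card_eq_one.mp hk)
      rw [hk]
      exact dvd_pow_self u hk0
    have huE₁ : u ∣ Nat.card E₁ := huSG.trans (Subgroup.card_dvd_of_le hSG.1)
    have huτ : u ∈ tau1 M := hE₁.2.1 u hu.out huE₁
    -- `SG` is a Sylow `u`-subgroup of `E`
    have hSGE : IsSylowIn u E SG := by
      apply Cfsg.Agent.Lib.Helper13.BG134.a1_isSylowIn_of_not_dvd_relIndex (hSG.1.trans hE₁.1)
        hSG.2.1
      rw [← Subgroup.relIndex_mul_relIndex SG E₁ E hSG.1 hE₁.1]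
      intro hdvd
      rcases hu.out.dvd_mul.mp hdvd with h | h
      · exact Cfsg.Agent.Lib.Helper71.BG10.sylow_not_dvd_relIndex hSG h
      · exact hE₁.2.2 u hu.out huτ h
    -- an element `z` of order `u` in `SG`
    obtain ⟨z, hz⟩ := exists_prime_orderOf_dvd_card' u huSG
    have hzo : orderOf (z : G) = u := by rw [Subgroup.orderOf_coe]; exact hz
    have hz1 : (z : G) ≠ 1 := by
      intro h
      rw [h, orderOf_one] at hzo
      exact hu.out.one_lt.ne hzo
    have hzE₁ : (z : G) ∈ E₁ := hSG.1 z.2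
    have hUc : Nat.card (Subgroup.zpowers (z : G)) = u := by rw [Nat.card_zpowers, hzo]
    have hUle : Subgroup.zpowers (z : G) ≤ E ⊓ Subgroup.centralizer
        ((Subgroup.zpowers x₀ : Subgroup G) : Set G) := by
      rw [Subgroup.zpowers_le]
      refine ⟨hE₁.1 hzE₁, ?_⟩
      apply mem_centralizer_zpowers
      rw [Subgroup.mem_centralizer_iff]
      intro g hg
      rw [Set.mem_singleton_iff] at hg
      subst hg
      exact hcomm _ hx₀E₁ _ hzE₁
    have h1 := h28 M hM E hE p hpτ (Subgroup.zpowers x₀) (hP₀E₁.trans hE₁.1) hP₀c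
      (Subgroup.zpowers (z : G)) hUle (by rw [hUc]; exact hu.out) ⟨hyσ, hyP₀⟩
    have hyz : y ∈ Subgroup.centralizer ({(z : G)} : Set G) :=
      Subgroup.centralizer_le (Set.singleton_subset_iff.mpr (Subgroup.mem_zpowers _)) h1.2
    -- S1427 for the cyclic Sylow subgroup `SG` of `E`
    have hcyc : IsCyclic ((hSGE.toSylow : Sylow u ↥E) : Subgroup ↥E) := by
      rw [hSGE.coe_toSylow]
      haveI : IsCyclic ↥SG := Subgroup.isCyclic_of_le hSG.1
      exact isCyclic_of_surjective (Subgroup.subgroupOfEquivOfLe (hSG.1.trans hE₁.1)).symm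
        (Subgroup.subgroupOfEquivOfLe (hSG.1.trans hE₁.1)).symm.surjective
    have hne : ((hSGE.toSylow : Sylow u ↥E) : Subgroup ↥E) ≠ ⊥ := by
      intro h
      apply hSG1
      have := hSGE.map_toSylow
      rw [h, Subgroup.map_bot] at this
      exact this.symm
    have h27 := Cfsg.Agent.S1427.result hG M hM E hE u hSGE.toSylow hne hcyc (z : G)
      (by rw [hSGE.map_toSylow]; exact z.2) hz1
    rw [hSGE.map_toSylow] at h27
    have hySG : y ∈ Subgroup.centralizer (SG : Set G) := by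
      have : y ∈ sigmaCore M ⊓ Subgroup.centralizer ({(z : G)} : Set G) := ⟨hyσ, hyz⟩
      rw [h27] at this
      exact this.2
    intro s hs
    rw [Subgroup.mem_subgroupOf, Subgroup.mem_centralizer_iff]
    intro g hg
    rw [Set.mem_singleton_iff] at hg
    subst hg
    have hsSG : (s : G) ∈ SG := ⟨s, hs, rfl⟩
    exact ((Subgroup.mem_centralizer_iff.mp hySG) _ hsSG).symm
  rw [Subgroup.subgroupOf_eq_top] at key
  rw [Subgroup.mem_centralizer_iff]
  intro g hg
  exact ((Subgroup.mem_centralizer_iff.mp (key hg)) y rfl).symm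

/-- if `E₁` has no fixed points on `S ≤ M_σ`, then `S E₁` is a Frobenius group: no `x ∈ E₁ - 1`
has a fixed point on `S` -/
theorem inf_centralizer_singleton_eq_bot (hG : IsMinSimpleOddOrder G) (h28 : H1428 G)
    {M E E₁ : Subgroup G} (hM : IsCoatom M) (hE : IsComplIn E (sigmaCore M) M)
    (hE₁ : IsPiHallOf (tau1 M) E₁ E) (hE₁c : IsCyclic E₁) {S : Subgroup G}
    (hS : S ≤ sigmaCore M) (hfix : S ⊓ Subgroup.centralizer (E₁ : Set G) = ⊥) {x : G}
    (hx : x ∈ E₁) (hx1 : x ≠ 1) : S ⊓ Subgroup.centralizer ({x} : Set G) = ⊥ := by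
  rw [eq_bot_iff, ← hfix]
  intro y hy
  rw [Subgroup.mem_inf] at hy ⊢
  refine ⟨hy.1, ?_⟩
  have h1 : y ∈ sigmaCore M ⊓ Subgroup.centralizer ({x} : Set G) := ⟨hS hy.1, hy.2⟩
  rw [prime_action hG h28 hM hE hE₁ hE₁c hx hx1] at h1
  exact h1.2

/-- prime action, subgroup form: `C_{M_σ}(X) = C_{M_σ}(E₁)` for every subgroup `1 ≠ X ≤ E₁` -/
theorem prime_action_subgroup (hG : IsMinSimpleOddOrder G) (h28 : H1428 G) {M E E₁ : Subgroup G}
    (hM : IsCoatom M) (hE : IsComplIn E (sigmaCore M) M) (hE₁ : IsPiHallOf (tau1 M) E₁ E)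
    (hE₁c : IsCyclic E₁) {X : Subgroup G} (hX : X ≤ E₁) (hX1 : X ≠ ⊥) :
    sigmaCore M ⊓ Subgroup.centralizer (X : Set G) =
      sigmaCore M ⊓ Subgroup.centralizer (E₁ : Set G) := by
  apply le_antisymm
  · obtain ⟨x, hx1⟩ := (Subgroup.ne_bot_iff_exists_ne_one).mp hX1
    have hx1' : (x : G) ≠ 1 := fun h => hx1 (Subtype.ext h)
    rw [← prime_action hG h28 hM hE hE₁ hE₁c (hX x.2) hx1']
    exact inf_le_inf_left _ (Subgroup.centralizer_le (Set.singleton_subset_iff.mpr x.2))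
  · exact inf_le_inf_left _ (Subgroup.centralizer_le (by exact_mod_cast hX))

end Cfsg.Agent.Lib.Helper13.BG135
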