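import Mathlib
import Cfsg.Agent.Lib.Helper03.FrobSub

/-!
# A consequence of the Frobenius–Wielandt fixed point formula (for BG 13.9, step 11)

`U ⋊ E₁` a Frobenius group (`E₁` acts without fixed points on the nilpotent group `U`) acting
coprimely on a solvable group `H`; `P ≤ E₁` with `C_H(P) = C_H(E₁)`, `P ≠ 1`; `U` does not
centralize `H`.  Then `|P| = |E₁|`.
-/

set_option autoImplicit false

namespace Cfsg.Agent.Lib.Helper13.BG139

variable {X : Type*} [Group X] [Finite X]

theorem centralizer_sup_eq (U E : Subgroup X) :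
    Subgroup.centralizer ((U ⊔ E : Subgroup X) : Set X) =
      Subgroup.centralizer (U : Set X) ⊓ Subgroup.centralizer (E : Set X) := by
  apply le_antisymm
  · exact le_inf (Subgroup.centralizer_le (by exact_mod_cast (le_sup_left : U ≤ U ⊔ E)))
      (Subgroup.centralizer_le (by exact_mod_cast (le_sup_right : E ≤ U ⊔ E)))
  · intro y hy
    have hU : U ≤ Subgroup.centralizer ({y} : Set X) := by
      intro u hu
      rw [Subgroup.mem_centralizer_iff]
      intro g hg
      rw [Set.mem_singleton_iff] at hg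
      subst hg
      exact ((Subgroup.mem_centralizer_iff.mp hy.1) u hu).symm
    have hE : E ≤ Subgroup.centralizer ({y} : Set X) := by
      intro u hu
      rw [Subgroup.mem_centralizer_iff]
      intro g hg
      rw [Set.mem_singleton_iff] at hg
      subst hg
      exact ((Subgroup.mem_centralizer_iff.mp hy.2) u hu).symm
    rw [Subgroup.mem_centralizer_iff]
    intro g hg
    exact ((Subgroup.mem_centralizer_iff.mp ((sup_le hU hE) hg)) y rfl).symm

/-- **Frobenius–Wielandt, prime action form** -/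
theorem card_eq_of_wielandt (U E₁ P H : Subgroup X) (hPE : P ≤ E₁)
    (hUn : ∀ e ∈ E₁, ∀ u ∈ U, e * u * e⁻¹ ∈ U)
    (hfpf : ∀ e ∈ E₁, e ≠ 1 → ∀ u ∈ U, e * u = u * e → u = 1)
    (hnil : Group.IsNilpotent U)
    (hHn : ∀ x ∈ U ⊔ E₁, ∀ h ∈ H, x * h * x⁻¹ ∈ H)
    (hsolv : Group.IsSolvable H) (hcop : Nat.Coprime (Nat.card H) (Nat.card ↥(U ⊔ E₁)))
    (hprime : H ⊓ Subgroup.centralizer (P : Set X) = H ⊓ Subgroup.centralizer (E₁ : Set X))
    (hnc : ¬ H ≤ Subgroup.centralizer (U : Set X)) : Nat.card P = Nat.card E₁ := by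
  have hUPle : U ⊔ P ≤ U ⊔ E₁ := sup_le_sup_left hPE U
  have h1 := Cfsg.Agent.Lib.Helper03.FrobSub.wielandt_sub U E₁ H hUn hfpf hnil hHn hsolv hcop
  have h2 := Cfsg.Agent.Lib.Helper03.FrobSub.wielandt_sub U P H
    (fun e he => hUn e (hPE he)) (fun e he => hfpf e (hPE he)) hnil
    (fun x hx => hHn x (hUPle hx)) hsolv
    (Nat.Coprime.coprime_dvd_right (Subgroup.card_dvd_of_le hUPle) hcop)
  -- the fixed points of `U P` and of `U E₁` on `H` coincide
  have hfix : H ⊓ Subgroup.centralizer ((U ⊔ P : Subgroup X) : Set X) =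
      H ⊓ Subgroup.centralizer ((U ⊔ E₁ : Subgroup X) : Set X) := by
    rw [centralizer_sup_eq, centralizer_sup_eq]
    calc H ⊓ (Subgroup.centralizer (U : Set X) ⊓ Subgroup.centralizer (P : Set X))
        = Subgroup.centralizer (U : Set X) ⊓ (H ⊓ Subgroup.centralizer (P : Set X)) := by
          rw [← inf_assoc, ← inf_assoc, inf_comm H]
      _ = Subgroup.centralizer (U : Set X) ⊓ (H ⊓ Subgroup.centralizer (E₁ : Set X)) := by
          rw [hprime]
      _ = H ⊓ (Subgroup.centralizer (U : Set X) ⊓ Subgroup.centralizer (E₁ : Set X)) := by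
          rw [← inf_assoc, ← inf_assoc, inf_comm H]
  rw [hfix, hprime] at h2
  set a := Nat.card ↥(H ⊓ Subgroup.centralizer ((U ⊔ E₁ : Subgroup X) : Set X)) with ha
  set c := Nat.card ↥(H ⊓ Subgroup.centralizer (E₁ : Set X)) with hc
  set d := Nat.card ↥(H ⊓ Subgroup.centralizer (U : Set X)) with hd
  set h := Nat.card H with hh
  have ha0 : 0 < a := Nat.card_pos
  have hd0 : 0 < d := Nat.card_pos
  -- `a ∣ c`
  have hac : a ∣ c := by
    apply Subgroup.card_dvd_of_le
    exact inf_le_inf_left _ (Subgroup.centralizer_le (by exact_mod_cast (le_sup_right : E₁ ≤ U ⊔ E₁)))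
  obtain ⟨k, hk⟩ := hac
  -- `d < h`
  have hdh : d < h := by
    have hle : H ⊓ Subgroup.centralizer (U : Set X) ≤ H := inf_le_left
    rcases (Subgroup.card_le_of_le hle).lt_or_eq with hlt | heq
    · exact hlt
    · exfalso
      apply hnc
      have : H ⊓ Subgroup.centralizer (U : Set X) = H :=
        Subgroup.eq_of_le_of_card_ge hle (le_of_eq heq.symm)
      rw [← this]
      exact inf_le_right
  -- `k ^ |E| * d = h` for both
  have key : ∀ n : ℕ, a ^ n * h = c ^ n * d → k ^ n * d = h := by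
    intro n hn
    rw [hk, mul_pow, mul_assoc] at hn
    exact (Nat.eq_of_mul_eq_mul_left (pow_pos ha0 n) hn).symm
  have e1 := key _ h1
  have e2 := key _ h2
  have hk2 : 2 ≤ k := by
    by_contra hlt
    have hk1 : k ≤ 1 := by omega
    have : k ^ Nat.card E₁ ≤ 1 := Nat.pow_le_one_iff (by
      have : 0 < Nat.card E₁ := Nat.card_pos
      omega) |>.mpr hk1
    have : h ≤ d := by
      rw [← e1]
      calc k ^ Nat.card E₁ * d ≤ 1 * d := Nat.mul_le_mul_right d this
        _ = d := one_mul d
    omega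
  have hpow : k ^ Nat.card P = k ^ Nat.card E₁ := by
    apply Nat.eq_of_mul_eq_mul_right hd0
    rw [e1, e2]
  exact Nat.pow_right_injective hk2 hpow

end Cfsg.Agent.Lib.Helper13.BG139
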