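import Mathlib
import Cfsg.Agent.Lib.Helper71.BG1310Defs
import Cfsg.Agent.Lib.Helper71.BG10Hall
import Cfsg.Agent.Lib.Helper13.BG12A
import Cfsg.Agent.Lib.Helper13.BG134A1
import Cfsg.Agent.Lib.Helper13.BG135
import Cfsg.Agent.S1350

/-!
# K-BG1310-O (keystone 131015), part (a): `NR.of_kappa` with LEAF B as a hypothesis

`s ∈ κ(M) ∩ τ₃(M)`: a Sylow `s`-subgroup `T` of `E₃` is a Sylow `s`-subgroup of `M` (the indices
`|E₃ : T|`, `|E : E₃|`, `|M : E| = |M_σ|` are prime to `s`), so by the definition of `κ(M)` some `x ∈ T - 1`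
commutes with some `y ∈ M_σ - 1`.  No conjugation is needed.
-/

set_option autoImplicit false

namespace Cfsg.Agent.Lib.Helper13.BG1310

open Cfsg Cfsg.Agent.Lib.Helper55 Cfsg.Agent.Lib.Helper31.BG134 Cfsg.Agent.Lib.Helper71.BG1310

variable {G : Type*} [Group G] [Finite G]

omit [Finite G] in
theorem card_mul_relIndex_of_le {H K : Subgroup G} (h : H ≤ K) :
    Nat.card H * H.relIndex K = Nat.card K := by
  have h1 := Subgroup.card_mul_index (H.subgroupOf K)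
  rwa [Nat.card_congr (Subgroup.subgroupOfEquivOfLe h).toEquiv] at h1

/-- the index of a complement of `S` in `M` is `|S|` -/
theorem relIndex_compl_eq_card {E S M : Subgroup G} (h : IsComplIn E S M) :
    E.relIndex M = Nat.card S := by
  have h1 : S.relIndex M = Nat.card E := Cfsg.Agent.Lib.Helper13.BG12.relIndex_eq_card_of_complIn h
  have h2 := card_mul_relIndex_of_le h.2.1
  have h3 := card_mul_relIndex_of_le h.1
  rw [h1] at h2
  have hpos : 0 < Nat.card E := Nat.card_pos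
  have : Nat.card E * E.relIndex M = Nat.card E * Nat.card S := by rw [h3, ← h2, mul_comm]
  exact Nat.eq_of_mul_eq_mul_left hpos this

/-- a prime of `κ(M) ∩ τ₃(M)`: some `x ∈ E₃ - 1` commutes with some `y ∈ M_σ - 1` -/
theorem exists_comm_of_kappa (hG : IsMinSimpleOddOrder G) {M E E₃ : Subgroup G} (hM : IsCoatom M)
    (hE : IsComplIn E (sigmaCore M) M) (hE₃ : IsPiHallOf (tau3 M) E₃ E) {s : ℕ} (hsκ : s ∈ kappa M)
    (hs3 : s ∈ tau3 M) :
    ∃ x ∈ E₃, x ≠ 1 ∧ ∃ y ∈ sigmaCore M, y ≠ 1 ∧ x * y = y * x := by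
  have hs : s.Prime := hsκ.1
  have : Fact s.Prime := ⟨hs⟩
  obtain ⟨T, hT, -⟩ := exists_isSylowIn_ge (p := s) (K := E₃) (Z := ⊥) bot_le IsPGroup.of_bot
  have hTE₃ : T ≤ E₃ := hT.1
  have hE₃E : E₃ ≤ E := hE₃.1
  have hEM : E ≤ M := hE.1
  have hTM : T ≤ M := hTE₃.trans (hE₃E.trans hEM)
  -- the three indices
  have i1 : ¬ s ∣ T.relIndex E₃ := Cfsg.Agent.Lib.Helper71.BG10.sylow_not_dvd_relIndex hT
  have i2 : ¬ s ∣ E₃.relIndex E := hE₃.2.2 s hs hs3
  have i3 : ¬ s ∣ E.relIndex M := by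
    rw [relIndex_compl_eq_card hE]
    intro hdvd
    exact hs3.2.1 ((Cfsg.Agent.S1350.result hG M hM).1.2.1 s hs hdvd)
  have hidx : ¬ s ∣ T.relIndex M := by
    rw [← Subgroup.relIndex_mul_relIndex T E M (hTE₃.trans hE₃E) hEM,
      ← Subgroup.relIndex_mul_relIndex T E₃ E hTE₃ hE₃E]
    intro hdvd
    rcases (Nat.Prime.dvd_mul hs).mp hdvd with h | h
    · rcases (Nat.Prime.dvd_mul hs).mp h with h' | h'
      · exact i1 h'
      · exact i2 h'
    · exact i3 h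
  have hTsyl : IsSylowIn s M T :=
    Cfsg.Agent.Lib.Helper13.BG134.a1_isSylowIn_of_not_dvd_relIndex hTM hT.2.1 hidx
  obtain ⟨-, x, hxP, hx1, y, hy, hy1, hxy⟩ := hsκ.2.2.2 hTsyl.toSylow
  have hxT : (x : G) ∈ T := by
    have : x ∈ T.subgroupOf M := hxP
    rwa [Subgroup.mem_subgroupOf] at this
  refine ⟨(x : G), hTE₃ hxT, ?_, y, hy, hy1, hxy⟩
  intro h
  exact hx1 (Subtype.ext h)

/-- **LEAF O with LEAF B as a hypothesis** -/
theorem NR.of_kappa_of_primeAct (hG : IsMinSimpleOddOrder G) {M E E₁ E₃ : Subgroup G} (hM : IsCoatom M)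
    (hE : IsComplIn E (sigmaCore M) M) (hE₁ : IsPiHallOf (tau1 M) E₁ E)
    (hE₃ : IsPiHallOf (tau3 M) E₃ E) {s : ℕ} (hsκ : s ∈ kappa M) (hs3 : s ∈ tau3 M)
    (hB : ∀ Y : Subgroup G, Y ≤ E₃ → Y ≠ ⊥ → CP M Y = CP M E₃) :
    NR M E E₁ E₃ := by
  obtain ⟨x, hxE₃, hx1, y, hy, hy1, hxy⟩ := exists_comm_of_kappa hG hM hE hE₃ hsκ hs3
  have hE₃1 : E₃ ≠ ⊥ := by
    intro h
    rw [h, Subgroup.mem_bot] at hxE₃
    exact hx1 hxE₃
  refine ⟨hG, hM, hE, hE₁, hE₃, hE₃1, ?_⟩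
  have hY : Subgroup.zpowers x ≤ E₃ := by
    rw [Subgroup.zpowers_le]; exact hxE₃
  have hY1 : Subgroup.zpowers x ≠ ⊥ := by
    intro h
    rw [Subgroup.zpowers_eq_bot] at h
    exact hx1 h
  rw [← hB _ hY hY1]
  intro hbot
  apply hy1
  have hyc : y ∈ Subgroup.centralizer ({x} : Set G) := by
    rw [Subgroup.mem_centralizer_iff]
    intro g hg
    rw [Set.mem_singleton_iff] at hg
    subst hg
    exact hxy
  have hmem : y ∈ CP M (Subgroup.zpowers x) :=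
    Subgroup.mem_inf.mpr ⟨hy, Cfsg.Agent.Lib.Helper13.BG135.mem_centralizer_zpowers hyc⟩
  rw [hbot, Subgroup.mem_bot] at hmem
  exact hmem

end Cfsg.Agent.Lib.Helper13.BG1310
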