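import Mathlib
import Cfsg.Agent.Lib.Helper13.BG1310Oa
import Cfsg.Agent.Lib.Helper90.BG1310B

/-!
# K-BG1310-O (keystone 131015): `NR.of_kappa`, exact spec signature

`s ∈ κ(M) ∩ τ₃(M)` gives the nonregular configuration `NR M E E₁ E₃`: the hypothesis form
`NR.of_kappa_of_primeAct` (BG1310Oa) with LEAF B `prime_action_tau3` (helper90's parallel hand) plugged in.
-/

set_option autoImplicit false

namespace Cfsg.Agent.Lib.Helper13.BG1310

open Cfsg Cfsg.Agent.Lib.Helper55 Cfsg.Agent.Lib.Helper31.BG134 Cfsg.Agent.Lib.Helper71.BG1310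

variable {G : Type*} [Group G] [Finite G]

/-- **LEAF O (131015)  NR.of_kappa** -/
theorem NR.of_kappa (hG : IsMinSimpleOddOrder G) {M E E₁ E₃ : Subgroup G} (hM : IsCoatom M)
    (hE : IsComplIn E (sigmaCore M) M) (hE₁ : IsPiHallOf (tau1 M) E₁ E)
    (hE₃ : IsPiHallOf (tau3 M) E₃ E) {s : ℕ} (hsκ : s ∈ kappa M) (hs3 : s ∈ tau3 M) :
    NR M E E₁ E₃ :=
  NR.of_kappa_of_primeAct hG hM hE hE₁ hE₃ hsκ hs3
    (fun _ hY hY1 => Cfsg.Agent.Lib.Helper90.BG1310.prime_action_tau3 hG hM hE hE₃ hY hY1)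

end Cfsg.Agent.Lib.Helper13.BG1310
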