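import Mathlib
import Cfsg.Agent.S1354
import Cfsg.Agent.S1417
import Cfsg.Agent.S1430
import Cfsg.Agent.S1431
import Cfsg.Agent.Lib.Helper31.BG147Defs
import Cfsg.Agent.Lib.Helper31.BG147C
import Cfsg.Agent.Lib.Helper27.BG147P
import Cfsg.Agent.Lib.Helper77.BG147N
import Cfsg.Agent.Lib.Helper67.BG147C3
import Cfsg.Agent.Lib.Helper28.BG147H
import Cfsg.Agent.Lib.Helper29.BG147D1
import Cfsg.Agent.Lib.Helper10.BG147A
import Cfsg.Agent.Lib.Helper02.BG1310Final
import Cfsg.Agent.Lib.Helper03.FrobThompson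
import Cfsg.Agent.Lib.Helper64.BG14K
import Cfsg.Agent.Lib.Helper13.BG12B
import Cfsg.Agent.Lib.Helper16.BG134Base
import Cfsg.Agent.Lib.Helper81.BG144R
import Cfsg.Agent.Lib.Helper71.BG10Hall
import Cfsg.Agent.Lib.Helper81.BG147Z
import Cfsg.Agent.Lib.Helper68.BG144G2
import Cfsg.Agent.Lib.Helper31.BG15KA
import Cfsg.Agent.Lib.Helper83.BG147P2

/-!
# BG Theorem 14.7: `K* = C_{M_σ}(K)` is cyclic (helper13)

Setting of S1366--S1369, S1434: `M` maximal, `K ≠ 1` a *cyclic* Hall `κ(M)`-subgroup (`IsSigmaDecomposition M K U`),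
`K* = Ks M K`, `M*` maximal with `K = Ks M* K*` and `K*` a Hall `κ(M*)`-subgroup of `M*`.

* `tilde_disjoint_csupp_gen` : general form of keystone 136908 (the tilde set of `H` misses the class support of a set `Z`).
* `tilde_disjoint_csupp'` / `tilde_disjoint_csupp_star` : the tilde sets of `M` and of `M*` miss `csupp (Zhat M K)`;
  the second one does NOT need `K*` cyclic.
* `sigmaCore_nilpotent_of_U_ne_bot` : `U ≠ 1` forces `M_σ` nilpotent.
* `not_both_split` : the counting argument of 14.7(f): `|M| = |K||M_σ|` and `|M*| = |K*||M*_σ|` is impossible.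
* `Ks_isCyclic` : `K*` is cyclic (from the statements of S1377 and S1433 as hypotheses).
-/

set_option autoImplicit false
set_option linter.style.haveILetI false
set_option linter.unusedVariables false

namespace Cfsg.Agent.Lib.Helper13.BG147

open Cfsg Subgroup Cfsg.Agent.Lib.Helper55 Cfsg.Agent.Lib.Helper11.BG14D Cfsg.Agent.Lib.Helper31.BG147

variable {G : Type*} [Group G] [Finite G]

/-! ### Pure group theory -/

/-- coprime projection: an element of `K Y` whose order is prime to `|Y|` lies in `K` -/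
theorem mem_left_of_coprime {K Y : Subgroup G} (hc : Y ≤ centralizer (K : Set G))
    (hcop : (Nat.card K).Coprime (Nat.card Y)) {a : G} (ha : a ∈ K ⊔ Y)
    (hao : (orderOf a).Coprime (Nat.card Y)) : a ∈ K := by
  obtain ⟨x, hx, y, hy, rfl⟩ := Cfsg.Agent.Lib.Helper27.BG147.exists_mul_of_mem_sup_of_centralizer hc ha
  have hxy : Commute x y := (Subgroup.mem_centralizer_iff.mp (hc hy)) x hx
  have hxK : x ^ Nat.card K = 1 := by
    have h := pow_card_eq_one' (G := K) (x := ⟨x, hx⟩)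
    exact congrArg Subtype.val h
  have hyY : y ^ Nat.card Y = 1 := by
    have h := pow_card_eq_one' (G := Y) (x := ⟨y, hy⟩)
    exact congrArg Subtype.val h
  set n := orderOf (x * y) * Nat.card K with hn
  have h1 : (x * y) ^ n = 1 := by rw [hn, pow_mul, pow_orderOf_eq_one, one_pow]
  have h2 : x ^ n = 1 := by rw [hn, mul_comm, pow_mul, hxK, one_pow]
  have h3 : y ^ n = 1 := by
    rw [hxy.mul_pow, h2, one_mul] at h1
    exact h1
  have h4 : orderOf y ∣ n := orderOf_dvd_of_pow_eq_one h3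
  have h5 : orderOf y ∣ Nat.card Y := orderOf_dvd_of_pow_eq_one hyY
  have h6 : n.Coprime (Nat.card Y) := Nat.Coprime.mul_left hao hcop
  have h7 : orderOf y = 1 := Nat.eq_one_of_dvd_coprimes h6 h4 h5
  rw [orderOf_eq_one_iff] at h7
  rw [h7, mul_one]
  exact hx

/-- coprime projection: an element of `K Y` whose order is prime to `|K|` lies in `Y` -/
theorem mem_right_of_coprime {K Y : Subgroup G} (hc : Y ≤ centralizer (K : Set G))
    (hcop : (Nat.card K).Coprime (Nat.card Y)) {a : G} (ha : a ∈ K ⊔ Y)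
    (hao : (orderOf a).Coprime (Nat.card K)) : a ∈ Y := by
  have hc' : K ≤ centralizer (Y : Set G) := by
    intro k hk
    rw [Subgroup.mem_centralizer_iff]
    intro y hy
    exact ((Subgroup.mem_centralizer_iff.mp (hc hy)) k hk).symm
  rw [sup_comm] at ha
  exact mem_left_of_coprime hc' hcop.symm ha hao

/-- an element whose order has all prime divisors outside the prime divisors of `n` -/
theorem orderOf_coprime_of_primes {a : G} {n : ℕ} {π : Set ℕ}
    (h1 : ∀ p : ℕ, p.Prime → p ∣ orderOf a → p ∈ π)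
    (h2 : ∀ p : ℕ, p.Prime → p ∣ n → p ∉ π) : (orderOf a).Coprime n := by
  apply Nat.coprime_of_dvd
  intro p hp hpa hpn
  exact h2 p hp hpn (h1 p hp hpa)

/-- the centralizer of `zpowers a` is the centralizer of `a` -/
theorem centralizer_zpowers_eq (a : G) :
    centralizer ((zpowers a : Subgroup G) : Set G) = centralizer ({a} : Set G) := by
  ext w
  rw [Subgroup.mem_centralizer_iff, Subgroup.mem_centralizer_iff]
  constructor
  · intro h x hx
    rw [Set.mem_singleton_iff] at hx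
    subst hx
    exact h x (mem_zpowers x)
  · intro h x hx
    obtain ⟨k, rfl⟩ := mem_zpowers_iff.mp hx
    have hc : Commute a w := h a rfl
    exact (hc.zpow_left k)

/-! ### The tilde sets miss the class support of `Ẑ` -/

/-- **General form of keystone 136908**: the tilde set of `H` misses the class support of any set `Z` such that no
element of `Z` lies in `K_H* = Ks H KH`, while every non-identity `σ(H)`-element commuting with an element of `Z` does. -/
theorem tilde_disjoint_csupp_gen (hG : IsMinSimpleOddOrder G) {H KH : Subgroup G} (hH : IsCoatom H)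
    (hKH : IsPiHallOf (kappa H) KH H) (hKH1 : KH ≠ ⊥) (Z : Set G)
    (hZ1 : ∀ z ∈ Z, z ∉ Ks H KH)
    (hZ2 : ∀ z ∈ Z, ∀ a : G, a ≠ 1 → a * z = z * a →
      (∀ p : ℕ, p.Prime → p ∣ orderOf a → p ∈ sigma H) → a ∈ Ks H KH) :
    Disjoint (tildeOf H ((sigmaCore H : Set G) \ {1})) (csupp Z) := by
  have h31 : H1431 G := fun M hM K hK hK1 => Cfsg.Agent.S1431.result hG M hM K hK hK1
  rw [Set.disjoint_left]
  rintro v ⟨a, ⟨haσ, ha1⟩, r, hr, y, hv⟩ ⟨g, z, hz, hv'⟩
  have ha1' : a ≠ 1 := fun h => ha1 (by simpa using h)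
  have haσ' : a ∈ sigmaCore H := haσ
  have haH : a ∈ H := Cfsg.Agent.Lib.Helper71.BG11.sigmaCore_le H haσ'
  set c : G := g⁻¹ * y with hc
  have hz' : z = c * (a * r) * c⁻¹ := by
    have : g * z * g⁻¹ = y * (a * r) * y⁻¹ := by rw [← hv', ← hv]
    calc z = g⁻¹ * (g * z * g⁻¹) * g := by group
      _ = g⁻¹ * (y * (a * r) * y⁻¹) * g := by rw [this]
      _ = c * (a * r) * c⁻¹ := by rw [hc]; group
  -- `r` commutes with `a`
  have hra : a * r = r * a := by
    by_cases hle : centralizer ({a} : Set G) ≤ H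
    · have := Cfsg.Agent.Lib.Helper81.BG144.supportR_eq_bot H a hle
      rw [this, Subgroup.mem_bot] at hr
      rw [hr, mul_one, one_mul]
    · unfold supportR at hr
      split_ifs at hr with hcond
      · have h2 : r ∈ centralizer ({a} : Set G) := hr.2
        rw [Subgroup.mem_centralizer_iff] at h2
        exact h2 a rfl
      · rw [Subgroup.mem_bot] at hr
        rw [hr, mul_one, one_mul]
  set a' : G := c * a * c⁻¹ with ha'
  have ha'1 : a' ≠ 1 := by
    intro h
    apply ha1'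
    have h0 : a = c⁻¹ * a' * c := by rw [ha']; group
    rw [h] at h0
    simpa using h0
  have hcomm : a' * z = z * a' := by
    rw [hz', ha']
    have h3 : a * (a * r) = (a * r) * a := by rw [mul_assoc a r a, ← hra]
    calc c * a * c⁻¹ * (c * (a * r) * c⁻¹) = c * (a * (a * r)) * c⁻¹ := by group
      _ = c * ((a * r) * a) * c⁻¹ := by rw [h3]
      _ = c * (a * r) * c⁻¹ * (c * a * c⁻¹) := by group
  have hord : orderOf a' = orderOf a := by
    have : a' = MulAut.conj c a := by rw [ha', MulAut.conj_apply]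
    rw [this, MulEquiv.orderOf_eq]
  have hπ : ∀ p : ℕ, p.Prime → p ∣ orderOf a' → p ∈ sigma H := by
    intro p hp hpd
    rw [hord] at hpd
    have h2 : orderOf a ∣ Nat.card (sigmaCore H) := by
      have := orderOf_dvd_natCard (⟨a, haσ'⟩ : sigmaCore H)
      rwa [Subgroup.orderOf_mk] at this
    exact Cfsg.Agent.Lib.Helper71.BG11.sigmaCore_pi hG hH hp (hpd.trans h2)
  have ha'K : a' ∈ Ks H KH := hZ2 z hz a' ha'1 hcomm hπ
  -- `c ∈ H`
  have hXK : zpowers a' ≤ Ks H KH := zpowers_le.mpr ha'K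
  have hX1 : zpowers a' ≠ ⊥ := by
    rw [Ne, zpowers_eq_bot]; exact ha'1
  have hXc : zpowers a' ≤ cj c H := by
    rw [zpowers_le]
    exact conj_mem_cj haH
  have hcH : c ∈ H := Cfsg.Agent.Lib.Helper31.BG147.mem_of_le_cj h31 hH hKH hKH1 hXK hX1 hXc
  have hcent : centralizer ({a'} : Set G) ≤ H := by
    rw [← centralizer_zpowers_eq]
    exact Cfsg.Agent.Lib.Helper31.BG147.centralizer_le h31 hH hKH hKH1 hXK hX1
  have hcenta : centralizer ({a} : Set G) ≤ H := by
    intro w hw
    have hw' : c * w * c⁻¹ ∈ centralizer ({a'} : Set G) := by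
      rw [Subgroup.mem_centralizer_iff] at hw ⊢
      intro x hx
      rw [Set.mem_singleton_iff] at hx
      subst hx
      have h0 := hw a rfl
      rw [ha']
      calc c * a * c⁻¹ * (c * w * c⁻¹) = c * (a * w) * c⁻¹ := by group
        _ = c * (w * a) * c⁻¹ := by rw [h0]
        _ = c * w * c⁻¹ * (c * a * c⁻¹) := by group
    have h1 := hcent hw'
    have : w = c⁻¹ * (c * w * c⁻¹) * c := by group
    rw [this]
    exact H.mul_mem (H.mul_mem (H.inv_mem hcH) h1) hcH
  have hr1 : r = 1 := by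
    have := Cfsg.Agent.Lib.Helper81.BG144.supportR_eq_bot H a hcenta
    rw [this, Subgroup.mem_bot] at hr
    exact hr
  apply hZ1 z hz
  rw [hz', hr1, mul_one]
  exact ha'K

/-- every element commuting with an element of `Ẑ` lies in `K K*` (`K` cyclic) -/
theorem mem_sup_of_commute_zhat (hG : IsMinSimpleOddOrder G) {M K : Subgroup G} (hM : IsCoatom M)
    (hKc : IsCyclic K) (hK : IsPiHallOf (kappa M) K M) (hK1 : K ≠ ⊥) {z a : G} (hz : z ∈ Zhat M K)
    (ha : a * z = z * a) : a ∈ K ⊔ Ks M K := by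
  have h31 : H1431 G := fun M hM K hK hK1 => Cfsg.Agent.S1431.result hG M hM K hK hK1
  have hc : Ks M K ≤ centralizer (K : Set G) := inf_le_right
  have hcop := Cfsg.Agent.Lib.Helper77.BG147.coprime_card_Ks hG hM hK
  obtain ⟨x, hx, y, hy, hx1, hy1, -, -, ⟨i, hi⟩, ⟨j, hj⟩⟩ :=
    Cfsg.Agent.Lib.Helper27.BG147.zhat_parts hc hcop hz
  have hcz : Commute a z := ha
  have hax : Commute a x := by rw [← hi]; exact hcz.pow_right i
  have hay : Commute a y := by rw [← hj]; exact hcz.pow_right j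
  have hXK : zpowers y ≤ Ks M K := zpowers_le.mpr hy
  have hX1 : zpowers y ≠ ⊥ := by rw [Ne, zpowers_eq_bot]; exact hy1
  have haM : a ∈ M := by
    apply Cfsg.Agent.Lib.Helper31.BG147.centralizer_le h31 hM hK hK1 hXK hX1
    rw [centralizer_zpowers_eq, Subgroup.mem_centralizer_iff]
    intro w hw
    rw [Set.mem_singleton_iff] at hw
    subst hw
    exact hay.symm.eq
  have h54 := (Cfsg.Agent.S1354.result hG M hM K hKc hK).2 hK1 x hx hx1
  rw [← h54]
  refine Subgroup.mem_inf.mpr ⟨haM, Subgroup.mem_centralizer_iff.mpr ?_⟩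
  intro w hw
  rw [Set.mem_singleton_iff] at hw
  subst hw
  exact hax.symm.eq

/-- **keystone 136908** (own proof): the tilde set of `M` misses the class support of `Ẑ`. -/
theorem tilde_disjoint_csupp' (hG : IsMinSimpleOddOrder G) {M K : Subgroup G} (hM : IsCoatom M)
    (hKc : IsCyclic K) (hK : IsPiHallOf (kappa M) K M) (hK1 : K ≠ ⊥) :
    Disjoint (tildeOf M ((sigmaCore M : Set G) \ {1})) (csupp (Zhat M K)) := by
  have hc : Ks M K ≤ centralizer (K : Set G) := inf_le_right
  have hcop := Cfsg.Agent.Lib.Helper77.BG147.coprime_card_Ks hG hM hK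
  apply tilde_disjoint_csupp_gen hG hM hK hK1
  · intro z hz hzK
    exact hz.2 (Or.inr hzK)
  · intro z hz a ha1 hcomm hπ
    have h1 := mem_sup_of_commute_zhat hG hM hKc hK hK1 hz hcomm
    apply mem_right_of_coprime hc hcop h1
    apply orderOf_coprime_of_primes hπ
    intro p hp hpK
    exact (hK.2.1 p hp hpK).2.2.1

/-- the tilde set of `M*` misses the class support of `Ẑ`; `K*` is NOT assumed cyclic. -/
theorem tilde_disjoint_csupp_star (hG : IsMinSimpleOddOrder G) {M K Mstar : Subgroup G} (hM : IsCoatom M)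
    (hKc : IsCyclic K) (hK : IsPiHallOf (kappa M) K M) (hK1 : K ≠ ⊥) (hMstar : IsCoatom Mstar)
    (hKst : K = sigmaCore Mstar ⊓ centralizer ((Ks M K : Subgroup G) : Set G))
    (hKstH : IsPiHallOf (kappa Mstar) (Ks M K) Mstar) (hKs1 : Ks M K ≠ ⊥) :
    Disjoint (tildeOf Mstar ((sigmaCore Mstar : Set G) \ {1})) (csupp (Zhat M K)) := by
  have hc : Ks M K ≤ centralizer (K : Set G) := inf_le_right
  have hcop := Cfsg.Agent.Lib.Helper77.BG147.coprime_card_Ks hG hM hK
  have hKs : Ks Mstar (Ks M K) = K := hKst.symm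
  apply tilde_disjoint_csupp_gen hG hMstar hKstH hKs1
  · intro z hz hzK
    rw [hKs] at hzK
    exact hz.2 (Or.inl hzK)
  · intro z hz a ha1 hcomm hπ
    rw [hKs]
    have h1 := mem_sup_of_commute_zhat hG hM hKc hK hK1 hz hcomm
    apply mem_left_of_coprime hc hcop h1
    apply orderOf_coprime_of_primes hπ
    intro p hp hpK
    exact (hKstH.2.1 p hp hpK).2.2.1

/-! ### The counting argument of 14.7(f) -/

/-- `K*` is a proper subgroup of `M_σ`, of odd index: `|M_σ| = |K*| a` with `a ≥ 3`. -/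
theorem exists_three_le_mul (hG : IsMinSimpleOddOrder G) {M K : Subgroup G} (hM : IsCoatom M)
    (hK : IsPiHallOf (kappa M) K M) (hK1 : K ≠ ⊥) (hKs1 : Ks M K ≠ ⊥) :
    ∃ a : ℕ, 3 ≤ a ∧ Nat.card (sigmaCore M) = Nat.card (Ks M K) * a := by
  have hle : Ks M K ≤ sigmaCore M := inf_le_left
  obtain ⟨a, ha⟩ := Subgroup.card_dvd_of_le hle
  refine ⟨a, ?_, ha⟩
  have hpos : 0 < Nat.card (sigmaCore M) := Nat.card_pos
  have ha0 : a ≠ 0 := by
    rintro rfl
    rw [mul_zero] at ha
    omega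
  have ha1 : a ≠ 1 := by
    rintro rfl
    rw [mul_one] at ha
    have heq : Ks M K = sigmaCore M := Subgroup.eq_of_le_of_card_ge hle ha.le
    have hcard : Nat.card (Ks M K) ≠ 1 := fun h => hKs1 (Subgroup.card_eq_one.mp h)
    obtain ⟨p, hp, hpd⟩ := Nat.exists_prime_and_dvd hcard
    haveI : Fact p.Prime := ⟨hp⟩
    obtain ⟨-, -, h3, -⟩ := Cfsg.Agent.S1431.result hG M hM K hK hK1
    obtain ⟨S⟩ := (inferInstance : Nonempty (Sylow p ↥(sigmaCore M)))
    apply (h3 p hp hpd S).2.2
    show _ ≤ Ks M K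
    rw [heq]
    exact Subgroup.map_subtype_le _
  have hodd : Odd a := by
    have h1 : Odd (Nat.card (sigmaCore M)) :=
      Odd.of_dvd_nat hG.1 (Subgroup.card_subgroup_dvd_card _)
    exact Odd.of_dvd_nat h1 ⟨_, by rw [ha, mul_comm]⟩
  obtain ⟨t, ht⟩ := hodd
  omega

/-- `M*` is not conjugate to `M`. -/
theorem not_conj_star (hG : IsMinSimpleOddOrder G) {M K Mstar : Subgroup G} (hM : IsCoatom M)
    (hMstar : IsCoatom Mstar) (hKstH : IsPiHallOf (kappa Mstar) (Ks M K) Mstar) (hKs1 : Ks M K ≠ ⊥) :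
    ∀ g : G, Mstar ≠ M.map (MulAut.conj g).toMonoidHom := by
  intro g hg
  have hcard : Nat.card (Ks M K) ≠ 1 := fun h => hKs1 (Subgroup.card_eq_one.mp h)
  obtain ⟨p, hp, hpd⟩ := Nat.exists_prime_and_dvd hcard
  have h1 : p ∣ Nat.card (sigmaCore M) :=
    hpd.trans (Subgroup.card_dvd_of_le (inf_le_left : Ks M K ≤ sigmaCore M))
  have h2 : Nat.card (sigmaCore Mstar) = Nat.card (sigmaCore M) := by
    rw [hg]
    have := Cfsg.Agent.Lib.Helper68.BG144.sigmaCore_cj hG hM g
    rw [show M.map (MulAut.conj g).toMonoidHom = cj g M from rfl, this, card_cj]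
  have h3 : p ∈ sigma Mstar := by
    apply Cfsg.Agent.Lib.Helper71.BG11.sigmaCore_pi hG hMstar hp
    rw [h2]; exact h1
  exact (hKstH.2.1 p hp hpd).2.2.1 h3

/-- **The counting argument of BG 14.7(f)**: `M = K M_σ` and `M* = K* M*_σ` (i.e. `U = 1 = U*`) cannot both hold.
`K*` is not assumed cyclic. -/
theorem not_both_split (hG : IsMinSimpleOddOrder G) (h77 : H1377 G)
    (h33 : Cfsg.Agent.Lib.Helper11.BG144.H1433 G) {M K Mstar : Subgroup G} (hM : IsCoatom M)
    (hKc : IsCyclic K) (hK : IsPiHallOf (kappa M) K M) (hK1 : K ≠ ⊥) (hMstar : IsCoatom Mstar)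
    (hKst : K = sigmaCore Mstar ⊓ centralizer ((Ks M K : Subgroup G) : Set G))
    (hKstH : IsPiHallOf (kappa Mstar) (Ks M K) Mstar)
    (hsp : Nat.card M = Nat.card K * Nat.card (sigmaCore M))
    (hsp' : Nat.card Mstar = Nat.card (Ks M K) * Nat.card (sigmaCore Mstar)) : False := by
  have h30 : H1430 G := fun M hM K hK hK1 => Cfsg.Agent.S1430.result hG M hM K hK hK1
  have h31 : H1431 G := fun M hM K hK hK1 => Cfsg.Agent.S1431.result hG M hM K hK hK1
  have hKs1 : Ks M K ≠ ⊥ := (Cfsg.Agent.S1354.result hG M hM K hKc hK).1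
  have hc : Ks M K ≤ centralizer (K : Set G) := inf_le_right
  have hcop := Cfsg.Agent.Lib.Helper77.BG147.coprime_card_Ks hG hM hK
  have hinf : K ⊓ Ks M K = ⊥ := (Subgroup.disjoint_of_coprime_natCard hcop).eq_bot
  have hKs : Ks Mstar (Ks M K) = K := hKst.symm
  -- disjointness
  have hnc := not_conj_star hG hM hMstar hKstH hKs1
  have D1 := Cfsg.Agent.Lib.Helper29.BG147.tilde_disjoint hG h33 hM hMstar hnc
  have D2 := tilde_disjoint_csupp' hG hM hKc hK hK1
  have D3 := tilde_disjoint_csupp_star hG hM hKc hK hK1 hMstar hKst hKstH hKs1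
  -- sizes
  have hZ : Set.ncard (Zhat M K) = (Nat.card K - 1) * (Nat.card (Ks M K) - 1) :=
    Cfsg.Agent.Lib.Helper81.BG147.ncard_zhat hc hinf
  have hcs := (Cfsg.Agent.Lib.Helper28.BG147.csupp_gt_half hG h30 h31 hM hK hK1
    (fun z g hz hg => Cfsg.Agent.Lib.Helper77.BG147.zhat_normalizer hG h31 hM hK hK1 hz hg)
    (fun N X h1 h2 h3 => Cfsg.Agent.Lib.Helper67.BG147.card_csupp h1 h2 h3) hZ).1
  have ht₁ := h77 M hM
  have ht₂ := h77 Mstar hMstar
  obtain ⟨a, ha3, ha⟩ := exists_three_le_mul hG hM hK hK1 hKs1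
  obtain ⟨b, hb3, hb⟩ := exists_three_le_mul hG hMstar hKstH hKs1 (by rw [hKs]; exact hK1)
  rw [hKs] at hb
  -- the union
  have hsum : Set.ncard (csupp (Zhat M K)) + Set.ncard (tildeOf M ((sigmaCore M : Set G) \ {1})) +
      Set.ncard (tildeOf Mstar ((sigmaCore Mstar : Set G) \ {1})) ≤ Nat.card G := by
    have hd : Disjoint (csupp (Zhat M K) ∪ tildeOf M ((sigmaCore M : Set G) \ {1}))
        (tildeOf Mstar ((sigmaCore Mstar : Set G) \ {1})) := by
      rw [Set.disjoint_union_left]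
      exact ⟨D3.symm, D1⟩
    rw [← Set.ncard_union_eq D2.symm (Set.toFinite _) (Set.toFinite _),
      ← Set.ncard_union_eq hd (Set.toFinite _) (Set.toFinite _)]
    exact Set.ncard_le_card _
  have hk : 1 < Nat.card K := (Subgroup.one_lt_card_iff_ne_bot (H := K)).mpr hK1
  have hs : 1 < Nat.card (Ks M K) := (Subgroup.one_lt_card_iff_ne_bot (H := Ks M K)).mpr hKs1
  have hg : 0 < Nat.card G := Nat.card_pos
  have hi₁ : M.index * (Nat.card K * (Nat.card (Ks M K) * a)) = Nat.card G := by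
    rw [← ha, ← hsp]; exact Subgroup.index_mul_card M
  have hi₂ : Mstar.index * (Nat.card (Ks M K) * (Nat.card K * b)) = Nat.card G := by
    rw [← hb, ← hsp']; exact Subgroup.index_mul_card Mstar
  rw [ha] at ht₁
  rw [hb] at ht₂
  exact Cfsg.Agent.Lib.Helper10.BG147.counting_false_three hk hs ha3 (by omega) hg hcs ht₁ hi₁ ht₂ hi₂
    hsum

/-! ### `U ≠ 1` forces `M_σ` nilpotent -/

/-- a prime divisor of `|M|` outside `κ(M) ∪ σ(M)` forces `M_σ` nilpotent (S1417 for `τ₂`, Thompson otherwise) -/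
theorem sigmaCore_nilpotent_of_prime (hG : IsMinSimpleOddOrder G) {M : Subgroup G} (hM : IsCoatom M)
    {r : ℕ} (hr : r.Prime) (hrM : r ∣ Nat.card M) (hrκ : r ∉ kappa M) (hrσ : r ∉ sigma M) :
    Group.IsNilpotent (sigmaCore M) := by
  haveI : Fact r.Prime := ⟨hr⟩
  by_cases h1 : PRankLE r 1 M
  · obtain ⟨x, hx⟩ := exists_prime_orderOf_dvd_card' (G := M) r hrM
    have hxo : orderOf (x : G) = r := by rw [Subgroup.orderOf_coe]; exact hx
    have hRc : Nat.card (zpowers (x : G)) = r := by rw [Nat.card_zpowers]; exact hxo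
    have hRM : zpowers (x : G) ≤ M := zpowers_le.mpr x.2
    have hC : sigmaCore M ⊓ centralizer ((zpowers (x : G) : Subgroup G) : Set G) = ⊥ := by
      by_contra h
      exact hrκ (Cfsg.Agent.Lib.Helper64.BG14.mem_kappa_of_cent_ne_bot hG hM hr hrM hrσ h1 hRM hRc h)
    have hR1 : zpowers (x : G) ≠ ⊥ := by
      intro h
      rw [h, Subgroup.card_bot] at hRc
      exact hr.one_lt.ne hRc
    apply Cfsg.Agent.Lib.Helper03.FrobThompson.isNilpotent_of_fpf (sigmaCore M) (zpowers (x : G)) hR1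
    · intro e he u hu
      have heM : e ∈ M := hRM he
      have hn := Cfsg.Agent.Lib.Helper71.BG11.le_normalizer_sigmaCore M heM
      exact (Subgroup.mem_normalizer_iff.mp hn u).mp hu
    · intro e he he1 u hu hcomm
      have hle : zpowers e ≤ zpowers (x : G) := zpowers_le.mpr he
      have hcard : Nat.card (zpowers e) = r := by
        have hdvd : Nat.card (zpowers e) ∣ r := by
          rw [← hRc]; exact Subgroup.card_dvd_of_le hle
        rcases (Nat.dvd_prime hr).mp hdvd with h | h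
        · exfalso
          apply he1
          have := Subgroup.card_eq_one.mp h
          rwa [zpowers_eq_bot] at this
        · exact h
      have heq : zpowers e = zpowers (x : G) :=
        Subgroup.eq_of_le_of_card_ge hle (by rw [hcard, hRc])
      have hu' : u ∈ sigmaCore M ⊓ centralizer ((zpowers (x : G) : Subgroup G) : Set G) := by
        refine Subgroup.mem_inf.mpr ⟨hu, ?_⟩
        rw [← heq, centralizer_zpowers_eq, Subgroup.mem_centralizer_iff]
        intro w hw
        rw [Set.mem_singleton_iff] at hw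
        subst hw
        exact hcomm
      rw [hC, Subgroup.mem_bot] at hu'
      exact hu'
  · have h2 : PRankLE r 2 M := by
      by_contra h2
      exact hrσ (Cfsg.Agent.Lib.Helper71.BG10.alpha_subset_sigma hG hM ⟨hr, h2⟩)
    have hτ : r ∈ tau2 M := ⟨hr, hrσ, h2, h1⟩
    obtain ⟨A, hAM, hAe, hAc⟩ := Cfsg.Agent.Lib.Helper13.BG12.exists_elemAb_sq_of_tau2 hτ
    exact (Cfsg.Agent.S1417.result hG M hM r hτ A ⟨hAM, hAe, hAc⟩).1

/-- **`U ≠ 1` forces `M_σ` nilpotent** (hence `M_σ ≤ F(M)`: third clause of S1372). -/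
theorem sigmaCore_nilpotent_of_U_ne_bot (hG : IsMinSimpleOddOrder G) {M K U : Subgroup G}
    (hM : IsCoatom M) (hKU : IsSigmaDecomposition M K U) (hU1 : U ≠ ⊥) :
    Group.IsNilpotent (sigmaCore M) := by
  have hUcard : 1 < Nat.card U := (Subgroup.one_lt_card_iff_ne_bot (H := U)).mpr hU1
  obtain ⟨r, hr, hrU⟩ := Nat.exists_prime_and_dvd (ne_of_gt hUcard)
  have hHall : IsPiHallOf (sigma M) (sigmaCore M) M := Cfsg.Agent.Lib.Helper16.BG134.hall_sigma hG hM
  have hE := Cfsg.Agent.Lib.Helper31.BG15.isComplIn_sup_of_sigmaDecomposition hG hM hKU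
  have hrE : r ∣ Nat.card ↥(U ⊔ K) := hrU.trans (Subgroup.card_dvd_of_le le_sup_left)
  have hrσ : r ∉ sigma M :=
    Cfsg.Agent.Lib.Helper13.BG12.complIn_prime_not_mem_sigma hHall hE r hr hrE
  have hrκ : r ∉ kappa M := Cfsg.Agent.Lib.Helper31.BG15.not_mem_kappa_of_dvd_card hKU hr hrU
  have hrM : r ∣ Nat.card M := hrU.trans (Subgroup.card_dvd_of_le hKU.compl.1)
  exact sigmaCore_nilpotent_of_prime hG hM hr hrM hrκ hrσ

/-! ### Hall `κ`-subgroups are `Z`-groups -/

omit [Finite G] in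
/-- a Hall `κ(H)`-subgroup has all its Sylow subgroups cyclic -/
theorem isZGroup_of_hall_kappa [Finite G] {H Y : Subgroup G} (hY : IsPiHallOf (kappa H) Y H) : IsZGroup Y := by
  constructor
  intro p hp P
  haveI : Fact p.Prime := ⟨hp⟩
  by_cases hpd : p ∣ Nat.card Y
  · obtain ⟨-, -, -, hall⟩ := hY.2.1 p hp hpd
    let f : Y →* H := Subgroup.inclusion hY.1
    have hf : Function.Injective f := Subgroup.inclusion_injective hY.1
    have hP' : IsPGroup p ((P : Subgroup Y).map f) := P.2.map f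
    obtain ⟨Q, hQ⟩ := hP'.exists_le_sylow
    haveI : IsCyclic (Q : Subgroup H) := (hall Q).1
    let g : (P : Subgroup Y) →* (Q : Subgroup H) :=
      (Subgroup.inclusion hQ).comp (f.subgroupMap (P : Subgroup Y))
    have hg : Function.Injective g := by
      intro a b hab
      have h1 : (f.subgroupMap (P : Subgroup Y)) a = (f.subgroupMap (P : Subgroup Y)) b :=
        Subgroup.inclusion_injective hQ hab
      have h2 : f a = f b := congrArg Subtype.val h1
      exact Subtype.ext (hf h2)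
    exact isCyclic_of_injective g hg
  · obtain ⟨n, hn⟩ := IsPGroup.iff_card.mp P.2
    have hdvd : Nat.card (P : Subgroup Y) ∣ Nat.card Y := Subgroup.card_subgroup_dvd_card _
    have hn0 : n = 0 := by
      by_contra h
      apply hpd
      rw [hn] at hdvd
      exact (dvd_pow_self p h).trans hdvd
    rw [hn0, pow_zero] at hn
    haveI : Subsingleton (P : Subgroup Y) := (Nat.card_eq_one_iff_unique.mp hn).1
    exact isCyclic_of_subsingleton

/-- a Hall `κ(H)`-subgroup inside a nilpotent subgroup is cyclic -/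
theorem isCyclic_of_hall_kappa_of_nilpotent {H Y N : Subgroup G} (hY : IsPiHallOf (kappa H) Y H)
    (hYN : Y ≤ N) (hN : Group.IsNilpotent N) : IsCyclic Y := by
  haveI := isZGroup_of_hall_kappa hY
  haveI : Group.IsNilpotent Y :=
    _root_.isNilpotent_of_ker_le_center (Subgroup.inclusion hYN)
      (by
        rw [(MonoidHom.ker_eq_bot_iff _).mpr (Subgroup.inclusion_injective hYN)]
        exact bot_le)
  infer_instance

open scoped commutatorElement in
/-- a Hall `κ(H)`-subgroup is cyclic when `κ(H) ⊆ τ₁(H)` -/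
theorem isCyclic_of_hall_kappa_of_tau1 {H Y : Subgroup G} (hY : IsPiHallOf (kappa H) Y H)
    (hreg : ∀ p : ℕ, p ∈ kappa H → p ∈ tau1 H) : IsCyclic Y := by
  haveI := isZGroup_of_hall_kappa hY
  have hcop : (Nat.card Y).Coprime (Nat.card ↥⁅H, H⁆) := by
    apply Nat.coprime_of_dvd
    intro p hp hpY hpH
    exact (hreg p (hY.2.1 p hp hpY)).2.2.2.1 hpH
  have hinf : Y ⊓ ⁅H, H⁆ = ⊥ := (Subgroup.disjoint_of_coprime_natCard hcop).eq_bot
  have hcomm : ∀ a b : Y, a * b = b * a := by
    intro a b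
    have h1 : ⁅(a : G), (b : G)⁆ ∈ ⁅H, H⁆ :=
      Subgroup.commutator_mem_commutator (hY.1 a.2) (hY.1 b.2)
    have h2 : ⁅(a : G), (b : G)⁆ ∈ Y := by
      rw [commutatorElement_def]
      exact Y.mul_mem (Y.mul_mem (Y.mul_mem a.2 b.2) (Y.inv_mem a.2)) (Y.inv_mem b.2)
    have h3 : ⁅(a : G), (b : G)⁆ ∈ Y ⊓ ⁅H, H⁆ := ⟨h2, h1⟩
    rw [hinf, Subgroup.mem_bot, commutatorElement_eq_one_iff_mul_comm] at h3
    exact Subtype.ext h3
  haveI : IsMulCommutative Y := ⟨⟨hcomm⟩⟩
  haveI : Group.IsNilpotent Y :=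
    ⟨1, Subgroup.upperCentralSeries_one_eq_top_iff.mpr inferInstance⟩
  infer_instance

/-! ### `K*` is cyclic -/

/-- If `κ(M*) ⊄ τ₁(M*)`, then (Lemma D) the Hall `κ(M*)`-subgroup `K*` is a complement of `M*_σ` in `M*`. -/
theorem card_eq_of_not_regular (hG : IsMinSimpleOddOrder G) {H Y : Subgroup G} (hH : IsCoatom H)
    (hY : IsPiHallOf (kappa H) Y H) (hreg : ¬ ∀ p : ℕ, p ∈ kappa H → p ∈ tau1 H) :
    Nat.card H = Nat.card Y * Nat.card (sigmaCore H) := by
  have hHall := Cfsg.Agent.Lib.Helper16.BG134.hall_sigma hG hH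
  obtain ⟨E, hE, hYE⟩ := Cfsg.Agent.Lib.Helper13.BG12.exists_complIn_ge hG hH hHall hY.1
    (fun p hp hpd => (hY.2.1 p hp hpd).2.2.1)
  obtain ⟨hEκ, -, -⟩ := Cfsg.Agent.Lib.Helper02.BG1310.hd_main hG H E hH hE hreg
  have hEc := Cfsg.Agent.Lib.Helper31.IsComplIn.card_mul hE
  obtain ⟨r, hr⟩ := Subgroup.card_dvd_of_le hYE
  have hYpos : 0 < Nat.card Y := Nat.card_pos
  have hidx : Y.relIndex H = r * Nat.card (sigmaCore H) := by
    have h1 : Nat.card Y * Y.relIndex H = Nat.card H := by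
      have := Subgroup.relIndex_mul_relIndex ⊥ Y H bot_le hY.1
      rwa [Subgroup.relIndex_bot_left, Subgroup.relIndex_bot_left] at this
    have h2 : Nat.card Y * Y.relIndex H = Nat.card Y * (r * Nat.card (sigmaCore H)) := by
      rw [h1, ← hEc, hr]; ring
    exact Nat.eq_of_mul_eq_mul_left hYpos h2
  have hr1 : r = 1 := by
    by_contra hne
    obtain ⟨q, hq, hqr⟩ := Nat.exists_prime_and_dvd hne
    have hqE : q ∣ Nat.card E := by rw [hr]; exact Dvd.dvd.mul_left hqr _
    apply hY.2.2 q hq (hEκ q hq hqE)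
    rw [hidx]
    exact Dvd.dvd.mul_right hqr _
  rw [← hEc, hr, hr1, mul_one]

/-- **`K* = C_{M_σ}(K)` is cyclic** in the setting of BG Theorem 14.7 (S1366--S1369, S1434), from the statements of
S1377 and S1433. -/
theorem Ks_isCyclic (hG : IsMinSimpleOddOrder G) (h77 : H1377 G)
    (h33 : Cfsg.Agent.Lib.Helper11.BG144.H1433 G) {M K U Mstar : Subgroup G} (hM : IsCoatom M)
    (hKU : IsSigmaDecomposition M K U) (hK1 : K ≠ ⊥) (hMstar : IsCoatom Mstar)
    (hKst : K = sigmaCore Mstar ⊓ centralizer ((Ks M K : Subgroup G) : Set G))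
    (hKstH : IsPiHallOf (kappa Mstar) (Ks M K) Mstar) : IsCyclic (Ks M K) := by
  by_cases hreg : ∀ p : ℕ, p ∈ kappa Mstar → p ∈ tau1 Mstar
  · exact isCyclic_of_hall_kappa_of_tau1 hKstH hreg
  · have hsp' := card_eq_of_not_regular hG hMstar hKstH hreg
    have hU1 : U ≠ ⊥ := by
      intro hU
      have hE := Cfsg.Agent.Lib.Helper31.BG15.isComplIn_sup_of_sigmaDecomposition hG hM hKU
      rw [hU, bot_sup_eq] at hE
      have hsp := (Cfsg.Agent.Lib.Helper31.IsComplIn.card_mul hE).symm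
      exact not_both_split hG h77 h33 hM hKU.cyclic hKU.hall hK1 hMstar hKst hKstH hsp hsp'
    have hnil := sigmaCore_nilpotent_of_U_ne_bot hG hM hKU hU1
    exact isCyclic_of_hall_kappa_of_nilpotent hKstH inf_le_left hnil

/-- `Z = K K*` is cyclic (second clause of S1368). -/
theorem Z_isCyclic (hG : IsMinSimpleOddOrder G) (h77 : H1377 G)
    (h33 : Cfsg.Agent.Lib.Helper11.BG144.H1433 G) {M K U Mstar : Subgroup G} (hM : IsCoatom M)
    (hKU : IsSigmaDecomposition M K U) (hK1 : K ≠ ⊥) (hMstar : IsCoatom Mstar)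
    (hKst : K = sigmaCore Mstar ⊓ centralizer ((Ks M K : Subgroup G) : Set G))
    (hKstH : IsPiHallOf (kappa Mstar) (Ks M K) Mstar) : IsCyclic ↥(K ⊔ Ks M K) := by
  haveI := hKU.cyclic
  haveI := Ks_isCyclic hG h77 h33 hM hKU hK1 hMstar hKst hKstH
  have hc : Ks M K ≤ centralizer (K : Set G) := inf_le_right
  have hcop := Cfsg.Agent.Lib.Helper77.BG147.coprime_card_Ks hG hM hKU.hall
  obtain ⟨x, hx⟩ := IsCyclic.exists_generator (α := K)
  obtain ⟨y, hy⟩ := IsCyclic.exists_generator (α := Ks M K)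
  have hox : orderOf (x : G) = Nat.card K := by
    rw [Subgroup.orderOf_coe]; exact orderOf_eq_card_of_forall_mem_zpowers hx
  have hoy : orderOf (y : G) = Nat.card (Ks M K) := by
    rw [Subgroup.orderOf_coe]; exact orderOf_eq_card_of_forall_mem_zpowers hy
  have hxy : Commute (x : G) (y : G) := (Subgroup.mem_centralizer_iff.mp (hc y.2)) x x.2
  have ho : orderOf ((x : G) * (y : G)) = Nat.card K * Nat.card (Ks M K) := by
    rw [hxy.orderOf_mul_eq_mul_orderOf_of_coprime (by rw [hox, hoy]; exact hcop), hox, hoy]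
  have hmem : (x : G) * (y : G) ∈ K ⊔ Ks M K :=
    Subgroup.mul_mem _ (le_sup_left (a := K) x.2) (le_sup_right (b := Ks M K) y.2)
  have hcard : Nat.card ↥(K ⊔ Ks M K) = Nat.card K * Nat.card (Ks M K) :=
    Cfsg.Agent.Lib.Helper28.BG147.card_sup_of_commute hc
      (Subgroup.disjoint_of_coprime_natCard hcop).eq_bot
  apply isCyclic_of_orderOf_eq_card (⟨(x : G) * (y : G), hmem⟩ : ↥(K ⊔ Ks M K))
  rw [← Subgroup.orderOf_coe, hcard]
  exact ho

end Cfsg.Agent.Lib.Helper13.BG147
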