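import Mathlib
import Cfsg.Agent.S1365
import Cfsg.Agent.S1377
import Cfsg.Agent.S1378
import Cfsg.Agent.S1433
import Cfsg.Agent.Lib.Helper13.BG147Ks
import Cfsg.Agent.Lib.Helper54.BG134A3a
import Cfsg.Agent.Lib.Helper61.BG1310HD
import Cfsg.Agent.Lib.Helper90.BG14DW1
import Cfsg.Agent.Lib.Helper89.BG14DS1

/-!
# BG Theorem 14.7 (b)-(e): the clauses of S1368 and S1434 (helper13)

Setting: `M` maximal, `IsSigmaDecomposition M K U`, `K ≠ 1`, `K* = Ks M K`, `M*` maximal with `K = Ks M* K*`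
and `K*` a Hall `κ(M*)`-subgroup of `M*`.  Everything is derived from the landed rows S1354, S1365, S1377, S1378,
S1430, S1431, S1433 and `Helper13.BG147.Ks_isCyclic`.
-/

set_option autoImplicit false
set_option linter.style.haveILetI false
set_option linter.unusedVariables false

namespace Cfsg.Agent.Lib.Helper13.BG147

open Cfsg Subgroup Cfsg.Agent.Lib.Helper55 Cfsg.Agent.Lib.Helper11.BG14D Cfsg.Agent.Lib.Helper31.BG147

variable {G : Type*} [Group G] [Finite G]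

theorem h77_main (hG : IsMinSimpleOddOrder G) : H1377 G :=
  fun M hM => Cfsg.Agent.S1377.result hG M hM

theorem h33_main (hG : IsMinSimpleOddOrder G) : Cfsg.Agent.Lib.Helper11.BG144.H1433 G :=
  fun M N hM hN x y hx hy hx1 hy1 hxy => Cfsg.Agent.S1433.result hG M N hM hN x y hx hy hx1 hy1 hxy

/-- `K*` is cyclic (hypothesis-free form). -/
theorem Ks_isCyclic_main (hG : IsMinSimpleOddOrder G) {M K U Mstar : Subgroup G} (hM : IsCoatom M)
    (hKU : IsSigmaDecomposition M K U) (hK1 : K ≠ ⊥) (hMstar : IsCoatom Mstar)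
    (hKst : K = sigmaCore Mstar ⊓ centralizer ((Ks M K : Subgroup G) : Set G))
    (hKstH : IsPiHallOf (kappa Mstar) (Ks M K) Mstar) : IsCyclic (Ks M K) :=
  Ks_isCyclic hG (h77_main hG) (h33_main hG) hM hKU hK1 hMstar hKst hKstH

/-- `σ(M) ∩ σ(M*) = ∅`. -/
theorem sigma_disjoint_star (hG : IsMinSimpleOddOrder G) {M K Mstar : Subgroup G} (hM : IsCoatom M)
    (hMstar : IsCoatom Mstar) (hKstH : IsPiHallOf (kappa Mstar) (Ks M K) Mstar) (hKs1 : Ks M K ≠ ⊥) :
    ∀ p : ℕ, p ∈ sigma M → p ∉ sigma Mstar := by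
  intro p hp1 hp2
  obtain ⟨g, hg⟩ := (Cfsg.Agent.S1378.result hG).2 M Mstar hM hMstar ⟨p, hp1, hp2⟩
  exact not_conj_star hG hM hMstar hKstH hKs1 g hg

/-- `M_σ ∩ M*_σ = 1`. -/
theorem sigmaCore_inf_sigmaCore_star (hG : IsMinSimpleOddOrder G) {M K Mstar : Subgroup G} (hM : IsCoatom M)
    (hMstar : IsCoatom Mstar) (hKstH : IsPiHallOf (kappa Mstar) (Ks M K) Mstar) (hKs1 : Ks M K ≠ ⊥) :
    sigmaCore M ⊓ sigmaCore Mstar = ⊥ := by
  have hcop : (Nat.card (sigmaCore M)).Coprime (Nat.card (sigmaCore Mstar)) := by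
    apply Nat.coprime_of_dvd
    intro p hp h1 h2
    exact sigma_disjoint_star hG hM hMstar hKstH hKs1 p
      (Cfsg.Agent.Lib.Helper71.BG11.sigmaCore_pi hG hM hp h1)
      (Cfsg.Agent.Lib.Helper71.BG11.sigmaCore_pi hG hMstar hp h2)
  exact (Subgroup.disjoint_of_coprime_natCard hcop).eq_bot

/-- **`M ∩ M* = K K*`** (first clause of S1368; own proof of keystone 136615). -/
theorem inter_partner (hG : IsMinSimpleOddOrder G) {M K Mstar : Subgroup G} (hM : IsCoatom M)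
    (hK : IsPiHallOf (kappa M) K M) (hK1 : K ≠ ⊥) (hKs1 : Ks M K ≠ ⊥) (hMstar : IsCoatom Mstar)
    (hKst : K = sigmaCore Mstar ⊓ centralizer ((Ks M K : Subgroup G) : Set G))
    (hKstH : IsPiHallOf (kappa Mstar) (Ks M K) Mstar) :
    M ⊓ Mstar = K ⊔ Ks M K := by
  have hbot := sigmaCore_inf_sigmaCore_star hG hM hMstar hKstH hKs1
  have hσM : sigmaCore M ≤ M := Cfsg.Agent.Lib.Helper71.BG11.sigmaCore_le M
  have hσM' : sigmaCore Mstar ≤ Mstar := Cfsg.Agent.Lib.Helper71.BG11.sigmaCore_le Mstar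
  have hKσ : K ≤ sigmaCore Mstar := by rw [hKst]; exact inf_le_left
  have hKsM' : Ks M K ≤ Mstar := hKstH.1
  have hKsσ : Ks M K ≤ sigmaCore M := inf_le_left
  -- elements of `M*_σ ∩ M` commute with elements of `M_σ ∩ M*`
  have hcomm : ∀ a ∈ sigmaCore Mstar ⊓ M, ∀ b ∈ sigmaCore M ⊓ Mstar, a * b = b * a := by
    intro a ha b hb
    have haM : a ∈ M := ha.2
    have hbM' : b ∈ Mstar := hb.2
    have h1 : a * b * a⁻¹ ∈ sigmaCore M :=
      (Subgroup.mem_normalizer_iff.mp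
        (Cfsg.Agent.Lib.Helper71.BG11.le_normalizer_sigmaCore M haM) b).mp hb.1
    have h2 : b * a⁻¹ * b⁻¹ ∈ sigmaCore Mstar :=
      (Subgroup.mem_normalizer_iff.mp
        (Cfsg.Agent.Lib.Helper71.BG11.le_normalizer_sigmaCore Mstar hbM') a⁻¹).mp
        ((sigmaCore Mstar).inv_mem ha.1)
    have h3 : a * b * a⁻¹ * b⁻¹ ∈ sigmaCore M ⊓ sigmaCore Mstar := by
      refine ⟨(sigmaCore M).mul_mem h1 ((sigmaCore M).inv_mem hb.1), ?_⟩
      have : a * b * a⁻¹ * b⁻¹ = a * (b * a⁻¹ * b⁻¹) := by group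
      rw [this]
      exact (sigmaCore Mstar).mul_mem ha.1 h2
    rw [hbot, Subgroup.mem_bot] at h3
    calc a * b = (a * b * a⁻¹ * b⁻¹) * (b * a) := by group
      _ = b * a := by rw [h3, one_mul]
  -- `M*_σ ∩ M = K`
  have hD2 : sigmaCore Mstar ⊓ M = K := by
    apply le_antisymm
    · intro a ha
      rw [hKst]
      refine Subgroup.mem_inf.mpr ⟨ha.1, Subgroup.mem_centralizer_iff.mpr ?_⟩
      intro b hb
      exact (hcomm a ha b ⟨hKsσ hb, hKsM' hb⟩).symm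
    · exact le_inf hKσ hK.1
  -- `M ∩ M*` normalizes `K`
  have hconj : ∀ g ∈ M ⊓ Mstar, ∀ h ∈ K, g * h * g⁻¹ ∈ K := by
    intro g hg h hh
    rw [← hD2] at hh ⊢
    refine ⟨?_, M.mul_mem (M.mul_mem hg.1 hh.2) (M.inv_mem hg.1)⟩
    exact (Subgroup.mem_normalizer_iff.mp
      (Cfsg.Agent.Lib.Helper71.BG11.le_normalizer_sigmaCore Mstar hg.2) h).mp hh.1
  have hnorm : M ⊓ Mstar ≤ normalizer (K : Set G) := by
    intro g hg
    rw [Subgroup.mem_normalizer_iff]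
    intro h
    constructor
    · exact hconj g hg h
    · intro hh
      have := hconj g⁻¹ ((M ⊓ Mstar).inv_mem hg) _ hh
      have e : g⁻¹ * (g * h * g⁻¹) * g⁻¹⁻¹ = h := by group
      rwa [e] at this
  -- S1430(3)
  obtain ⟨k, hk1⟩ := (Subgroup.ne_bot_iff_exists_ne_one).mp hK1
  have hk1' : (k : G) ≠ 1 := fun h => hk1 (Subtype.ext h)
  obtain ⟨X, hXk, hXp⟩ := Cfsg.Agent.Lib.Helper89.BG14D.exists_prime_card_le_zpowers hk1'
  have hXK : X ≤ K := hXk.trans (zpowers_le.mpr k.2)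
  have h3 := ((Cfsg.Agent.S1430.result hG M hM K hK hK1).2.2 X hXK hXp).2.1
  apply le_antisymm
  · intro g hg
    have : g ∈ M ⊓ normalizer (K : Set G) := ⟨hg.1, hnorm hg⟩
    rw [h3] at this
    exact this
  · exact sup_le (le_inf hK.1 (hKσ.trans hσM')) (le_inf (hKsσ.trans hσM) hKsM')

end Cfsg.Agent.Lib.Helper13.BG147
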