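import Mathlib
import Cfsg.Prelude.Def_Blocks
import Cfsg.Agent.Lib.Helper01.CD3Defs
import Cfsg.Agent.Lib.Helper84.SigmaExt
import Cfsg.Agent.Lib.Helper83.Abelian
import Cfsg.Agent.Lib.Helper83.CharMisc
import Cfsg.Agent.Lib.Helper83.Quotient
import Cfsg.Agent.Lib.Helper83.Constituent

/-!
# K-CD3-VAN (446029, helper13, parallel hand): `r ∣ ψ 1` for a twist-invariant `ψ`

* `clifford_count_of_vanish` : helper32's Clifford count (`Helper32.Camina.camina_clifford_count`) with
  "vanishes off the normal subgroup" as the hypothesis, together with the degree formula.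
* `dvd_degree_of_twist_invariant` : the leaf.
-/

set_option autoImplicit false

namespace Cfsg.Agent.Lib.Helper13.CD3

open Cfsg Cfsg.Agent.Lib.Helper01.CD3
open Cfsg.Agent.Lib.Helper84 (inertiaSub)
open scoped ComplexConjugate

universe u

/-- Clifford count for an irreducible character vanishing off the normal subgroup `N`: with `θ` a
constituent of `χ_N` of multiplicity `m` and `t` the index of its inertia group, `m² t = |G : N|` and
`χ 1 = m t θ 1`. -/
theorem clifford_count_of_vanish {G : Type u} [Group G] [Fintype G] (N : Subgroup G) [hN : N.Normal]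
    [Fintype N] {χ : G → ℂ} (hχ : IsIrrCharacter G χ) (hvan : ∀ g : G, g ∉ N → χ g = 0)
    {θ : N → ℂ} (hθ : IsIrrCharacter N θ) (hcon : classInner (fun n : N => χ n) θ ≠ 0) :
    ∃ m t : ℕ, m ^ 2 * t = N.index ∧ χ 1 = (m : ℂ) * (t : ℂ) * θ 1 := by
  classical
  have : Fintype (IrrCharacter N) := Fintype.ofFinite _
  set χN : N → ℂ := fun n : N => χ n with hχN_def
  have hχc : IsCharacter G χ := Cfsg.Agent.Lib.Helper83.isCharacter_of_irr hχ
  have hχcl : IsClassFunction G χ := Cfsg.Agent.Lib.Helper83.char_isClassFunction hχc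
  have hχN : IsCharacter N χN := Cfsg.Agent.Lib.Helper83.isCharacter_restrict N hχc
  obtain ⟨m, hm⟩ := Cfsg.Agent.Lib.Helper83.classInner_char_nat hχN
    (Cfsg.Agent.Lib.Helper83.isCharacter_of_irr hθ)
  -- the norm of `χN`
  have hG0 : (Nat.card G : ℂ) ≠ 0 := by
    exact_mod_cast Nat.card_pos.ne'
  have hN0 : (Nat.card N : ℂ) ≠ 0 := by
    exact_mod_cast Nat.card_pos.ne'
  have hnorm : classInner χN χN = (N.index : ℂ) := by
    have h1 : classInner χ χ = 1 := Cfsg.Agent.Lib.Helper83.irr_inner_self ⟨χ, hχ⟩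
    rw [classInner] at h1
    have h2 : ∑ g : G, χ g * conj (χ g) = ∑ n : N, χ n * conj (χ n) := by
      rw [Cfsg.Agent.Lib.Helper83.sum_subgroup_eq_sum_ite' N (fun x => χ x * conj (χ x))]
      apply Finset.sum_congr rfl
      intro x _
      split_ifs with hx
      · rfl
      · rw [hvan x hx, zero_mul]
    rw [h2] at h1
    have hcard : (Nat.card G : ℂ) = (Nat.card N : ℂ) * (N.index : ℂ) := by
      rw [← Nat.cast_mul, Subgroup.card_mul_index]
    have hS : ∑ n : N, χ n * conj (χ n) = (Nat.card G : ℂ) := by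
      have h3 : (Nat.card G : ℂ) * ((Nat.card G : ℂ)⁻¹ * ∑ n : N, χ n * conj (χ n)) =
          (Nat.card G : ℂ) * 1 := by rw [h1]
      rw [← mul_assoc, mul_inv_cancel₀ hG0, one_mul, mul_one] at h3
      exact h3
    show (Nat.card N : ℂ)⁻¹ * ∑ n : N, χN n * conj (χN n) = _
    rw [hS, hcard, ← mul_assoc, inv_mul_cancel₀ hN0, one_mul]
  -- decomposition into irreducibles
  have hdec := Cfsg.Agent.Lib.Helper83.char_eq_sum_irrMult hχN
  have hnorm2 : classInner χN χN =
      ∑ ψ : IrrCharacter N, ((Cfsg.Agent.Lib.Helper83.irrMult χN ψ : ℕ) : ℂ) ^ 2 := by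
    conv_lhs => rw [hdec]
    rw [Cfsg.Agent.Lib.Helper83.classInner_sum_irr_self]
    apply Finset.sum_congr rfl
    intro ψ _
    rw [Complex.conj_natCast, sq]
  -- the orbit of `θ`
  set T := inertiaSub N θ with hT
  have hlift : ∀ a b : G, (QuotientGroup.leftRel T) a b →
      (⟨Cfsg.Agent.Lib.Helper84.conjFun N a⁻¹ θ,
        Cfsg.Agent.Lib.Helper84.isIrrCharacter_conjFun N a⁻¹ hθ⟩ : IrrCharacter N) =
      ⟨Cfsg.Agent.Lib.Helper84.conjFun N b⁻¹ θ,
        Cfsg.Agent.Lib.Helper84.isIrrCharacter_conjFun N b⁻¹ hθ⟩ := by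
    intro a b hab
    rw [QuotientGroup.leftRel_apply] at hab
    apply Subtype.ext
    show Cfsg.Agent.Lib.Helper84.conjFun N a⁻¹ θ = Cfsg.Agent.Lib.Helper84.conjFun N b⁻¹ θ
    have h1 : Cfsg.Agent.Lib.Helper84.conjFun N (a⁻¹ * b) θ = θ := hab
    rw [Cfsg.Agent.Lib.Helper84.conjFun_mul] at h1
    have h2 := Cfsg.Agent.Lib.Helper84.conjFun_inv_conjFun N b
      (Cfsg.Agent.Lib.Helper84.conjFun N a⁻¹ θ)
    rw [h1] at h2
    exact h2.symm
  let F : G ⧸ T → IrrCharacter N := Quotient.lift (fun g : G =>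
    (⟨Cfsg.Agent.Lib.Helper84.conjFun N g⁻¹ θ,
      Cfsg.Agent.Lib.Helper84.isIrrCharacter_conjFun N g⁻¹ hθ⟩ : IrrCharacter N)) hlift
  have hFmk : ∀ g : G, (F (QuotientGroup.mk g) : N → ℂ) =
      Cfsg.Agent.Lib.Helper84.conjFun N g⁻¹ θ := fun g => rfl
  have hFinj : Function.Injective F := by
    intro q₁ q₂
    induction q₁ using QuotientGroup.induction_on with
    | H a =>
      induction q₂ using QuotientGroup.induction_on with
      | H b =>
        intro h
        have h1 : Cfsg.Agent.Lib.Helper84.conjFun N a⁻¹ θ =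
            Cfsg.Agent.Lib.Helper84.conjFun N b⁻¹ θ := by
          rw [← hFmk a, ← hFmk b, h]
        apply QuotientGroup.eq.mpr
        show Cfsg.Agent.Lib.Helper84.conjFun N (a⁻¹ * b) θ = θ
        rw [Cfsg.Agent.Lib.Helper84.conjFun_mul, h1]
        exact Cfsg.Agent.Lib.Helper84.conjFun_conjFun_inv N b θ
  have hmult_in : ∀ q : G ⧸ T, Cfsg.Agent.Lib.Helper83.irrMult χN (F q) = m := by
    intro q
    induction q using QuotientGroup.induction_on with
    | H a =>
      have h1 : ((Cfsg.Agent.Lib.Helper83.irrMult χN (F (QuotientGroup.mk a)) : ℕ) : ℂ) = (m : ℂ) := by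
        rw [Cfsg.Agent.Lib.Helper83.irrMult_cast hχN, hFmk,
          Cfsg.Agent.Lib.Helper84.classInner_restrict_conjFun N hχcl a⁻¹ θ]
        exact hm
      exact_mod_cast h1
  have hmult_out : ∀ ψ : IrrCharacter N, ψ ∉ Finset.univ.image F →
      Cfsg.Agent.Lib.Helper83.irrMult χN ψ = 0 := by
    intro ψ hψ
    by_contra h0
    apply hψ
    have h1 : classInner χN (ψ : N → ℂ) ≠ 0 := by
      rw [← Cfsg.Agent.Lib.Helper83.irrMult_cast hχN]
      exact_mod_cast h0
    obtain ⟨g, hg⟩ := Cfsg.Agent.Lib.Helper84.clifford_exists_conj N hχ hθ ψ.2 hcon h1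
    rw [Finset.mem_image]
    refine ⟨QuotientGroup.mk g⁻¹, Finset.mem_univ _, ?_⟩
    apply Subtype.ext
    rw [hFmk, inv_inv]
    exact hg
  have hsum : ∑ ψ : IrrCharacter N, ((Cfsg.Agent.Lib.Helper83.irrMult χN ψ : ℕ) : ℂ) ^ 2 =
      (T.index : ℂ) * (m : ℂ) ^ 2 := by
    rw [← Finset.sum_subset (Finset.subset_univ (Finset.univ.image F))
      (fun ψ _ hψ => by rw [hmult_out ψ hψ]; simp)]
    rw [Finset.sum_image (fun a _ b _ h => hFinj h)]
    simp only [hmult_in]
    rw [Finset.sum_const, Finset.card_univ, nsmul_eq_mul, Subgroup.index,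
      Nat.card_eq_fintype_card]
  refine ⟨m, T.index, ?_, ?_⟩
  · rw [hnorm2, hsum] at hnorm
    have : ((m ^ 2 * T.index : ℕ) : ℂ) = ((N.index : ℕ) : ℂ) := by
      push_cast
      rw [← hnorm]
      ring
    exact_mod_cast this
  · -- the degree
    have h1 := congrFun hdec 1
    have hconj1 : ∀ g : G, Cfsg.Agent.Lib.Helper84.conjFun N g θ 1 = θ 1 := by
      intro g
      rw [Cfsg.Agent.Lib.Helper84.conjFun_apply]
      congr 1
      apply Subtype.ext
      simp
    have h2 : χ 1 = χN 1 := rfl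
    rw [h2, h1]
    simp only [Finset.sum_apply, Pi.smul_apply]
    rw [← Finset.sum_subset (Finset.subset_univ (Finset.univ.image F))
      (fun ψ _ hψ => by rw [hmult_out ψ hψ]; simp)]
    rw [Finset.sum_image (fun a _ b _ h => hFinj h)]
    have h3 : ∀ q : G ⧸ T, (F q : N → ℂ) 1 = θ 1 := by
      intro q
      induction q using QuotientGroup.induction_on with
      | H a => rw [hFmk]; exact hconj1 a⁻¹
    simp only [hmult_in, h3]
    rw [Finset.sum_const, Finset.card_univ, Subgroup.index, Nat.card_eq_fintype_card]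
    simp only [nsmul_eq_mul, smul_eq_mul]
    ring

section TwelveFour

variable {G : Type u} [Group G] [Finite G] (K N : Subgroup G) [hK : K.Normal] [hN : N.Normal]

/-- 446029 K-CD3-VAN: if every linear character of `N` trivial on `K` fixes `ψ` under multiplication,
then `ψ` vanishes off `K`, `[ψ_K, ψ_K] = |N : K|`, and Clifford for `K ⊴ N` gives `r ∣ ψ 1`. -/
theorem dvd_degree_of_twist_invariant (hKN : K ≤ N)
    (hNK : ∀ x ∈ N, ∀ y ∈ N, x * y * x⁻¹ * y⁻¹ ∈ K) {r : ℕ} (hr : r.Prime)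
    (hidx : ∃ a : ℕ, 0 < a ∧ K.relIndex N = r ^ a)
    {ψ : N → ℂ} (hψ : IsIrrCharacter N ψ)
    (hinv : ∀ μ : N → ℂ, IsIrrCharacter N μ → μ 1 = 1 → (∀ k : N, (k : G) ∈ K → μ k = 1) → ψ * μ = ψ) :
    r ∣ charDegree ψ := by
  classical
  have : Fintype G := Fintype.ofFinite G
  have : Fintype N := Fintype.ofFinite N
  set K' : Subgroup N := K.subgroupOf N with hK'
  have hK'n : K'.Normal := by rw [hK']; infer_instance
  have : Fintype K' := Fintype.ofFinite K'
  have hcomm : ∀ a b : N ⧸ K', a * b = b * a := by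
    intro a b
    induction a using QuotientGroup.induction_on with
    | H x =>
      induction b using QuotientGroup.induction_on with
      | H y =>
        rw [← QuotientGroup.mk_mul, ← QuotientGroup.mk_mul]
        apply QuotientGroup.eq.mpr
        rw [hK', Subgroup.mem_subgroupOf]
        have h1 := hNK (y : G)⁻¹ (N.inv_mem y.2) (x : G)⁻¹ (N.inv_mem x.2)
        rw [inv_inv, inv_inv] at h1
        have h2 : (((x * y)⁻¹ * (y * x) : N) : G) = (y : G)⁻¹ * (x : G)⁻¹ * (y : G) * (x : G) := by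
          simp only [Subgroup.coe_mul, Subgroup.coe_inv, mul_inv_rev, mul_assoc]
        rw [h2]
        exact h1
  -- `ψ` vanishes off `K'`
  have hvan : ∀ x : N, x ∉ K' → ψ x = 0 := by
    intro x hx
    have hne : (QuotientGroup.mk x : N ⧸ K') ≠ 1 := by
      intro h
      exact hx ((QuotientGroup.eq_one_iff x).1 h)
    obtain ⟨φ, hφ⟩ := Cfsg.Agent.Lib.Helper83.exists_irr_ne_of_ne_one hne
    have hφ1 := Cfsg.Agent.Lib.Helper83.irr_degree_one_of_comm hcomm φ
    set μ : N → ℂ := ((Cfsg.Agent.Lib.Helper83.irrInflate K' φ).1 : N → ℂ) with hμ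
    have hμirr : IsIrrCharacter N μ := (Cfsg.Agent.Lib.Helper83.irrInflate K' φ).1.2
    have hμ1 : μ 1 = 1 := by
      rw [hμ, Cfsg.Agent.Lib.Helper83.irrInflate_apply, QuotientGroup.mk_one]; exact hφ1
    have hμK : ∀ k : N, (k : G) ∈ K → μ k = 1 := by
      intro k hk
      have := (Cfsg.Agent.Lib.Helper83.irrInflate K' φ).2 k (by rw [hK', Subgroup.mem_subgroupOf]; exact hk)
      rw [← hμ] at this
      rw [this, hμ1]
    have hμx : μ x ≠ 1 := by
      rw [hμ, Cfsg.Agent.Lib.Helper83.irrInflate_apply]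
      rw [hφ1] at hφ
      exact hφ
    have h1 := congrFun (hinv μ hμirr hμ1 hμK) x
    rw [Pi.mul_apply] at h1
    have h2 : ψ x * (μ x - 1) = 0 := by rw [mul_sub, h1, mul_one, sub_self]
    rcases mul_eq_zero.1 h2 with h | h
    · exact h
    · exact absurd (sub_eq_zero.1 h) hμx
  -- a constituent of the restriction
  have hψc : IsCharacter N ψ := Cfsg.Agent.Lib.Helper83.isCharacter_of_irr hψ
  have hres : IsCharacter K' (fun k : K' => ψ k) := Cfsg.Agent.Lib.Helper83.isCharacter_restrict K' hψc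
  have hψ1 : ψ 1 ≠ 0 := Cfsg.Agent.Lib.Helper83.irr_degree_ne_zero ⟨ψ, hψ⟩
  obtain ⟨θ, hθ⟩ := Cfsg.Agent.Lib.Helper83.exists_constituent hres (by simpa using hψ1)
  obtain ⟨m, t, hmt, hdeg⟩ := clifford_count_of_vanish K' hψ hvan θ.2 hθ
  obtain ⟨a, ha, hidx'⟩ := hidx
  have hidx2 : K'.index = r ^ a := by rw [hK']; exact hidx'
  rw [hidx2] at hmt
  have hθd := Cfsg.Agent.Lib.Helper83.charDegree_cast (Cfsg.Agent.Lib.Helper83.IrrCharacter_isCharacter θ)
  have hψd := Cfsg.Agent.Lib.Helper83.charDegree_cast hψc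
  have hnat : charDegree ψ = m * t * charDegree (θ : K' → ℂ) := by
    apply Nat.cast_injective (R := ℂ)
    push_cast
    rw [hψd, hθd, hdeg]
  have hrd : r ∣ m ^ 2 * t := by
    rw [hmt]; exact dvd_pow_self r ha.ne'
  rw [hnat]
  rcases (Nat.Prime.dvd_mul hr).1 hrd with h | h
  · have := hr.dvd_of_dvd_pow h
    exact Dvd.dvd.mul_right (Dvd.dvd.mul_right this t) _
  · exact Dvd.dvd.mul_right (Dvd.dvd.mul_left h m) _

end TwelveFour

end Cfsg.Agent.Lib.Helper13.CD3
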