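import Mathlib
import Cfsg.Agent.Lib.Helper13.MinNormal

set_option autoImplicit false

namespace Cfsg.Agent.Lib.Helper13

variable {G : Type*} [Group G]

lemma IsMinNormal.commutator_eq_bot [Group.IsSolvable G] {N : Subgroup G} (hN : IsMinNormal N) :
    ⁅N, N⁆ = ⊥ := by
  obtain ⟨hNn, hNne, hNmin⟩ := hN
  have h1 : ⁅N, N⁆ < N := Group.IsSolvable.commutator_lt_of_ne_bot hNne
  have h2 : (⁅N, N⁆).Normal := Subgroup.commutator_normal N N
  rcases hNmin _ h2 h1.le with h | h
  · exact h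
  · exact absurd h h1.ne

lemma IsMinNormal.mul_comm_of_mem [Group.IsSolvable G] {N : Subgroup G} (hN : IsMinNormal N)
    {a b : G} (ha : a ∈ N) (hb : b ∈ N) : a * b = b * a := by
  have h1 : N ≤ Subgroup.centralizer (N : Set G) :=
    Subgroup.commutator_eq_bot_iff_le_centralizer.mp hN.commutator_eq_bot
  exact (h1 ha b hb).symm

/-- A minimal normal subgroup of a finite solvable group is an elementary abelian `p`-group. -/
lemma IsMinNormal.exists_prime [Finite G] [Group.IsSolvable G] {N : Subgroup G}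
    (hN : IsMinNormal N) :
    ∃ p : ℕ, p.Prime ∧ p ∣ Nat.card N ∧ (∀ x ∈ N, x ^ p = 1) ∧ IsPGroup p N := by
  have hNn : N.Normal := hN.1
  have hcard : Nat.card N ≠ 1 := fun h => hN.2.1 (Subgroup.card_eq_one.mp h)
  obtain ⟨p, hp, hpd⟩ := Nat.exists_prime_and_dvd hcard
  haveI : Fact p.Prime := ⟨hp⟩
  -- the subgroup of elements of order dividing p
  let Ω : Subgroup G :=
    { carrier := {x | x ∈ N ∧ x ^ p = 1}
      mul_mem' := by
        rintro a b ⟨ha, ha'⟩ ⟨hb, hb'⟩
        refine ⟨N.mul_mem ha hb, ?_⟩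
        rw [(Commute.mul_pow (hN.mul_comm_of_mem ha hb)), ha', hb', one_mul]
      one_mem' := ⟨N.one_mem, one_pow _⟩
      inv_mem' := by
        rintro a ⟨ha, ha'⟩
        exact ⟨N.inv_mem ha, by rw [inv_pow, ha', inv_one]⟩ }
  have hΩn : Ω.Normal := by
    refine ⟨fun x hx g => ⟨hNn.conj_mem x hx.1 g, ?_⟩⟩
    rw [conj_pow, hx.2, mul_one, mul_inv_cancel]
  have hΩle : Ω ≤ N := fun x hx => hx.1
  have hΩne : Ω ≠ ⊥ := by
    obtain ⟨x, hx⟩ := exists_prime_orderOf_dvd_card' (G := N) p hpd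
    intro h
    have h1 : (x : G) ∈ Ω := by
      refine ⟨x.2, ?_⟩
      have : x ^ p = 1 := by rw [← hx]; exact pow_orderOf_eq_one x
      have := congrArg (Subtype.val) this
      simpa using this
    rw [h, Subgroup.mem_bot] at h1
    have h2 : x = 1 := Subtype.ext h1
    rw [h2, orderOf_one] at hx
    exact hp.one_lt.ne hx
  have hΩN : Ω = N := (hN.2.2 Ω hΩn hΩle).resolve_left hΩne
  have hpow : ∀ x ∈ N, x ^ p = 1 := by
    intro x hx
    rw [← hΩN] at hx
    exact hx.2
  refine ⟨p, hp, hpd, hpow, ?_⟩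
  intro x
  refine ⟨1, ?_⟩
  rw [pow_one]
  exact Subtype.ext (by simpa using hpow x x.2)

end Cfsg.Agent.Lib.Helper13
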