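import Mathlib
import Cfsg.Agent.S1365
import Cfsg.Agent.S1375
import Cfsg.Agent.S1414
import Cfsg.Agent.S1420
import Cfsg.Agent.S1423
import Cfsg.Agent.S1429
import Cfsg.Agent.Lib.Helper13.BG147Ks
import Cfsg.Agent.Lib.Helper13.BG127
import Cfsg.Agent.Lib.Helper14.NilpHall
import Cfsg.Agent.Lib.Helper78.BG15KPrime
import Cfsg.Agent.Lib.Helper11.BG144Glue
import Cfsg.Agent.Lib.Helper31.BenderFit
import Cfsg.Agent.Lib.Helper55.Uniq2
import Cfsg.Agent.Lib.Helper55.Uniq3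
import Cfsg.Agent.Lib.Helper54.BG134A3a
import Cfsg.Agent.Lib.Helper31.BG15KA
import Cfsg.Agent.Lib.Helper90.BG14DW1
import Cfsg.Agent.Lib.Helper16.BG134Base
import Cfsg.Agent.Lib.Helper64.BG14K
import Cfsg.Agent.Lib.Helper71.BG10Hall

/-!
# S1372: a maximal subgroup of type `P₂` (`K ≠ 1`, `U ≠ 1`): `|K|` prime, `F(M)` is a TI-subset, `M_σ ≤ F(M)` (helper13)

* `centralizer_le_of_P2` (CLAIM A): `C_G(x) ≤ M` for every `x ∈ M_σ - 1` (no supporting subgroups).
* `fittingOf_TI_of_P2` (CLAIM B): `F(M)` is a TI-subset of `G`.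
-/

set_option autoImplicit false
set_option linter.style.haveILetI false
set_option linter.unusedVariables false
set_option linter.unusedSectionVars false

namespace Cfsg.Agent.Lib.Helper13.BG1372

open Cfsg Subgroup Cfsg.Agent.Lib.Helper55 Cfsg.Agent.Lib.Helper11.BG14D Cfsg.Agent.Lib.Helper13.BG147

variable {G : Type*} [Group G] [Finite G]

/-! ### Pure group theory -/

/-- if `g ^ m ∈ H`, `g ^ n = 1` and `m`, `n` are coprime then `g ∈ H` -/
theorem mem_of_pow_mem_of_coprime {H : Subgroup G} {g : G} {m n : ℕ} (hm : g ^ m ∈ H)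
    (hn : g ^ n = 1) (hcop : m.Coprime n) : g ∈ H := by
  have h1 : (g ^ m) ^ (Nat.gcdA m n) * (g ^ n) ^ (Nat.gcdB m n) = g := by
    have hb := Nat.gcd_eq_gcd_ab m n
    rw [hcop.gcd_eq_one] at hb
    rw [← zpow_natCast g m, ← zpow_natCast g n, ← zpow_mul, ← zpow_mul, ← zpow_add]
    have : (m : ℤ) * Nat.gcdA m n + (n : ℤ) * Nat.gcdB m n = 1 := by
      rw [← hb]; simp
    rw [this, zpow_one]
  rw [← h1, hn, one_zpow, mul_one]
  exact H.zpow_mem hm _

/-- an element of prime order `s` with `s ∈ σ(M)` of `M` lies in `M_σ` -/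
theorem mem_sigmaCore_of_orderOf (hG : IsMinSimpleOddOrder G) {M : Subgroup G} (hM : IsCoatom M)
    {s : ℕ} (hs : s.Prime) (hsσ : s ∈ sigma M) {y : G} (hyM : y ∈ M) (hy : orderOf y = s) :
    y ∈ sigmaCore M := by
  haveI : Fact s.Prime := ⟨hs⟩
  have hQ : IsPGroup s (zpowers y) := by
    apply IsPGroup.of_card (n := 1)
    rw [Nat.card_zpowers, hy, pow_one]
  exact Cfsg.Agent.Lib.Helper13.BG127.pgroup_le_sigmaCore hG hM hsσ (zpowers_le.mpr hyM) hQ
    (mem_zpowers y)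

/-- a power of prime order -/
theorem exists_pow_prime_order {x : G} (hx1 : x ≠ 1) :
    ∃ q : ℕ, q.Prime ∧ ∃ j : ℕ, orderOf (x ^ j) = q := by
  have ho : orderOf x ≠ 1 := fun h => hx1 (orderOf_eq_one_iff.mp h)
  obtain ⟨q, hq, hqd⟩ := Nat.exists_prime_and_dvd ho
  exact ⟨q, hq, orderOf x / q, orderOf_pow_orderOf_div (orderOf_pos x).ne' hqd⟩

/-! ### CLAIM A -/

/-- STEP 1: if `M_σ` is nilpotent of order `|K*| ^ n` and some `x ∈ M_σ` of prime order `q` has `C_G(x) ⊄ M`,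
then `M_σ` is a `q`-group. -/
theorem isPGroup_sigmaCore_of_cent_not_le (hG : IsMinSimpleOddOrder G) {M K : Subgroup G}
    (hM : IsCoatom M) (hK : IsPiHallOf (kappa M) K M) (hK1 : K ≠ ⊥) (hKs1 : Ks M K ≠ ⊥)
    (hnil : Group.IsNilpotent (sigmaCore M)) {n : ℕ}
    (hcard : Nat.card (sigmaCore M) = Nat.card (Ks M K) ^ n)
    {x : G} (hx : x ∈ sigmaCore M) {q : ℕ} (hq : q.Prime) (hxo : orderOf x = q)
    (hnot : ¬ centralizer ({x} : Set G) ≤ M) : IsPGroup q (sigmaCore M) := by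
  haveI : Fact q.Prime := ⟨hq⟩
  have hx1 : x ≠ 1 := by
    intro h
    rw [h, orderOf_one] at hxo
    exact hq.one_lt.ne hxo
  obtain ⟨N, ⟨hN, hCN⟩, -⟩ := Cfsg.Agent.S1375.result hG M hM x hx hx1 hnot
  have hNM : N ≠ M := fun h => hnot (h ▸ hCN)
  obtain ⟨-, -, h3, -⟩ := Cfsg.Agent.S1431.result hG M hM K hK hK1
  have hall : ∀ s : ℕ, s.Prime → s ∣ Nat.card (Ks M K) → s = q := by
    intro s hs hsd
    by_contra hsq
    haveI : Fact s.Prime := ⟨hs⟩
    obtain ⟨S⟩ := (inferInstance : Nonempty (Sylow s ↥(sigmaCore M)))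
    obtain ⟨hU, hSM, -⟩ := h3 s hs hsd S
    have hSN : (S : Subgroup ↥(sigmaCore M)).map (sigmaCore M).subtype ≤ N := by
      rintro t ⟨t', ht', rfl⟩
      apply hCN
      rw [Subgroup.mem_centralizer_iff]
      intro w hw
      rw [Set.mem_singleton_iff] at hw
      subst hw
      -- `t'` is an `s`-element, `x` a `q`-element of the nilpotent `M_σ`
      have hto : ∃ k : ℕ, orderOf t' = s ^ k := by
        obtain ⟨k, hk⟩ := (IsPGroup.iff_orderOf.mp S.2) ⟨t', ht'⟩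
        refine ⟨k, ?_⟩
        rw [Subgroup.orderOf_mk] at hk
        exact hk
      obtain ⟨k, hk⟩ := hto
      have hxo' : orderOf (⟨w, hx⟩ : sigmaCore M) = q := by rw [Subgroup.orderOf_mk]; exact hxo
      have hcop : (orderOf (⟨w, hx⟩ : sigmaCore M)).Coprime (orderOf t') := by
        rw [hxo', hk]
        exact Nat.Coprime.pow_right k ((Nat.coprime_primes hq hs).mpr (Ne.symm hsq))
      have := Cfsg.Agent.Lib.Helper14.commute_of_coprime_orderOf (sigmaCore M) ⟨w, hx⟩ t' hcop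
      exact congrArg Subtype.val this.eq
    obtain ⟨L, -, hLu⟩ := hU
    have e1 := hLu M ⟨hM, hSM⟩
    have e2 := hLu N ⟨hN, hSN⟩
    exact hNM (e2.trans e1.symm)
  have hKs0 : Nat.card (Ks M K) ≠ 0 := Nat.card_pos.ne'
  obtain ⟨a, ha⟩ : ∃ a : ℕ, Nat.card (Ks M K) = q ^ a :=
    ⟨_, Nat.eq_prime_pow_of_unique_prime_dvd hKs0 (fun {d} hd hdd => hall d hd hdd)⟩
  apply IsPGroup.of_card (n := a * n)
  rw [hcard, ha, ← pow_mul]

/-- STEP 2: if `M_σ ≠ 1` is a `q`-group and `U ≠ 1`, then `q ∈ β(M)` (else `M' = M_σ U` has a normal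
`q`-complement, which centralizes `M_σ`, against S1429). -/
theorem mem_beta_of_isPGroup (hG : IsMinSimpleOddOrder G) {M K U : Subgroup G} (hM : IsCoatom M)
    (hKU : IsSigmaDecomposition M K U) (hK1 : K ≠ ⊥) (hU1 : U ≠ ⊥) {q : ℕ} (hq : q.Prime)
    (hQ : IsPGroup q (sigmaCore M)) (hσ1 : sigmaCore M ≠ ⊥) : q ∈ beta M := by
  by_contra hβ
  haveI : Fact q.Prime := ⟨hq⟩
  have hσM : sigmaCore M ≤ M := Cfsg.Agent.Lib.Helper71.BG11.sigmaCore_le M
  have hqσ : q ∣ Nat.card (sigmaCore M) := Cfsg.Agent.Lib.Helper55.ms_prime_dvd_card hG hQ hσ1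
  have hqM : q ∣ Nat.card M := hqσ.trans (Subgroup.card_dvd_of_le hσM)
  have hqσM : q ∈ sigma M := Cfsg.Agent.Lib.Helper71.BG11.sigmaCore_pi hG hM hq hqσ
  obtain ⟨⟨P, N0, hN0n, hN0c⟩, -, -⟩ := (Cfsg.Agent.S1414.result hG M hM).2.2.2.2 q hq hqM hβ
  have hder := (Cfsg.Agent.S1365.result hG M hM K U hKU hK1).1
  have hUM : U ≤ M := hKU.compl.1
  -- a prime `r` of `|U|`
  have hUcard : 1 < Nat.card U := (Subgroup.one_lt_card_iff_ne_bot (H := U)).mpr hU1
  obtain ⟨r, hr, hrU⟩ := Nat.exists_prime_and_dvd (ne_of_gt hUcard)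
  haveI : Fact r.Prime := ⟨hr⟩
  have hHall : IsPiHallOf (sigma M) (sigmaCore M) M := Cfsg.Agent.Lib.Helper16.BG134.hall_sigma hG hM
  have hE := Cfsg.Agent.Lib.Helper31.BG15.isComplIn_sup_of_sigmaDecomposition hG hM hKU
  have hrE : r ∣ Nat.card ↥(U ⊔ K) := hrU.trans (Subgroup.card_dvd_of_le le_sup_left)
  have hrσ : r ∉ sigma M :=
    Cfsg.Agent.Lib.Helper13.BG12.complIn_prime_not_mem_sigma hHall hE r hr hrE
  have hrκ : r ∉ kappa M := Cfsg.Agent.Lib.Helper31.BG15.not_mem_kappa_of_dvd_card hKU hr hrU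
  have hrM : r ∣ Nat.card M := hrU.trans (Subgroup.card_dvd_of_le hUM)
  have hqr : q ≠ r := fun h => hrσ (h ▸ hqσM)
  -- a Sylow `r`-subgroup of `M` inside `U`
  have hidx : ¬ r ∣ U.relIndex M := by
    intro hd
    have h1 : Nat.card U * U.relIndex M = Nat.card M :=
      Cfsg.Agent.Lib.Helper90.BG14D.card_mul_relIndex hUM
    have h2 := Cfsg.Agent.Lib.Helper31.IsComplIn.card_mul hKU.compl
    have h3 : U.relIndex M = Nat.card ↥(K ⊔ sigmaCore M) :=
      Nat.eq_of_mul_eq_mul_left Nat.card_pos (h1.trans h2.symm)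
    rw [h3] at hd
    -- `|K ⊔ M_σ|` divides `|K| |M_σ|`
    have hKn : K ≤ normalizer (sigmaCore M : Set G) :=
      hKU.hall.1.trans (Cfsg.Agent.Lib.Helper71.BG11.le_normalizer_sigmaCore M)
    have hcop : (Nat.card K).Coprime (Nat.card ↥(sigmaCore M)) := by
      apply Nat.coprime_of_dvd
      intro p hp h1 h2
      exact (hKU.hall.2.1 p hp h1).2.2.1 (Cfsg.Agent.Lib.Helper71.BG11.sigmaCore_pi hG hM hp h2)
    have hinf : sigmaCore M ⊓ K = ⊥ := by
      rw [inf_comm]; exact (Subgroup.disjoint_of_coprime_natCard hcop).eq_bot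
    have hc : Nat.card ↥(K ⊔ sigmaCore M) = Nat.card ↥(sigmaCore M) * Nat.card K := by
      rw [sup_comm]
      exact Cfsg.Agent.Lib.Helper90.BG14D.card_sup_of_le_normalizer hKn hinf
    rw [hc] at hd
    rcases (Nat.Prime.dvd_mul hr).mp hd with h | h
    · exact hrσ (Cfsg.Agent.Lib.Helper71.BG11.sigmaCore_pi hG hM hr h)
    · exact hrκ (hKU.hall.2.1 r hr h)
  obtain ⟨S, hSU⟩ := Cfsg.Agent.Lib.Helper78.BG15.exists_sylow_map_le hUM hidx
  -- S1429
  have hP1 : ¬ ∀ q' : ℕ, q'.Prime → q' ∣ Nat.card M → q' ∉ sigma M → q' ∈ kappa M :=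
    fun h => hrκ (h r hr hrM hrσ)
  have hrn : r ∉ sigma M ∪ kappa M := by
    rintro (h | h)
    · exact hrσ h
    · exact hrκ h
  obtain ⟨-, hΩ, -⟩ := Cfsg.Agent.S1429.result hG M hM hP1 r hrM hrn S
  -- inside `M' = U M_σ`
  have hUD : U ≤ ⁅M, M⁆ := by rw [hder]; exact le_sup_left
  have hσD : sigmaCore M ≤ ⁅M, M⁆ := by rw [hder]; exact le_sup_right
  have hDM : ⁅M, M⁆ ≤ M := by rw [hder]; exact sup_le hUM hσM
  haveI : N0.Normal := hN0n
  have hQdn : ((sigmaCore M).subgroupOf ⁅M, M⁆).Normal :=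
    (Subgroup.normal_subgroupOf_iff_le_normalizer hσD).2
      (hDM.trans (Cfsg.Agent.Lib.Helper71.BG11.le_normalizer_sigmaCore M))
  have hidxN0 : N0.index = Nat.card (P : Subgroup ↥⁅M, M⁆) := hN0c.symm.index_eq_card
  obtain ⟨k, hk⟩ := IsPGroup.iff_card.mp P.2
  -- `q ∤ |N0|`
  have hqN0 : ¬ q ∣ Nat.card N0 := by
    intro hd
    have h1 : Nat.card N0 * Nat.card (P : Subgroup ↥⁅M, M⁆) = Nat.card ↥⁅M, M⁆ := hN0c.card_mul
    have h2 : Nat.card (P : Subgroup ↥⁅M, M⁆) = q ^ (Nat.card ↥⁅M, M⁆).factorization q :=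
      P.card_eq_multiplicity
    have h0 := Nat.pow_succ_factorization_not_dvd (Nat.card_pos (α := ↥⁅M, M⁆)).ne' hq
    generalize (Nat.card ↥⁅M, M⁆).factorization q = v at h2 h0
    apply h0
    obtain ⟨c, hc⟩ := hd
    refine ⟨c, ?_⟩
    rw [← h1, h2, hc, pow_succ]
    ring
  have hcardQd : Nat.card ((sigmaCore M).subgroupOf ⁅M, M⁆) = Nat.card (sigmaCore M) :=
    Nat.card_congr (Subgroup.subgroupOfEquivOfLe hσD).toEquiv
  obtain ⟨a, ha⟩ := IsPGroup.iff_card.mp hQ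
  have hdisj : (sigmaCore M).subgroupOf ⁅M, M⁆ ⊓ N0 = ⊥ := by
    have hcop : (Nat.card ((sigmaCore M).subgroupOf ⁅M, M⁆)).Coprime (Nat.card N0) := by
      rw [hcardQd, ha]
      exact Nat.Coprime.pow_left a ((Nat.Prime.coprime_iff_not_dvd hq).mpr hqN0)
    exact (Subgroup.disjoint_of_coprime_natCard hcop).eq_bot
  -- the generators of `Ω₁(S)` centralize `M_σ`
  have hgen : ∀ x : G, x ∈ (S : Subgroup M).map M.subtype → x ^ r = 1 →
      ∀ y ∈ sigmaCore M, y * x = x * y := by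
    intro x hxS hxr y hy
    have hxN0 : (⟨x, hUD (hSU hxS)⟩ : ↥⁅M, M⁆) ∈ N0 := by
      apply mem_of_pow_mem_of_coprime (m := N0.index) (n := r)
      · exact Subgroup.pow_index_mem N0 _
      · exact Subtype.ext hxr
      · rw [hidxN0, hk]
        exact Nat.Coprime.pow_left k ((Nat.coprime_primes hq hr).mpr hqr)
    have hyQ : (⟨y, hσD hy⟩ : ↥⁅M, M⁆) ∈ (sigmaCore M).subgroupOf ⁅M, M⁆ :=
      Subgroup.mem_subgroupOf.mpr hy
    set xd : ↥⁅M, M⁆ := ⟨x, hUD (hSU hxS)⟩ with hxd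
    set yd : ↥⁅M, M⁆ := ⟨y, hσD hy⟩ with hyd
    have h1 : yd * xd * yd⁻¹ * xd⁻¹ ∈ N0 :=
      N0.mul_mem (hN0n.conj_mem xd hxN0 yd) (N0.inv_mem hxN0)
    have h2 : yd * xd * yd⁻¹ * xd⁻¹ ∈ (sigmaCore M).subgroupOf ⁅M, M⁆ := by
      have e : yd * xd * yd⁻¹ * xd⁻¹ = yd * (xd * yd⁻¹ * xd⁻¹) := by group
      rw [e]
      exact Subgroup.mul_mem _ hyQ (hQdn.conj_mem yd⁻¹ (Subgroup.inv_mem _ hyQ) xd)
    have h3 : yd * xd * yd⁻¹ * xd⁻¹ ∈ (sigmaCore M).subgroupOf ⁅M, M⁆ ⊓ N0 := ⟨h2, h1⟩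
    rw [hdisj, Subgroup.mem_bot] at h3
    have h4 : yd * xd = xd * yd := by
      calc yd * xd = (yd * xd * yd⁻¹ * xd⁻¹) * (xd * yd) := by group
        _ = xd * yd := by rw [h3, one_mul]
    exact congrArg Subtype.val h4
  apply hσ1
  rw [eq_bot_iff, ← hΩ]
  refine le_inf le_rfl ?_
  intro y hy
  have hcl : closure {x : G | x ∈ (S : Subgroup M).map M.subtype ∧ x ^ r = 1} ≤
      centralizer ({y} : Set G) := by
    rw [Subgroup.closure_le]
    intro x hx
    rw [SetLike.mem_coe, Subgroup.mem_centralizer_iff]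
    intro z hz
    rw [Set.mem_singleton_iff] at hz
    subst hz
    exact hgen x hx.1 hx.2 z hy
  rw [Subgroup.mem_centralizer_iff]
  intro w hw
  have := hcl hw
  rw [Subgroup.mem_centralizer_iff] at this
  exact (this y rfl).symm

/-- **CLAIM A**: a maximal subgroup of type `P₂` has no supporting subgroups: `C_G(x) ≤ M` for all `x ∈ M_σ - 1`. -/
theorem centralizer_le_of_P2 (hG : IsMinSimpleOddOrder G) {M K U : Subgroup G} (hM : IsCoatom M)
    (hKU : IsSigmaDecomposition M K U) (hK1 : K ≠ ⊥) (hU1 : U ≠ ⊥) {x : G} (hx : x ∈ sigmaCore M)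
    (hx1 : x ≠ 1) : centralizer ({x} : Set G) ≤ M := by
  obtain ⟨-, hcard, hnil⟩ :=
    Cfsg.Agent.Lib.Helper78.BG15.card_prime_of_sigmaDecomposition hG hM hKU hK1 hU1
  have hKs1 : Ks M K ≠ ⊥ := (Cfsg.Agent.S1354.result hG M hM K hKU.cyclic hKU.hall).1
  have hσ1 : sigmaCore M ≠ ⊥ := by
    intro h
    apply hKs1
    rw [eq_bot_iff, ← h]
    exact inf_le_left
  obtain ⟨q, hq, j, hj⟩ := exists_pow_prime_order hx1
  haveI : Fact q.Prime := ⟨hq⟩
  have hxj : x ^ j ∈ sigmaCore M := Subgroup.pow_mem _ hx j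
  have hle : centralizer ({x} : Set G) ≤ centralizer ({x ^ j} : Set G) := by
    intro w hw
    rw [Subgroup.mem_centralizer_iff] at hw ⊢
    intro z hz
    rw [Set.mem_singleton_iff] at hz
    subst hz
    have hc : Commute x w := hw x rfl
    exact (hc.pow_left j).eq
  refine hle.trans ?_
  by_contra hnot
  have hQ := isPGroup_sigmaCore_of_cent_not_le hG hM hKU.hall hK1 hKs1 hnil hcard hxj hq hj hnot
  have hβ := mem_beta_of_isPGroup hG hM hKU hK1 hU1 hq hQ hσ1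
  have hqσ : q ∈ sigma M := by
    apply Cfsg.Agent.Lib.Helper71.BG11.sigmaCore_pi hG hM hq
    rw [← hj]
    have := orderOf_dvd_natCard (⟨x ^ j, hxj⟩ : sigmaCore M)
    rwa [Subgroup.orderOf_mk] at this
  obtain ⟨P⟩ := (inferInstance : Nonempty (Sylow q ↥(sigmaCore M)))
  have hXM : zpowers (x ^ j) ≤ M :=
    zpowers_le.mpr (Cfsg.Agent.Lib.Helper71.BG11.sigmaCore_le M hxj)
  have hXc : Nat.card (zpowers (x ^ j)) = q := by rw [Nat.card_zpowers]; exact hj
  have h := (Cfsg.Agent.S1423.result hG M hM q hqσ (zpowers (x ^ j)) hXM hXc P (Or.inl hβ)).1.1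
  rw [centralizer_zpowers_eq] at h
  exact hnot h

/-! ### CLAIM B -/

/-- an element of prime order `s ∉ σ(M)` of `M` that centralizes `M_σ ≠ 1` (type `P₂`) is a `τ₂(M)`-element of
`sigmaHat M`, hence `M` is the only maximal subgroup over its centralizer (S1420). -/
theorem uniq_of_cent_sigmaCore (hG : IsMinSimpleOddOrder G) {M K U : Subgroup G} (hM : IsCoatom M)
    (hKU : IsSigmaDecomposition M K U) (hK1 : K ≠ ⊥) {s : ℕ} (hs : s.Prime) (hsσ : s ∉ sigma M)
    {y : G} (hyM : y ∈ M) (hyo : orderOf y = s) (hyc : ∀ z ∈ sigmaCore M, y * z = z * y) :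
    centralizer ({y} : Set G) ≤ M ∧
      ∀ L : Subgroup G, IsCoatom L → centralizer ({y} : Set G) ≤ L → L = M := by
  haveI : Fact s.Prime := ⟨hs⟩
  have hKs1 : Ks M K ≠ ⊥ := (Cfsg.Agent.S1354.result hG M hM K hKU.cyclic hKU.hall).1
  have hσ1 : sigmaCore M ≠ ⊥ := by
    intro h
    apply hKs1
    rw [eq_bot_iff, ← h]
    exact inf_le_left
  have hy1 : y ≠ 1 := by
    intro h
    rw [h, orderOf_one] at hyo
    exact hs.one_lt.ne hyo
  have hRM : zpowers y ≤ M := zpowers_le.mpr hyM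
  have hRc : Nat.card (zpowers y) = s := by rw [Nat.card_zpowers]; exact hyo
  have hsM : s ∣ Nat.card M := by
    rw [← hRc]; exact Subgroup.card_dvd_of_le hRM
  have hcent : sigmaCore M ≤ centralizer ((zpowers y : Subgroup G) : Set G) := by
    intro z hz
    rw [centralizer_zpowers_eq, Subgroup.mem_centralizer_iff]
    intro w hw
    rw [Set.mem_singleton_iff] at hw
    subst hw
    exact hyc z hz
  have hC : sigmaCore M ⊓ centralizer ((zpowers y : Subgroup G) : Set G) ≠ ⊥ := by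
    rw [inf_eq_left.mpr hcent]; exact hσ1
  -- `s ∈ τ₂(M)`
  have hτ : s ∈ tau2 M := by
    by_cases h1 : PRankLE s 1 M
    · exfalso
      have hsκ : s ∈ kappa M :=
        Cfsg.Agent.Lib.Helper64.BG14.mem_kappa_of_cent_ne_bot hG hM hs hsM hsσ h1 hRM hRc hC
      -- a Hall `κ(M)`-subgroup `K'` over `<y>`
      have hsolv : Group.IsSolvable ↥M := Cfsg.Agent.Lib.Helper55.ms_solvable hG hM.1
      have hRκ : ∀ p : ℕ, p.Prime → p ∣ Nat.card (zpowers y) → p ∈ kappa M := by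
        intro p hp hpd
        rw [hRc] at hpd
        rw [(Nat.prime_dvd_prime_iff_eq hp hs).mp hpd]
        exact hsκ
      obtain ⟨K', hK', hRK'⟩ :=
        Cfsg.Agent.Lib.Helper54.BG134.exists_isPiHallOf_ge hsolv (kappa M) hRM hRκ
      have hK'1 : K' ≠ ⊥ := by
        intro h
        apply hy1
        have : y ∈ K' := hRK' (mem_zpowers y)
        rwa [h, Subgroup.mem_bot] at this
      have hyK' : y ∈ K' := hRK' (mem_zpowers y)
      have h30 := (Cfsg.Agent.S1430.result hG M hM K' hK' hK'1).1 y hyK' hy1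
      have hKs' : Ks M K' = sigmaCore M := by
        show sigmaCore M ⊓ centralizer (K' : Set G) = sigmaCore M
        rw [← h30, inf_eq_left]
        intro z hz
        rw [Subgroup.mem_centralizer_iff]
        intro w hw
        rw [Set.mem_singleton_iff] at hw
        subst hw
        exact hyc z hz
      have hKs'1 : Ks M K' ≠ ⊥ := by rw [hKs']; exact hσ1
      obtain ⟨a, ha3, ha⟩ := exists_three_le_mul hG hM hK' hK'1 hKs'1
      rw [hKs'] at ha
      have hpos : 0 < Nat.card (sigmaCore M) := Nat.card_pos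
      nlinarith
    · have h2 : PRankLE s 2 M := by
        by_contra h2
        exact hsσ (Cfsg.Agent.Lib.Helper71.BG10.alpha_subset_sigma hG hM ⟨hs, h2⟩)
      exact ⟨hs, hsσ, h2, h1⟩
  have hE := Cfsg.Agent.Lib.Helper31.BG15.isComplIn_sup_of_sigmaDecomposition hG hM hKU
  obtain ⟨z, hz1⟩ := (Subgroup.ne_bot_iff_exists_ne_one).mp hσ1
  have hhat : y ∈ sigmaHat M :=
    ⟨hyM, z, z.2, fun h => hz1 (Subtype.ext h), hyc z z.2⟩
  have h4 := (Cfsg.Agent.S1420.result hG M hM (U ⊔ K) hE).2.2.2 y hyM hy1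
    (fun p hp hpd => by
      rw [hyo] at hpd
      rw [(Nat.prime_dvd_prime_iff_eq hp hs).mp hpd]
      exact hτ) hhat
  exact h4

/-- the order of a conjugate -/
theorem orderOf_conj_eq (g y : G) : orderOf (g * y * g⁻¹) = orderOf y := by
  have h : g * y * g⁻¹ = (MulAut.conj g) y := by simp [MulAut.conj_apply]
  rw [h]
  exact orderOf_injective (MulAut.conj g).toMonoidHom (MulAut.conj g).injective y

/-- `M_σ ≤ F(M)` for `M` of type `P₂`. -/
theorem sigmaCore_le_fittingOf_of_P2 (hG : IsMinSimpleOddOrder G) {M K U : Subgroup G}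
    (hM : IsCoatom M) (hKU : IsSigmaDecomposition M K U) (hK1 : K ≠ ⊥) (hU1 : U ≠ ⊥) :
    sigmaCore M ≤ fittingOf M := by
  obtain ⟨-, -, hnil⟩ :=
    Cfsg.Agent.Lib.Helper78.BG15.card_prime_of_sigmaDecomposition hG hM hKU hK1 hU1
  exact Cfsg.Agent.Lib.Helper13.BG127.le_fittingOf_of_nilpotent
    (Cfsg.Agent.Lib.Helper71.BG11.sigmaCore_le M)
    (Cfsg.Agent.Lib.Helper71.BG11.le_normalizer_sigmaCore M) hnil

/-- **CLAIM B**: `F(M)` is a TI-subset of `G` for `M` of type `P₂`. -/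
theorem fittingOf_TI_of_P2 (hG : IsMinSimpleOddOrder G) {M K U : Subgroup G}
    (hM : IsCoatom M) (hKU : IsSigmaDecomposition M K U) (hK1 : K ≠ ⊥) (hU1 : U ≠ ⊥) :
    IsTISubset (fittingOf M : Set G) := by
  intro g hg x hx hgx
  by_contra hx1
  have hσF := sigmaCore_le_fittingOf_of_P2 hG hM hKU hK1 hU1
  have hFM : fittingOf M ≤ M := Cfsg.Agent.Lib.Helper31.BenderFit.fittingOf_le' M
  have hgM : g ∉ M := fun h => hg (Cfsg.Agent.Lib.Helper31.BenderFit.le_normalizer_fittingOf M h)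
  have hKM : K ≤ M := hKU.hall.1
  have hM1 : M ≠ ⊥ := by
    intro h
    apply hK1
    rw [eq_bot_iff, ← h]
    exact hKM
  have hNM : normalizer (M : Set G) = M :=
    Cfsg.Agent.Lib.Helper55.ms_normalizer_eq hG hM hM1 le_rfl Subgroup.le_normalizer
  -- it suffices to show `cj g M = M`
  suffices hcj : cj g M = M by
    apply hgM
    have := cj_eq_self_iff.mp hcj
    rwa [hNM] at this
  obtain ⟨s, hs, j, hj⟩ := exists_pow_prime_order hx1
  haveI : Fact s.Prime := ⟨hs⟩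
  have hx' : x ∈ fittingOf M := hx
  have hgx' : g * x * g⁻¹ ∈ fittingOf M := hgx
  have hyF : x ^ j ∈ fittingOf M := Subgroup.pow_mem _ hx' j
  have hy'F : g * x ^ j * g⁻¹ ∈ fittingOf M := by
    rw [← conj_pow]
    exact Subgroup.pow_mem _ hgx' j
  have hyM : x ^ j ∈ M := hFM hyF
  have hy'M : g * x ^ j * g⁻¹ ∈ M := hFM hy'F
  have hy'o : orderOf (g * x ^ j * g⁻¹) = s := by rw [orderOf_conj_eq]; exact hj
  have hy'1 : g * x ^ j * g⁻¹ ≠ 1 := by
    intro h
    rw [h, orderOf_one] at hy'o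
    exact hs.one_lt.ne hy'o
  by_cases hsσ : s ∈ sigma M
  · -- `s ∈ σ(M)`: use BG 14.4 transitivity and CLAIM A
    have hy'σ : g * x ^ j * g⁻¹ ∈ sigmaCore M := mem_sigmaCore_of_orderOf hG hM hs hsσ hy'M hy'o
    obtain ⟨c, hc, hcg⟩ := Cfsg.Agent.Lib.Helper11.BG144.hA_main hG M hM (g * x ^ j * g⁻¹) hy'σ hy'1 g
      (conj_mem_cj hyM)
    have hcM : c ∈ M := centralizer_le_of_P2 hG hM hKU hK1 hU1 hy'σ hy'1 hc
    have hcg' : cj c M = cj g M := hcg
    rw [← hcg']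
    exact cj_eq_self_of_mem hcM
  · -- `s ∉ σ(M)`: `y'` centralizes `M_σ`, so `M` is the unique maximal subgroup over `C_G(y')`
    haveI : Group.IsNilpotent ↥(fittingOf M) := Cfsg.Agent.Lib.Helper31.BenderFit.fittingOf_isNilpotent M
    have hcomm : ∀ w : G, w ∈ fittingOf M → orderOf w = s →
        ∀ z ∈ sigmaCore M, w * z = z * w := by
      intro w hw hwo z hz
      have hcop : (orderOf (⟨w, hw⟩ : fittingOf M)).Coprime (orderOf (⟨z, hσF hz⟩ : fittingOf M)) := by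
        rw [Subgroup.orderOf_mk, Subgroup.orderOf_mk, hwo]
        rw [Nat.Prime.coprime_iff_not_dvd hs]
        intro hd
        apply hsσ
        apply Cfsg.Agent.Lib.Helper71.BG11.sigmaCore_pi hG hM hs
        have h1 := orderOf_dvd_natCard (⟨z, hz⟩ : sigmaCore M)
        rw [Subgroup.orderOf_mk] at h1
        exact hd.trans h1
      have := Cfsg.Agent.Lib.Helper14.commute_of_coprime_orderOf (fittingOf M) ⟨w, hw⟩ ⟨z, hσF hz⟩ hcop
      exact congrArg Subtype.val this.eq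
    have hY := uniq_of_cent_sigmaCore hG hM hKU hK1 hs hsσ hyM hj (hcomm _ hyF hj)
    have hY' := uniq_of_cent_sigmaCore hG hM hKU hK1 hs hsσ hy'M hy'o (hcomm _ hy'F hy'o)
    apply hY'.2 (cj g M) (isCoatom_cj g hM)
    intro w hw
    rw [mem_cj]
    apply hY.1
    rw [Subgroup.mem_centralizer_iff] at hw ⊢
    intro z hz
    rw [Set.mem_singleton_iff] at hz
    subst hz
    have h1 := hw (g * x ^ j * g⁻¹) rfl
    -- `x^j * (g⁻¹ w g) = (g⁻¹ w g) * x^j`
    calc x ^ j * (g⁻¹ * w * g) = g⁻¹ * ((g * x ^ j * g⁻¹) * w) * g := by group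
      _ = g⁻¹ * (w * (g * x ^ j * g⁻¹)) * g := by rw [h1]
      _ = g⁻¹ * w * g * x ^ j := by group

end Cfsg.Agent.Lib.Helper13.BG1372
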