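import Mathlib
import Cfsg.Agent.S1354
import Cfsg.Agent.S1355
import Cfsg.Agent.S1364
import Cfsg.Agent.S1365
import Cfsg.Agent.S1366
import Cfsg.Agent.S1368
import Cfsg.Agent.S1370
import Cfsg.Agent.Lib.Helper13.BG1372

/-!
# BG Section 16: the type-`P` data of a maximal subgroup with `K ≠ 1` (helper13)

* `selfNormalizing_of_decomp` : `(K, K*)` is a self-normalizing cyclic pair.
* `isTypePWith_of_P2` : the type-`P` data `(K, U, K*)` of a maximal subgroup of type `P₂`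
  (S1356 and "U abelian" enter as hypotheses).
* `kappaHall_ne_bot_of_typeP` : type-`P` data force `κ(M) ≠ ∅`.
-/

set_option autoImplicit false
set_option linter.style.haveILetI false
set_option linter.unusedVariables false
set_option linter.unusedSectionVars false

namespace Cfsg.Agent.Lib.Helper13.BG16

open Cfsg Subgroup Cfsg.Agent.Lib.Helper11.BG14D

variable {G : Type*} [Group G] [Finite G]

/-- `IsComplIn` is symmetric. -/
theorem isComplIn_symm {A B M : Subgroup G} (h : IsComplIn A B M) : IsComplIn B A M := by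
  obtain ⟨hA, hB, hAB, hmul⟩ := h
  refine ⟨hB, hA, by rw [inf_comm]; exact hAB, ?_⟩
  intro m hm
  obtain ⟨a, ha, b, hb, hab⟩ := hmul m⁻¹ (M.inv_mem hm)
  refine ⟨b⁻¹, B.inv_mem hb, a⁻¹, A.inv_mem ha, ?_⟩
  rw [← mul_inv_rev, ← hab, inv_inv]

/-- `(K, K*)` is a self-normalizing cyclic pair (S1366 + S1368 + S1370). -/
theorem selfNormalizing_of_decomp (hG : IsMinSimpleOddOrder G) {M K U : Subgroup G}
    (hM : IsCoatom M) (hKU : IsSigmaDecomposition M K U) (hK1 : K ≠ ⊥) :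
    IsSelfNormalizingCyclic K (Ks M K) := by
  obtain ⟨Mstar, ⟨hMstar, hKst, hKstH⟩, -⟩ := Cfsg.Agent.S1366.result hG M hM K U hKU hK1
  have hcyc : IsCyclic ↥(K ⊔ Ks M K) :=
    (Cfsg.Agent.S1368.result hG M hM K U hKU hK1 Mstar hMstar hKst hKstH).2
  obtain ⟨hTI, hN⟩ := Cfsg.Agent.S1370.result hG M hM K U hKU hK1
  have hKs1 : Ks M K ≠ ⊥ := (Cfsg.Agent.S1354.result hG M hM K hKU.cyclic hKU.hall).1
  have hdisj : K ⊓ Ks M K = ⊥ := by
    rw [eq_bot_iff, ← Cfsg.Agent.Lib.Helper31.BG15.kappa_inf_sigmaCore hG hM hKU]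
    exact inf_le_inf_left K inf_le_left
  have hZc : ∀ a ∈ K ⊔ Ks M K, ∀ b ∈ K ⊔ Ks M K, a * b = b * a := by
    intro a ha b hb
    letI : CommGroup ↥(K ⊔ Ks M K) := IsCyclic.commGroup
    exact congrArg Subtype.val (mul_comm (⟨a, ha⟩ : ↥(K ⊔ Ks M K)) ⟨b, hb⟩)
  refine ⟨hK1, hKs1, hdisj, ?_, hcyc, ?_⟩
  · intro a ha b hb
    exact (Subgroup.mem_centralizer_iff.mp hb.2) a ha
  · intro X hX hXne
    obtain ⟨x, hx⟩ := hXne
    apply le_antisymm
    · intro g hg
      by_contra hgZ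
      rw [← hN] at hgZ
      have hxZ := hX hx
      have hgx : g * x * g⁻¹ ∈ X := (Subgroup.mem_set_normalizer_iff.mp hg x).mp hx
      have h1 := hTI g hgZ x hxZ (hX hgx)
      apply hxZ.2
      left
      rw [h1]
      exact K.one_mem
    · intro z hz
      rw [Subgroup.mem_set_normalizer_iff]
      intro n
      constructor
      · intro hn
        have hnZ : n ∈ K ⊔ Ks M K := (hX hn).1
        have : z * n * z⁻¹ = n := by
          rw [hZc z hz n hnZ, mul_inv_cancel_right]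
        rw [this]; exact hn
      · intro hn
        have hnZ : z * n * z⁻¹ ∈ K ⊔ Ks M K := (hX hn).1
        have hnZ' : n ∈ K ⊔ Ks M K := by
          have := Subgroup.mul_mem _ (Subgroup.mul_mem _ (Subgroup.inv_mem _ hz) hnZ) hz
          have e : z⁻¹ * (z * n * z⁻¹) * z = n := by group
          rwa [e] at this
        have : z * n * z⁻¹ = n := by
          rw [hZc z hz n hnZ', mul_inv_cancel_right]
        rwa [this] at hn

/-- a commutative subgroup is nilpotent -/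
theorem isNilpotent_of_isMulCommutative {U : Subgroup G} (h : IsMulCommutative U) :
    Group.IsNilpotent U := by
  letI : CommGroup U := { (inferInstance : Group U) with mul_comm := h.is_comm.comm }
  infer_instance

/-- `κ(M) ≠ ∅` when `K ≠ 1`. -/
theorem kappa_nonempty_of_ne_bot {M K : Subgroup G} (hK : IsPiHallOf (kappa M) K M) (hK1 : K ≠ ⊥) :
    (kappa M).Nonempty := by
  have hc : 1 < Nat.card K := (Subgroup.one_lt_card_iff_ne_bot (H := K)).mpr hK1
  obtain ⟨p, hp, hpd⟩ := Nat.exists_prime_and_dvd (ne_of_gt hc)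
  exact ⟨p, hK.2.1 p hp hpd⟩

/-- the order of `M' = U M_σ` and its coprimality with `|K|` -/
theorem derived_card_of_decomp (hG : IsMinSimpleOddOrder G) {M K U : Subgroup G}
    (hM : IsCoatom M) (hKU : IsSigmaDecomposition M K U) (hK1 : K ≠ ⊥) :
    ⁅M, M⁆ = U ⊔ sigmaCore M ∧ Nat.card K * Nat.card ↥⁅M, M⁆ = Nat.card M ∧
      (Nat.card K).Coprime (Nat.card ↥⁅M, M⁆) ∧ sigmaCore M ⊓ U = ⊥ ∧
      Nat.card ↥⁅M, M⁆ = Nat.card ↥(sigmaCore M) * Nat.card U := by
  have hder := (Cfsg.Agent.S1365.result hG M hM K U hKU hK1).1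
  have hUM : U ≤ M := hKU.compl.1
  have hKM : K ≤ M := hKU.hall.1
  have hσM : sigmaCore M ≤ M := Cfsg.Agent.Lib.Helper71.BG11.sigmaCore_le M
  have hσn : M ≤ normalizer (sigmaCore M : Set G) :=
    Cfsg.Agent.Lib.Helper71.BG11.le_normalizer_sigmaCore M
  have hHall : IsPiHallOf (sigma M) (sigmaCore M) M := Cfsg.Agent.Lib.Helper16.BG134.hall_sigma hG hM
  have hE := Cfsg.Agent.Lib.Helper31.BG15.isComplIn_sup_of_sigmaDecomposition hG hM hKU
  have hUσ : ∀ r : ℕ, r.Prime → r ∣ Nat.card U → r ∉ sigma M := by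
    intro r hr hrU
    exact Cfsg.Agent.Lib.Helper13.BG12.complIn_prime_not_mem_sigma hHall hE r hr
      (hrU.trans (Subgroup.card_dvd_of_le le_sup_left))
  have hcopσU : (Nat.card ↥(sigmaCore M)).Coprime (Nat.card U) := by
    apply Nat.coprime_of_dvd
    intro p hp h1 h2
    exact hUσ p hp h2 (Cfsg.Agent.Lib.Helper71.BG11.sigmaCore_pi hG hM hp h1)
  have hinfU : sigmaCore M ⊓ U = ⊥ := (Subgroup.disjoint_of_coprime_natCard hcopσU).eq_bot
  have hcopKσ : (Nat.card K).Coprime (Nat.card ↥(sigmaCore M)) := by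
    apply Nat.coprime_of_dvd
    intro p hp h1 h2
    exact (hKU.hall.2.1 p hp h1).2.2.1 (Cfsg.Agent.Lib.Helper71.BG11.sigmaCore_pi hG hM hp h2)
  have hinfK : sigmaCore M ⊓ K = ⊥ := by
    rw [inf_comm]; exact (Subgroup.disjoint_of_coprime_natCard hcopKσ).eq_bot
  have hc1 : Nat.card ↥(sigmaCore M ⊔ K) = Nat.card ↥(sigmaCore M) * Nat.card K :=
    Cfsg.Agent.Lib.Helper90.BG14D.card_sup_of_le_normalizer (hKM.trans hσn) hinfK
  have hc2 : Nat.card ↥(sigmaCore M ⊔ U) = Nat.card ↥(sigmaCore M) * Nat.card U :=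
    Cfsg.Agent.Lib.Helper90.BG14D.card_sup_of_le_normalizer (hUM.trans hσn) hinfU
  have hc3 := Cfsg.Agent.Lib.Helper31.IsComplIn.card_mul hKU.compl
  rw [sup_comm, hc1] at hc3
  have hcardD : Nat.card ↥⁅M, M⁆ = Nat.card ↥(sigmaCore M) * Nat.card U := by
    rw [hder, sup_comm]; exact hc2
  refine ⟨hder, ?_, ?_, hinfU, hcardD⟩
  · rw [hcardD, ← hc3]; ring
  · rw [hcardD]
    apply Nat.Coprime.mul_right hcopKσ
    apply Nat.coprime_of_dvd
    intro p hp h1 h2
    exact Cfsg.Agent.Lib.Helper31.BG15.not_mem_kappa_of_dvd_card hKU hp h2 (hKU.hall.2.1 p hp h1)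

/-- `K` complements `M'` in `M`. -/
theorem isComplIn_derived_of_decomp (hG : IsMinSimpleOddOrder G) {M K U : Subgroup G}
    (hM : IsCoatom M) (hKU : IsSigmaDecomposition M K U) (hK1 : K ≠ ⊥) :
    IsComplIn ⁅M, M⁆ K M := by
  obtain ⟨-, hcard, hcop, -, -⟩ := derived_card_of_decomp hG hM hKU hK1
  have hDM : ⁅M, M⁆ ≤ M := Subgroup.commutator_le.mpr fun a ha b hb =>
    M.mul_mem (M.mul_mem (M.mul_mem ha hb) (M.inv_mem ha)) (M.inv_mem hb)
  have hDn : M ≤ normalizer ((⁅M, M⁆ : Subgroup G) : Set G) :=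
    Cfsg.Agent.Lib.Helper18.BG134.le_normalizer_commutator_self M
  exact isComplIn_symm
    (Cfsg.Agent.Lib.Helper13.BG12.isComplIn_of_card hKU.hall.1 hDM hDn hcop hcard)

/-- **Type-`P` data of a maximal subgroup of type `P₂`**: `W₁ = K`, `U = U`, `W₂ = K*`.
`h56` is the conclusion of S1356 at `M`, `hUab` is "U abelian" (S1363). -/
theorem isTypePWith_of_P2 (hG : IsMinSimpleOddOrder G) {M K U : Subgroup G}
    (hM : IsCoatom M) (hKU : IsSigmaDecomposition M K U) (hK1 : K ≠ ⊥) (hU1 : U ≠ ⊥)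
    (h56 : ⁅⁅M, M⁆, ⁅M, M⁆⁆ ≤ fittingOf M ∧
      fittingOf M = (M ⊓ centralizer (fittingHallOf M : Set G)) ⊔ fittingHallOf M ∧
      ((kappa M).Nonempty → fittingOf M ≤ ⁅M, M⁆))
    (hUab : IsMulCommutative U) : IsTypePWith M K U (Ks M K) := by
  obtain ⟨-, -, hσnil⟩ :=
    Cfsg.Agent.Lib.Helper78.BG15.card_prime_of_sigmaDecomposition hG hM hKU hK1 hU1
  have hFH : sigmaCore M = fittingHallOf M :=
    Cfsg.Agent.Lib.Helper11.BG144.hC_main hG M hM hσnil
  obtain ⟨hder, hcard, hcop, hinfU, -⟩ := derived_card_of_decomp hG hM hKU hK1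
  obtain ⟨h64a, h64b, h64c, h64d⟩ := Cfsg.Agent.S1364.result hG M hM K U hKU hK1
  have h65 := (Cfsg.Agent.S1365.result hG M hM K U hKU hK1).2
  have hcompl := isComplIn_derived_of_decomp hG hM hKU hK1
  have hUM : U ≤ M := hKU.compl.1
  have hσM : sigmaCore M ≤ M := Cfsg.Agent.Lib.Helper71.BG11.sigmaCore_le M
  have hσn : M ≤ normalizer (sigmaCore M : Set G) :=
    Cfsg.Agent.Lib.Helper71.BG11.le_normalizer_sigmaCore M
  have hσD : sigmaCore M ≤ ⁅M, M⁆ := by rw [hder]; exact le_sup_right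
  refine
    { W₁_ne := hK1
      W₁_cyclic := hKU.cyclic
      W₁_hall := ?_
      W₁_compl := hcompl
      U_nilpotent := isNilpotent_of_isMulCommutative hUab
      U_normal := hKU.normal
      U_compl := ?_
      H_not_cyclic := h64d
      derived_two_le := ?_
      fitting_eq := ?_
      fitting_le := h56.2.2 (kappa_nonempty_of_ne_bot hKU.hall hK1)
      W₂_le := le_inf h64c h65
      W₂_centralizer := ?_
      selfNormalizing := selfNormalizing_of_decomp hG hM hKU hK1 }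
  · -- `K` is a Hall subgroup
    apply Nat.coprime_of_dvd
    intro p hp h1 h2
    exact hKU.hall.2.2 p hp (hKU.hall.2.1 p hp h1) h2
  · -- `U` complements `M_F = M_σ` in `M'`
    rw [← hFH, hder]
    refine ⟨le_sup_right, le_sup_left, hinfU, ?_⟩
    intro m hm
    have hm' : m⁻¹ ∈ U ⊔ sigmaCore M := Subgroup.inv_mem _ hm
    obtain ⟨u, hu, n, hn, hun⟩ :=
      Cfsg.Agent.Lib.Helper01.exists_mul_of_mem_sup (hUM.trans hσn) hm'
    refine ⟨n⁻¹, Subgroup.inv_mem _ hn, u⁻¹, Subgroup.inv_mem _ hu, ?_⟩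
    rw [← mul_inv_rev, ← hun, inv_inv]
  · rw [sup_comm, ← h56.2.1]; exact h56.1
  · rw [sup_comm]; exact h56.2.1.symm
  · -- `C_{M'}(x) = K*`
    intro x hx hx1
    have h54 := (Cfsg.Agent.S1354.result hG M hM K hKU.cyclic hKU.hall).2 hK1 x hx hx1
    apply le_antisymm
    · intro g hg
      have hgZ : g ∈ K ⊔ Ks M K := by
        rw [← h54]
        exact ⟨hcompl.1 hg.1, hg.2⟩
      obtain ⟨k, hk, s, hs, hks⟩ := Cfsg.Agent.Lib.Helper13.BG127.exists_mul_of_mem_sup'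
        (H := K) (K := Ks M K)
        (fun a ha b hb => (Subgroup.mem_centralizer_iff.mp (Subgroup.mem_inf.mp hb).2) a ha) hgZ
      have hkD : k ∈ ⁅M, M⁆ := by
        have : k = g * s⁻¹ := by rw [hks]; group
        rw [this]
        exact Subgroup.mul_mem _ hg.1 (Subgroup.inv_mem _ (hσD hs.1))
      have hk1 : k = 1 := by
        have : k ∈ ⁅M, M⁆ ⊓ K := ⟨hkD, hk⟩
        rwa [hcompl.2.2.1, Subgroup.mem_bot] at this
      rw [hks, hk1, one_mul]
      exact hs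
    · intro g hg
      refine Subgroup.mem_inf.mpr ⟨hσD hg.1, ?_⟩
      rw [Subgroup.mem_centralizer_iff]
      intro y hy
      rw [Set.mem_singleton_iff] at hy
      subst hy
      exact (Subgroup.mem_centralizer_iff.mp hg.2) y hx

/-! ### The converse: type-`P` data force `κ(M) ≠ ∅` -/

/-- If `W₁` is a cyclic complement of `M'` in `M` and `p ∤ |M'|`, then `M` has `p`-rank at most 1. -/
theorem pRankLE_one_of_cyclic_compl {M W₁ : Subgroup G} (hc : IsComplIn ⁅M, M⁆ W₁ M)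
    (hcyc : IsCyclic W₁) {p : ℕ} (hp : p.Prime) (hpD : ¬ p ∣ Nat.card ↥⁅M, M⁆) :
    PRankLE p 1 M := by
  haveI : Fact p.Prime := ⟨hp⟩
  obtain ⟨hDM, hWM, -, hmul⟩ := hc
  have hDn : M ≤ normalizer ((⁅M, M⁆ : Subgroup G) : Set G) :=
    Cfsg.Agent.Lib.Helper18.BG134.le_normalizer_commutator_self M
  haveI hN : ((⁅M, M⁆ : Subgroup G).subgroupOf M).Normal :=
    (Subgroup.normal_subgroupOf_iff_le_normalizer hDM).2 hDn
  -- the quotient is cyclic
  haveI : IsCyclic ↥(W₁.subgroupOf M) :=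
    isCyclic_of_surjective (Subgroup.subgroupOfEquivOfLe hWM).symm.toMonoidHom
      (MulEquiv.surjective _)
  have hsurj : Function.Surjective
      ((QuotientGroup.mk' ((⁅M, M⁆ : Subgroup G).subgroupOf M)).comp (W₁.subgroupOf M).subtype) := by
    intro q
    obtain ⟨m, rfl⟩ := QuotientGroup.mk'_surjective _ q
    obtain ⟨d, hd, w, hw, hdw⟩ := hmul m.1 m.2
    refine ⟨⟨⟨w, hWM hw⟩, Subgroup.mem_subgroupOf.mpr hw⟩, ?_⟩
    rw [MonoidHom.comp_apply, QuotientGroup.mk'_apply, QuotientGroup.mk'_apply, QuotientGroup.eq]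
    rw [Subgroup.mem_subgroupOf]
    change w⁻¹ * (m : G) ∈ ⁅M, M⁆
    rw [hdw]
    -- `w⁻¹ d w ∈ M'`
    have hwn := hDn (hWM (W₁.inv_mem hw))
    have := (Subgroup.mem_normalizer_iff.mp hwn d).mp hd
    rw [inv_inv] at this
    rw [← mul_assoc]
    exact this
  haveI hQ : IsCyclic (↥M ⧸ (⁅M, M⁆ : Subgroup G).subgroupOf M) := isCyclic_of_surjective _ hsurj
  intro A _ hA
  -- `A` embeds into the quotient
  have hinj : Function.Injective
      ((QuotientGroup.mk' ((⁅M, M⁆ : Subgroup G).subgroupOf M)).comp A.subtype) := by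
    rw [injective_iff_map_eq_one]
    intro a ha
    rw [MonoidHom.comp_apply, QuotientGroup.mk'_apply, QuotientGroup.eq_one_iff] at ha
    replace ha : (a : ↥M) ∈ (⁅M, M⁆ : Subgroup G).subgroupOf M := ha
    -- `a ∈ M'` and `a ^ p = 1`
    have hap : (a : ↥M) ^ p = 1 := hA a a.2
    have ho1 : orderOf (a : ↥M) ∣ p := orderOf_dvd_of_pow_eq_one hap
    have ho2 : orderOf (a : ↥M) ∣ Nat.card ↥⁅M, M⁆ := by
      have h1 : orderOf (⟨(a : ↥M), ha⟩ : ↥((⁅M, M⁆ : Subgroup G).subgroupOf M)) ∣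
          Nat.card ↥((⁅M, M⁆ : Subgroup G).subgroupOf M) := orderOf_dvd_natCard _
      rw [Subgroup.orderOf_mk] at h1
      rwa [Nat.card_congr (Subgroup.subgroupOfEquivOfLe hDM).toEquiv] at h1
    have ho3 : orderOf (a : ↥M) = 1 := by
      rcases (Nat.dvd_prime hp).mp ho1 with h | h
      · exact h
      · exact absurd (h ▸ ho2) hpD
    apply Subtype.ext
    exact orderOf_eq_one_iff.mp ho3
  haveI : IsCyclic ↥A := isCyclic_of_injective _ hinj
  rw [pow_one, ← IsCyclic.exponent_eq_card]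
  apply Nat.le_of_dvd hp.pos
  apply Monoid.exponent_dvd_of_forall_pow_eq_one
  intro a
  apply Subtype.ext
  rw [Subgroup.coe_pow, Subgroup.coe_one]
  exact hA a a.2

/-- **type-`P` data force `K ≠ 1`**. -/
theorem kappaHall_ne_bot_of_typeP (hG : IsMinSimpleOddOrder G) {M W₁ U' W₂ K : Subgroup G}
    (hM : IsCoatom M) (hP : IsTypePWith M W₁ U' W₂) (hK : IsPiHallOf (kappa M) K M) : K ≠ ⊥ := by
  obtain ⟨-, hW₂1, -, -, -, -⟩ := hP.selfNormalizing
  obtain ⟨w, hw1⟩ := (Subgroup.ne_bot_iff_exists_ne_one).mp hP.W₁_ne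
  have hw1' : (w : G) ≠ 1 := fun h => hw1 (Subtype.ext h)
  obtain ⟨p, hp, j, hj⟩ := Cfsg.Agent.Lib.Helper13.BG1372.exists_pow_prime_order hw1'
  haveI : Fact p.Prime := ⟨hp⟩
  have hxW : (w : G) ^ j ∈ W₁ := W₁.pow_mem w.2 j
  have hx1 : (w : G) ^ j ≠ 1 := by
    intro h
    rw [h, orderOf_one] at hj
    exact hp.one_lt.ne hj
  obtain ⟨hDM, hWM, hDW, hmul⟩ := hP.W₁_compl
  have hxM : (w : G) ^ j ∈ M := hWM hxW
  -- `p ∣ |W₁|`, hence `p ∤ |M'|`
  have hpW : p ∣ Nat.card W₁ := by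
    rw [← hj]
    have := orderOf_dvd_natCard (⟨(w : G) ^ j, hxW⟩ : W₁)
    rwa [Subgroup.orderOf_mk] at this
  have hrel : W₁.relIndex M = Nat.card ↥⁅M, M⁆ := by
    have h1 : Nat.card W₁ * W₁.relIndex M = Nat.card M :=
      Cfsg.Agent.Lib.Helper90.BG14D.card_mul_relIndex hWM
    have h2 := Cfsg.Agent.Lib.Helper31.IsComplIn.card_mul hP.W₁_compl
    have h3 : Nat.card W₁ * W₁.relIndex M = Nat.card W₁ * Nat.card ↥⁅M, M⁆ := by
      rw [h1, ← h2]; ring
    exact Nat.eq_of_mul_eq_mul_left Nat.card_pos h3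
  have hpD : ¬ p ∣ Nat.card ↥⁅M, M⁆ := by
    intro hd
    have hcop := hP.W₁_hall
    rw [hrel] at hcop
    have := Nat.dvd_gcd hpW hd
    rw [Nat.Coprime.gcd_eq_one hcop] at this
    exact hp.one_lt.ne' (Nat.dvd_one.mp this)
  obtain ⟨-, hFσ, hσD, -, -⟩ := Cfsg.Agent.S1355.result hG M hM
  have hpM : p ∣ Nat.card M := hpW.trans (Subgroup.card_dvd_of_le hWM)
  -- `p ∉ σ(M)`
  have hpσ : p ∉ sigma M := by
    intro hpσ
    have := Cfsg.Agent.Lib.Helper13.BG1372.mem_sigmaCore_of_orderOf hG hM hp hpσ hxM hj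
    have h2 : (w : G) ^ j ∈ ⁅M, M⁆ ⊓ W₁ := ⟨hσD this, hxW⟩
    rw [hDW, Subgroup.mem_bot] at h2
    exact hx1 h2
  have hr1 : PRankLE p 1 M := pRankLE_one_of_cyclic_compl hP.W₁_compl hP.W₁_cyclic hp hpD
  have hRM : zpowers ((w : G) ^ j) ≤ M := zpowers_le.mpr hxM
  have hRc : Nat.card (zpowers ((w : G) ^ j)) = p := by rw [Nat.card_zpowers]; exact hj
  have hC : sigmaCore M ⊓ centralizer ((zpowers ((w : G) ^ j) : Subgroup G) : Set G) ≠ ⊥ := by
    intro h
    apply hW₂1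
    rw [eq_bot_iff, ← h, Cfsg.Agent.Lib.Helper13.BG147.centralizer_zpowers_eq]
    refine le_inf ((hP.W₂_le.trans inf_le_left).trans hFσ) ?_
    rw [← hP.W₂_centralizer _ hxW hx1]
    exact inf_le_right
  have hpκ : p ∈ kappa M :=
    Cfsg.Agent.Lib.Helper64.BG14.mem_kappa_of_cent_ne_bot hG hM hp hpM hpσ hr1 hRM hRc hC
  intro hKbot
  have h1 : Nat.card K * K.relIndex M = Nat.card M :=
    Cfsg.Agent.Lib.Helper90.BG14D.card_mul_relIndex hK.1
  rw [hKbot, Subgroup.card_bot, one_mul] at h1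
  exact hK.2.2 p hp hpκ (by rw [hKbot, h1]; exact hpM)

end Cfsg.Agent.Lib.Helper13.BG16
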