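import Mathlib
import Cfsg.Agent.Lib.Helper13.BG147S

/-!
# BG Theorem 14.7 (b)-(e): the clauses of S1434 (helper13)
-/

set_option autoImplicit false
set_option linter.style.haveILetI false
set_option linter.unusedVariables false

namespace Cfsg.Agent.Lib.Helper13.BG147

open Cfsg Subgroup Cfsg.Agent.Lib.Helper55 Cfsg.Agent.Lib.Helper11.BG14D Cfsg.Agent.Lib.Helper31.BG147

variable {G : Type*} [Group G] [Finite G]

/-- **`κ(M) = τ₁(M)`** for a standard factorisation with `K ≠ 1` (first clause of S1434). -/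
theorem kappa_eq_tau1 (hG : IsMinSimpleOddOrder G) {M K U : Subgroup G} (hM : IsCoatom M)
    (hKU : IsSigmaDecomposition M K U) (hK1 : K ≠ ⊥) : kappa M = tau1 M := by
  have hder := (Cfsg.Agent.S1365.result hG M hM K U hKU hK1).1
  have hUM : U ≤ M := hKU.compl.1
  have hKM : K ≤ M := hKU.hall.1
  have hnσ := Cfsg.Agent.Lib.Helper71.BG11.le_normalizer_sigmaCore M
  have hUσ : sigmaCore M ⊓ U = ⊥ := by
    rw [eq_bot_iff, ← hKU.compl.2.2.1, inf_comm]
    exact inf_le_inf_left U le_sup_right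
  have hcardD : Nat.card ↥(sigmaCore M ⊔ U) = Nat.card (sigmaCore M) * Nat.card U :=
    Cfsg.Agent.Lib.Helper90.BG14D.card_sup_of_le_normalizer (hUM.trans hnσ) hUσ
  have hcardD' : Nat.card ↥⁅M, M⁆ = Nat.card (sigmaCore M) * Nat.card U := by
    rw [hder, sup_comm]; exact hcardD
  have hκσ : ∀ p : ℕ, p ∈ kappa M → p ∉ sigma M := fun p h => h.2.2.1
  have hac : (Nat.card K).Coprime (Nat.card ↥(sigmaCore M)) := by
    apply Nat.coprime_of_dvd
    intro p hp h1 h2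
    exact hκσ p (hKU.hall.2.1 p hp h1) (Cfsg.Agent.Lib.Helper71.BG11.sigmaCore_pi hG hM hp h2)
  have hKσ : sigmaCore M ⊓ K = ⊥ := by
    rw [inf_comm]; exact (Subgroup.disjoint_of_coprime_natCard hac).eq_bot
  have hcardKσ : Nat.card ↥(K ⊔ sigmaCore M) = Nat.card ↥(sigmaCore M) * Nat.card K := by
    rw [sup_comm]
    exact Cfsg.Agent.Lib.Helper90.BG14D.card_sup_of_le_normalizer (hKM.trans hnσ) hKσ
  have hMcard : Nat.card U * (Nat.card ↥(sigmaCore M) * Nat.card K) = Nat.card M := by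
    rw [← hcardKσ]; exact Cfsg.Agent.Lib.Helper31.IsComplIn.card_mul hKU.compl
  ext p
  constructor
  · rintro ⟨hpp, hpM, hpσ, hall⟩
    refine ⟨hpp, hpσ, hpM, ?_, ?_⟩
    · rw [hcardD']
      intro hd
      rcases (Nat.Prime.dvd_mul hpp).mp hd with h | h
      · exact hpσ (Cfsg.Agent.Lib.Helper71.BG11.sigmaCore_pi hG hM hpp h)
      · exact Cfsg.Agent.Lib.Helper31.BG15.not_mem_kappa_of_dvd_card hKU hpp h ⟨hpp, hpM, hpσ, hall⟩
    · exact Cfsg.Agent.Lib.Helper61.BG1310.pRankLE_one_of_sylow_cyclic hpp (fun P => (hall P).1)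
  · rintro ⟨hpp, hpσ, hpM, hnd, hr⟩
    rw [hcardD'] at hnd
    rw [← hMcard] at hpM
    have h1 : p ∣ Nat.card K := by
      rcases (Nat.Prime.dvd_mul hpp).mp hpM with h | h
      · exact absurd (Dvd.dvd.mul_left h _) hnd
      · rcases (Nat.Prime.dvd_mul hpp).mp h with h' | h'
        · exact absurd (Dvd.dvd.mul_right h' _) hnd
        · exact h'
    exact hKU.hall.2.1 p hpp h1

/-- **`K*` is a Hall `σ(M)`-subgroup of `M*`** (second clause of S1434; argument of helper47). -/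
theorem Ks_hall_sigma (hG : IsMinSimpleOddOrder G) {M K Mstar : Subgroup G} (hM : IsCoatom M)
    (hK : IsPiHallOf (kappa M) K M) (hK1 : K ≠ ⊥) (hKs1 : Ks M K ≠ ⊥) (hMstar : IsCoatom Mstar)
    (hKst : K = sigmaCore Mstar ⊓ centralizer ((Ks M K : Subgroup G) : Set G))
    (hKstH : IsPiHallOf (kappa Mstar) (Ks M K) Mstar) :
    IsPiHallOf (sigma M) (Ks M K) Mstar := by
  have hsolv : Group.IsSolvable ↥Mstar := Cfsg.Agent.Lib.Helper55.ms_solvable hG hMstar.1
  have hKsσ : Ks M K ≤ sigmaCore M := inf_le_left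
  have hKsπ : ∀ p : ℕ, p.Prime → p ∣ Nat.card (Ks M K) → p ∈ sigma M := fun p hp hpd =>
    Cfsg.Agent.Lib.Helper71.BG11.sigmaCore_pi hG hM hp (hpd.trans (Subgroup.card_dvd_of_le hKsσ))
  obtain ⟨B, hB, hKsB⟩ :=
    Cfsg.Agent.Lib.Helper54.BG134.exists_isPiHallOf_ge hsolv (sigma M) hKstH.1 hKsπ
  have hBK : B ⊓ Ks M K ≠ ⊥ := by rw [inf_eq_right.mpr hKsB]; exact hKs1
  have hBσ : B ≤ sigmaCore M :=
    (Cfsg.Agent.S1431.result hG M hM K hK hK1).2.2.2 B hB.2.1 hBK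
  have hc : Ks M K ≤ centralizer (K : Set G) := inf_le_right
  have hcop := Cfsg.Agent.Lib.Helper77.BG147.coprime_card_Ks hG hM hK
  have hint := inter_partner hG hM hK hK1 hKs1 hMstar hKst hKstH
  have hBle : B ≤ Ks M K := by
    intro b hb
    have hbσ : b ∈ sigmaCore M := hBσ hb
    have h1 : b ∈ M ⊓ Mstar := ⟨Cfsg.Agent.Lib.Helper71.BG11.sigmaCore_le M hbσ, hB.1 hb⟩
    rw [hint] at h1
    apply mem_right_of_coprime hc hcop h1
    apply orderOf_coprime_of_primes (π := sigma M)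
    · intro p hp hpd
      have h2 : orderOf b ∣ Nat.card (sigmaCore M) := by
        have := orderOf_dvd_natCard (⟨b, hbσ⟩ : sigmaCore M)
        rwa [Subgroup.orderOf_mk] at this
      exact Cfsg.Agent.Lib.Helper71.BG11.sigmaCore_pi hG hM hp (hpd.trans h2)
    · intro p hp hpK
      exact (hK.2.1 p hp hpK).2.2.1
  have hBeq : B = Ks M K := le_antisymm hBle hKsB
  rw [← hBeq]
  exact hB

/-- **the centralizer clauses of S1434**: `C_M(x) = C_{M*}(y) = C_G(xy) = K K*`. -/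
theorem cent_clauses (hG : IsMinSimpleOddOrder G) {M K U Mstar : Subgroup G} (hM : IsCoatom M)
    (hKU : IsSigmaDecomposition M K U) (hK1 : K ≠ ⊥) (hMstar : IsCoatom Mstar)
    (hKst : K = sigmaCore Mstar ⊓ centralizer ((Ks M K : Subgroup G) : Set G))
    (hKstH : IsPiHallOf (kappa Mstar) (Ks M K) Mstar) :
    ∀ x ∈ K, x ≠ 1 → ∀ y ∈ Ks M K, y ≠ 1 →
      M ⊓ centralizer ({x} : Set G) = K ⊔ Ks M K ∧ Mstar ⊓ centralizer ({y} : Set G) = K ⊔ Ks M K ∧
        centralizer ({x * y} : Set G) = K ⊔ Ks M K := by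
  intro x hx hx1 y hy hy1
  have hKs1 : Ks M K ≠ ⊥ := (Cfsg.Agent.S1354.result hG M hM K hKU.cyclic hKU.hall).1
  have hKsc : IsCyclic (Ks M K) := Ks_isCyclic_main hG hM hKU hK1 hMstar hKst hKstH
  have hc : Ks M K ≤ centralizer (K : Set G) := inf_le_right
  have hcop := Cfsg.Agent.Lib.Helper77.BG147.coprime_card_Ks hG hM hKU.hall
  have hinf : K ⊓ Ks M K = ⊥ := (Subgroup.disjoint_of_coprime_natCard hcop).eq_bot
  refine ⟨(Cfsg.Agent.S1354.result hG M hM K hKU.cyclic hKU.hall).2 hK1 x hx hx1, ?_, ?_⟩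
  · have h := (Cfsg.Agent.S1354.result hG Mstar hMstar (Ks M K) hKsc hKstH).2 hKs1 y hy hy1
    rw [h, ← hKst, sup_comm]
  · have hxy : x * y ∈ K ⊔ Ks M K :=
      Subgroup.mul_mem _ (le_sup_left (a := K) hx) (le_sup_right (b := Ks M K) hy)
    have hz : x * y ∈ Zhat M K := by
      refine ⟨hxy, ?_⟩
      rintro (h | h)
      · apply hy1
        have h2 : y ∈ K := by
          have : y = x⁻¹ * (x * y) := by group
          rw [this]; exact K.mul_mem (K.inv_mem hx) h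
        have h3 : y ∈ K ⊓ Ks M K := ⟨h2, hy⟩
        rwa [hinf, Subgroup.mem_bot] at h3
      · apply hx1
        have h2 : x ∈ Ks M K := by
          have : x = (x * y) * y⁻¹ := by group
          rw [this]; exact (Ks M K).mul_mem h ((Ks M K).inv_mem hy)
        have h3 : x ∈ K ⊓ Ks M K := ⟨hx, h2⟩
        rwa [hinf, Subgroup.mem_bot] at h3
    apply le_antisymm
    · intro w hw
      rw [Subgroup.mem_centralizer_iff] at hw
      exact mem_sup_of_commute_zhat hG hM hKU.cyclic hKU.hall hK1 hz (hw (x * y) rfl).symm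
    · intro w hw
      haveI := Z_isCyclic hG (h77_main hG) (h33_main hG) hM hKU hK1 hMstar hKst hKstH
      have hcom : ∀ a b : ↥(K ⊔ Ks M K), a * b = b * a := fun a b =>
        (inferInstance : IsMulCommutative ↥(K ⊔ Ks M K)).is_comm.comm a b
      rw [Subgroup.mem_centralizer_iff]
      intro v hv
      rw [Set.mem_singleton_iff] at hv
      subst hv
      exact congrArg Subtype.val (hcom ⟨x * y, hxy⟩ ⟨w, hw⟩)

/-- **`Ẑ ∩ M^g = ∅` for `g ∉ M`** (fourth clause of S1434). -/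
theorem zhat_not_mem_cj (hG : IsMinSimpleOddOrder G) {M K : Subgroup G} (hM : IsCoatom M)
    (hK : IsPiHallOf (kappa M) K M) (hK1 : K ≠ ⊥) :
    ∀ g : G, g ∉ M → ∀ z ∈ Zhat M K, z ∉ M.map (MulAut.conj g).toMonoidHom := by
  intro g hg z hz hzg
  have hc : Ks M K ≤ centralizer (K : Set G) := inf_le_right
  have hcop := Cfsg.Agent.Lib.Helper77.BG147.coprime_card_Ks hG hM hK
  obtain ⟨x, hx, y, hy, hx1, hy1, -, -, -, ⟨j, hj⟩⟩ :=
    Cfsg.Agent.Lib.Helper27.BG147.zhat_parts hc hcop hz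
  have h1 := (Cfsg.Agent.S1431.result hG M hM K hK hK1).1 g hg
  have h2 : y ∈ Ks M K ⊓ M.map (MulAut.conj g).toMonoidHom := by
    refine ⟨hy, ?_⟩
    rw [← hj]
    exact Subgroup.pow_mem _ hzg j
  rw [h1, Subgroup.mem_bot] at h2
  exact hy1 h2

omit [Finite G] in
theorem sub_one_mul_sub_one {k s : ℕ} (hk : 1 < k) (hs : 1 < s) :
    (k - 1) * (s - 1) = k * s - k - s + 1 := by
  obtain ⟨k', rfl⟩ : ∃ k', k = k' + 2 := ⟨k - 2, by omega⟩
  obtain ⟨s', rfl⟩ : ∃ s', s = s' + 2 := ⟨s - 2, by omega⟩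
  have e1 : k' + 2 - 1 = k' + 1 := by omega
  have e2 : s' + 2 - 1 = s' + 1 := by omega
  rw [e1, e2]
  have hm : 1 ≤ (k' + 1) * (s' + 1) := Nat.mul_pos (by omega) (by omega)
  have e : (k' + 2) * (s' + 2) = (k' + 1) * (s' + 1) + k' + s' + 3 := by ring
  rw [e]
  clear e e1 e2
  generalize (k' + 1) * (s' + 1) = m at hm ⊢
  omega

/-- **the class support of `Ẑ`** (fifth and sixth clauses of S1434). -/
theorem csupp_clauses (hG : IsMinSimpleOddOrder G) {M K : Subgroup G} (hM : IsCoatom M)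
    (hK : IsPiHallOf (kappa M) K M) (hK1 : K ≠ ⊥) (hKs1 : Ks M K ≠ ⊥) :
    Nat.card K * Nat.card (Ks M K) * Set.ncard (csupp (Zhat M K)) =
        (Nat.card K * Nat.card (Ks M K) - Nat.card K - Nat.card (Ks M K) + 1) * Nat.card G ∧
      Nat.card G < 2 * Set.ncard (csupp (Zhat M K)) := by
  have h30 : H1430 G := fun M hM K hK hK1 => Cfsg.Agent.S1430.result hG M hM K hK hK1
  have h31 : H1431 G := fun M hM K hK hK1 => Cfsg.Agent.S1431.result hG M hM K hK hK1
  have hc : Ks M K ≤ centralizer (K : Set G) := inf_le_right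
  have hcop := Cfsg.Agent.Lib.Helper77.BG147.coprime_card_Ks hG hM hK
  have hinf : K ⊓ Ks M K = ⊥ := (Subgroup.disjoint_of_coprime_natCard hcop).eq_bot
  have hZ : Set.ncard (Zhat M K) = (Nat.card K - 1) * (Nat.card (Ks M K) - 1) :=
    Cfsg.Agent.Lib.Helper81.BG147.ncard_zhat hc hinf
  obtain ⟨h1, h2⟩ := Cfsg.Agent.Lib.Helper28.BG147.csupp_gt_half hG h30 h31 hM hK hK1
    (fun z g hz hg => Cfsg.Agent.Lib.Helper77.BG147.zhat_normalizer hG h31 hM hK hK1 hz hg)
    (fun N X h1 h2 h3 => Cfsg.Agent.Lib.Helper67.BG147.card_csupp h1 h2 h3) hZ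
  refine ⟨?_, h2⟩
  rw [h1, sub_one_mul_sub_one ((Subgroup.one_lt_card_iff_ne_bot (H := K)).mpr hK1)
    ((Subgroup.one_lt_card_iff_ne_bot (H := Ks M K)).mpr hKs1)]

end Cfsg.Agent.Lib.Helper13.BG147
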