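import Mathlib
import Cfsg.Agent.S1430
import Cfsg.Agent.S1432
import Cfsg.Agent.Lib.Helper13.BG16P
import Cfsg.Agent.Lib.Helper13.BG147T
import Cfsg.Agent.Lib.Helper64.BG1363H

/-!
# BG Section 16 / Peterfalvi (8.x): the sets `A₁(M) ⊆ A(M) ⊆ A₀(M)` of a maximal subgroup of Type II
are TI-subsets with normalizer `M` (towards S1538) (helper13)
-/

set_option autoImplicit false
set_option linter.style.haveILetI false
set_option linter.unusedVariables false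
set_option linter.unusedSectionVars false

namespace Cfsg.Agent.Lib.Helper13.BG16

open Cfsg Subgroup Cfsg.Agent.Lib.Helper55 Cfsg.Agent.Lib.Helper11.BG14D

variable {G : Type*} [Group G] [Finite G]

/-- set normalizer from one-sided invariance -/
theorem le_set_normalizer_of_conj_mem {S : Set G} {H : Subgroup G}
    (h : ∀ m ∈ H, ∀ n ∈ S, m * n * m⁻¹ ∈ S) : H ≤ normalizer S := by
  intro m hm
  rw [Subgroup.mem_set_normalizer_iff]
  intro n
  refine ⟨h m hm n, fun hn => ?_⟩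
  have := h m⁻¹ (H.inv_mem hm) _ hn
  have e : m⁻¹ * (m * n * m⁻¹) * m⁻¹⁻¹ = n := by group
  rwa [e] at this

/-- a prime of `κ(M)` divides `|K|` -/
theorem dvd_card_of_mem_kappa {M K : Subgroup G} (hK : IsPiHallOf (kappa M) K M) {p : ℕ}
    (hp : p ∈ kappa M) : p ∣ Nat.card K := by
  have h1 : Nat.card K * K.relIndex M = Nat.card M :=
    Cfsg.Agent.Lib.Helper90.BG14D.card_mul_relIndex hK.1
  have h2 : p ∣ Nat.card K * K.relIndex M := by rw [h1]; exact hp.2.1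
  rcases (Nat.Prime.dvd_mul hp.1).mp h2 with h | h
  · exact h
  · exact absurd h (hK.2.2 p hp.1 hp)

/-- the primes of the elements of `W₁` (type-`P` data) lie in `κ(M)` -/
theorem mem_kappa_of_typeP (hG : IsMinSimpleOddOrder G) {M W₁ U' W₂ : Subgroup G}
    (hM : IsCoatom M) (hP : IsTypePWith M W₁ U' W₂) {p : ℕ} (hp : p.Prime) {x : G} (hxW : x ∈ W₁)
    (hj : orderOf x = p) : p ∈ kappa M := by
  haveI : Fact p.Prime := ⟨hp⟩
  obtain ⟨-, hW₂1, -, -, -, -⟩ := hP.selfNormalizing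
  have hx1 : x ≠ 1 := by
    intro h
    rw [h, orderOf_one] at hj
    exact hp.one_lt.ne hj
  obtain ⟨hDM, hWM, hDW, hmul⟩ := hP.W₁_compl
  have hxM : x ∈ M := hWM hxW
  have hpW : p ∣ Nat.card W₁ := by
    rw [← hj]
    have := orderOf_dvd_natCard (⟨x, hxW⟩ : W₁)
    rwa [Subgroup.orderOf_mk] at this
  have hrel : W₁.relIndex M = Nat.card ↥⁅M, M⁆ := by
    have h1 : Nat.card W₁ * W₁.relIndex M = Nat.card M :=
      Cfsg.Agent.Lib.Helper90.BG14D.card_mul_relIndex hWM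
    have h2 := Cfsg.Agent.Lib.Helper31.IsComplIn.card_mul hP.W₁_compl
    have h3 : Nat.card W₁ * W₁.relIndex M = Nat.card W₁ * Nat.card ↥⁅M, M⁆ := by
      rw [h1, ← h2]; ring
    exact Nat.eq_of_mul_eq_mul_left Nat.card_pos h3
  have hpD : ¬ p ∣ Nat.card ↥⁅M, M⁆ := by
    intro hd
    have hcop := hP.W₁_hall
    rw [hrel] at hcop
    have := Nat.dvd_gcd hpW hd
    rw [Nat.Coprime.gcd_eq_one hcop] at this
    exact hp.one_lt.ne' (Nat.dvd_one.mp this)
  obtain ⟨-, hFσ, hσD, -, -⟩ := Cfsg.Agent.S1355.result hG M hM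
  have hpM : p ∣ Nat.card M := hpW.trans (Subgroup.card_dvd_of_le hWM)
  have hpσ : p ∉ sigma M := by
    intro hpσ
    have := Cfsg.Agent.Lib.Helper13.BG1372.mem_sigmaCore_of_orderOf hG hM hp hpσ hxM hj
    have h2 : x ∈ ⁅M, M⁆ ⊓ W₁ := ⟨hσD this, hxW⟩
    rw [hDW, Subgroup.mem_bot] at h2
    exact hx1 h2
  have hr1 : PRankLE p 1 M := pRankLE_one_of_cyclic_compl hP.W₁_compl hP.W₁_cyclic hp hpD
  have hRM : zpowers x ≤ M := zpowers_le.mpr hxM
  have hRc : Nat.card (zpowers x) = p := by rw [Nat.card_zpowers]; exact hj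
  have hC : sigmaCore M ⊓ centralizer ((zpowers x : Subgroup G) : Set G) ≠ ⊥ := by
    intro h
    apply hW₂1
    rw [eq_bot_iff, ← h, Cfsg.Agent.Lib.Helper13.BG147.centralizer_zpowers_eq]
    refine le_inf ((hP.W₂_le.trans inf_le_left).trans hFσ) ?_
    rw [← hP.W₂_centralizer _ hxW hx1]
    exact inf_le_right
  exact Cfsg.Agent.Lib.Helper64.BG14.mem_kappa_of_cent_ne_bot hG hM hp hpM hpσ hr1 hRM hRc hC

/-- For type-`P` data `(W₁, U', W₂)` of `M`, `W₁` is a Hall `κ(M)`-subgroup of `M`. -/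
theorem isPiHallOf_kappa_of_typeP (hG : IsMinSimpleOddOrder G) {M W₁ U' W₂ K U : Subgroup G}
    (hM : IsCoatom M) (hP : IsTypePWith M W₁ U' W₂) (hKU : IsSigmaDecomposition M K U)
    (hK1 : K ≠ ⊥) : IsPiHallOf (kappa M) W₁ M := by
  obtain ⟨hDM, hWM, hDW, hmul⟩ := hP.W₁_compl
  refine ⟨hWM, ?_, ?_⟩
  · intro p hp hpd
    haveI : Fact p.Prime := ⟨hp⟩
    obtain ⟨x, hx⟩ := exists_prime_orderOf_dvd_card' (G := W₁) p hpd
    have hx' : orderOf (x : G) = p := by rw [Subgroup.orderOf_coe]; exact hx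
    exact mem_kappa_of_typeP hG hM hP hp x.2 hx'
  · intro p hp hpκ hd
    have hrel : W₁.relIndex M = Nat.card ↥⁅M, M⁆ := by
      have h1 : Nat.card W₁ * W₁.relIndex M = Nat.card M :=
        Cfsg.Agent.Lib.Helper90.BG14D.card_mul_relIndex hWM
      have h2 := Cfsg.Agent.Lib.Helper31.IsComplIn.card_mul hP.W₁_compl
      have h3 : Nat.card W₁ * W₁.relIndex M = Nat.card W₁ * Nat.card ↥⁅M, M⁆ := by
        rw [h1, ← h2]; ring
      exact Nat.eq_of_mul_eq_mul_left Nat.card_pos h3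
    rw [hrel] at hd
    obtain ⟨-, -, hcop, -, -⟩ := derived_card_of_decomp hG hM hKU hK1
    have := Nat.dvd_gcd (dvd_card_of_mem_kappa hKU.hall hpκ) hd
    rw [Nat.Coprime.gcd_eq_one hcop] at this
    exact hp.one_lt.ne' (Nat.dvd_one.mp this)

/-- For type-`P` data `(W₁, U', W₂)` of `M`, `W₂ = C_{M_σ}(W₁)`. -/
theorem W₂_eq_Ks_of_typeP (hG : IsMinSimpleOddOrder G) {M W₁ U' W₂ K U : Subgroup G}
    (hM : IsCoatom M) (hP : IsTypePWith M W₁ U' W₂) (hKU : IsSigmaDecomposition M K U)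
    (hK1 : K ≠ ⊥) : W₂ = Ks M W₁ := by
  have hHall := isPiHallOf_kappa_of_typeP hG hM hP hKU hK1
  obtain ⟨hDM, hWM, hDW, hmul⟩ := hP.W₁_compl
  obtain ⟨-, hFσ, hσD, -, -⟩ := Cfsg.Agent.S1355.result hG M hM
  obtain ⟨w, hw1⟩ := (Subgroup.ne_bot_iff_exists_ne_one).mp hP.W₁_ne
  have hw1' : (w : G) ≠ 1 := fun h => hw1 (Subtype.ext h)
  rw [← hP.W₂_centralizer (w : G) w.2 hw1']
  have h54 := (Cfsg.Agent.S1354.result hG M hM W₁ hP.W₁_cyclic hHall).2 hP.W₁_ne (w : G) w.2 hw1'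
  apply le_antisymm
  · intro g hg
    have hgZ : g ∈ W₁ ⊔ Ks M W₁ := by
      rw [← h54]
      exact ⟨hDM hg.1, hg.2⟩
    obtain ⟨k, hk, s, hs, hks⟩ := Cfsg.Agent.Lib.Helper13.BG127.exists_mul_of_mem_sup'
      (H := W₁) (K := Ks M W₁)
      (fun a ha b hb => (Subgroup.mem_centralizer_iff.mp (Subgroup.mem_inf.mp hb).2) a ha) hgZ
    have hkD : k ∈ ⁅M, M⁆ := by
      have : k = g * s⁻¹ := by rw [hks]; group
      rw [this]
      exact Subgroup.mul_mem _ hg.1 (Subgroup.inv_mem _ (hσD hs.1))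
    have hk1 : k = 1 := by
      have : k ∈ ⁅M, M⁆ ⊓ W₁ := ⟨hkD, hk⟩
      rwa [hDW, Subgroup.mem_bot] at this
    rw [hks, hk1, one_mul]
    exact hs
  · intro g hg
    refine Subgroup.mem_inf.mpr ⟨hσD hg.1, ?_⟩
    rw [Subgroup.mem_centralizer_iff]
    intro y hy
    rw [Set.mem_singleton_iff] at hy
    subst hy
    exact (Subgroup.mem_centralizer_iff.mp hg.2) _ w.2

/-- **(P2)** an `M`-conjugate `v` of an element of `W₁W₂ - (W₁ ∪ W₂)` lies in no `M^h`, `h ∉ M`: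
if `g v g⁻¹ ∈ M` then `g ∈ M`. -/
theorem mem_of_conj_zhat_mem (hG : IsMinSimpleOddOrder G) {M W₁ U' W₂ K U : Subgroup G}
    (hM : IsCoatom M) (hP : IsTypePWith M W₁ U' W₂) (hKU : IsSigmaDecomposition M K U)
    (hK1 : K ≠ ⊥) {m w g : G} (hm : m ∈ M) (hw : w ∈ W₁ ⊔ W₂) (hw1 : w ∉ W₁) (hw2 : w ∉ W₂)
    (h : g * (m * w * m⁻¹) * g⁻¹ ∈ M) : g ∈ M := by
  have hHall := isPiHallOf_kappa_of_typeP hG hM hP hKU hK1
  have hW₂ := W₂_eq_Ks_of_typeP hG hM hP hKU hK1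
  have hz : w ∈ Zhat M W₁ := by
    rw [hW₂] at hw hw2
    exact ⟨hw, fun h => h.elim hw1 hw2⟩
  by_contra hg
  have hgm : (g * m)⁻¹ ∉ M := by
    intro h1
    apply hg
    have h2 : g * m ∈ M := by
      have := M.inv_mem h1
      rwa [inv_inv] at this
    have h3 := M.mul_mem h2 (M.inv_mem hm)
    rwa [mul_inv_cancel_right] at h3
  apply Cfsg.Agent.Lib.Helper13.BG147.zhat_not_mem_cj hG hM hHall hP.W₁_ne _ hgm w hz
  show w ∈ cj (g * m)⁻¹ M
  rw [mem_cj, inv_inv]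
  have e : g * m * w * (g * m)⁻¹ = g * (m * w * m⁻¹) * g⁻¹ := by group
  rw [e]
  exact h

/-- an element `y` of prime order `s ∉ σ(M)` of `M'` centralizing some `x ∈ M_σ#`: `M` is the unique maximal
subgroup over `C_G(y)` (S1432; the `κ` alternative is impossible inside `M'`). -/
theorem uniq_of_sigmaHat_derived (hG : IsMinSimpleOddOrder G) {M K U : Subgroup G}
    (hM : IsCoatom M) (hKU : IsSigmaDecomposition M K U) (hK1 : K ≠ ⊥) {s : ℕ} (hs : s.Prime)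
    (hsσ : s ∉ sigma M) {y x : G} (hyD : y ∈ ⁅M, M⁆) (hyo : orderOf y = s)
    (hx : x ∈ sigmaCore M) (hx1 : x ≠ 1) (hyx : y * x = x * y) :
    centralizer ({y} : Set G) ≤ M ∧
      ∀ L : Subgroup G, IsCoatom L → centralizer ({y} : Set G) ≤ L → L = M := by
  obtain ⟨-, -, hcop, -, -⟩ := derived_card_of_decomp hG hM hKU hK1
  have hDM : ⁅M, M⁆ ≤ M := (isComplIn_derived_of_decomp hG hM hKU hK1).1
  have hy1 : y ≠ 1 := by
    intro h
    rw [h, orderOf_one] at hyo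
    exact hs.one_lt.ne hyo
  have hmem : y ∈ M ⊓ centralizer ({x} : Set G) := by
    refine Subgroup.mem_inf.mpr ⟨hDM hyD, ?_⟩
    rw [Subgroup.mem_centralizer_iff]
    intro h hh
    rw [Set.mem_singleton_iff] at hh
    subst hh
    exact hyx.symm
  have hσ : ∀ p : ℕ, p.Prime → p ∣ orderOf y → p ∉ sigma M := by
    intro p hp hpd
    rw [hyo] at hpd
    rw [(Nat.prime_dvd_prime_iff_eq hp hs).mp hpd]
    exact hsσ
  rcases Cfsg.Agent.S1432.result hG M hM x hx hx1 y hmem hy1 hσ with ⟨hκ, -⟩ | ⟨-, -, h⟩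
  · exfalso
    have hsκ : s ∈ kappa M := hκ s hs (by rw [hyo])
    have h1 : s ∣ Nat.card K := dvd_card_of_mem_kappa hKU.hall hsκ
    have h2 : s ∣ Nat.card ↥⁅M, M⁆ := by
      rw [← hyo]
      have := orderOf_dvd_natCard (⟨y, hyD⟩ : ↥⁅M, M⁆)
      rwa [Subgroup.orderOf_mk] at this
    have := Nat.dvd_gcd h1 h2
    rw [Nat.Coprime.gcd_eq_one hcop] at this
    exact hs.one_lt.ne' (Nat.dvd_one.mp this)
  · exact h

/-- **(P1)** if `a` and `g a g⁻¹` both lie in `A(M)` (type `P₂`) then `g ∈ M`. -/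
theorem mem_of_conj_typeA (hG : IsMinSimpleOddOrder G) {M K U : Subgroup G}
    (hM : IsCoatom M) (hKU : IsSigmaDecomposition M K U) (hK1 : K ≠ ⊥) (hU1 : U ≠ ⊥)
    {a g x x' : G} (haD : a ∈ ⁅M, M⁆) (ha1 : a ≠ 1) (hx : x ∈ sigmaCore M) (hx1 : x ≠ 1)
    (hax : a * x = x * a) (hbD : g * a * g⁻¹ ∈ ⁅M, M⁆) (hx' : x' ∈ sigmaCore M) (hx'1 : x' ≠ 1)
    (hbx : (g * a * g⁻¹) * x' = x' * (g * a * g⁻¹)) : g ∈ M := by
  have hDM : ⁅M, M⁆ ≤ M := (isComplIn_derived_of_decomp hG hM hKU hK1).1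
  have hσF := Cfsg.Agent.Lib.Helper13.BG1372.sigmaCore_le_fittingOf_of_P2 hG hM hKU hK1 hU1
  have hKM : K ≤ M := hKU.hall.1
  have hM1 : M ≠ ⊥ := by
    intro h
    apply hK1
    rw [eq_bot_iff, ← h]
    exact hKM
  have hNM : normalizer (M : Set G) = M :=
    Cfsg.Agent.Lib.Helper55.ms_normalizer_eq hG hM hM1 le_rfl Subgroup.le_normalizer
  suffices hcj : cj g M = M by
    have := cj_eq_self_iff.mp hcj
    rwa [hNM] at this
  have haM : a ∈ M := hDM haD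
  by_cases haF : a ∈ sigmaCore M
  · -- `a ∈ M_σ`: use that `F(M)` is a TI-subset
    obtain ⟨s, hs, j, hj⟩ := Cfsg.Agent.Lib.Helper13.BG1372.exists_pow_prime_order ha1
    haveI : Fact s.Prime := ⟨hs⟩
    have hyF : a ^ j ∈ sigmaCore M := Subgroup.pow_mem _ haF j
    have hsσ : s ∈ sigma M := by
      apply Cfsg.Agent.Lib.Helper71.BG11.sigmaCore_pi hG hM hs
      rw [← hj]
      have := orderOf_dvd_natCard (⟨a ^ j, hyF⟩ : sigmaCore M)
      rwa [Subgroup.orderOf_mk] at this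
    have hy'M : g * a ^ j * g⁻¹ ∈ M := by
      rw [← conj_pow]
      exact hDM (Subgroup.pow_mem _ hbD j)
    have hy'o : orderOf (g * a ^ j * g⁻¹) = s := by
      rw [Cfsg.Agent.Lib.Helper13.BG1372.orderOf_conj_eq]; exact hj
    have hy'F : g * a ^ j * g⁻¹ ∈ sigmaCore M :=
      Cfsg.Agent.Lib.Helper13.BG1372.mem_sigmaCore_of_orderOf hG hM hs hsσ hy'M hy'o
    have hTI := Cfsg.Agent.Lib.Helper13.BG1372.fittingOf_TI_of_P2 hG hM hKU hK1 hU1
    have hF1 : fittingOf M ≠ ⊥ := by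
      intro h
      apply hx1
      have := hσF hx
      rwa [h, Subgroup.mem_bot] at this
    have hNF : normalizer ((fittingOf M : Subgroup G) : Set G) = M :=
      Cfsg.Agent.Lib.Helper55.ms_normalizer_eq hG hM hF1
        (Cfsg.Agent.Lib.Helper31.BenderFit.fittingOf_le' M)
        (Cfsg.Agent.Lib.Helper31.BenderFit.le_normalizer_fittingOf M)
    by_contra hcj
    have hgN : g ∉ normalizer ((fittingOf M : Subgroup G) : Set G) := by
      intro h
      rw [hNF] at h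
      exact hcj (cj_eq_self_of_mem h)
    have h1 := hTI g hgN (a ^ j) (hσF hyF) (hσF hy'F)
    rw [h1, orderOf_one] at hj
    exact hs.one_lt.ne hj
  · -- `a ∉ M_σ`: a power of `a` of prime order `s ∉ σ(M)`
    obtain ⟨s, hs, hsd, hsF⟩ : ∃ s : ℕ, s.Prime ∧ s ∣ orderOf a ∧ ¬ s ∣ Nat.card (sigmaCore M) := by
      by_contra h
      push Not at h
      exact haF (Cfsg.Agent.Lib.Helper64.BG1363.mem_sigmaCore_of_orderOf hG hM haM h)
    haveI : Fact s.Prime := ⟨hs⟩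
    have hj : orderOf (a ^ (orderOf a / s)) = s :=
      orderOf_pow_orderOf_div (orderOf_pos a).ne' hsd
    set j := orderOf a / s with hjdef
    have hHall : IsPiHallOf (sigma M) (sigmaCore M) M := Cfsg.Agent.Lib.Helper16.BG134.hall_sigma hG hM
    have hsσ : s ∉ sigma M := by
      intro hsσ
      have h1 : Nat.card (sigmaCore M) * (sigmaCore M).relIndex M = Nat.card M :=
        Cfsg.Agent.Lib.Helper90.BG14D.card_mul_relIndex hHall.1
      have h2 : s ∣ Nat.card M := by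
        have := orderOf_dvd_natCard (⟨a, haM⟩ : M)
        rw [Subgroup.orderOf_mk] at this
        exact hsd.trans this
      rw [← h1] at h2
      rcases (Nat.Prime.dvd_mul hs).mp h2 with h | h
      · exact hsF h
      · exact hHall.2.2 s hs hsσ h
    have hyD : a ^ j ∈ ⁅M, M⁆ := Subgroup.pow_mem _ haD j
    have hyx : a ^ j * x = x * a ^ j := ((show Commute a x from hax).pow_left j).eq
    have hy'D : g * a ^ j * g⁻¹ ∈ ⁅M, M⁆ := by
      rw [← conj_pow]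
      exact Subgroup.pow_mem _ hbD j
    have hy'o : orderOf (g * a ^ j * g⁻¹) = s := by
      rw [Cfsg.Agent.Lib.Helper13.BG1372.orderOf_conj_eq]; exact hj
    have hy'x : g * a ^ j * g⁻¹ * x' = x' * (g * a ^ j * g⁻¹) := by
      rw [← conj_pow]
      exact ((show Commute (g * a * g⁻¹) x' from hbx).pow_left j).eq
    have hY := uniq_of_sigmaHat_derived hG hM hKU hK1 hs hsσ hyD hj hx hx1 hyx
    have hY' := uniq_of_sigmaHat_derived hG hM hKU hK1 hs hsσ hy'D hy'o hx' hx'1 hy'x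
    apply hY'.2 (cj g M) (isCoatom_cj g hM)
    intro w hw
    rw [mem_cj]
    apply hY.1
    rw [Subgroup.mem_centralizer_iff] at hw ⊢
    intro z hz
    rw [Set.mem_singleton_iff] at hz
    subst hz
    have h1 := hw (g * a ^ j * g⁻¹) rfl
    calc a ^ j * (g⁻¹ * w * g) = g⁻¹ * ((g * a ^ j * g⁻¹) * w) * g := by group
      _ = g⁻¹ * (w * (g * a ^ j * g⁻¹)) * g := by rw [h1]
      _ = g⁻¹ * w * g * a ^ j := by group

/-- a nonempty `M`-invariant set with the key property is a TI-subset with normalizer `M` -/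
theorem ti_of_key {S : Set G} {M : Subgroup G}
    (hkey : ∀ v ∈ S, ∀ g : G, g * v * g⁻¹ ∈ S → g ∈ M) (hne : S.Nonempty)
    (hinv : M ≤ normalizer S) : IsTISubset S ∧ normalizer S = M := by
  have hN : normalizer S = M := by
    apply le_antisymm _ hinv
    intro g hg
    obtain ⟨v, hv⟩ := hne
    exact hkey v hv g ((Subgroup.mem_set_normalizer_iff.mp hg v).mp hv)
  refine ⟨?_, hN⟩
  intro g hg x hx hgx
  exfalso
  rw [hN] at hg
  exact hg (hkey x hx g hgx)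

/-- **S1538 in hypothesis form**: for `M` of type `P₂` that is neither of Type I nor of Type III/IV, the sets
`A₀(M)`, `A(M)`, `A₁(M)` are TI-subsets with normalizer `M`. -/
theorem s1538_of (hG : IsMinSimpleOddOrder G) {M K U : Subgroup G}
    (hM : IsCoatom M) (hKU : IsSigmaDecomposition M K U) (hK1 : K ≠ ⊥) (hU1 : U ≠ ⊥)
    (hnI : ¬ IsOfTypeI M) (hn34 : ¬ (IsOfTypeIII M ∨ IsOfTypeIV M)) :
    (IsTISubset (typeA0 M) ∧ normalizer (typeA0 M) = M) ∧
      (IsTISubset (typeA M) ∧ normalizer (typeA M) = M) ∧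
      (IsTISubset (typeA1 M) ∧ normalizer (typeA1 M) = M) := by
  obtain ⟨-, -, hσnil⟩ :=
    Cfsg.Agent.Lib.Helper78.BG15.card_prime_of_sigmaDecomposition hG hM hKU hK1 hU1
  have hFH : sigmaCore M = fittingHallOf M :=
    Cfsg.Agent.Lib.Helper11.BG144.hC_main hG M hM hσnil
  have hcore : typeCore M = sigmaCore M := by
    unfold typeCore
    rw [if_neg hn34]
    exact hFH.symm
  have hcompl := isComplIn_derived_of_decomp hG hM hKU hK1
  have hDM : ⁅M, M⁆ ≤ M := hcompl.1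
  obtain ⟨-, hFσ, hσD, -, -⟩ := Cfsg.Agent.S1355.result hG M hM
  have hσn : M ≤ normalizer (sigmaCore M : Set G) :=
    Cfsg.Agent.Lib.Helper71.BG11.le_normalizer_sigmaCore M
  have hDn : M ≤ normalizer ((⁅M, M⁆ : Subgroup G) : Set G) :=
    Cfsg.Agent.Lib.Helper18.BG134.le_normalizer_commutator_self M
  have hσconj : ∀ m ∈ M, ∀ x ∈ sigmaCore M, m * x * m⁻¹ ∈ sigmaCore M :=
    fun m hm x hx => (Subgroup.mem_normalizer_iff.mp (hσn hm) x).mp hx
  have hDconj : ∀ m ∈ M, ∀ x ∈ ⁅M, M⁆, m * x * m⁻¹ ∈ ⁅M, M⁆ :=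
    fun m hm x hx => (Subgroup.mem_normalizer_iff.mp (hDn hm) x).mp hx
  have hKs1 : Ks M K ≠ ⊥ := (Cfsg.Agent.S1354.result hG M hM K hKU.cyclic hKU.hall).1
  have hσ1 : sigmaCore M ≠ ⊥ := by
    intro h
    apply hKs1
    rw [eq_bot_iff, ← h]
    exact inf_le_left
  obtain ⟨x₀', hx₀1'⟩ := (Subgroup.ne_bot_iff_exists_ne_one).mp hσ1
  have hx₀ : (x₀' : G) ∈ sigmaCore M := x₀'.2
  have hx₀1 : (x₀' : G) ≠ 1 := fun h => hx₀1' (Subtype.ext h)
  -- the three sets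
  have hA1 : typeA1 M = (↑(sigmaCore M) : Set G) \ {1} := by
    unfold typeA1; rw [hcore]
  have hA : typeA M = {a | a ∈ ⁅M, M⁆ ∧ a ≠ 1 ∧ ∃ x ∈ sigmaCore M, x ≠ 1 ∧ a * x = x * a} := by
    unfold typeA; rw [if_neg hnI, hcore]
  have hA1A : typeA1 M ⊆ typeA M := by
    rw [hA1, hA]
    rintro x ⟨hx, hx1⟩
    exact ⟨hσD hx, hx1, x, hx, hx1, rfl⟩
  have hAA0 : typeA M ⊆ typeA0 M := Set.subset_union_left
  have hAM : typeA M ⊆ (M : Set G) := by
    rw [hA]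
    rintro a ⟨haD, -, -⟩
    exact hDM haD
  have hA0M : typeA0 M ⊆ (M : Set G) := by
    rintro v (hv | ⟨-, W₁, U', W₂, hP, m, hm, w, hw, -, -, rfl⟩)
    · exact hAM hv
    · have hW₂M : W₂ ≤ M :=
        (hP.W₂_le.trans inf_le_left).trans (hFσ.trans
          (Cfsg.Agent.Lib.Helper71.BG11.sigmaCore_le M))
      have hwM : w ∈ M := (sup_le hP.W₁_compl.2.1 hW₂M) hw
      exact M.mul_mem (M.mul_mem hm hwM) (M.inv_mem hm)
  -- the key property
  have hkeyA : ∀ v ∈ typeA M, ∀ g : G, g * v * g⁻¹ ∈ typeA M → g ∈ M := by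
    intro v hv g hgv
    rw [hA] at hv hgv
    obtain ⟨haD, ha1, x, hx, hx1, hax⟩ := hv
    obtain ⟨hbD, -, x', hx', hx'1, hbx⟩ := hgv
    exact mem_of_conj_typeA hG hM hKU hK1 hU1 haD ha1 hx hx1 hax hbD hx' hx'1 hbx
  have hkey : ∀ v ∈ typeA0 M, ∀ g : G, g * v * g⁻¹ ∈ typeA0 M → g ∈ M := by
    rintro v (hv | ⟨-, W₁, U', W₂, hP, m, hm, w, hw, hw1, hw2, rfl⟩) g hgv
    · rcases hgv with hgv | ⟨-, W₁, U', W₂, hP, m, hm, w, hw, hw1, hw2, hgv⟩
      · exact hkeyA v hv g hgv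
      · -- `g v g⁻¹ = m w m⁻¹`, so `g⁻¹ (m w m⁻¹) g = v ∈ M`
        have h1 : g⁻¹ * (m * w * m⁻¹) * g⁻¹⁻¹ ∈ M := by
          rw [← hgv]
          have e : g⁻¹ * (g * v * g⁻¹) * g⁻¹⁻¹ = v := by group
          rw [e]
          exact hAM hv
        have := mem_of_conj_zhat_mem hG hM hP hKU hK1 hm hw hw1 hw2 h1
        have h2 := M.inv_mem this
        rwa [inv_inv] at h2
    · exact mem_of_conj_zhat_mem hG hM hP hKU hK1 hm hw hw1 hw2 (hA0M hgv)
  -- invariance under `M`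
  have hinvA1 : M ≤ normalizer (typeA1 M) := by
    apply le_set_normalizer_of_conj_mem
    intro m hm n hn
    rw [hA1] at hn ⊢
    refine ⟨hσconj m hm n hn.1, ?_⟩
    intro h
    apply hn.2
    rw [Set.mem_singleton_iff] at h ⊢
    have : n = m⁻¹ * (m * n * m⁻¹) * m := by group
    rw [this, h]; group
  have hAconj : ∀ m ∈ M, ∀ n ∈ typeA M, m * n * m⁻¹ ∈ typeA M := by
    intro m hm n hn
    rw [hA] at hn ⊢
    obtain ⟨hnD, hn1, x, hx, hx1, hnx⟩ := hn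
    refine ⟨hDconj m hm n hnD, ?_, m * x * m⁻¹, hσconj m hm x hx, ?_, ?_⟩
    · intro h
      apply hn1
      have : n = m⁻¹ * (m * n * m⁻¹) * m := by group
      rw [this, h]; group
    · intro h
      apply hx1
      have : x = m⁻¹ * (m * x * m⁻¹) * m := by group
      rw [this, h]; group
    · calc m * n * m⁻¹ * (m * x * m⁻¹) = m * (n * x) * m⁻¹ := by group
        _ = m * (x * n) * m⁻¹ := by rw [hnx]
        _ = m * x * m⁻¹ * (m * n * m⁻¹) := by group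
  have hinvA : M ≤ normalizer (typeA M) := le_set_normalizer_of_conj_mem hAconj
  have hinvA0 : M ≤ normalizer (typeA0 M) := by
    apply le_set_normalizer_of_conj_mem
    rintro m hm n (hn | ⟨hnI', W₁, U', W₂, hP, m', hm', w, hw, hw1, hw2, rfl⟩)
    · exact Or.inl (hAconj m hm n hn)
    · refine Or.inr ⟨hnI', W₁, U', W₂, hP, m * m', M.mul_mem hm hm', w, hw, hw1, hw2, ?_⟩
      group
  have hx₀A1 : (x₀' : G) ∈ typeA1 M := by
    rw [hA1]; exact ⟨hx₀, hx₀1⟩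
  refine ⟨ti_of_key hkey ⟨_, hAA0 (hA1A hx₀A1)⟩ hinvA0,
    ti_of_key hkeyA ⟨_, hA1A hx₀A1⟩ hinvA,
    ti_of_key (fun v hv g hgv => hkeyA v (hA1A hv) g (hA1A hgv)) ⟨_, hx₀A1⟩ hinvA1⟩

end Cfsg.Agent.Lib.Helper13.BG16
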