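import Mathlib
import Cfsg.Agent.S1363
import Cfsg.Agent.Lib.Helper13.BG16Q
import Cfsg.Agent.Lib.Helper11.BG1390
import Cfsg.Agent.Lib.Helper01.Coprime

/-!
# A maximal subgroup of type `P₂` is neither of Type I nor of Type III/IV (helper13)
-/

set_option autoImplicit false
set_option linter.style.haveILetI false
set_option linter.unusedVariables false
set_option linter.unusedSectionVars false

namespace Cfsg.Agent.Lib.Helper13.BG16

open Cfsg Subgroup Cfsg.Agent.Lib.Helper55 Cfsg.Agent.Lib.Helper11.BG14D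

variable {G : Type*} [Group G] [Finite G]

/-- a maximal subgroup with `K ≠ 1` is not of Type I -/
theorem not_typeI_of_ne_bot (hG : IsMinSimpleOddOrder G) {M K : Subgroup G} (hM : IsCoatom M)
    (hK : IsPiHallOf (kappa M) K M) (hK1 : K ≠ ⊥) : ¬ IsOfTypeI M := fun hI =>
  hK1 (Cfsg.Agent.Lib.Helper11.BG1390.eq_bot_of_kappa_empty hK
    (Cfsg.Agent.Lib.Helper11.BG1390.kappa_eq_empty_of_typeF hG hM hI.1))

/-- type `P₂`: every complement `U'` of `M_F` in `M'` is conjugate to `U` under `M_σ`, hence `N_G(U') ≰ M`. -/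
theorem not_normalizer_le_of_complIn_P2 (hG : IsMinSimpleOddOrder G) {M K U U' : Subgroup G}
    (hM : IsCoatom M) (hKU : IsSigmaDecomposition M K U) (hK1 : K ≠ ⊥) (hU1 : U ≠ ⊥)
    (hc : IsComplIn (fittingHallOf M) U' ⁅M, M⁆) : ¬ normalizer (U' : Set G) ≤ M := by
  intro hN
  obtain ⟨-, -, hσnil⟩ :=
    Cfsg.Agent.Lib.Helper78.BG15.card_prime_of_sigmaDecomposition hG hM hKU hK1 hU1
  have hFH : sigmaCore M = fittingHallOf M :=
    Cfsg.Agent.Lib.Helper11.BG144.hC_main hG M hM hσnil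
  obtain ⟨hder, -, -, hinfU, hcardD⟩ := derived_card_of_decomp hG hM hKU hK1
  have hUM : U ≤ M := hKU.compl.1
  have hσM : sigmaCore M ≤ M := Cfsg.Agent.Lib.Helper71.BG11.sigmaCore_le M
  have hσn : M ≤ normalizer (sigmaCore M : Set G) :=
    Cfsg.Agent.Lib.Helper71.BG11.le_normalizer_sigmaCore M
  have h63 := (Cfsg.Agent.S1363.result hG M hM K U hKU hK1).2
  -- `|U'| = |U|`
  have hcard' : Nat.card U' = Nat.card U := by
    have h1 := Cfsg.Agent.Lib.Helper31.IsComplIn.card_mul hc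
    rw [← hFH, hcardD] at h1
    exact Nat.eq_of_mul_eq_mul_left Nat.card_pos h1
  -- coprimality
  have hHall : IsPiHallOf (sigma M) (sigmaCore M) M := Cfsg.Agent.Lib.Helper16.BG134.hall_sigma hG hM
  have hE := Cfsg.Agent.Lib.Helper31.BG15.isComplIn_sup_of_sigmaDecomposition hG hM hKU
  have hcop : (Nat.card ↥(sigmaCore M)).Coprime (Nat.card U) := by
    apply Nat.coprime_of_dvd
    intro p hp h1 h2
    exact Cfsg.Agent.Lib.Helper13.BG12.complIn_prime_not_mem_sigma hHall hE p hp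
      (h2.trans (Subgroup.card_dvd_of_le le_sup_left))
      (Cfsg.Agent.Lib.Helper71.BG11.sigmaCore_pi hG hM hp h1)
  have hsolvM : Group.IsSolvable ↥M := Cfsg.Agent.Lib.Helper55.ms_solvable hG hM.1
  have hsolv : Group.IsSolvable ↥(sigmaCore M) := by
    have : Group.IsSolvable ↥((sigmaCore M).subgroupOf M) := inferInstance
    exact solvable_of_surjective (f := (Subgroup.subgroupOfEquivOfLe hσM).toMonoidHom)
      (MulEquiv.surjective _)
  have hB : U' ≤ U ⊔ sigmaCore M := by rw [← hder]; exact hc.2.1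
  obtain ⟨n, hn, hnU⟩ := Cfsg.Agent.Lib.Helper01.conj_by_normal_of_card_eq (hUM.trans hσn) hcop
    (Or.inl hsolv) hB hcard'
  have hnM : n ∈ M := hσM hn
  -- `x ∈ U ↔ n⁻¹ x n ∈ U'`
  have hU : ∀ x : G, x ∈ U ↔ n⁻¹ * x * n ∈ U' := by
    intro x
    rw [← hnU, Subgroup.mem_pointwise_smul_iff_inv_smul_mem]
    simp [MulAut.smul_def, MulAut.conj_apply]
  apply h63
  intro g hg
  have hgn : n⁻¹ * g * n ∈ normalizer (U' : Set G) := by
    rw [Subgroup.mem_normalizer_iff] at hg ⊢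
    intro h
    have h1 : h ∈ U' ↔ n * h * n⁻¹ ∈ U := by
      rw [hU]
      have e : n⁻¹ * (n * h * n⁻¹) * n = h := by group
      rw [e]
    rw [h1, hg (n * h * n⁻¹), hU]
    have e : n⁻¹ * (g * (n * h * n⁻¹) * g⁻¹) * n = n⁻¹ * g * n * h * (n⁻¹ * g * n)⁻¹ := by group
    rw [e]
  have h2 := hN hgn
  have h3 := M.mul_mem (M.mul_mem hnM h2) (M.inv_mem hnM)
  have e : n * (n⁻¹ * g * n) * n⁻¹ = g := by group
  rwa [e] at h3

/-- a maximal subgroup of type `P₂` is not of Type III or IV -/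
theorem not_type34_of_P2 (hG : IsMinSimpleOddOrder G) {M K U : Subgroup G}
    (hM : IsCoatom M) (hKU : IsSigmaDecomposition M K U) (hK1 : K ≠ ⊥) (hU1 : U ≠ ⊥) :
    ¬ (IsOfTypeIII M ∨ IsOfTypeIV M) := by
  rintro (⟨W₁, U', W₂, hP, -, -, -, -, hN⟩ | ⟨W₁, U', W₂, hP, -, -, -, -, hN⟩)
  · exact not_normalizer_le_of_complIn_P2 hG hM hKU hK1 hU1 hP.U_compl hN
  · exact not_normalizer_le_of_complIn_P2 hG hM hKU hK1 hU1 hP.U_compl hN

/-- **S1538 for type `P₂`** (`K ≠ 1`, `U ≠ 1`), hypothesis-free. -/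
theorem s1538_of_P2 (hG : IsMinSimpleOddOrder G) {M K U : Subgroup G}
    (hM : IsCoatom M) (hKU : IsSigmaDecomposition M K U) (hK1 : K ≠ ⊥) (hU1 : U ≠ ⊥) :
    (IsTISubset (typeA0 M) ∧ normalizer (typeA0 M) = M) ∧
      (IsTISubset (typeA M) ∧ normalizer (typeA M) = M) ∧
      (IsTISubset (typeA1 M) ∧ normalizer (typeA1 M) = M) :=
  s1538_of hG hM hKU hK1 hU1 (not_typeI_of_ne_bot hG hM hKU.hall hK1)
    (not_type34_of_P2 hG hM hKU hK1 hU1)

end Cfsg.Agent.Lib.Helper13.BG16
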