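import Mathlib
import Cfsg.Agent.Lib.Helper78.BG128
import Cfsg.Agent.Lib.Helper03.FrobSub
import Cfsg.Agent.Lib.Helper03.CoprimeAbelian
import Cfsg.Agent.Lib.Helper01.Coprime
import Cfsg.Agent.Lib.Helper12.CNMaxSub
import Cfsg.Agent.Lib.Helper71.BG11c
import Cfsg.Agent.Lib.Helper55.SylowIn
import Cfsg.Agent.Lib.Helper13.BG127A
import Cfsg.Agent.Lib.Helper13.BG12B
import Cfsg.Agent.S1350
import Cfsg.Agent.S1417
import Cfsg.Agent.S1418

/-!
# S1421 (BG Theorem 12.11 / Corollary 12.10), leaf (F): the Frobenius argument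

Abelian-Sylow case, `p ∈ τ₂(M)`, `A ≤ E` elementary abelian of order `p ^ 2`, `e ∈ E` of prime order
`r ≠ p` with `C_{M_σ}(e) = 1`.  Then `e` centralizes `A`.
-/

set_option autoImplicit false
set_option linter.unusedSectionVars false
set_option linter.unusedVariables false

namespace Cfsg.Agent.Lib.Helper13.BG1211F

open Cfsg Cfsg.Agent.Lib.Helper55
open scoped commutatorElement

variable {G : Type*} [Group G]

/-- the subgroup `[A, e]`, generated by the commutators `a e a⁻¹ e⁻¹`, `a ∈ A` -/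
def commSub (A : Subgroup G) (e : G) : Subgroup G :=
  Subgroup.closure {x | ∃ a ∈ A, x = a * e * a⁻¹ * e⁻¹}

theorem commSub_le {A : Subgroup G} {e : G} (he : e ∈ Subgroup.normalizer (A : Set G)) :
    commSub A e ≤ A := by
  rw [commSub, Subgroup.closure_le]
  rintro x ⟨a, ha, rfl⟩
  have h1 : e * a⁻¹ * e⁻¹ ∈ A := (Subgroup.mem_normalizer_iff.1 he a⁻¹).1 (A.inv_mem ha)
  have : a * e * a⁻¹ * e⁻¹ = a * (e * a⁻¹ * e⁻¹) := by group
  rw [this]
  exact A.mul_mem ha h1

theorem mem_centralizer_of_commSub_eq_bot {A : Subgroup G} {e : G} (h : commSub A e = ⊥) :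
    e ∈ Subgroup.centralizer (A : Set G) := by
  rw [Subgroup.mem_centralizer_iff]
  intro a ha
  have h1 : a * e * a⁻¹ * e⁻¹ ∈ commSub A e := Subgroup.subset_closure ⟨a, ha, rfl⟩
  rw [h, Subgroup.mem_bot] at h1
  calc a * e = (a * e * a⁻¹ * e⁻¹) * (e * a) := by group
    _ = e * a := by rw [h1, one_mul]

/-- `[A, e]` is invariant under every `n` normalizing `A` that conjugates `e` into `C(A) e` -/
theorem conj_mem_commSub {A : Subgroup G} {e n c : G}
    (hn : ∀ a ∈ A, n * a * n⁻¹ ∈ A) (hc : c ∈ Subgroup.centralizer (A : Set G))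
    (he : e ∈ Subgroup.normalizer (A : Set G)) (hne : n * e * n⁻¹ = c * e) :
    ∀ u ∈ commSub A e, n * u * n⁻¹ ∈ commSub A e := by
  intro u hu
  have hmap : (commSub A e).map (MulAut.conj n).toMonoidHom ≤ commSub A e := by
    rw [commSub, MonoidHom.map_closure, Subgroup.closure_le]
    rintro _ ⟨x, ⟨a, ha, rfl⟩, rfl⟩
    have ha' : n * a * n⁻¹ ∈ A := hn a ha
    have hcomm : (n * a * n⁻¹) * e * (n * a * n⁻¹)⁻¹ * e⁻¹ ∈ A :=
      commSub_le he (Subgroup.subset_closure ⟨_, ha', rfl⟩)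
    have h1 : c * (n * a * n⁻¹) = (n * a * n⁻¹) * c :=
      ((Subgroup.mem_centralizer_iff.1 hc) _ ha').symm
    have h2 : c * ((n * a * n⁻¹) * e * (n * a * n⁻¹)⁻¹ * e⁻¹) =
        ((n * a * n⁻¹) * e * (n * a * n⁻¹)⁻¹ * e⁻¹) * c :=
      ((Subgroup.mem_centralizer_iff.1 hc) _ hcomm).symm
    have key : (MulAut.conj n).toMonoidHom (a * e * a⁻¹ * e⁻¹) =
        (n * a * n⁻¹) * e * (n * a * n⁻¹)⁻¹ * e⁻¹ := by
      have e1 : (MulAut.conj n).toMonoidHom (a * e * a⁻¹ * e⁻¹) =
          (n * a * n⁻¹) * (n * e * n⁻¹) * (n * a * n⁻¹)⁻¹ * (n * e * n⁻¹)⁻¹ := by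
        simp only [MulEquiv.toMonoidHom_eq_coe, MonoidHom.coe_coe, MulAut.conj_apply]
        group
      rw [e1, hne]
      -- (a' (c e) a'⁻¹ (c e)⁻¹) = c (a' e a'⁻¹ e⁻¹) c⁻¹ = a' e a'⁻¹ e⁻¹
      have e2 : (n * a * n⁻¹) * (c * e) * (n * a * n⁻¹)⁻¹ * (c * e)⁻¹ =
          ((n * a * n⁻¹) * c) * (e * (n * a * n⁻¹)⁻¹ * e⁻¹) * c⁻¹ := by group
      rw [e2, ← h1]
      have e3 : c * (n * a * n⁻¹) * (e * (n * a * n⁻¹)⁻¹ * e⁻¹) * c⁻¹ =
          c * ((n * a * n⁻¹) * e * (n * a * n⁻¹)⁻¹ * e⁻¹) * c⁻¹ := by group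
      rw [e3, h2]
      group
    rw [key]
    exact Subgroup.subset_closure ⟨_, ha', rfl⟩
  have := hmap ⟨u, hu, rfl⟩
  simpa using this

variable [Finite G]

/-- coprime action: `C_{[A,e]}(e) = 1` for an abelian group `A` normalized by `e`, with
`|A|` prime to the order of `e` -/
theorem eq_one_of_mem_commSub_of_commute {A : Subgroup G} {e : G}
    (hAc : ∀ a ∈ A, ∀ b ∈ A, a * b = b * a) (he : e ∈ Subgroup.normalizer (A : Set G))
    (hcop : (Nat.card A).Coprime (orderOf e)) {u : G} (hu : u ∈ commSub A e)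
    (hue : e * u = u * e) : u = 1 := by
  set M' : Subgroup G := A ⊔ Subgroup.zpowers e with hM'
  have hAM' : A ≤ M' := le_sup_left
  have heM' : e ∈ M' := (le_sup_right : Subgroup.zpowers e ≤ M') (Subgroup.mem_zpowers e)
  have hzn : Subgroup.zpowers e ≤ Subgroup.normalizer (A : Set G) := by
    rw [Subgroup.zpowers_le]; exact he
  have hcard : Nat.card M' = Nat.card A * Nat.card (Subgroup.zpowers e) := by
    rw [hM', sup_comm]
    exact Cfsg.Agent.Lib.Helper01.card_sup_of_coprime_of_le_normalizer A (Subgroup.zpowers e) hzn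
      (by rwa [Nat.card_zpowers])
  have hrel : A.relIndex M' = orderOf e := by
    have h1 : Nat.card A * A.relIndex M' = Nat.card M' := by
      have := Subgroup.relIndex_mul_relIndex (⊥ : Subgroup G) A M' bot_le hAM'
      rwa [Subgroup.relIndex_bot_left, Subgroup.relIndex_bot_left] at this
    rw [hcard, Nat.card_zpowers] at h1
    have hpos : 0 < Nat.card A := Nat.card_pos
    exact Nat.eq_of_mul_eq_mul_left hpos h1
  have hcomm : IsMulCommutative A := ⟨⟨fun a b => Subtype.ext (hAc a a.2 b b.2)⟩⟩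
  have key := Cfsg.Agent.Lib.Helper03.commutator_inf_centralizer_inf_eq_bot_of_abelian_hall A M' hAM'
    hcomm (by rw [hrel]; exact hcop)
  have huA : u ∈ A := commSub_le he hu
  have hu1 : u ∈ ⁅M', M'⁆ := by
    have : commSub A e ≤ ⁅M', M'⁆ := by
      rw [commSub, Subgroup.closure_le]
      rintro x ⟨a, ha, rfl⟩
      exact Subgroup.commutator_mem_commutator (hAM' ha) heM'
    exact this hu
  have hu2 : u ∈ Subgroup.centralizer (M' : Set G) := by
    have : M' ≤ Subgroup.centralizer ({u} : Set G) := by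
      rw [hM']
      apply sup_le
      · intro a ha
        rw [Subgroup.mem_centralizer_iff]
        intro x hx
        rw [Set.mem_singleton_iff] at hx
        rw [hx]; exact hAc u huA a ha
      · rw [Subgroup.zpowers_le, Subgroup.mem_centralizer_iff]
        intro x hx
        rw [Set.mem_singleton_iff] at hx
        rw [hx]; exact hue.symm
    rw [Subgroup.mem_centralizer_iff]
    intro m hm
    have := (Subgroup.mem_centralizer_iff.1 (this hm)) u (Set.mem_singleton u)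
    exact this.symm
  have : u ∈ ⁅M', M'⁆ ⊓ Subgroup.centralizer (M' : Set G) ⊓ A := ⟨⟨hu1, hu2⟩, huA⟩
  rw [key] at this
  exact Subgroup.mem_bot.1 this


/-- **S1421, leaf (F)**: abelian-Sylow case, `p ∈ τ₂(M)`, `A ≤ E` elementary abelian of order
`p ^ 2`, `S ⊇ A` an abelian Sylow `p`-subgroup of `G`; an element `e ∈ E` of prime order `r ≠ p`
with `C_{M_σ}(e) = 1` centralizes `A`. -/
theorem mem_centralizer_of_fpf (hG : IsMinSimpleOddOrder G) {M E : Subgroup G} (hM : IsCoatom M)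
    (hE : IsComplIn E (sigmaCore M) M) {p : ℕ} [hp : Fact p.Prime] (hpτ : p ∈ tau2 M)
    {A : Subgroup G} (hA : A ≤ E ∧ IsElementaryAbelian p A ∧ Nat.card A = p ^ 2) (S : Sylow p G)
    (hAS : A ≤ (S : Subgroup G))
    (hSab : ∀ x ∈ (S : Subgroup G), ∀ y ∈ (S : Subgroup G), x * y = y * x)
    {e : G} (heE : e ∈ E) {r : ℕ} (hr : r.Prime) (hrp : r ≠ p) (her : orderOf e = r)
    (hfix : sigmaCore M ⊓ Subgroup.centralizer ({e} : Set G) = ⊥) :
    e ∈ Subgroup.centralizer (A : Set G) := by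
  by_contra hne
  have hEM : E ≤ M := hE.1
  have hAM : A ≤ M := hA.1.trans hEM
  obtain ⟨hSE, hES, -, hNN, -⟩ :=
    Cfsg.Agent.Lib.Helper78.BG128.sylow_abelian_structure hG hM hE hpτ hA S hAS hSab
  obtain ⟨h17a, h17b, -, h17d, -, -⟩ :=
    Cfsg.Agent.S1417.result hG M hM p hpτ A ⟨hAM, hA.2.1, hA.2.2⟩
  obtain ⟨⟨hEA, -⟩, -, h18c⟩ := Cfsg.Agent.S1418.result hG M hM E hE p hpτ A hA
  have hS : IsSylowIn p M (S : Subgroup G) := isSylowIn_of_sylow_le S (hSE.trans hEM)
  obtain ⟨-, hS2⟩ := h17b hS.toSylow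
  rw [hS.map_toSylow] at hS2
  obtain ⟨hSΩ, hNSM⟩ := hS2 hAS
  have hAcomm : ∀ a ∈ A, ∀ b ∈ A, a * b = b * a := fun a ha b hb => hSab a (hAS ha) b (hAS hb)
  -- `N(S)` normalizes `A = Ω₁(S)`
  have hNA : ∀ n ∈ Subgroup.normalizer ((S : Subgroup G) : Set G), ∀ a ∈ A, n * a * n⁻¹ ∈ A := by
    intro n hn a ha
    have h1 : n * a * n⁻¹ ∈ (S : Subgroup G) := (Subgroup.mem_normalizer_iff.1 hn a).1 (hAS ha)
    rw [← hSΩ _ h1, conj_pow, hA.2.1.2 a ha]
    group
  have heNA : e ∈ Subgroup.normalizer (A : Set G) := hEA heE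
  have heNS : e ∈ Subgroup.normalizer ((S : Subgroup G) : Set G) := hES heE
  have hCSA : Subgroup.centralizer ((S : Subgroup G) : Set G) ≤ Subgroup.centralizer (A : Set G) :=
    Subgroup.centralizer_le hAS
  set B : Subgroup G := commSub A e with hB
  have hBA : B ≤ A := commSub_le heNA
  have hB1 : B ≠ ⊥ := fun h => hne (mem_centralizer_of_commSub_eq_bot h)
  -- `B` is `N(S)`-invariant
  have hBinv : ∀ n ∈ Subgroup.normalizer ((S : Subgroup G) : Set G), ∀ u ∈ B, n * u * n⁻¹ ∈ B := by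
    intro n hn
    have hc : n * e * n⁻¹ * e⁻¹ ∈ Subgroup.centralizer (A : Set G) :=
      hCSA (hNN (Subgroup.commutator_mem_commutator hn heNS))
    exact conj_mem_commSub (hNA n hn) hc heNA (by group)
  have hNSB : Subgroup.normalizer ((S : Subgroup G) : Set G) ≤ Subgroup.normalizer (B : Set G) :=
    Cfsg.Agent.Lib.Helper78.BG128.le_normalizer_of_conj_mem hBinv
  have hpp : p.Prime := hp.out
  -- `C_{M_σ}(B) = 1`
  have hCB : sigmaCore M ⊓ Subgroup.centralizer (B : Set G) = ⊥ := by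
    rcases Cfsg.Agent.Lib.Helper13.BG127.card_of_le_sq hA.2.2 hBA with h | h | h
    · exact absurd (Subgroup.card_eq_one.1 h) hB1
    · by_contra hcon
      obtain ⟨hCM, huniq⟩ := h18c B hBA h hcon
      have hBtop : B ≠ ⊤ := by
        intro ht
        have : (⊤ : Subgroup G) ≤ M := ht ▸ (hBA.trans hAM)
        exact hM.1 (top_le_iff.1 this)
      obtain ⟨L, hL, hNL⟩ := Cfsg.Agent.Lib.Helper12.CNMaxSub.exists_coatom_normalizer_le hG hB1 hBtop
      have hLM : L = M := huniq L hL ((Subgroup.centralizer_le_normalizer _).trans hNL)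
      exact hNSM (hNSB.trans (hLM ▸ hNL))
    · have hBA' : B = A := Subgroup.eq_of_le_of_card_ge hBA (by rw [h, hA.2.2])
      rw [hBA']; exact h17d
  -- the Frobenius group `B ⟨e⟩` acts on `M_σ`
  have hr1 : e ≠ 1 := by
    intro h1
    rw [h1, orderOf_one] at her
    exact hr.one_lt.ne' her.symm
  have hcopA : (Nat.card A).Coprime (orderOf e) := by
    rw [hA.2.2, her]
    exact Nat.Coprime.pow_left _ ((Nat.coprime_primes hpp hr).2 (Ne.symm hrp))
  have hfpf : ∀ f ∈ Subgroup.zpowers e, f ≠ 1 → ∀ u ∈ B, f * u = u * f → u = 1 := by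
    intro f hf hf1 u hu hfu
    have hzf : Subgroup.zpowers f = Subgroup.zpowers e := by
      have : Fact r.Prime := ⟨hr⟩
      exact Cfsg.Agent.Lib.Helper13.BG127.zpowers_eq_of_card_prime
        (by rw [Nat.card_zpowers, her]) hf hf1
    have hef : e ∈ Subgroup.zpowers f := hzf ▸ Subgroup.mem_zpowers e
    have hle : Subgroup.zpowers f ≤ Subgroup.centralizer ({u} : Set G) := by
      rw [Subgroup.zpowers_le, Subgroup.mem_centralizer_iff]
      intro x hx
      rw [Set.mem_singleton_iff] at hx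
      rw [hx]; exact hfu.symm
    have heu : e * u = u * e :=
      ((Subgroup.mem_centralizer_iff.1 (hle hef)) u (Set.mem_singleton u)).symm
    exact eq_one_of_mem_commSub_of_commute hAcomm heNA hcopA hu heu
  have hUn : ∀ f ∈ Subgroup.zpowers e, ∀ u ∈ B, f * u * f⁻¹ ∈ B := by
    have : Subgroup.zpowers e ≤ Subgroup.normalizer (B : Set G) := by
      rw [Subgroup.zpowers_le]; exact hNSB heNS
    intro f hf u hu
    exact (Subgroup.mem_normalizer_iff.1 (this hf) u).1 hu
  have hBnil : Group.IsNilpotent B :=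
    ((IsPGroup.of_card hA.2.2 : IsPGroup p A).to_le hBA).isNilpotent
  have hBeE : B ⊔ Subgroup.zpowers e ≤ E :=
    sup_le (hBA.trans hA.1) (by rw [Subgroup.zpowers_le]; exact heE)
  have hσM : sigmaCore M ≤ M := Cfsg.Agent.Lib.Helper71.BG11.sigmaCore_le M
  have hHn : ∀ x ∈ B ⊔ Subgroup.zpowers e, ∀ h ∈ sigmaCore M, x * h * x⁻¹ ∈ sigmaCore M := by
    intro x hx h hh
    have hxM : x ∈ M := hEM (hBeE hx)
    exact (Subgroup.mem_normalizer_iff.1
      (Cfsg.Agent.Lib.Helper71.BG11.le_normalizer_sigmaCore M hxM) h).1 hh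
  have hsolv : Group.IsSolvable (sigmaCore M) := by
    apply hG.2.2.2
    intro ht
    exact hM.1 (top_le_iff.1 (ht ▸ hσM))
  have hHall := (Cfsg.Agent.S1350.result hG M hM).1
  have hcop : Nat.Coprime (Nat.card (sigmaCore M)) (Nat.card ↥(B ⊔ Subgroup.zpowers e)) := by
    apply Nat.Coprime.coprime_dvd_right (Subgroup.card_dvd_of_le hBeE)
    apply Nat.coprime_of_dvd'
    intro q hq hq1 hq2
    exact absurd (hHall.2.1 q hq hq1)
      (Cfsg.Agent.Lib.Helper13.BG12.complIn_prime_not_mem_sigma hHall hE q hq hq2)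
  have key := Cfsg.Agent.Lib.Helper03.FrobSub.wielandt_sub B (Subgroup.zpowers e) (sigmaCore M)
    hUn hfpf hBnil hHn hsolv hcop
  have h0 : sigmaCore M ⊓ Subgroup.centralizer ((B ⊔ Subgroup.zpowers e : Subgroup G) : Set G) = ⊥ := by
    apply le_bot_iff.1
    rw [← hCB]
    exact inf_le_inf_left _ (Subgroup.centralizer_le (SetLike.coe_subset_coe.2 le_sup_left))
  have hze : Subgroup.centralizer ((Subgroup.zpowers e : Subgroup G) : Set G) =
      Subgroup.centralizer ({e} : Set G) := by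
    rw [Subgroup.zpowers_eq_closure, Subgroup.centralizer_closure]
  rw [h0, hCB, hze, hfix] at key
  simp only [Subgroup.card_bot, one_pow, one_mul, mul_one] at key
  have hσ1 : sigmaCore M ≠ ⊥ := by
    apply Cfsg.Agent.Lib.Helper71.BG11.sigmaCore_ne_bot hG hM
    intro hMb
    have : A = ⊥ := le_bot_iff.1 (hMb ▸ hAM)
    have hc := hA.2.2
    rw [this, Subgroup.card_bot] at hc
    have : 1 < p ^ 2 := Nat.one_lt_pow (by norm_num) hpp.one_lt
    omega
  exact hσ1 (Subgroup.card_eq_one.1 key)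

end Cfsg.Agent.Lib.Helper13.BG1211F

namespace Cfsg.Agent.Lib.Helper13.BG1211

open Cfsg

variable {G : Type*} [Group G] [Finite G]

/-- **(F)** (keystone 142104, exact signature of `notes/S1421_keystones.lean.txt`) abelian Sylow
case: an element of `E` of prime order `≠ p` that is fixed-point-free on `M_σ` centralizes `A`. -/
theorem prime_order_centralizes (hG : IsMinSimpleOddOrder G) {M : Subgroup G} (hM : IsCoatom M)
    {E : Subgroup G} (hE : IsComplIn E (sigmaCore M) M)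
    {p : ℕ} [Fact p.Prime] (hp : p ∈ tau2 M) {A : Subgroup G}
    (hA : A ≤ E ∧ IsElementaryAbelian p A ∧ Nat.card A = p ^ 2)
    (hab : ∀ S : Sylow p G, ∀ a ∈ (S : Subgroup G), ∀ b ∈ (S : Subgroup G), a * b = b * a)
    {e : G} (heE : e ∈ E) (hr : (orderOf e).Prime) (hrp : orderOf e ≠ p)
    (hfix : sigmaCore M ⊓ Subgroup.centralizer ({e} : Set G) = ⊥) :
    e ∈ Subgroup.centralizer (A : Set G) := by
  obtain ⟨S, hAS⟩ := (IsPGroup.of_card hA.2.2 : IsPGroup p A).exists_le_sylow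
  exact Cfsg.Agent.Lib.Helper13.BG1211F.mem_centralizer_of_fpf hG hM hE hp hA S hAS (hab S) heE hr
    hrp rfl hfix

end Cfsg.Agent.Lib.Helper13.BG1211
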