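import Mathlib
import Cfsg.Agent.Lib.Helper78.BG128
import Cfsg.Agent.Lib.Helper58.BG1217
import Cfsg.Agent.Lib.Helper55.SylowIn
import Cfsg.Agent.Lib.Helper71.BG11a
import Cfsg.Agent.Lib.Helper13.BG127
import Cfsg.Agent.Lib.Helper13.BG12B
import Cfsg.Agent.S1350
import Cfsg.Agent.S1417
import Cfsg.Agent.S1418

/-!
# S1421 (BG 12.11), leaf (I3W): `τ₂(L) ≠ ∅` and `N_G(A) ≤ L` force `L = N_G(A)`
-/

set_option autoImplicit false
set_option linter.unusedSectionVars false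
set_option linter.unusedVariables false

namespace Cfsg.Agent.Lib.Helper13.BG1211

open Cfsg Cfsg.Agent.Lib.Helper55

variable {G : Type*} [Group G] [Finite G]

/-- abelian-Sylow case: `A = Ω₁(S)` for every Sylow `p`-subgroup `S ⊇ A` of `G`
(`S ≤ E` by BG 12.8, then S1417(b)). -/
theorem mem_of_pow_eq_one_of_sylow (hG : IsMinSimpleOddOrder G) {M : Subgroup G} (hM : IsCoatom M)
    {E : Subgroup G} (hE : IsComplIn E (sigmaCore M) M)
    {p : ℕ} [Fact p.Prime] (hp : p ∈ tau2 M) {A : Subgroup G}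
    (hA : A ≤ E ∧ IsElementaryAbelian p A ∧ Nat.card A = p ^ 2) (S : Sylow p G)
    (hAS : A ≤ (S : Subgroup G))
    (hSab : ∀ x ∈ (S : Subgroup G), ∀ y ∈ (S : Subgroup G), x * y = y * x) :
    ∀ s ∈ (S : Subgroup G), s ^ p = 1 → s ∈ A := by
  have hEM : E ≤ M := hE.1
  have hAM : A ≤ M := hA.1.trans hEM
  obtain ⟨hSE, -, -, -, -⟩ :=
    Cfsg.Agent.Lib.Helper78.BG128.sylow_abelian_structure hG hM hE hp hA S hAS hSab
  obtain ⟨-, h17b, -, -, -, -⟩ :=
    Cfsg.Agent.S1417.result hG M hM p hp A ⟨hAM, hA.2.1, hA.2.2⟩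
  have hS : IsSylowIn p M (S : Subgroup G) := isSylowIn_of_sylow_le S (hSE.trans hEM)
  obtain ⟨-, hS2⟩ := h17b hS.toSylow
  rw [hS.map_toSylow] at hS2
  obtain ⟨hSΩ, -⟩ := hS2 hAS
  intro s hs hsp
  exact (hSΩ s hs).1 hsp

/-- **(I3W)** (keystone 142113, exact signature of `notes/S1421_keystones.lean.txt`): if
`N_G(A) ≤ L` and `τ₂(L) ≠ ∅` then `L ≤ N_G(A)`. -/
theorem le_normalizer_of_tau2 (hG : IsMinSimpleOddOrder G) {M : Subgroup G} (hM : IsCoatom M)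
    {E : Subgroup G} (hE : IsComplIn E (sigmaCore M) M)
    {p : ℕ} [Fact p.Prime] (hp : p ∈ tau2 M) {A : Subgroup G}
    (hA : A ≤ E ∧ IsElementaryAbelian p A ∧ Nat.card A = p ^ 2)
    (hab : ∀ S : Sylow p G, ∀ a ∈ (S : Subgroup G), ∀ b ∈ (S : Subgroup G), a * b = b * a)
    {L : Subgroup G} (hL : IsCoatom L) (hNL : Subgroup.normalizer (A : Set G) ≤ L)
    {r : ℕ} (h2 : r ∈ tau2 L) : L ≤ Subgroup.normalizer (A : Set G) := by
  have hAL : A ≤ L := Subgroup.le_normalizer.trans hNL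
  have hAp : IsPGroup p A := IsPGroup.of_card hA.2.2
  have hHallL := (Cfsg.Agent.S1350.result hG L hL).1
  have h17L : Cfsg.Agent.Lib.Helper13.BG12.Hyp17 L :=
    fun q _ hq B hB => Cfsg.Agent.S1417.result hG L hL q hq B hB
  -- `L_σ` is nilpotent
  have hnil : Group.IsNilpotent (sigmaCore L) := by
    haveI : Fact r.Prime := ⟨h2.1⟩
    obtain ⟨E₁, hE₁, -⟩ := Cfsg.Agent.Lib.Helper13.BG12.exists_complIn_ge hG hL hHallL
      (bot_le : (⊥ : Subgroup G) ≤ L) (by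
        intro q hq hqd
        rw [Subgroup.card_bot] at hqd
        exact absurd (Nat.le_of_dvd one_pos hqd) (not_le.2 hq.one_lt))
    obtain ⟨B, hBE, hBe, hBc⟩ :=
      Cfsg.Agent.Lib.Helper13.BG12.exists_elemAb_sq_le_compl hG hL hHallL h2 hE₁
    exact (Cfsg.Agent.S1417.result hG L hL r h2 B ⟨hBE.trans hE₁.1, hBe, hBc⟩).1
  -- `p ∈ σ(L)` and `A ≤ L_σ`
  have hpσ : p ∈ sigma L :=
    Cfsg.Agent.Lib.Helper58.BG12.mem_sigma_of_normalizer_elemAb_le hG hL h17L hA.2.1 hA.2.2 hNL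
  have hAσ : A ≤ sigmaCore L :=
    Cfsg.Agent.Lib.Helper13.BG127.pgroup_le_sigmaCore hG hL hpσ hAL hAp
  -- the normal Sylow `p`-subgroup of `L_σ`
  haveI : Group.IsNilpotent (sigmaCore L) := hnil
  obtain ⟨P, hAP⟩ := (hAp.comap_subtype : IsPGroup p (A.subgroupOf (sigmaCore L))).exists_le_sylow
  have hPle : ∀ Q : Subgroup G, Q ≤ sigmaCore L → IsPGroup p Q →
      Q ≤ (P : Subgroup (sigmaCore L)).map (sigmaCore L).subtype := by
    intro Q hQσ hQ
    obtain ⟨P', hQP'⟩ := (hQ.comap_subtype : IsPGroup p (Q.subgroupOf (sigmaCore L))).exists_le_sylow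
    obtain ⟨g, rfl⟩ := MulAction.exists_smul_eq (sigmaCore L) P P'
    rw [Sylow.smul_eq_of_normal] at hQP'
    intro x hx
    exact ⟨⟨x, hQσ hx⟩, hQP' (Subgroup.mem_subgroupOf.2 hx), rfl⟩
  set W : Subgroup G := (P : Subgroup (sigmaCore L)).map (sigmaCore L).subtype with hW
  have hWp : IsPGroup p W := P.isPGroup'.map _
  obtain ⟨S, hWS⟩ := hWp.exists_le_sylow
  have hAW : A ≤ W := hPle A hAσ hAp
  have hAS : A ≤ (S : Subgroup G) := hAW.trans hWS
  have hΩ := mem_of_pow_eq_one_of_sylow hG hM hE hp hA S hAS (hab S)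
  -- conjugates of `A` under `L`
  refine Cfsg.Agent.Lib.Helper78.BG128.le_normalizer_of_conj_mem ?_
  intro l hl a ha
  have hσn := Cfsg.Agent.Lib.Helper71.BG11.le_normalizer_sigmaCore L hl
  have hconjσ : l * a * l⁻¹ ∈ sigmaCore L := (Subgroup.mem_normalizer_iff.1 hσn a).1 (hAσ ha)
  have hpow : (l * a * l⁻¹) ^ p = 1 := by
    rw [conj_pow, hA.2.1.2 a ha]; group
  have hpp : p.Prime := Fact.out
  have hZ : IsPGroup p (Subgroup.zpowers (l * a * l⁻¹)) := by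
    have hdvd : orderOf (l * a * l⁻¹) ∣ p := orderOf_dvd_of_pow_eq_one hpow
    rcases (Nat.dvd_prime hpp).1 hdvd with h | h
    · exact IsPGroup.of_card (n := 0) (by rw [Nat.card_zpowers, h, pow_zero])
    · exact IsPGroup.of_card (n := 1) (by rw [Nat.card_zpowers, h, pow_one])
  have hxW : l * a * l⁻¹ ∈ W :=
    hPle _ (by rw [Subgroup.zpowers_le]; exact hconjσ) hZ (Subgroup.mem_zpowers _)
  exact hΩ _ (hWS hxW) hpow

end Cfsg.Agent.Lib.Helper13.BG1211
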