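import Mathlib
import Cfsg.Agent.S1351
import Cfsg.Agent.S1352
import Cfsg.Agent.S1366
import Cfsg.Agent.S1375
import Cfsg.Agent.S1378
import Cfsg.Agent.S1435
import Cfsg.Agent.Lib.Helper13.BG16Q
import Cfsg.Agent.Lib.Helper12.CNMaxSub
import Cfsg.Agent.Lib.Helper15.BG1379V8
import Cfsg.Agent.Lib.Helper78.BG152A
import Cfsg.Agent.Lib.Helper71.BG1381Fwd

/-!
# S1376, clauses 1 and 3 (no conjugation transport): if `x ∈ M_σ#`, `C_G(x) ≰ M` and the support `N` of `x`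
has `κ(N) ≠ ∅`, then `κ(M) = ∅`, `M_σ` is nilpotent `= M_F`, and `M_F` is not a TI-subset (helper13)
-/

set_option autoImplicit false
set_option linter.style.haveILetI false
set_option linter.unusedVariables false
set_option linter.unusedSectionVars false

namespace Cfsg.Agent.Lib.Helper13.BG1376

open Cfsg Subgroup Cfsg.Agent.Lib.Helper55 Cfsg.Agent.Lib.Helper11.BG14D

variable {G : Type*} [Group G] [Finite G]

/-- the data produced by BG 15.2 in the situation of S1376 -/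
theorem exists_data (hG : IsMinSimpleOddOrder G) {M : Subgroup G} (hM : IsCoatom M) {x : G}
    (hx : x ∈ sigmaCore M) (hx1 : x ≠ 1) (hxM : ¬ centralizer ({x} : Set G) ≤ M)
    {N : Subgroup G} (hN : IsCoatom N) (hxN : centralizer ({x} : Set G) ≤ N)
    (hkN : (kappa N).Nonempty) :
    ∃ (K U Nstar H : Subgroup G) (r : ℕ) (g : G), IsSigmaDecomposition N K U ∧ K ≠ ⊥ ∧ U ≠ ⊥ ∧
      IsCoatom Nstar ∧ K = sigmaCore Nstar ⊓ centralizer ((Ks N K : Subgroup G) : Set G) ∧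
      IsPiHallOf (kappa Nstar) (Ks N K) Nstar ∧
      r.Prime ∧ r ∣ orderOf x ∧ r ∣ Nat.card U ∧ IsCoatom H ∧ H = cj g M ∧
      kappa H = ∅ ∧ U ≤ sigmaCore H ∧ N ⊓ H = U ⊔ K ∧ K ≤ fittingOf (H ⊓ Nstar) ∧
      IsComplIn (H ⊓ Nstar) (sigmaCore H) H ∧
      x ∈ sigmaA N U ∧ x ∉ sigmaCore N ∧ IsComplIn (M ⊓ N) (sigmaCore N) N := by
  obtain ⟨N', ⟨hN', hxN'⟩, huniq, hNF, -, -, hcomplN, hdec⟩ :=
    Cfsg.Agent.S1375.result hG M hM x hx hx1 hxM
  have hNN : N = N' := huniq N hN hxN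
  subst hNN
  obtain ⟨⟨K, hK⟩, hcyc⟩ := Cfsg.Agent.S1351.result hG N hN
  obtain ⟨⟨U, hKU⟩, -⟩ := Cfsg.Agent.S1352.result hG N hN K (hcyc K hK) hK
  have hK1 : K ≠ ⊥ := Cfsg.Agent.Lib.Helper71.BG1381.ne_bot_of_kappa_nonempty hK hkN
  obtain ⟨hU1, hxA, hxσ⟩ := hdec K U hKU
  obtain ⟨Nstar, ⟨hNstar, hKst, hKstH⟩, -⟩ := Cfsg.Agent.S1366.result hG N hN K U hKU hK1
  -- a prime `r ∣ o(x)` dividing `|U|`
  have hxNmem : x ∈ N := hxN (by
    rw [Subgroup.mem_centralizer_iff]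
    intro h hh
    rw [Set.mem_singleton_iff] at hh
    subst hh; rfl)
  obtain ⟨r, hr, hrx, hrσ⟩ : ∃ r : ℕ, r.Prime ∧ r ∣ orderOf x ∧ ¬ r ∣ Nat.card (sigmaCore N) := by
    by_contra h
    push Not at h
    exact hxσ (Cfsg.Agent.Lib.Helper64.BG1363.mem_sigmaCore_of_orderOf hG hN hxNmem h)
  haveI : Fact r.Prime := ⟨hr⟩
  obtain ⟨hder, -, -, -, hcardD⟩ := Cfsg.Agent.Lib.Helper13.BG16.derived_card_of_decomp hG hN hKU hK1
  have hrU : r ∣ Nat.card U := by
    have hxD : x ∈ ⁅N, N⁆ := by rw [hder]; exact hxA.2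
    have h1 : orderOf x ∣ Nat.card ↥⁅N, N⁆ := by
      have := orderOf_dvd_natCard (⟨x, hxD⟩ : ↥⁅N, N⁆)
      rwa [Subgroup.orderOf_mk] at this
    rw [hcardD] at h1
    rcases (Nat.Prime.dvd_mul hr).mp (hrx.trans h1) with h | h
    · exact absurd h hrσ
    · exact h
  obtain ⟨R⟩ := (inferInstance : Nonempty (Sylow r ↥U))
  -- a maximal subgroup over `N_G(R)`
  have hR1 : ((R : Subgroup U).map U.subtype : Subgroup G) ≠ ⊥ := by
    intro h
    have h1 : Nat.card ((R : Subgroup U).map U.subtype : Subgroup G) = Nat.card (R : Subgroup U) :=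
      Nat.card_congr ((R : Subgroup U).equivMapOfInjective U.subtype U.subtype_injective).toEquiv.symm
    rw [h, Subgroup.card_bot] at h1
    have h2 : r ∣ Nat.card (R : Subgroup U) := R.dvd_card_of_dvd_card hrU
    rw [← h1] at h2
    exact hr.one_lt.ne' (Nat.dvd_one.mp h2)
  have hRtop : ((R : Subgroup U).map U.subtype : Subgroup G) ≠ ⊤ := by
    intro h
    apply hN.1
    rw [eq_top_iff, ← h]
    exact (Subgroup.map_subtype_le _).trans hKU.compl.1
  obtain ⟨H, hH, hNR⟩ := Cfsg.Agent.Lib.Helper12.CNMaxSub.exists_coatom_normalizer_le hG hR1 hRtop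
  obtain ⟨hκH, hUH, hNH, -, hKF, hcomplH⟩ := Cfsg.Agent.S1435.result hG N hN K U hKU hK1 hU1 Nstar
    hNstar hKst hKstH r hrU R H hH hNR
  -- `r ∈ σ(H) ∩ σ(M)`
  have hrH : r ∈ sigma H :=
    Cfsg.Agent.Lib.Helper71.BG11.sigmaCore_pi hG hH hr (hrU.trans (Subgroup.card_dvd_of_le hUH))
  have hrM : r ∈ sigma M := by
    apply Cfsg.Agent.Lib.Helper71.BG11.sigmaCore_pi hG hM hr
    have := orderOf_dvd_natCard (⟨x, hx⟩ : sigmaCore M)
    rw [Subgroup.orderOf_mk] at this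
    exact hrx.trans this
  obtain ⟨g, hg⟩ := (Cfsg.Agent.S1378.result hG).2 M H hM hH ⟨r, hrM, hrH⟩
  exact ⟨K, U, Nstar, H, r, g, hKU, hK1, hU1, hNstar, hKst, hKstH, hr, hrx, hrU, hH, hg, hκH, hUH, hNH,
    hKF, hcomplH, hxA, hxσ, hcomplN⟩

/-- **S1376, clauses 1 and 3** (+ `M_σ` nilpotent `= M_F`). -/
theorem part1 (hG : IsMinSimpleOddOrder G) {M : Subgroup G} (hM : IsCoatom M) {x : G}
    (hx : x ∈ sigmaCore M) (hx1 : x ≠ 1) (hxM : ¬ centralizer ({x} : Set G) ≤ M)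
    {N : Subgroup G} (hN : IsCoatom N) (hxN : centralizer ({x} : Set G) ≤ N)
    (hkN : (kappa N).Nonempty) :
    kappa M = ∅ ∧ Group.IsNilpotent (sigmaCore M) ∧ sigmaCore M = fittingHallOf M ∧
      ¬ IsTISubset (fittingHallOf M : Set G) := by
  obtain ⟨K, U, Nstar, H, r, g, hKU, hK1, hU1, hNstar, hKst, hKstH, hr, hrx, hrU, hH, hg, hκH, hUH,
    hNH, hKF, hcomplH, hxA, hxσ, hcomplN⟩ := exists_data hG hM hx hx1 hxM hN hxN hkN
  -- `κ(M) = ∅`
  have hκM : kappa M = ∅ := by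
    rw [Set.eq_empty_iff_forall_notMem]
    intro q hq
    have hM' : IsCoatom (cj g M) := isCoatom_cj g hM
    have h1 : q ∈ kappa ((cj g M).map (MulAut.conj g⁻¹).toMonoidHom) := by
      have e : (cj g M).map (MulAut.conj g⁻¹).toMonoidHom = M := cj_inv_cj g M
      rw [e]; exact hq
    have h2 := Cfsg.Agent.Lib.Helper15.BG1379.mem_kappa_cj hG hM' g⁻¹ h1
    rw [← hg, hκH] at h2
    exact h2
  -- `M_σ` nilpotent
  have hHall : IsPiHallOf (sigma M) (sigmaCore M) M := Cfsg.Agent.Lib.Helper16.BG134.hall_sigma hG hM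
  obtain ⟨hF1, hFσ, hσD, hDlt, -⟩ := Cfsg.Agent.S1355.result hG M hM
  have hnil : Group.IsNilpotent (sigmaCore M) := by
    by_contra hnn
    have hall := Cfsg.Agent.Lib.Helper78.BG152.all_kappa_of_not_nilpotent hG hM hnn
    -- a prime of `|M : M_σ|`
    have h1 : Nat.card (sigmaCore M) * (sigmaCore M).relIndex M = Nat.card M :=
      Cfsg.Agent.Lib.Helper90.BG14D.card_mul_relIndex hHall.1
    have hne : (sigmaCore M).relIndex M ≠ 1 := by
      intro h
      rw [h, mul_one] at h1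
      have hle : sigmaCore M ≤ M := hHall.1
      have heq : sigmaCore M = M := Subgroup.eq_of_le_of_card_ge hle h1.ge
      have hMD : M ≤ ⁅M, M⁆ := by
        intro m hm
        apply hσD
        rw [heq]; exact hm
      exact lt_irrefl _ (lt_of_le_of_lt hMD hDlt)
    obtain ⟨q, hq, hqd⟩ := Nat.exists_prime_and_dvd hne
    have hqM : q ∣ Nat.card M := by rw [← h1]; exact hqd.mul_left _
    have hqσ : q ∉ sigma M := fun h => hHall.2.2 q hq h hqd
    have := hall q hq hqM hqσ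
    rw [hκM] at this
    exact this
  have hFH : sigmaCore M = fittingHallOf M := Cfsg.Agent.Lib.Helper11.BG144.hC_main hG M hM hnil
  refine ⟨hκM, hnil, hFH, ?_⟩
  intro hTI
  obtain ⟨-, y, hy, hy1, hxy⟩ := hxA.1
  have hyM : y ∉ M := by
    intro h
    have h2 : y ∈ (M ⊓ N) ⊓ sigmaCore N :=
      ⟨⟨h, (Cfsg.Agent.Lib.Helper71.BG11.sigmaCore_le N) hy⟩, hy⟩
    rw [hcomplN.2.2.1, Subgroup.mem_bot] at h2
    exact hy1 h2
  have hσ1 : sigmaCore M ≠ ⊥ := by rw [hFH]; exact hF1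
  have hNF : normalizer ((fittingHallOf M : Subgroup G) : Set G) = M := by
    rw [← hFH]
    exact Cfsg.Agent.Lib.Helper55.ms_normalizer_eq hG hM hσ1 hHall.1
      (Cfsg.Agent.Lib.Helper71.BG11.le_normalizer_sigmaCore M)
  have hyN : y ∉ normalizer ((fittingHallOf M : Subgroup G) : Set G) := by
    rw [hNF]; exact hyM
  have hxF : x ∈ (fittingHallOf M : Set G) := by
    rw [← hFH]; exact hx
  have hconj : y * x * y⁻¹ = x := by
    rw [← hxy, mul_inv_cancel_right]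
  have := hTI y hyN x hxF (by rw [hconj]; exact hxF)
  exact hx1 this

end Cfsg.Agent.Lib.Helper13.BG1376
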