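import Mathlib
import Cfsg.Prelude.Def_OddOrderLocal
import Cfsg.Prelude.Def_Solvable
import Cfsg.Agent.Lib.Helper80.AutOrbitA
import Cfsg.Agent.Lib.Helper16.BG1376Defs

/-!
# S1376 (BG Theorem 15.8), leaf (D): abelian + regular ⟹ cyclic Frobenius complement

Pure group theory: if `M = E S` with `S` normal nilpotent nontrivial, `E ∩ S = 1`, `E ≠ 1`
abelian and every nonidentity element of `E` fixed-point-free on `S`, then `E` (as a subgroup
of `↥M`) is a cyclic Frobenius complement.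
-/

set_option autoImplicit false

namespace Cfsg.Agent.Lib.Helper13.BG1376

open Cfsg Subgroup

variable {G : Type*} [Group G]

/-- A complement `E` of a normal subgroup `S` of `M` acting fixed-point-freely on `S` is a
Frobenius complement of `M`. -/
theorem isFrobeniusComplement_subgroupOf_of_fpf {M S E : Subgroup G}
    (hE : IsComplIn E S M) (hSn : M ≤ normalizer S) (hS1 : S ≠ ⊥) (hE1 : E ≠ ⊥)
    (hfpf : ∀ e ∈ E, e ≠ 1 → ∀ y ∈ S, e * y = y * e → y = 1) :
    IsFrobeniusComplement (E.subgroupOf M) := by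
  obtain ⟨hEM, hSM, hES, hprod⟩ := hE
  refine ⟨?_, ?_, ?_⟩
  · intro h
    apply hE1
    rw [Subgroup.subgroupOf_eq_bot] at h
    exact disjoint_self.mp (h.mono_right hEM)
  · intro h
    rw [Subgroup.subgroupOf_eq_top] at h
    apply hS1
    rw [eq_bot_iff, ← hES]
    exact le_inf (hSM.trans h) le_rfl
  · intro g hg
    rw [eq_bot_iff]
    intro z hz
    rw [Subgroup.mem_inf] at hz
    obtain ⟨hz1, hz2⟩ := hz
    rw [Subgroup.mem_bot]
    rw [Subgroup.mem_pointwise_smul_iff_inv_smul_mem, MulAut.smul_def,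
      MulAut.conj_inv_apply, Subgroup.mem_subgroupOf] at hz2
    rw [Subgroup.mem_subgroupOf] at hz1 hg
    have hx : (g : G)⁻¹ * (z : G) * (g : G) ∈ E := by simpa using hz2
    obtain ⟨a, ha, b, hb, hgab⟩ := hprod (g : G) g.2
    have hb1 : b ≠ 1 := by
      intro hb1
      apply hg
      rw [hgab, hb1, mul_one]
      exact ha
    -- z' = a⁻¹ z a ∈ E
    set z' : G := a⁻¹ * (z : G) * a with hz'
    have hz'E : z' ∈ E := E.mul_mem (E.mul_mem (E.inv_mem ha) hz1) ha
    have hconj : b⁻¹ * z' * b ∈ E := by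
      have : (g : G)⁻¹ * (z : G) * (g : G) = b⁻¹ * z' * b := by
        rw [hgab, hz']; group
      rwa [this] at hx
    -- the commutator lies in E ⊓ S
    have hc1 : z'⁻¹ * (b⁻¹ * z' * b) ∈ E := E.mul_mem (E.inv_mem hz'E) hconj
    have hz'N : z' ∈ normalizer S := hSn (hEM hz'E)
    have hc2 : z'⁻¹ * (b⁻¹ * z' * b) ∈ S := by
      have h1 : z'⁻¹ * b⁻¹ * z'⁻¹⁻¹ ∈ S :=
        (Subgroup.mem_normalizer_iff.mp (Subgroup.inv_mem _ hz'N) b⁻¹).mp (S.inv_mem hb)
      have : z'⁻¹ * (b⁻¹ * z' * b) = (z'⁻¹ * b⁻¹ * z'⁻¹⁻¹) * b := by group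
      rw [this]
      exact S.mul_mem h1 hb
    have hc : z'⁻¹ * (b⁻¹ * z' * b) = 1 := by
      have : z'⁻¹ * (b⁻¹ * z' * b) ∈ E ⊓ S := Subgroup.mem_inf.mpr ⟨hc1, hc2⟩
      rw [hES, Subgroup.mem_bot] at this
      exact this
    have hcomm : z' * b = b * z' := by
      have h1 : b⁻¹ * z' * b = z' := by
        have := congrArg (fun t => z' * t) hc
        simpa [mul_assoc] using this
      calc z' * b = (b * (b⁻¹ * z' * b) * b⁻¹) * b := by group
        _ = b * z' := by rw [h1]; group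
    have hz'1 : z' = 1 := by
      by_contra hne
      exact hb1 (hfpf z' hz'E hne b hb hcomm)
    apply Subtype.ext
    rw [Subgroup.coe_one]
    have : (z : G) = a * z' * a⁻¹ := by rw [hz']; group
    rw [this, hz'1]
    group

/-- An abelian complement `E` of a nontrivial nilpotent normal subgroup `S` of `M` acting
fixed-point-freely on `S` is cyclic (as a subgroup of `↥M`). -/
theorem isCyclic_subgroupOf_of_fpf [Finite G] {M S E : Subgroup G}
    (hSM : S ≤ M) (hSn : M ≤ normalizer S) (hS1 : S ≠ ⊥)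
    (hSnil : Group.IsNilpotent S)
    (hab : ∀ a ∈ E, ∀ b ∈ E, a * b = b * a)
    (hfpf : ∀ e ∈ E, e ≠ 1 → ∀ y ∈ S, e * y = y * e → y = 1) :
    IsCyclic (E.subgroupOf M) := by
  have hnorm : (S.subgroupOf M).Normal := Subgroup.normal_subgroupOf_of_le_normalizer hSn
  have hnil' : Group.IsNilpotent (S.subgroupOf M) :=
    Group.nilpotent_of_mulEquiv (Subgroup.subgroupOfEquivOfLe hSM).symm
  have hnt : Nontrivial (S.subgroupOf M) := by
    rw [Subgroup.nontrivial_iff_ne_bot]
    intro h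
    rw [Subgroup.subgroupOf_eq_bot] at h
    exact hS1 (disjoint_self.mp (h.mono_right hSM))
  set R : Subgroup ↥M := (Subgroup.center ↥(S.subgroupOf M)).map (S.subgroupOf M).subtype with hR
  have : R.Normal := by
    rw [hR]; infer_instance
  have hRS : ∀ y ∈ R, (y : G) ∈ S := by
    intro y hy
    rw [hR, Subgroup.mem_map] at hy
    obtain ⟨c, _, rfl⟩ := hy
    exact Subgroup.mem_subgroupOf.mp c.2
  have hRc : ∀ x ∈ R, ∀ y ∈ R, x * y = y * x := by
    intro x hx y hy
    rw [hR, Subgroup.mem_map] at hx hy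
    obtain ⟨c, hc, rfl⟩ := hx
    obtain ⟨d, hd, rfl⟩ := hy
    have := (Subgroup.mem_center_iff.mp hc d)
    rw [← map_mul, ← map_mul, this]
  have hRne : R ≠ ⊥ := by
    intro h
    rw [hR, Subgroup.map_eq_bot_iff_of_injective _ (Subgroup.subtype_injective _)] at h
    exact (Group.IsNilpotent.center_ne_bot (G := ↥(S.subgroupOf M))) h
  apply Cfsg.Agent.Lib.Helper80.AutOrbit.isCyclic_of_fpf_conj R hRc hRne (E.subgroupOf M)
  · intro x hx y hy
    apply Subtype.ext
    rw [Subgroup.coe_mul, Subgroup.coe_mul]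
    exact hab _ (Subgroup.mem_subgroupOf.mp hx) _ (Subgroup.mem_subgroupOf.mp hy)
  · intro x hx hx1 y hy hxy
    have h1 : (x : G) * (y : G) = (y : G) * (x : G) := by
      have h2 : x * y = y * x := by
        calc x * y = (x * y * x⁻¹) * x := by group
          _ = y * x := by rw [hxy]
      have := congrArg (Subtype.val) h2
      simpa using this
    have hx1' : (x : G) ≠ 1 := fun h => hx1 (Subtype.ext (by simpa using h))
    have := hfpf (x : G) (Subgroup.mem_subgroupOf.mp hx) hx1' (y : G) (hRS y hy) h1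
    exact Subtype.ext (by simpa using this)

/-- Leaf (D) of S1376: abelian + regular ⟹ cyclic Frobenius complement. -/
theorem exists_cyclic_frobeniusComplement [Finite G] {M S E : Subgroup G}
    (hE : IsComplIn E S M) (hSn : M ≤ normalizer S) (hS1 : S ≠ ⊥) (hE1 : E ≠ ⊥)
    (hSnil : Group.IsNilpotent S)
    (hab : ∀ a ∈ E, ∀ b ∈ E, a * b = b * a)
    (hfpf : ∀ e ∈ E, e ≠ 1 → ∀ y ∈ S, e * y = y * e → y = 1) :
    ∃ E' : Subgroup ↥M, IsFrobeniusComplement E' ∧ IsCyclic E' :=
  ⟨E.subgroupOf M, isFrobeniusComplement_subgroupOf_of_fpf hE hSn hS1 hE1 hfpf,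
    isCyclic_subgroupOf_of_fpf hE.2.1 hSn hS1 hSnil hab hfpf⟩

end Cfsg.Agent.Lib.Helper13.BG1376
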