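import Mathlib
import Cfsg.Agent.S1353
import Cfsg.Agent.S1432
import Cfsg.Agent.Lib.Helper13.BG1376A
import Cfsg.Agent.Lib.Helper13.BG1376D
import Cfsg.Agent.Lib.Helper16.BG1376Defs

/-!
# S1376 (BG Theorem 15.8): facts on helper16's configuration `Conf M N Ns K U x`

* `conf_eq_one_of_commute` : helper1's (A): `C_E(x) = 1` for `E = M ∩ N*`;
* `conf_isNilpotent_sigmaCore` : `M_σ` is nilpotent;
* `conf_fpf_of_tau2_empty` : `τ₂(M) = ∅` ⟹ `E` acts fixed-point-freely on `M_σ`;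
* `conf_clause2_of_abelian_fpf` : `E` abelian and f.p.f. ⟹ clause 2 of S1376 for `M`.
-/

set_option autoImplicit false
set_option linter.style.haveILetI false
set_option linter.unusedVariables false
set_option linter.unusedSectionVars false

namespace Cfsg.Agent.Lib.Helper13.BG1376

open Cfsg Subgroup Cfsg.Agent.Lib.Helper16.BG1376

variable {G : Type*} [Group G] [Finite G]

/-- PURE: in `K U` with `K` acting freely on the normal subgroup `U`, an element `k₀ u` with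
`k₀ ≠ 1` has no nontrivial fixed point in `U`. -/
theorem eq_one_of_commute_of_free {K U : Subgroup G} (hKU : K ≤ normalizer (U : Set G))
    (hfree : ∀ k ∈ K, k ≠ 1 → U ⊓ centralizer ({k} : Set G) = ⊥)
    {k₀ u y : G} (hk₀ : k₀ ∈ K) (hk₁ : k₀ ≠ 1) (hu : u ∈ U) (hy : y ∈ U)
    (hc : (k₀ * u) * y = y * (k₀ * u)) : y = 1 := by
  have hfix : ∀ w ∈ U, k₀ * w = w * k₀ → w = 1 := by
    intro w hw hcw
    have : w ∈ U ⊓ centralizer ({k₀} : Set G) := by
      refine Subgroup.mem_inf.mpr ⟨hw, ?_⟩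
      rw [Subgroup.mem_centralizer_iff]
      intro h hh
      rw [Set.mem_singleton_iff] at hh
      subst hh
      exact hcw
    rw [hfree k₀ hk₀ hk₁, Subgroup.mem_bot] at this
    exact this
  have hkN : ∀ w ∈ U, k₀⁻¹ * w * k₀ ∈ U := by
    intro w hw
    have := (Subgroup.mem_normalizer_iff.mp (Subgroup.inv_mem _ (hKU hk₀)) w).mp hw
    simpa using this
  -- the map `v ↦ k₀⁻¹ v⁻¹ k₀ v` on `U` is injective hence surjective
  let f : U → U := fun v => ⟨k₀⁻¹ * (v : G)⁻¹ * k₀ * v, U.mul_mem (hkN _ (U.inv_mem v.2)) v.2⟩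
  have hinj : Function.Injective f := by
    intro v w hvw
    have h1 : k₀⁻¹ * (v : G)⁻¹ * k₀ * v = k₀⁻¹ * (w : G)⁻¹ * k₀ * w := congrArg Subtype.val hvw
    have h2 : k₀ * ((w : G) * (v : G)⁻¹) = ((w : G) * (v : G)⁻¹) * k₀ := by
      have h3 : (v : G)⁻¹ * k₀ * v = (w : G)⁻¹ * k₀ * w := by
        have := congrArg (fun t => k₀ * t) h1
        simpa [mul_assoc] using this
      calc k₀ * ((w : G) * (v : G)⁻¹) = (w : G) * ((w : G)⁻¹ * k₀ * w) * (v : G)⁻¹ := by group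
        _ = (w : G) * ((v : G)⁻¹ * k₀ * v) * (v : G)⁻¹ := by rw [h3]
        _ = ((w : G) * (v : G)⁻¹) * k₀ := by group
    have h4 := hfix _ (U.mul_mem w.2 (U.inv_mem v.2)) h2
    apply Subtype.ext
    have : (w : G) = v := by
      have := mul_inv_eq_one.mp h4
      exact this
    exact this.symm
  have hsurj : Function.Surjective f := Finite.surjective_of_injective hinj
  obtain ⟨v, hv⟩ := hsurj ⟨u, hu⟩
  have hv' : k₀⁻¹ * (v : G)⁻¹ * k₀ * v = u := congrArg Subtype.val hv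
  have he : k₀ * u = (v : G)⁻¹ * k₀ * v := by
    rw [← hv']; group
  rw [he] at hc
  have h5 : k₀ * ((v : G) * y * (v : G)⁻¹) = ((v : G) * y * (v : G)⁻¹) * k₀ := by
    calc k₀ * ((v : G) * y * (v : G)⁻¹) = (v : G) * (((v : G)⁻¹ * k₀ * v) * y) * (v : G)⁻¹ := by group
      _ = (v : G) * (y * ((v : G)⁻¹ * k₀ * v)) * (v : G)⁻¹ := by rw [hc]
      _ = ((v : G) * y * (v : G)⁻¹) * k₀ := by group
  have h6 := hfix _ (U.mul_mem (U.mul_mem v.2 hy) (U.inv_mem v.2)) h5
  have : y = (v : G)⁻¹ * ((v : G) * y * (v : G)⁻¹) * v := by group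
  rw [this, h6]; group

/-- `κ(M) = ∅` forces `M_σ` nilpotent. -/
theorem isNilpotent_sigmaCore_of_kappa_empty (hG : IsMinSimpleOddOrder G) {M : Subgroup G}
    (hM : IsCoatom M) (hκM : kappa M = ∅) : Group.IsNilpotent (sigmaCore M) := by
  have hHall : IsPiHallOf (sigma M) (sigmaCore M) M := Cfsg.Agent.Lib.Helper16.BG134.hall_sigma hG hM
  obtain ⟨hF1, hFσ, hσD, hDlt, -⟩ := Cfsg.Agent.S1355.result hG M hM
  by_contra hnn
  have hall := Cfsg.Agent.Lib.Helper78.BG152.all_kappa_of_not_nilpotent hG hM hnn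
  have h1 : Nat.card (sigmaCore M) * (sigmaCore M).relIndex M = Nat.card M :=
    Cfsg.Agent.Lib.Helper90.BG14D.card_mul_relIndex hHall.1
  have hne : (sigmaCore M).relIndex M ≠ 1 := by
    intro h
    rw [h, mul_one] at h1
    have hle : sigmaCore M ≤ M := hHall.1
    have heq : sigmaCore M = M := Subgroup.eq_of_le_of_card_ge hle h1.ge
    have hMD : M ≤ ⁅M, M⁆ := by
      intro m hm
      apply hσD
      rw [heq]; exact hm
    exact lt_irrefl _ (lt_of_le_of_lt hMD hDlt)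
  obtain ⟨q, hq, hqd⟩ := Nat.exists_prime_and_dvd hne
  have hqM : q ∣ Nat.card M := by rw [← h1]; exact hqd.mul_left _
  have hqσ : q ∉ sigma M := fun h => hHall.2.2 q hq h hqd
  have := hall q hq hqM hqσ
  rw [hκM] at this
  exact this

section conf

variable {M N Ns K U : Subgroup G} {x : G}

theorem conf_K_le_E (h : Conf M N Ns K U x) : K ≤ M ⊓ Ns :=
  h.hKF.trans (by unfold Cfsg.fittingOf; exact Subgroup.map_subtype_le _)

theorem conf_E_ne_bot (h : Conf M N Ns K U x) : M ⊓ Ns ≠ ⊥ := by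
  intro hb
  apply h.hK1
  rw [eq_bot_iff, ← hb]
  exact conf_K_le_E h

theorem conf_x_mem_sigmaCore (h : Conf M N Ns K U x) : x ∈ sigmaCore M := h.hUM h.hxU

theorem conf_sigmaCore_ne_bot (h : Conf M N Ns K U x) : sigmaCore M ≠ ⊥ := by
  intro hb
  have := conf_x_mem_sigmaCore h
  rw [hb, Subgroup.mem_bot] at this
  exact h.hx1 this

theorem conf_isNilpotent_sigmaCore (hG : IsMinSimpleOddOrder G) (h : Conf M N Ns K U x) :
    Group.IsNilpotent (sigmaCore M) :=
  isNilpotent_sigmaCore_of_kappa_empty hG h.hM h.hk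

/-- helper1's (A): no non-identity element of `E = M ∩ N*` centralizes `x`. -/
theorem conf_eq_one_of_commute (hG : IsMinSimpleOddOrder G) (h : Conf M N Ns K U x) {e : G}
    (he : e ∈ M ⊓ Ns) (hex : e * x = x * e) : e = 1 := by
  have heN : e ∈ N := h.hxN (by
    rw [Subgroup.mem_centralizer_iff]
    intro t ht
    rw [Set.mem_singleton_iff] at ht
    subst ht
    exact hex.symm)
  have heUK : e ∈ K ⊔ U := by
    rw [sup_comm, ← h.hMN]
    exact ⟨heN, he.1⟩
  obtain ⟨k₀, hk₀, u, hu, rfl⟩ :=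
    Cfsg.Agent.Lib.Helper01.exists_mul_of_mem_sup h.hKU.normal heUK
  by_cases hk1 : k₀ = 1
  · subst hk1
    rw [one_mul] at he ⊢
    have : u ∈ (M ⊓ Ns) ⊓ sigmaCore M := ⟨he, h.hUM hu⟩
    rw [h.hE.2.2.1, Subgroup.mem_bot] at this
    exact this
  · exfalso
    apply h.hx1
    exact eq_one_of_commute_of_free h.hKU.normal
      (Cfsg.Agent.S1353.result hG N h.hN K U h.hKU) hk₀ hk1 hu h.hxU hex

/-- `τ₂(M) = ∅` (with `κ(M) = ∅`) makes `E = M ∩ N*` act fixed-point-freely on `M_σ`. -/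
theorem conf_fpf_of_tau2_empty (hG : IsMinSimpleOddOrder G) (h : Conf M N Ns K U x)
    (hτ : tau2 M = ∅) :
    ∀ e ∈ M ⊓ Ns, e ≠ 1 → ∀ y ∈ sigmaCore M, e * y = y * e → y = 1 := by
  intro e he he1 y hy hey
  by_contra hy1
  have hHall : IsPiHallOf (sigma M) (sigmaCore M) M := Cfsg.Agent.Lib.Helper16.BG134.hall_sigma hG h.hM
  have hσ : ∀ p : ℕ, p.Prime → p ∣ orderOf e → p ∉ sigma M := by
    intro p hp hpd
    apply Cfsg.Agent.Lib.Helper13.BG12.complIn_prime_not_mem_sigma hHall h.hE p hp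
    have h1 : orderOf (⟨e, he⟩ : ↥(M ⊓ Ns)) = orderOf e := by
      rw [← Subgroup.orderOf_coe]
    rw [← h1] at hpd
    exact hpd.trans (orderOf_dvd_natCard _)
  have hmem : e ∈ M ⊓ centralizer ({y} : Set G) := by
    refine Subgroup.mem_inf.mpr ⟨he.1, ?_⟩
    rw [Subgroup.mem_centralizer_iff]
    intro t ht
    rw [Set.mem_singleton_iff] at ht
    subst ht
    exact hey.symm
  have hne : orderOf e ≠ 1 := fun h' => he1 (orderOf_eq_one_iff.mp h')
  obtain ⟨p, hp, hpd⟩ := Nat.exists_prime_and_dvd hne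
  rcases Cfsg.Agent.S1432.result hG M h.hM y hy hy1 e hmem he1 hσ with ⟨h1, -⟩ | ⟨h1, -⟩
  · have := h1 p hp hpd
    rw [h.hk] at this
    exact this
  · have := h1 p hp hpd
    rw [hτ] at this
    exact this

/-- `E` abelian and f.p.f. on `M_σ` ⟹ clause 2 of S1376 (for the `M` of the configuration). -/
theorem conf_clause2_of_abelian_fpf (hG : IsMinSimpleOddOrder G) (h : Conf M N Ns K U x)
    (hab : ∀ a ∈ M ⊓ Ns, ∀ b ∈ M ⊓ Ns, a * b = b * a)
    (hfpf : ∀ e ∈ M ⊓ Ns, e ≠ 1 → ∀ y ∈ sigmaCore M, e * y = y * e → y = 1) :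
    ∃ E : Subgroup ↥M, IsFrobeniusComplement E ∧ IsCyclic E :=
  exists_cyclic_frobeniusComplement h.hE (Cfsg.Agent.Lib.Helper71.BG11.le_normalizer_sigmaCore M)
    (conf_sigmaCore_ne_bot h) (conf_E_ne_bot h) (conf_isNilpotent_sigmaCore hG h) hab hfpf

end conf

end Cfsg.Agent.Lib.Helper13.BG1376
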