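import Mathlib
import Cfsg.Agent.Lib.Helper13.BG1376E
import Cfsg.Agent.Lib.Helper01.BG1376B

/-!
# S1376 (BG Theorem 15.8): clause 2 on helper16's configuration from `τ₂(M) = ∅`

* `conf_abelian` : `E = M ∩ N*` is abelian (helper1's (B) + (A));
* `isCyclic_of_fpf` : PURE, `IsCyclic ↥E` form of leaf (D);
* `conf_clause2_of_tau2_empty` : `τ₂(M) = ∅` ⟹ clause 2 of S1376 for `M`, and the shape needed by
  S1436 (`∃ E : Subgroup G, IsComplIn E (sigmaCore M) M ∧ IsCyclic E`).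
-/

set_option autoImplicit false
set_option linter.style.haveILetI false
set_option linter.unusedVariables false
set_option linter.unusedSectionVars false

namespace Cfsg.Agent.Lib.Helper13.BG1376

open Cfsg Subgroup Cfsg.Agent.Lib.Helper16.BG1376

variable {G : Type*} [Group G] [Finite G]

/-- PURE: `IsCyclic ↥E` form of leaf (D). -/
theorem isCyclic_of_fpf {M S E : Subgroup G} (hEM : E ≤ M)
    (hSM : S ≤ M) (hSn : M ≤ normalizer (S : Set G)) (hS1 : S ≠ ⊥)
    (hSnil : Group.IsNilpotent S)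
    (hab : ∀ a ∈ E, ∀ b ∈ E, a * b = b * a)
    (hfpf : ∀ e ∈ E, e ≠ 1 → ∀ y ∈ S, e * y = y * e → y = 1) :
    IsCyclic E := by
  haveI := isCyclic_subgroupOf_of_fpf hSM hSn hS1 hSnil hab hfpf
  exact isCyclic_of_surjective (Subgroup.subgroupOfEquivOfLe hEM)
    (Subgroup.subgroupOfEquivOfLe hEM).surjective

section conf

variable {M N Ns K U : Subgroup G} {x : G}

/-- helper1's (B): `E = M ∩ N*` is abelian. -/
theorem conf_abelian (hG : IsMinSimpleOddOrder G) (h : Conf M N Ns K U x) :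
    ∀ a ∈ M ⊓ Ns, ∀ b ∈ M ⊓ Ns, a * b = b * a :=
  Cfsg.Agent.Lib.Helper01.BG1376B.compl_comm hG h.hM h.hE (conf_isNilpotent_sigmaCore hG h)
    (conf_x_mem_sigmaCore h) h.hxp h.hxM (fun e he hex => conf_eq_one_of_commute hG h he hex)

/-- `τ₂(M) = ∅` ⟹ `E = M ∩ N*` is cyclic. -/
theorem conf_isCyclic (hG : IsMinSimpleOddOrder G) (h : Conf M N Ns K U x)
    (hτ : tau2 M = ∅) : IsCyclic ↥(M ⊓ Ns) :=
  isCyclic_of_fpf h.hE.1 h.hE.2.1 (Cfsg.Agent.Lib.Helper71.BG11.le_normalizer_sigmaCore M)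
    (conf_sigmaCore_ne_bot h) (conf_isNilpotent_sigmaCore hG h) (conf_abelian hG h)
    (conf_fpf_of_tau2_empty hG h hτ)

/-- `τ₂(M) = ∅` ⟹ clause 2 of S1376 for the `M` of the configuration, together with the shape
needed by S1436. -/
theorem conf_clause2_of_tau2_empty (hG : IsMinSimpleOddOrder G) (h : Conf M N Ns K U x)
    (hτ : tau2 M = ∅) :
    (∃ E : Subgroup ↥M, IsFrobeniusComplement E ∧ IsCyclic E) ∧
      (∃ E : Subgroup G, IsComplIn E (sigmaCore M) M ∧ IsCyclic E) :=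
  ⟨conf_clause2_of_abelian_fpf hG h (conf_abelian hG h) (conf_fpf_of_tau2_empty hG h hτ),
    M ⊓ Ns, h.hE, conf_isCyclic hG h hτ⟩

end conf

end Cfsg.Agent.Lib.Helper13.BG1376
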