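import Mathlib
import Cfsg.Prelude.Def_OddOrderChar
import Cfsg.Agent.S1382
import Cfsg.Agent.S1436
import Cfsg.Agent.Lib.Helper13.BG16R
import Cfsg.Agent.Lib.Helper11.BG144Glue
import Cfsg.Agent.Lib.Helper81.BG144R
import Cfsg.Agent.Lib.Helper64.BG1363H

/-!
# S1537 (Dade hypothesis for `A₁(M)`, `A(M)`, `A₀(M)`): general tools, the case of type `P₂`
and the case of type `P₁` (helper13)
-/

set_option autoImplicit false
set_option linter.style.haveILetI false
set_option linter.unusedVariables false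
set_option linter.unusedSectionVars false

namespace Cfsg.Agent.Lib.Helper13.BG1537

open Cfsg Subgroup Cfsg.Agent.Lib.Helper55 Cfsg.Agent.Lib.Helper11.BG144

variable {G : Type*} [Group G] [Finite G]

/-! ### elementary facts on the three sets -/

theorem fittingHallOf_le' (M : Subgroup G) : fittingHallOf M ≤ M := by
  unfold fittingHallOf
  exact Subgroup.map_subtype_le _

theorem derived_le' (M : Subgroup G) : ⁅M, M⁆ ≤ M :=
  Subgroup.commutator_le.mpr (fun a ha b hb =>
    M.mul_mem (M.mul_mem (M.mul_mem ha hb) (M.inv_mem ha)) (M.inv_mem hb))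

theorem typeCore_le' (M : Subgroup G) : typeCore M ≤ M := by
  classical
  unfold typeCore
  split_ifs
  · exact derived_le' M
  · exact fittingHallOf_le' M

theorem typeA1_subset (M : Subgroup G) : typeA1 M ⊆ (M : Set G) :=
  fun a ha => typeCore_le' M ha.1

theorem one_not_mem_typeA1 (M : Subgroup G) : (1 : G) ∉ typeA1 M :=
  fun h => h.2 rfl

theorem typeA_subset (M : Subgroup G) : typeA M ⊆ (M : Set G) := by
  classical
  intro a ha
  unfold typeA at ha
  split_ifs at ha
  · exact ha.1
  · exact derived_le' M ha.1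

theorem one_not_mem_typeA (M : Subgroup G) : (1 : G) ∉ typeA M := by
  classical
  intro ha
  unfold typeA at ha
  split_ifs at ha
  · exact ha.2.1 rfl
  · exact ha.2.1 rfl

theorem typeA0_subset (M : Subgroup G) : typeA0 M ⊆ (M : Set G) := by
  intro a ha
  rcases ha with ha | ⟨-, W₁, U, W₂, hP, m, hm, w, hw, -, -, rfl⟩
  · exact typeA_subset M ha
  · have hW₁ : W₁ ≤ M := hP.W₁_compl.2.1
    have hW₂ : W₂ ≤ M := (hP.W₂_le.trans inf_le_left).trans (fittingHallOf_le' M)
    have hwM : w ∈ M := (sup_le hW₁ hW₂) hw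
    exact M.mul_mem (M.mul_mem hm hwM) (M.inv_mem hm)

theorem one_not_mem_typeA0 (M : Subgroup G) : (1 : G) ∉ typeA0 M := by
  intro ha
  rcases ha with ha | ⟨-, W₁, U, W₂, hP, m, hm, w, hw, hw1, -, h⟩
  · exact one_not_mem_typeA M ha
  · apply hw1
    have : w = 1 := by
      have h2 : m⁻¹ * (m * w * m⁻¹) * m = w := by group
      rw [← h2, ← h]; group
    rw [this]; exact W₁.one_mem

/-! ### TI-subsets with normalizer `M` satisfy the Dade hypothesis with trivial supports -/

/-- PURE: a TI-subset `A` of `M` with `N_G(A) = M` satisfies the Dade hypothesis (all the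
supporting subgroups are trivial). -/
theorem dade_of_ti {A : Set G} {M : Subgroup G} (hTI : IsTISubset A)
    (hN : normalizer A = M) (h1 : (1 : G) ∉ A) (hAM : A ⊆ (M : Set G)) :
    DadeHypothesis A M (supportR M) := by
  have hcent : ∀ a ∈ A, centralizer ({a} : Set G) ≤ M := by
    intro a ha c hc
    by_contra hcM
    have hcN : c ∉ normalizer A := by rw [hN]; exact hcM
    have hca : c * a * c⁻¹ = a := by
      have := Subgroup.mem_centralizer_iff.mp hc a (Set.mem_singleton a)
      rw [← this, mul_inv_cancel_right]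
    have := hTI c hcN a ha (by rw [hca]; exact ha)
    exact h1 (this ▸ ha)
  have hR : ∀ a ∈ A, supportR M a = ⊥ := fun a ha =>
    Cfsg.Agent.Lib.Helper81.BG144.supportR_eq_bot M a (hcent a ha)
  refine
    { one_not_mem := h1
      subset := hAM
      conj_mem := ?_
      fusion := ?_
      le_centralizer := ?_
      conj_mem_H := ?_
      inf_eq_bot := ?_
      sup_eq := ?_
      coprime := ?_ }
  · intro x hx a ha
    have hxN : x ∈ normalizer A := by rw [hN]; exact hx
    exact (Subgroup.mem_set_normalizer_iff.mp hxN a).mp ha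
  · intro a ha g hg
    by_cases hgM : g ∈ M
    · exact ⟨g, hgM, rfl⟩
    · exfalso
      have hgN : g ∉ normalizer A := by rw [hN]; exact hgM
      have := hTI g hgN a ha hg
      exact h1 (this ▸ ha)
  · intro a ha
    rw [hR a ha]; exact bot_le
  · intro a ha c hc u hu
    rw [hR a ha, Subgroup.mem_bot] at hu
    rw [hR a ha, Subgroup.mem_bot, hu]; group
  · intro a ha
    rw [hR a ha]; exact bot_inf_eq _
  · intro a ha
    rw [hR a ha, bot_sup_eq]; exact inf_eq_right.mpr (hcent a ha)
  · intro a ha b hb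
    rw [hR a ha, Subgroup.card_bot]; exact Nat.coprime_one_left _

/-- **S1537 for type `P₂`** (`K ≠ 1`, `U ≠ 1`). -/
theorem dade_P2 (hG : IsMinSimpleOddOrder G) {M K U : Subgroup G} (hM : IsCoatom M)
    (hKU : IsSigmaDecomposition M K U) (hK1 : K ≠ ⊥) (hU1 : U ≠ ⊥) (A : Set G)
    (hA : A = typeA1 M ∨ A = typeA M ∨ A = typeA0 M) :
    normalizer A = M ∧ DadeHypothesis A M (supportR M) := by
  obtain ⟨⟨hTI0, hN0⟩, ⟨hTIA, hNA⟩, ⟨hTI1, hN1⟩⟩ :=
    Cfsg.Agent.Lib.Helper13.BG16.s1538_of_P2 hG hM hKU hK1 hU1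
  rcases hA with rfl | rfl | rfl
  · exact ⟨hN1, dade_of_ti hTI1 hN1 (one_not_mem_typeA1 M) (typeA1_subset M)⟩
  · exact ⟨hNA, dade_of_ti hTIA hNA (one_not_mem_typeA M) (typeA_subset M)⟩
  · exact ⟨hN0, dade_of_ti hTI0 hN0 (one_not_mem_typeA0 M) (typeA0_subset M)⟩

end Cfsg.Agent.Lib.Helper13.BG1537
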