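import Mathlib
import Cfsg.Prelude.Def_OddOrder
import Cfsg.Prelude.Def_OddOrderChar
import Cfsg.Prelude.Def_OddOrderLocal
import Cfsg.Agent.S1537
import Cfsg.Agent.S1500
import Cfsg.Agent.S1501
import Cfsg.Agent.S1528
import Cfsg.Agent.Lib.Helper34.FrobTI

/-!
# S1542 glue, Dade side (helper13)

`L` a maximal subgroup of Type I of a minimal simple group of odd order `G`, in which every non-identity
element of `H = L_F` has its centraliser in `L` inside `H` (`hfrob`).

* `typeA_eq` : `A(L) = H ∖ {1}`.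
* `hC_of_hfrob` : the centraliser condition inside `↥L`.
* `irr_of_mem` : the members of `S = inducedIrrAbove (fittingHall L) ⊥` are irreducible characters.
* `mem_zspanOn_facts` : members of `ℤ[S]` vanishing at `1` are generalized characters vanishing off `A(L)`.
* `dade_lio` : the Dade map of `(A(L), L, R)` is a linear isometry on `zspanOn S {1}ᶜ`, with values
  vanishing at `1`.
-/

set_option autoImplicit false

namespace Cfsg.Agent.Lib.Helper13.BG1542

open Cfsg Cfsg.Agent.Lib.Helper34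

section Basic

variable {G : Type*} [Group G]

theorem coe_mem_fittingHallOf {L : Subgroup G} (y : L) :
    (y : G) ∈ fittingHallOf L ↔ y ∈ fittingHall L := by
  unfold fittingHallOf
  constructor
  · rintro ⟨z, hz, hzy⟩
    have : z = y := Subtype.ext hzy
    rwa [← this]
  · intro h
    exact ⟨y, h, rfl⟩

theorem fittingHallOf_le (L : Subgroup G) : fittingHallOf L ≤ L := by
  unfold fittingHallOf
  rintro x ⟨z, -, rfl⟩
  exact z.2

/-- the centraliser condition, inside `↥L` -/
theorem hC_of_hfrob (L : Subgroup G)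
    (hfrob : ∀ x ∈ fittingHallOf L, x ≠ 1 →
      L ⊓ Subgroup.centralizer ({x} : Set G) ≤ fittingHallOf L) :
    ∀ k ∈ fittingHall L, k ≠ 1 → Subgroup.centralizer ({k} : Set L) ≤ fittingHall L := by
  intro k hk hk1 y hy
  have h1 : (k : G) ∈ fittingHallOf L := (coe_mem_fittingHallOf k).2 hk
  have h2 : (k : G) ≠ 1 := fun h => hk1 (Subtype.ext h)
  have h3 : (y : G) ∈ L ⊓ Subgroup.centralizer ({(k : G)} : Set G) := by
    rw [Subgroup.mem_centralizer_iff] at hy
    refine Subgroup.mem_inf.2 ⟨y.2, Subgroup.mem_centralizer_iff.2 ?_⟩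
    intro z hz
    rw [Set.mem_singleton_iff] at hz
    subst hz
    have := hy k (Set.mem_singleton k)
    exact congrArg Subtype.val this
  exact (coe_mem_fittingHallOf y).1 (hfrob _ h1 h2 h3)

/-- `A(L) = H ∖ {1}` for `L` of Type I with the Frobenius condition -/
theorem typeA_eq (L : Subgroup G) (hI : IsOfTypeI L)
    (hfrob : ∀ x ∈ fittingHallOf L, x ≠ 1 →
      L ⊓ Subgroup.centralizer ({x} : Set G) ≤ fittingHallOf L) :
    typeA L = (fittingHallOf L : Set G) \ {1} := by
  classical
  unfold typeA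
  rw [if_pos hI]
  ext a
  simp only [Set.mem_ofPred_eq, Set.mem_sdiff, SetLike.mem_coe, Set.mem_singleton_iff]
  constructor
  · rintro ⟨haL, ha1, x, hx, hx1, hax⟩
    refine ⟨hfrob x hx hx1 (Subgroup.mem_inf.2 ⟨haL, Subgroup.mem_centralizer_iff.2 ?_⟩), ha1⟩
    intro z hz
    rw [Set.mem_singleton_iff] at hz
    subst hz
    exact hax.symm
  · rintro ⟨haH, ha1⟩
    exact ⟨fittingHallOf_le L haH, ha1, a, haH, ha1, rfl⟩

end Basic

section Char

variable {G : Type*} [Group G] [Fintype G]

/-- the members of `S` are irreducible characters of `L` -/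
theorem irr_of_mem (L : Subgroup G) [Fintype L]
    (hfrob : ∀ x ∈ fittingHallOf L, x ≠ 1 →
      L ⊓ Subgroup.centralizer ({x} : Set G) ≤ fittingHallOf L) :
    ∀ χ ∈ inducedIrrAbove (fittingHall L) ⊥, IsIrrCharacter L χ := by
  classical
  rintro χ ⟨θ, hθ, hne, -, rfl⟩
  let _ : Fintype (fittingHall L) := Fintype.ofFinite _
  exact Cfsg.Agent.S1528.ind_irr (fittingHall L) (hC_of_hfrob L hfrob) θ hθ hne

omit [Fintype G] in
/-- members of `ℤ[S]`: generalized characters vanishing off `H` -/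
theorem mem_zspan_facts (L : Subgroup G) [Fintype L] {α : L → ℂ}
    (hα : α ∈ zspan (inducedIrrAbove (fittingHall L) ⊥)) :
    IsGeneralizedCharacter L α ∧ ∀ x : L, x ∉ fittingHall L → α x = 0 := by
  classical
  refine zspan_induction (p := fun α => IsGeneralizedCharacter L α ∧
    ∀ x : L, x ∉ fittingHall L → α x = 0) hα ?_ ?_ ?_ ?_
  · rintro χ ⟨θ, hθ, -, -, rfl⟩
    refine ⟨isGeneralizedCharacter_indFun _ (isGeneralizedCharacter_of_irr hθ), ?_⟩
    intro x hx
    exact indFun_normal_apply_not_mem (fittingHall L) θ hx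
  · exact ⟨isGeneralizedCharacter_zero, fun _ _ => rfl⟩
  · rintro x y ⟨hx1, hx2⟩ ⟨hy1, hy2⟩
    refine ⟨isGeneralizedCharacter_add hx1 hy1, fun z hz => ?_⟩
    rw [Pi.add_apply, hx2 z hz, hy2 z hz, add_zero]
  · rintro x ⟨hx1, hx2⟩
    refine ⟨isGeneralizedCharacter_neg hx1, fun z hz => ?_⟩
    rw [Pi.neg_apply, hx2 z hz, neg_zero]

/-- members of `ℤ[S]` vanishing at `1`: generalized characters vanishing off `A(L)` -/
theorem mem_zspanOn_facts (L : Subgroup G) [Fintype L] (hI : IsOfTypeI L)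
    (hfrob : ∀ x ∈ fittingHallOf L, x ≠ 1 →
      L ⊓ Subgroup.centralizer ({x} : Set G) ≤ fittingHallOf L) {α : L → ℂ}
    (hα : α ∈ zspanOn (inducedIrrAbove (fittingHall L) ⊥) {1}ᶜ) :
    IsGeneralizedCharacter L α ∧ ∀ x : L, (x : G) ∉ typeA L → α x = 0 := by
  obtain ⟨h1, h2⟩ := mem_zspan_facts L hα.1
  refine ⟨h1, fun x hx => ?_⟩
  rw [typeA_eq L hI hfrob] at hx
  by_cases hx1 : x = 1
  · apply hα.2
    simp [hx1]
  · apply h2
    intro hxH
    apply hx
    refine ⟨(coe_mem_fittingHallOf x).2 hxH, ?_⟩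
    rw [Set.mem_singleton_iff]
    intro h
    exact hx1 (Subtype.ext h)

end Char

section Dade

variable {G : Type*} [Group G]

/-- the Dade map is additive (pointwise, from the definition) -/
theorem dade_add (A : Set G) (L : Subgroup G) (H : G → Subgroup G) (α β : L → ℂ) :
    dadeIsometry A L H (α + β) = dadeIsometry A L H α + dadeIsometry A L H β := by
  classical
  funext g
  unfold dadeIsometry
  by_cases h : ∃ a : ↥L, (a : G) ∈ A ∧ ∃ x : G, ∃ u ∈ H (a : G), x * g * x⁻¹ = (a : G) * u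
  · simp only [Pi.add_apply, dif_pos h]
  · simp only [Pi.add_apply, dif_neg h, add_zero]

/-- the Dade map commutes with integer scalars (pointwise, from the definition) -/
theorem dade_zsmul (A : Set G) (L : Subgroup G) (H : G → Subgroup G) (n : ℤ) (α : L → ℂ) :
    dadeIsometry A L H (n • α) = n • dadeIsometry A L H α := by
  classical
  funext g
  unfold dadeIsometry
  by_cases h : ∃ a : ↥L, (a : G) ∈ A ∧ ∃ x : G, ∃ u ∈ H (a : G), x * g * x⁻¹ = (a : G) * u
  · simp only [Pi.smul_apply, dif_pos h]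
  · simp only [Pi.smul_apply, dif_neg h, smul_zero]

/-- under the Dade hypothesis the Dade image vanishes at `1` -/
theorem dade_apply_one {A : Set G} {L : Subgroup G} {H : G → Subgroup G}
    (hD : DadeHypothesis A L H) (α : L → ℂ) : dadeIsometry A L H α 1 = 0 := by
  classical
  unfold dadeIsometry
  rw [dif_neg]
  rintro ⟨a, ha, x, u, hu, hx⟩
  have h1 : (a : G) * u = 1 := by rw [← hx]; group
  have h2 : u = (a : G)⁻¹ := eq_inv_of_mul_eq_one_right h1
  have h3 : u ∈ L ⊓ Subgroup.centralizer ({(a : G)} : Set G) := by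
    rw [h2]
    refine Subgroup.mem_inf.2 ⟨L.inv_mem a.2, Subgroup.inv_mem _ (Subgroup.mem_centralizer_iff.2 ?_)⟩
    intro z hz
    rw [Set.mem_singleton_iff] at hz
    subst hz
    rfl
  have h4 : u ∈ H (a : G) ⊓ (L ⊓ Subgroup.centralizer ({(a : G)} : Set G)) :=
    Subgroup.mem_inf.2 ⟨hu, h3⟩
  rw [hD.inf_eq_bot (a : G) ha, Subgroup.mem_bot] at h4
  rw [h4, mul_one] at h1
  apply hD.one_not_mem
  rw [← h1]
  exact ha

end Dade

section Main

variable {G : Type*} [Group G] [Fintype G]

/-- **Leaf (1) of the S1542 glue**: the Dade map of `(A(L), L, R)` is a linear isometry on the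
integer combinations of `S` vanishing at `1`, with values vanishing at `1`. -/
theorem dade_lio (hG : IsMinSimpleOddOrder G) (L : Subgroup G) [Fintype L] (hL : IsCoatom L)
    (hI : IsOfTypeI L)
    (hfrob : ∀ x ∈ fittingHallOf L, x ≠ 1 →
      L ⊓ Subgroup.centralizer ({x} : Set G) ≤ fittingHallOf L) :
    DadeHypothesis (typeA L) L (supportR L) ∧
    IsLinearIsometryOn (zspanOn (inducedIrrAbove (fittingHall L) ⊥) {1}ᶜ)
      (dadeIsometry (typeA L) L (supportR L)) ∧
    ∀ α ∈ zspanOn (inducedIrrAbove (fittingHall L) ⊥) {1}ᶜ,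
      dadeIsometry (typeA L) L (supportR L) α 1 = 0 := by
  have hD : DadeHypothesis (typeA L) L (supportR L) :=
    (Cfsg.Agent.S1537.result hG L hL (typeA L) (Or.inr (Or.inl rfl))).2
  refine ⟨hD, ⟨?_, ?_, ?_, ?_⟩, ?_⟩
  · intro α _ β _
    exact dade_add _ _ _ α β
  · intro α _ n
    exact dade_zsmul _ _ _ n α
  · intro α hα β hβ
    obtain ⟨ha1, ha2⟩ := mem_zspanOn_facts L hI hfrob hα
    obtain ⟨hb1, hb2⟩ := mem_zspanOn_facts L hI hfrob hβ
    exact (Cfsg.Agent.S1500.result (typeA L) L (supportR L) hD α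
      (isGeneralizedCharacter_isClassFunction ha1) ha2).1 β
      (isGeneralizedCharacter_isClassFunction hb1) hb2
  · intro α hα
    obtain ⟨ha1, ha2⟩ := mem_zspanOn_facts L hI hfrob hα
    exact Cfsg.Agent.S1501.result (typeA L) L (supportR L) hD α ha1 ha2
  · intro α _
    exact dade_apply_one hD α

end Main

end Cfsg.Agent.Lib.Helper13.BG1542
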