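import Mathlib
import Cfsg.Agent.Lib.Helper38.CD3.Defs
import Cfsg.Agent.Lib.Helper38.PGroup
import Cfsg.Agent.S0858
import Cfsg.Agent.S0859

/-!
# K-CD3-N7 (446007, helper13, parallel hand): abelian normal subgroup of `p`-power index => M-group
-/

set_option autoImplicit false

namespace Cfsg.Agent.Lib.Helper13.CD3

open Cfsg Cfsg.Agent.Lib.Helper97

universe u

/-- a chief factor `K/L` of `H₁` with `|H₁ : L|` a power of `p` has order `p` -/
theorem n7_chief_prime {G : Type u} [Group G] [Finite G] (p : ℕ) [hp : Fact p.Prime]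
    (H₁ K L : Subgroup G) (hLK : L < K) (hKH : K ≤ H₁)
    (hpow : ∃ k : ℕ, L.relIndex H₁ = p ^ k)
    (hKn : ∀ h ∈ H₁, ∀ k ∈ K, h * k * h⁻¹ ∈ K) (hLn : ∀ h ∈ H₁, ∀ l ∈ L, h * l * h⁻¹ ∈ L)
    (hmin : ∀ M : Subgroup G, L ≤ M → M ≤ K → (∀ h ∈ H₁, ∀ m ∈ M, h * m * h⁻¹ ∈ M) → M = L ∨ M = K) :
    L.relIndex K = p := by
  classical
  have hLH : L ≤ H₁ := hLK.le.trans hKH
  set L' : Subgroup H₁ := L.subgroupOf H₁ with hL'
  set K' : Subgroup H₁ := K.subgroupOf H₁ with hK'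
  have hL'n : L'.Normal := by
    constructor
    intro n hn g
    rw [hL', Subgroup.mem_subgroupOf] at hn ⊢
    simpa using hLn g g.2 n hn
  have hK'n : K'.Normal := by
    constructor
    intro n hn g
    rw [hK', Subgroup.mem_subgroupOf] at hn ⊢
    simpa using hKn g g.2 n hn
  have hL'K' : L' ≤ K' := by
    intro x hx
    rw [hL', Subgroup.mem_subgroupOf] at hx
    rw [hK', Subgroup.mem_subgroupOf]
    exact hLK.le hx
  -- the quotient `P`
  have hPcard : Nat.card (H₁ ⧸ L') = L.relIndex H₁ := by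
    rw [← Subgroup.index_eq_card]
    rfl
  obtain ⟨k, hk⟩ := hpow
  have hP : IsPGroup p (H₁ ⧸ L') := IsPGroup.of_card (n := k) (by rw [hPcard, hk])
  set f : H₁ →* H₁ ⧸ L' := QuotientGroup.mk' L' with hf
  have hfs : Function.Surjective f := QuotientGroup.mk'_surjective L'
  set Kb : Subgroup (H₁ ⧸ L') := K'.map f with hKb
  have hKbn : Kb.Normal := Subgroup.Normal.map hK'n f hfs
  have hKb1 : Kb ≠ ⊥ := by
    obtain ⟨x, hxK, hxL⟩ := SetLike.exists_of_lt hLK
    intro h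
    have hx : f ⟨x, hKH hxK⟩ ∈ Kb := ⟨⟨x, hKH hxK⟩, by rw [hK']; exact hxK, rfl⟩
    rw [h, Subgroup.mem_bot] at hx
    have : (⟨x, hKH hxK⟩ : H₁) ∈ L' := (QuotientGroup.eq_one_iff _).1 hx
    exact hxL this
  obtain ⟨x, hxK, hxZ, hx1⟩ := Cfsg.Agent.Lib.Helper38.normal_inf_center_ne_bot p hP Kb hKb1
  obtain ⟨j, hj⟩ := hP x
  have hord : ∃ k : ℕ, orderOf x = p ^ k := by
    have h1 : orderOf x ∣ p ^ j := orderOf_dvd_of_pow_eq_one hj
    obtain ⟨i, -, hi⟩ := (Nat.dvd_prime_pow hp.out).1 h1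
    exact ⟨i, hi⟩
  obtain ⟨n, hn⟩ := Cfsg.Agent.Lib.Helper38.exists_pow_orderOf_eq_prime p x hx1 hord
  set z := x ^ n with hz
  have hzK : z ∈ Kb := Kb.pow_mem hxK n
  have hzZ : z ∈ Subgroup.center (H₁ ⧸ L') := (Subgroup.center _).pow_mem hxZ n
  set Zb : Subgroup (H₁ ⧸ L') := Subgroup.zpowers z with hZb
  have hZbK : Zb ≤ Kb := by
    rw [hZb, Subgroup.zpowers_le]; exact hzK
  have hZbcard : Nat.card Zb = p := by rw [hZb, Nat.card_zpowers, hn]
  have hZbn : Zb.Normal := by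
    constructor
    intro y hy g
    have hyZ : y ∈ Subgroup.center (H₁ ⧸ L') := by
      rw [hZb] at hy
      obtain ⟨i, rfl⟩ := Subgroup.mem_zpowers_iff.1 hy
      exact (Subgroup.center _).zpow_mem hzZ i
    rw [Subgroup.mem_center_iff] at hyZ
    rw [hyZ g, mul_inv_cancel_right]
    exact hy
  -- the preimage
  set M' : Subgroup H₁ := Zb.comap f with hM'
  have hM'n : M'.Normal := Subgroup.Normal.comap hZbn f
  set M : Subgroup G := M'.map H₁.subtype with hM
  have hLM : L ≤ M := by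
    intro l hl
    refine ⟨⟨l, hLH hl⟩, ?_, rfl⟩
    show f ⟨l, hLH hl⟩ ∈ Zb
    have : f ⟨l, hLH hl⟩ = 1 := (QuotientGroup.eq_one_iff _).2 hl
    rw [this]
    exact Zb.one_mem
  have hcomapKb : Kb.comap f = K' := by
    rw [hKb, Subgroup.comap_map_eq, hf, QuotientGroup.ker_mk']
    exact sup_eq_left.2 hL'K'
  have hM'K' : M' ≤ K' := by
    rw [← hcomapKb, hM']
    exact Subgroup.comap_mono hZbK
  have hMK : M ≤ K := by
    rintro _ ⟨y, hy, rfl⟩
    have := hM'K' hy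
    rw [hK', Subgroup.mem_subgroupOf] at this
    exact this
  have hMn : ∀ h ∈ H₁, ∀ m ∈ M, h * m * h⁻¹ ∈ M := by
    rintro h hh _ ⟨y, hy, rfl⟩
    refine ⟨(⟨h, hh⟩ : H₁) * y * (⟨h, hh⟩ : H₁)⁻¹, hM'n.conj_mem y hy _, by simp⟩
  have hMeq : M = K := by
    rcases hmin M hLM hMK hMn with h | h
    · exfalso
      -- `Zb = ⊥`
      have h1 : M' ≤ L' := by
        intro y hy
        rw [hL', Subgroup.mem_subgroupOf, ← h]
        exact ⟨y, hy, rfl⟩
      have h2 : Zb ≤ ⊥ := by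
        intro w hw
        obtain ⟨y, rfl⟩ := hfs w
        have : y ∈ L' := h1 (by rw [hM', Subgroup.mem_comap]; exact hw)
        rw [Subgroup.mem_bot]
        exact (QuotientGroup.eq_one_iff _).2 this
      have h3 : Nat.card Zb = 1 := by
        rw [le_bot_iff.1 h2]; exact Subgroup.card_bot
      rw [hZbcard] at h3
      exact hp.out.one_lt.ne' h3
    · exact h
  -- `Kb = Zb`
  have hK'M' : K' = M' := by
    ext y
    rw [hK', Subgroup.mem_subgroupOf, ← hMeq]
    constructor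
    · rintro ⟨w, hw, hwy⟩
      have : w = y := Subtype.ext hwy
      rw [← this]; exact hw
    · intro hy
      exact ⟨y, hy, rfl⟩
  have hKbZb : Kb = Zb := by
    rw [hKb, hK'M', hM', Subgroup.map_comap_eq_self_of_surjective hfs]
  -- cardinalities
  have h1 : Nat.card Kb * Kb.index = Nat.card (H₁ ⧸ L') := Subgroup.card_mul_index Kb
  have h2 : Kb.index = K'.index := by
    rw [← hcomapKb, Subgroup.index_comap_of_surjective _ hfs]
  have h3 : L'.relIndex K' * K'.index = L'.index := Subgroup.relIndex_mul_index hL'K'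
  have h4 : Nat.card (H₁ ⧸ L') = L'.index := (Subgroup.index_eq_card L').symm
  have h5 : K'.index ≠ 0 := Subgroup.index_ne_zero_of_finite
  have h6 : L'.relIndex K' = p := by
    rw [hKbZb, hZbcard, ← hKbZb, h2, h4, ← h3] at h1
    exact (Nat.eq_of_mul_eq_mul_right (Nat.pos_of_ne_zero h5) h1).symm
  have h7 : L'.relIndex K' = L.relIndex K := by
    rw [hL', hK']
    exact Subgroup.relIndex_subgroupOf hKH
  rw [← h7, h6]

/-- 446007 N7 : abelian normal subgroup of `p`-power index => `G` is an M-group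
(S0858 + S0859). -/
theorem monomial_of_abelian_ppow {G : Type u} [Group G] [Finite G] [Fintype G] (p : ℕ) (hp : p.Prime)
    (H : Subgroup G) [H.Normal]
    (hab : ∀ a ∈ H, ∀ b ∈ H, a * b = b * a) (hidx : ∃ k : ℕ, H.index = p ^ k)
    (χ : G → ℂ) (hχ : IsIrrCharacter G χ) :
    ∃ (U : Subgroup G) (lam : U → ℂ), IsCharacter U lam ∧ lam 1 = 1 ∧ indFun U lam = χ := by
  classical
  have : Fact p.Prime := ⟨hp⟩
  obtain ⟨k, hk⟩ := hidx
  -- `G / H` is a `p`-group, hence solvable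
  have hQp : IsPGroup p (G ⧸ H) := IsPGroup.of_card (n := k) (by rw [← Subgroup.index_eq_card, hk])
  have hQsolv : Group.IsSolvable (G ⧸ H) := by
    have := hQp.isNilpotent
    infer_instance
  have hHsolv : Group.IsSolvable H :=
    Group.isSolvable_of_comm (fun a b => Subtype.ext (hab a a.2 b b.2))
  have hGsolv : Group.IsSolvable G :=
    Group.isSolvable_of_ker_le_range H.subtype (QuotientGroup.mk' H)
      (by rw [QuotientGroup.ker_mk', Subgroup.range_subtype])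
  -- the chief factors
  have hchief : ∀ (H₁ K L : Subgroup G), H ≤ L → L < K → K ≤ H₁ →
      (∀ h ∈ H₁, ∀ k ∈ K, h * k * h⁻¹ ∈ K) → (∀ h ∈ H₁, ∀ l ∈ L, h * l * h⁻¹ ∈ L) →
      (∀ M : Subgroup G, L ≤ M → M ≤ K → (∀ h ∈ H₁, ∀ m ∈ M, h * m * h⁻¹ ∈ M) → M = L ∨ M = K) →
      ¬ IsSquare (L.relIndex K) := by
    intro H₁ K L hHL hLK hKH hKn hLn hmin
    have hpow : ∃ j : ℕ, L.relIndex H₁ = p ^ j := by
      have h1 : L.relIndex H₁ ∣ L.index := Subgroup.relIndex_dvd_index_of_le (hLK.le.trans hKH)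
      have h2 : L.index ∣ H.index := Subgroup.index_dvd_of_le hHL
      have h3 : L.relIndex H₁ ∣ p ^ k := by rw [← hk]; exact h1.trans h2
      obtain ⟨j, -, hj⟩ := (Nat.dvd_prime_pow hp).1 h3
      exact ⟨j, hj⟩
    rw [n7_chief_prime p H₁ K L hLK hKH hpow hKn hLn hmin]
    rintro ⟨r, hr⟩
    have h1 : r ∣ p := ⟨r, hr⟩
    rcases (Nat.dvd_prime hp).1 h1 with h | h
    · rw [h] at hr; simp at hr; exact hp.one_lt.ne' hr
    · rw [h] at hr
      have : p = 1 := by
        have hp0 := hp.pos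
        nlinarith
      exact hp.one_lt.ne' this
  have hrel := fun χ hχ => Cfsg.Agent.S0858.result H hQsolv hchief χ hχ
  have hab' : ∀ (q : ℕ) [Fact q.Prime] (P : Sylow q H), ∀ a ∈ P, ∀ b ∈ P, a * b = b * a := by
    intro q _ P a _ b _
    exact Subtype.ext (hab a a.2 b b.2)
  exact Cfsg.Agent.S0859.result H hab' hrel χ hχ

end Cfsg.Agent.Lib.Helper13.CD3
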