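import Mathlib

set_option autoImplicit false

namespace Cfsg.Agent.Lib.Helper13

variable {G : Type*} [Group G]

lemma card_comap_mk' [Finite G] (Z : Subgroup G) [Z.Normal] (K' : Subgroup (G ⧸ Z)) :
    Nat.card (K'.comap (QuotientGroup.mk' Z)) = Nat.card K' * Nat.card Z := by
  have h1 : (K'.comap (QuotientGroup.mk' Z)).index = K'.index :=
    Subgroup.index_comap_of_surjective K' (QuotientGroup.mk'_surjective Z)
  have h2 := (K'.comap (QuotientGroup.mk' Z)).card_mul_index
  have h3 := K'.card_mul_index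
  have h4 : Nat.card G = Nat.card (G ⧸ Z) * Nat.card Z :=
    Subgroup.card_eq_card_quotient_mul_card_subgroup Z
  have h5 : K'.index ≠ 0 := Subgroup.index_ne_zero_of_finite
  rw [h1, h4, ← h3] at h2
  have : Nat.card (K'.comap (QuotientGroup.mk' Z)) * K'.index
      = (Nat.card K' * Nat.card Z) * K'.index := by
    rw [h2]; ring
  exact Nat.eq_of_mul_eq_mul_right (Nat.pos_of_ne_zero h5) this

lemma le_comap_mk' (Z : Subgroup G) [Z.Normal] (K' : Subgroup (G ⧸ Z)) :
    Z ≤ K'.comap (QuotientGroup.mk' Z) := by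
  intro z hz
  show QuotientGroup.mk' Z z ∈ K'
  have : QuotientGroup.mk' Z z = 1 := (QuotientGroup.eq_one_iff z).mpr hz
  rw [this]; exact K'.one_mem

lemma comap_map_mk' (Z : Subgroup G) [Z.Normal] (L : Subgroup G) :
    (L.map (QuotientGroup.mk' Z)).comap (QuotientGroup.mk' Z) = L ⊔ Z := by
  rw [Subgroup.comap_map_eq, QuotientGroup.ker_mk']

lemma map_comap_mk' (Z : Subgroup G) [Z.Normal] (K' : Subgroup (G ⧸ Z)) :
    (K'.comap (QuotientGroup.mk' Z)).map (QuotientGroup.mk' Z) = K' :=
  Subgroup.map_comap_eq_self_of_surjective (QuotientGroup.mk'_surjective Z) K'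

/-- The preimage of a maximal subgroup of a quotient is maximal. -/
lemma isCoatom_comap_mk' (Z : Subgroup G) [Z.Normal] (M' : Subgroup (G ⧸ Z))
    (hM' : IsCoatom M') : IsCoatom (M'.comap (QuotientGroup.mk' Z)) := by
  constructor
  · intro h
    apply hM'.1
    rw [← map_comap_mk' Z M', h]
    exact Subgroup.map_top_of_surjective _ (QuotientGroup.mk'_surjective Z)
  · intro L hL
    have hZL : Z ≤ L := (le_comap_mk' Z M').trans hL.le
    have h1 : M' ≤ L.map (QuotientGroup.mk' Z) := by
      rw [← map_comap_mk' Z M']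
      exact Subgroup.map_mono hL.le
    have h2 : M' ≠ L.map (QuotientGroup.mk' Z) := by
      intro h
      have : L ≤ M'.comap (QuotientGroup.mk' Z) := by
        rw [h, comap_map_mk']; exact le_sup_left
      exact absurd (lt_of_lt_of_le hL this) (lt_irrefl _)
    have h3 : L.map (QuotientGroup.mk' Z) = ⊤ := hM'.2 _ (lt_of_le_of_ne h1 h2)
    have h4 := comap_map_mk' Z L
    rw [h3, Subgroup.comap_top, sup_eq_left.mpr hZL] at h4
    exact h4.symm

/-- If one Sylow `p`-subgroup is normal, all are. -/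
lemma sylow_normal_of_normal [Finite G] {p : ℕ} [Fact p.Prime] (P : Sylow p G)
    (hP : (P : Subgroup G).Normal) (Q : Sylow p G) : (Q : Subgroup G).Normal := by
  obtain ⟨g, rfl⟩ := MulAction.exists_smul_eq G P Q
  rw [Sylow.smul_eq_of_normal]; exact hP

end Cfsg.Agent.Lib.Helper13
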