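import Mathlib
import Cfsg.Agent.S0539

set_option autoImplicit false

namespace Cfsg.Agent.Lib.Helper13

open Pointwise

variable {G : Type*} [Group G]

lemma map_subtype_conj_smul (V : Subgroup G) (v : V) (B' : Subgroup V) :
    (MulAut.conj v • B').map V.subtype = MulAut.conj (v : G) • B'.map V.subtype := by
  ext x
  constructor
  · rintro ⟨_, ⟨y, hy, rfl⟩, rfl⟩
    exact ⟨(y : G), ⟨y, hy, rfl⟩, by simp [MulAut.smul_def]⟩
  · rintro ⟨_, ⟨y, hy, rfl⟩, rfl⟩
    exact ⟨MulAut.conj v • y, ⟨y, hy, rfl⟩, by simp [MulAut.smul_def]⟩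

lemma map_subtype_subgroupOf_of_le {V B : Subgroup G} (h : B ≤ V) :
    (B.subgroupOf V).map V.subtype = B :=
  Subgroup.map_subgroupOf_eq_of_le h

lemma subgroupOf_map_subtype_self (V : Subgroup G) (B' : Subgroup V) :
    (B'.map V.subtype).subgroupOf V = B' :=
  Subgroup.comap_map_eq_self_of_injective V.subtype_injective B'

/-- Relative version of S0539: a family `S` of subnormal subgroups of `V`, closed under
conjugation by `V`, and a proper subfamily `S₀`: some member of `S` outside `S₀` normalizes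
the join of `S₀`. -/
lemma exists_normalizing_member [Finite G] (V : Subgroup G) (S S₀ : Set (Subgroup G))
    (hle : ∀ B ∈ S, B ≤ V) (hsn : ∀ B ∈ S, (B.subgroupOf V).IsSubnormal)
    (hconj : ∀ B ∈ S, ∀ v ∈ V, MulAut.conj v • B ∈ S) (h₀ : S₀ ⊂ S) :
    ∃ X ∈ S, X ∉ S₀ ∧ X ≤ Subgroup.normalizer ((sSup S₀ : Subgroup G) : Set G) := by
  set S' : Set (Subgroup V) := {B' | B'.map V.subtype ∈ S} with hS'
  set S₀' : Set (Subgroup V) := {B' | B'.map V.subtype ∈ S₀} with hS₀'
  have h1 : ∀ U ∈ S', U.IsSubnormal := by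
    intro B' hB'
    have := hsn _ hB'
    rwa [subgroupOf_map_subtype_self] at this
  have h2 : ∀ U ∈ S', ∀ g : V, MulAut.conj g • U ∈ S' := by
    intro B' hB' v
    show (MulAut.conj v • B').map V.subtype ∈ S
    rw [map_subtype_conj_smul]
    exact hconj _ hB' v v.2
  have h3 : S₀' ⊂ S' := by
    constructor
    · intro B' hB'
      exact h₀.subset hB'
    · intro hcon
      obtain ⟨B, hBS, hB0⟩ := Set.exists_of_ssubset h₀
      have hB' : B.subgroupOf V ∈ S' := by
        show (B.subgroupOf V).map V.subtype ∈ S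
        rw [map_subtype_subgroupOf_of_le (hle B hBS)]; exact hBS
      have := hcon hB'
      change (B.subgroupOf V).map V.subtype ∈ S₀ at this
      rw [map_subtype_subgroupOf_of_le (hle B hBS)] at this
      exact hB0 this
  obtain ⟨X', hX'S, hX'0, hX'n⟩ := Cfsg.Agent.S0539.result S' S₀' h1 h2 h3
  refine ⟨X'.map V.subtype, hX'S, hX'0, ?_⟩
  have h4 : (sSup S₀' : Subgroup V).map V.subtype = sSup S₀ := by
    rw [(Subgroup.gc_map_comap V.subtype).l_sSup]
    apply le_antisymm
    · apply iSup₂_le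
      intro B' hB'
      exact le_sSup hB'
    · apply sSup_le
      intro B hB
      have hBV : B ≤ V := hle B (h₀.subset hB)
      have hB' : B.subgroupOf V ∈ S₀' := by
        show (B.subgroupOf V).map V.subtype ∈ S₀
        rw [map_subtype_subgroupOf_of_le hBV]; exact hB
      calc B = (B.subgroupOf V).map V.subtype := (map_subtype_subgroupOf_of_le hBV).symm
        _ ≤ ⨆ a ∈ S₀', Subgroup.map V.subtype a := le_iSup₂_of_le _ hB' le_rfl
  rw [← h4]
  exact (Subgroup.map_mono hX'n).trans (Subgroup.le_normalizer_map _)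

end Cfsg.Agent.Lib.Helper13
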