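import Mathlib

set_option autoImplicit false

namespace Cfsg.Agent.Lib.Helper13

open Pointwise

variable {G : Type*} [Group G]

lemma isComplement'_of_normal_sup_inf (A U : Subgroup G) [A.Normal] (h1 : A ⊔ U = ⊤)
    (h2 : A ⊓ U = ⊥) : Subgroup.IsComplement' A U := by
  apply Subgroup.isComplement'_of_disjoint_and_mul_eq_univ (disjoint_iff.mpr h2)
  rw [← Subgroup.normal_mul, h1, Subgroup.coe_top]

/-- Two subgroups with trivial intersection with the normal subgroup `N` and the same join with
`N` are isomorphic (both are isomorphic to the quotient of the join by `N`). -/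
lemma nonempty_mulEquiv_of_sup_eq (X Y N : Subgroup G) [N.Normal] (hX : X ⊓ N = ⊥)
    (hY : Y ⊓ N = ⊥) (h : X ⊔ N = Y ⊔ N) : Nonempty (X ≃* Y) := by
  have hX' : N.subgroupOf X = ⊥ := by
    rw [Subgroup.subgroupOf_eq_bot, disjoint_iff, inf_comm]; exact hX
  have hY' : N.subgroupOf Y = ⊥ := by
    rw [Subgroup.subgroupOf_eq_bot, disjoint_iff, inf_comm]; exact hY
  have e1 := QuotientGroup.quotientInfEquivProdNormalQuotient X N
  have e2 := QuotientGroup.quotientInfEquivProdNormalQuotient Y N
  rw [h] at e1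
  have f1 : X ≃* X ⧸ N.subgroupOf X :=
    QuotientGroup.quotientBot.symm.trans (QuotientGroup.quotientMulEquivOfEq hX'.symm)
  have f2 : Y ≃* Y ⧸ N.subgroupOf Y :=
    QuotientGroup.quotientBot.symm.trans (QuotientGroup.quotientMulEquivOfEq hY'.symm)
  exact ⟨f1.trans (e1.trans (e2.symm.trans f2.symm))⟩

end Cfsg.Agent.Lib.Helper13
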