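import Mathlib

set_option autoImplicit false

namespace Cfsg.Agent.Lib.Helper13

open Pointwise MulOpposite

variable {G : Type*} [Group G]

section
variable (H : Subgroup G) [IsMulCommutative H] [H.FiniteIndex] [H.Normal]

/-- The class of a complement, viewed as a transversal. -/
noncomputable def quotientDiffOfComplement (K : Subgroup G) (hK : Subgroup.IsComplement' H K) :
    H.QuotientDiff :=
  Quotient.mk'' (⟨(K : Set G), hK.symm⟩ : H.LeftTransversal)

lemma le_stabilizer_quotientDiffOfComplement (K : Subgroup G) (hK : Subgroup.IsComplement' H K) :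
    K ≤ MulAction.stabilizer G (quotientDiffOfComplement H K hK) := by
  intro k hk
  rw [MulAction.mem_stabilizer_iff]
  show Quotient.mk'' (op k⁻¹ • (⟨(K : Set G), hK.symm⟩ : H.LeftTransversal)) = _
  unfold quotientDiffOfComplement
  congr 1
  apply Subtype.ext
  show op k⁻¹ • (K : Set G) = (K : Set G)
  ext x
  rw [Set.mem_smul_set_iff_inv_smul_mem]
  show x * k⁻¹⁻¹ ∈ K ↔ x ∈ K
  rw [inv_inv]
  exact Subgroup.mul_mem_cancel_right K hk

end

/-- Schur–Zassenhaus conjugacy for an abelian normal Hall subgroup: any two complements are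
conjugate by an element of the normal subgroup. -/
theorem exists_conj_of_isComplement'_abelian [Finite G] (H : Subgroup G) [IsMulCommutative H]
    [H.Normal] (hH : Nat.Coprime (Nat.card H) H.index) (K1 K2 : Subgroup G)
    (h1 : Subgroup.IsComplement' H K1) (h2 : Subgroup.IsComplement' H K2) :
    ∃ h ∈ H, MulAut.conj h • K1 = K2 := by
  have key : ∀ (K : Subgroup G) (hK : Subgroup.IsComplement' H K),
      MulAction.stabilizer G (quotientDiffOfComplement H K hK) = K := by
    intro K hK
    symm
    apply Subgroup.eq_of_le_of_card_ge (le_stabilizer_quotientDiffOfComplement H K hK)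
    have e1 := hK.card_mul_card
    have e2 := (Subgroup.isComplement'_stabilizer_of_coprime
      (α := quotientDiffOfComplement H K hK) hH).card_mul_card
    have : Nat.card H * Nat.card (MulAction.stabilizer G (quotientDiffOfComplement H K hK))
        = Nat.card H * Nat.card K := e2.trans e1.symm
    exact (Nat.eq_of_mul_eq_mul_left Nat.card_pos this).le
  obtain ⟨h, hh⟩ := Subgroup.exists_smul_eq hH (quotientDiffOfComplement H K1 h1)
    (quotientDiffOfComplement H K2 h2)
  refine ⟨h, h.2, ?_⟩
  have hh' : (h : G) • quotientDiffOfComplement H K1 h1 = quotientDiffOfComplement H K2 h2 := hh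
  rw [← key K2 h2, ← hh', MulAction.stabilizer_smul_eq_stabilizer_map_conj, key K1 h1]
  rfl

end Cfsg.Agent.Lib.Helper13
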