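import Mathlib
import Cfsg.Agent.Lib.Helper13.SZConj
import Cfsg.Agent.Lib.Helper13.RelSubnormal
import Cfsg.Agent.Lib.Helper13.Complements

set_option autoImplicit false

namespace Cfsg.Agent.Lib.Helper13

open Pointwise

variable {G : Type*} [Group G]

lemma index_conj_smul [Finite G] (H : Subgroup G) (g : G) :
    (MulAut.conj g • H).index = H.index := by
  have h1 := (MulAut.conj g • H).card_mul_index
  have h2 := H.card_mul_index
  rw [card_conj_smul] at h1
  exact Nat.eq_of_mul_eq_mul_left Nat.card_pos (h1.trans h2.symm)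

lemma map_conj_smul {G' : Type*} [Group G'] (f : G →* G') (g : G) (H : Subgroup G) :
    (MulAut.conj g • H).map f = MulAut.conj (f g) • H.map f := by
  ext x
  constructor
  · rintro ⟨_, ⟨y, hy, rfl⟩, rfl⟩
    exact ⟨f y, ⟨y, hy, rfl⟩, by simp [MulAut.smul_def]⟩
  · rintro ⟨_, ⟨y, hy, rfl⟩, rfl⟩
    exact ⟨MulAut.conj g • y, ⟨y, hy, rfl⟩, by simp [MulAut.smul_def]⟩

/-- Schur–Zassenhaus conjugacy, ambient form: two subgroups meeting the abelian normal subgroup
`N` trivially, with the same join with `N`, and of order coprime to `|N|`, are conjugate by an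
element of `N`. -/
theorem exists_conj_of_sup_eq_abelian [Finite G] (N : Subgroup G) [hNn : N.Normal]
    (hab : ∀ a ∈ N, ∀ b ∈ N, a * b = b * a) (K1 K2 : Subgroup G)
    (h1 : K1 ⊓ N = ⊥) (h2 : K2 ⊓ N = ⊥) (hsup : K1 ⊔ N = K2 ⊔ N)
    (hcop : (Nat.card N).Coprime (Nat.card K1)) : ∃ n ∈ N, MulAut.conj n • K1 = K2 := by
  set M := K1 ⊔ N with hM
  have hK1M : K1 ≤ M := le_sup_left
  have hNM : N ≤ M := le_sup_right
  have hK2M : K2 ≤ M := hsup ▸ le_sup_left
  have hH'n : (N.subgroupOf M).Normal := hNn.subgroupOf M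
  have hH'c : IsMulCommutative (N.subgroupOf M) := by
    refine ⟨⟨fun a b => ?_⟩⟩
    apply Subtype.ext
    apply Subtype.ext
    exact hab _ a.2 _ b.2
  have hc1 : Subgroup.IsComplement' (N.subgroupOf M) (K1.subgroupOf M) := by
    apply isComplement'_of_normal_sup_inf
    · rw [← Subgroup.subgroupOf_sup hNM hK1M, sup_comm, ← hM, Subgroup.subgroupOf_self]
    · rw [Subgroup.subgroupOf, Subgroup.subgroupOf, ← Subgroup.comap_inf, inf_comm, h1]
      exact Subgroup.bot_subgroupOf M
  have hc2 : Subgroup.IsComplement' (N.subgroupOf M) (K2.subgroupOf M) := by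
    apply isComplement'_of_normal_sup_inf
    · rw [← Subgroup.subgroupOf_sup hNM hK2M, sup_comm, ← hsup, Subgroup.subgroupOf_self]
    · rw [Subgroup.subgroupOf, Subgroup.subgroupOf, ← Subgroup.comap_inf, inf_comm, h2]
      exact Subgroup.bot_subgroupOf M
  have hcop' : Nat.Coprime (Nat.card (N.subgroupOf M)) (N.subgroupOf M).index := by
    have e1 : Nat.card (N.subgroupOf M) = Nat.card N :=
      Nat.card_congr (Subgroup.subgroupOfEquivOfLe hNM).toEquiv
    have e2 : (N.subgroupOf M).index = Nat.card K1 := by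
      rw [hc1.symm.index_eq_card]
      exact Nat.card_congr (Subgroup.subgroupOfEquivOfLe hK1M).toEquiv
    rw [e1, e2]; exact hcop
  obtain ⟨h, hh, hconj⟩ := exists_conj_of_isComplement'_abelian (N.subgroupOf M) hcop'
    (K1.subgroupOf M) (K2.subgroupOf M) hc1 hc2
  refine ⟨(h : G), hh, ?_⟩
  have := congrArg (Subgroup.map M.subtype) hconj
  rw [map_subtype_conj_smul, map_subtype_subgroupOf_of_le hK1M,
    map_subtype_subgroupOf_of_le hK2M] at this
  exact this

end Cfsg.Agent.Lib.Helper13
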