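import Mathlib
import Cfsg.Prelude.Def_SolvableStructure
import Cfsg.Agent.Lib.Helper13.Basic
import Cfsg.Agent.Lib.Helper13.RelSubnormal
import Cfsg.Agent.Lib.Helper13.QuotientLemmas
import Cfsg.Agent.Lib.Helper13.SZAmbient

set_option autoImplicit false

namespace Cfsg.Agent.Lib.Helper13

open Pointwise

universe u

variable {G : Type u} [Group G]

/-- `C` is a Carter subgroup of `K` (both subgroups of `G`). -/
def IsCarterIn (C K : Subgroup G) : Prop :=
  C ≤ K ∧ Group.IsNilpotent C ∧ Subgroup.normalizer (C : Set G) ⊓ K = C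

lemma isCarterIn_top {C : Subgroup G} : IsCarterIn C ⊤ ↔ Cfsg.IsCarterSubgroup C := by
  unfold IsCarterIn Cfsg.IsCarterSubgroup
  simp only [le_top, true_and, inf_top_eq]

lemma IsCarterIn.mono {C K L : Subgroup G} (h : IsCarterIn C K) (hCL : C ≤ L) (hLK : L ≤ K) :
    IsCarterIn C L := by
  refine ⟨hCL, h.2.1, le_antisymm ?_ ?_⟩
  · exact (inf_le_inf_left _ hLK).trans h.2.2.le
  · exact le_inf Subgroup.le_normalizer hCL

lemma normalizer_conj_smul (C : Subgroup G) (g : G) :
    Subgroup.normalizer ((MulAut.conj g • C : Subgroup G) : Set G) =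
      MulAut.conj g • Subgroup.normalizer (C : Set G) :=
  (Subgroup.map_normalizer_eq_of_bijective C (f := (MulAut.conj g).toMonoidHom)
    (MulAut.conj g).bijective).symm

lemma conj_smul_top (g : G) : MulAut.conj g • (⊤ : Subgroup G) = ⊤ :=
  Subgroup.conj_smul_eq_self_of_mem (Subgroup.mem_top g)

lemma IsCarterIn.conj {C K : Subgroup G} (h : IsCarterIn C K) (g : G) :
    IsCarterIn (MulAut.conj g • C) (MulAut.conj g • K) := by
  refine ⟨Subgroup.pointwise_smul_le_pointwise_smul_iff.mpr h.1, ?_, ?_⟩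
  · have := h.2.1
    exact Group.nilpotent_of_mulEquiv (Subgroup.equivSMul (MulAut.conj g) C)
  · rw [normalizer_conj_smul, ← Subgroup.smul_inf, h.2.2]

lemma isCarterSubgroup_conj {C : Subgroup G} (h : Cfsg.IsCarterSubgroup C) (g : G) :
    Cfsg.IsCarterSubgroup (MulAut.conj g • C) := by
  rw [← isCarterIn_top] at h ⊢
  have := h.conj g
  rwa [conj_smul_top] at this

lemma IsCarterIn.subgroupOf {C K : Subgroup G} (h : IsCarterIn C K) :
    Cfsg.IsCarterSubgroup (C.subgroupOf K) := by
  constructor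
  · have := h.2.1
    exact Group.nilpotent_of_mulEquiv (Subgroup.subgroupOfEquivOfLe h.1).symm
  · apply le_antisymm _ Subgroup.le_normalizer
    intro y hy
    rw [Subgroup.mem_subgroupOf, ← h.2.2]
    refine ⟨?_, y.2⟩
    show (y : G) ∈ Subgroup.normalizer (C : Set G)
    rw [mem_normalizer_iff_conj_smul] at hy ⊢
    have h1 := congrArg (Subgroup.map K.subtype) hy
    rwa [map_subtype_conj_smul, map_subtype_subgroupOf_of_le h.1] at h1

lemma isCarterIn_map_subtype {K : Subgroup G} {C' : Subgroup K}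
    (h : Cfsg.IsCarterSubgroup C') : IsCarterIn (C'.map K.subtype) K := by
  refine ⟨Subgroup.map_subtype_le _, ?_, le_antisymm ?_ ?_⟩
  · have := h.1
    exact Group.nilpotent_of_mulEquiv (C'.equivMapOfInjective K.subtype K.subtype_injective)
  · intro x hx
    have hxN : x ∈ Subgroup.normalizer ((C'.map K.subtype : Subgroup G) : Set G) := hx.1
    rw [mem_normalizer_iff_conj_smul] at hxN
    have h1 : (MulAut.conj (⟨x, hx.2⟩ : K) • C').map K.subtype = C'.map K.subtype := by
      rw [map_subtype_conj_smul]; exact hxN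
    have h2 := Subgroup.map_injective K.subtype_injective h1
    rw [← mem_normalizer_iff_conj_smul, h.2] at h2
    exact ⟨⟨x, hx.2⟩, h2, rfl⟩
  · exact le_inf Subgroup.le_normalizer (Subgroup.map_subtype_le _)

/-- In a nilpotent group a self-normalizing subgroup is everything. -/
lemma eq_top_of_normalizer_eq_self [hG : Group.IsNilpotent G] (H : Subgroup G)
    (h : Subgroup.normalizer (H : Set G) = H) : H = ⊤ := by
  by_contra hne
  have := Group.normalizerCondition_of_isNilpotent (G := G) H (lt_top_iff_ne_top.mpr hne)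
  rw [h] at this
  exact lt_irrefl _ this

/-- Conjugacy of Carter subgroups for all solvable groups of order less than `n`. -/
def CarterConjBelow (n : ℕ) : Prop :=
  ∀ (X : Type u) [Group X] [Finite X] [Group.IsSolvable X], Nat.card X < n →
    ∀ C1 C2 : Subgroup X, Cfsg.IsCarterSubgroup C1 → Cfsg.IsCarterSubgroup C2 →
      ∃ x : X, MulAut.conj x • C1 = C2

lemma conj_in_of_below {n : ℕ} (h : CarterConjBelow.{u} n) [Finite G] [Group.IsSolvable G]
    (L : Subgroup G) (hL : Nat.card L < n) (C1 C2 : Subgroup G) (h1 : IsCarterIn C1 L)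
    (h2 : IsCarterIn C2 L) : ∃ l ∈ L, MulAut.conj l • C1 = C2 := by
  obtain ⟨l, hl⟩ := h L hL _ _ h1.subgroupOf h2.subgroupOf
  refine ⟨l, l.2, ?_⟩
  have h3 := congrArg (Subgroup.map L.subtype) hl
  rwa [map_subtype_conj_smul, map_subtype_subgroupOf_of_le h1.1,
    map_subtype_subgroupOf_of_le h2.1] at h3

/-- Relative image lemma: if `C` is a Carter subgroup of `K` and `A ≤ K` is normal, then `C ⊔ A`
is self-normalizing in `K`. -/
lemma normalizer_sup_inf_of_below {n : ℕ} (h : CarterConjBelow.{u} n) [Finite G]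
    [Group.IsSolvable G] (K C A : Subgroup G) [hA : A.Normal] (hC : IsCarterIn C K) (hAK : A ≤ K)
    (hlt : Nat.card (C ⊔ A : Subgroup G) < n) :
    Subgroup.normalizer ((C ⊔ A : Subgroup G) : Set G) ⊓ K = C ⊔ A := by
  apply le_antisymm _ (le_inf Subgroup.le_normalizer (sup_le hC.1 hAK))
  intro y hy
  have hyN : y ∈ Subgroup.normalizer ((C ⊔ A : Subgroup G) : Set G) := hy.1
  rw [mem_normalizer_iff_conj_smul] at hyN
  have hLK : C ⊔ A ≤ K := sup_le hC.1 hAK
  have h1 : IsCarterIn C (C ⊔ A) := hC.mono le_sup_left hLK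
  have h2 : IsCarterIn (MulAut.conj y • C) (C ⊔ A) := by
    have h3 := hC.conj y
    rw [Subgroup.conj_smul_eq_self_of_mem hy.2] at h3
    apply h3.mono _ hLK
    rw [← hyN]
    exact Subgroup.pointwise_smul_le_pointwise_smul_iff.mpr le_sup_left
  obtain ⟨l, hl, hlc⟩ := conj_in_of_below h (C ⊔ A) hlt _ _ h2 h1
  rw [← mul_smul, ← map_mul, ← mem_normalizer_iff_conj_smul] at hlc
  have h4 : l * y ∈ Subgroup.normalizer (C : Set G) ⊓ K := ⟨hlc, K.mul_mem (hLK hl) hy.2⟩
  rw [hC.2.2] at h4
  have h5 : y = l⁻¹ * (l * y) := by group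
  rw [h5]
  exact (C ⊔ A).mul_mem ((C ⊔ A).inv_mem hl) (le_sup_left (a := C) h4)

/-- Images of Carter subgroups in quotients are Carter subgroups. -/
lemma carter_map_mk' {n : ℕ} (h : CarterConjBelow.{u} n) [Finite G] [Group.IsSolvable G]
    (hG : Nat.card G ≤ n) (C : Subgroup G) (hC : Cfsg.IsCarterSubgroup C) (N : Subgroup G)
    [hN : N.Normal] : Cfsg.IsCarterSubgroup (C.map (QuotientGroup.mk' N)) := by
  have hsurj := QuotientGroup.mk'_surjective N
  constructor
  · have := hC.1
    exact Group.nilpotent_of_surjective ((QuotientGroup.mk' N).subgroupMap C)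
      ((QuotientGroup.mk' N).subgroupMap_surjective C)
  · apply Subgroup.comap_injective hsurj
    rw [Subgroup.comap_normalizer_eq_of_surjective _ hsurj, comap_map_mk']
    by_cases htop : C ⊔ N = ⊤
    · rw [htop, Subgroup.normalizer_eq_top]
    · have hlt : Nat.card (C ⊔ N : Subgroup G) < n := by
        refine lt_of_lt_of_le ?_ hG
        have h1 : (C ⊔ N).index ≠ 1 := fun h => htop (Subgroup.index_eq_one.mp h)
        have h2 := (C ⊔ N).card_mul_index
        have h3 : 0 < (C ⊔ N).index := Nat.pos_of_ne_zero Subgroup.index_ne_zero_of_finite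
        have h4 : 1 < (C ⊔ N).index := by omega
        rw [← h2]
        exact lt_mul_of_one_lt_right Nat.card_pos h4
      have := normalizer_sup_inf_of_below h ⊤ C N (isCarterIn_top.mpr hC) le_top hlt
      rwa [inf_top_eq] at this

end Cfsg.Agent.Lib.Helper13
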