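import Mathlib

set_option autoImplicit false

namespace Cfsg.Agent.Lib.Helper13

open Pointwise

variable {G : Type*} [Group G]

lemma card_image_mk_eq_relIndex (A B : Subgroup G) :
    Nat.card ((A : Set G).image (QuotientGroup.mk : G → G ⧸ B)) = B.relIndex A := by
  have h1 : MulAction.stabilizer A ((1 : G) : G ⧸ B) = B.subgroupOf A := by
    ext a
    rw [MulAction.mem_stabilizer_iff, Subgroup.mem_subgroupOf]
    show (((a : G) * 1 : G) : G ⧸ B) = ((1 : G) : G ⧸ B) ↔ _
    rw [QuotientGroup.eq]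
    simp
  have h2 : MulAction.orbit A ((1 : G) : G ⧸ B) = (A : Set G).image (QuotientGroup.mk : G → G ⧸ B) := by
    ext x
    constructor
    · rintro ⟨a, rfl⟩
      exact ⟨a, a.2, by show _ = (((a : G) * 1 : G) : G ⧸ B); simp⟩
    · rintro ⟨a, ha, rfl⟩
      exact ⟨⟨a, ha⟩, by show (((a : G) * 1 : G) : G ⧸ B) = _; simp⟩
  rw [Subgroup.relIndex, ← h1, MulAction.index_stabilizer, h2]
  exact Nat.card_coe_set_eq _

/-- The product formula `|AB| |A ∩ B| = |A| |B|` for the product set of two subgroups. -/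
lemma card_mul_card_inf (A B : Subgroup G) :
    Nat.card ((A : Set G) * (B : Set G) : Set G) * Nat.card (A ⊓ B : Subgroup G) = Nat.card A * Nat.card B := by
  rw [Subgroup.card_mul_eq_card_subgroup_mul_card_quotient, card_image_mk_eq_relIndex]
  have h1 : Nat.card (A ⊓ B : Subgroup G) = Nat.card (B.subgroupOf A) := by
    rw [inf_comm]
    exact (Nat.card_congr (Subgroup.subgroupOfEquivOfLe (inf_le_right : B ⊓ A ≤ A)).toEquiv).symm.trans (by rw [Subgroup.inf_subgroupOf_right])
  rw [h1, mul_assoc, mul_comm (B.relIndex A), Subgroup.relIndex, Subgroup.card_mul_index, mul_comm]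

/-- If every element is a product `h * k`, the product set is everything. -/
lemma mul_eq_univ_of_factorization (H K : Subgroup G)
    (hHK : ∀ g : G, ∃ h ∈ H, ∃ k ∈ K, g = h * k) : (H : Set G) * (K : Set G) = Set.univ := by
  ext g
  simp only [Set.mem_univ, iff_true]
  obtain ⟨h, hh, k, hk, rfl⟩ := hHK g
  exact Set.mul_mem_mul hh hk

lemma card_mul_card_inf_of_factorization (H K : Subgroup G)
    (hHK : ∀ g : G, ∃ h ∈ H, ∃ k ∈ K, g = h * k) :
    Nat.card G * Nat.card (H ⊓ K : Subgroup G) = Nat.card H * Nat.card K := by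
  rw [← card_mul_card_inf H K, mul_eq_univ_of_factorization H K hHK, Nat.card_coe_set_eq, Set.ncard_univ]

end Cfsg.Agent.Lib.Helper13
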