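import Mathlib
import Cfsg.Agent.S0549
import Cfsg.Agent.Lib.Helper13.MinNormalSolvable
import Cfsg.Agent.Lib.Helper13.ProdCard

set_option autoImplicit false

namespace Cfsg.Agent.Lib.Helper13

open Pointwise

variable {G : Type*} [Group G]

/-- In a finite solvable group with a core-free maximal subgroup `U`, a minimal normal subgroup
`N` is self-centralizing and complemented by `U`. -/
lemma coreFree_minNormal [Finite G] [Group.IsSolvable G] (U : Subgroup G) (hU : IsCoatom U)
    (hcore : U.normalCore = ⊥) (N : Subgroup G) (hN : IsMinNormal N) :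
    Subgroup.centralizer (N : Set G) = N ∧ N ⊓ U = ⊥ ∧ N ⊔ U = ⊤ := by
  have hNn : N.Normal := hN.1
  obtain ⟨hCU, hC⟩ := Cfsg.Agent.S0549.result U hU hcore N hN.2.1
  have hNC : N ≤ Subgroup.centralizer (N : Set G) :=
    Subgroup.commutator_eq_bot_iff_le_centralizer.mp hN.commutator_eq_bot
  have hCne : Subgroup.centralizer (N : Set G) ≠ ⊥ := by
    intro h; rw [h, le_bot_iff] at hNC; exact hN.2.1 hNC
  have hCN : Subgroup.centralizer (N : Set G) = N := by
    rcases hC with h | ⟨_, hmin⟩
    · exact absurd h hCne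
    · exact ((hmin N hNn hNC).resolve_left hN.2.1).symm
  refine ⟨hCN, ?_, Cfsg.Agent.S0549.sup_eq_top_of_normal U hU hcore N hN.2.1⟩
  rw [← hCN]; exact hCU

/-- A `p`-group `L` acting by conjugation on a nontrivial normal `p`-subgroup `N` has a nontrivial
fixed point. -/
lemma inf_centralizer_ne_bot [Finite G] (p : ℕ) [Fact p.Prime] (L N : Subgroup G) [N.Normal]
    (hL : IsPGroup p L) (hN : IsPGroup p N) (hNne : N ≠ ⊥) :
    N ⊓ Subgroup.centralizer (L : Set G) ≠ ⊥ := by
  let act : MulAction L N :=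
    MulAction.compHom N ((MulAut.conjNormal (H := N)).comp L.subtype)
  have hsmul : ∀ (l : L) (n : N), ((l • n : N) : G) = (l : G) * n * (l : G)⁻¹ := by
    intro l n
    exact MulAut.conjNormal_apply (l : G) n
  have hpN : p ∣ Nat.card N := by
    rcases hN.card_eq_or_dvd with h | h
    · exact absurd (Subgroup.card_eq_one.mp h) hNne
    · exact h
  have h1 : (1 : N) ∈ MulAction.fixedPoints L N := by
    intro l
    apply Subtype.ext
    rw [hsmul]; simp
  obtain ⟨b, hb, hb1⟩ := hL.exists_fixed_point_of_prime_dvd_card_of_fixed_point N hpN h1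
  intro hbot
  have hmem : (b : G) ∈ N ⊓ Subgroup.centralizer (L : Set G) := by
    refine ⟨b.2, ?_⟩
    show (b : G) ∈ Subgroup.centralizer (L : Set G)
    rw [Subgroup.mem_centralizer_iff]
    intro l hl
    have := congrArg Subtype.val (hb ⟨l, hl⟩)
    rw [hsmul] at this
    simp only at this
    exact mul_inv_eq_iff_eq_mul.mp this
  rw [hbot, Subgroup.mem_bot] at hmem
  exact hb1 (Subtype.ext hmem.symm)

/-- If `W` complements the normal subgroup `N ≤ L`, then `|L| = |N| |L ∩ W|`. -/
lemma card_eq_card_mul_card_inf_of_complement [Finite G] (N L W : Subgroup G) [N.Normal]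
    (hNL : N ≤ L) (hNW : N ⊓ W = ⊥) (hNWs : N ⊔ W = ⊤) :
    Nat.card L = Nat.card N * Nat.card (L ⊓ W : Subgroup G) := by
  have h1 := card_mul_card_inf N (L ⊓ W)
  have h2 : N ⊓ (L ⊓ W) = ⊥ := by
    apply le_bot_iff.mp
    rw [← hNW]
    exact le_inf inf_le_left (inf_le_right.trans inf_le_right)
  have h3 : (N : Set G) * ((L ⊓ W : Subgroup G) : Set G) = (L : Set G) := by
    ext l
    constructor
    · rintro ⟨n, hn, x, hx, rfl⟩
      exact L.mul_mem (hNL hn) hx.1
    · intro hl
      have hmem : l ∈ N ⊔ W := hNWs ▸ Subgroup.mem_top l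
      obtain ⟨n, hn, w, hw, rfl⟩ := Subgroup.mem_sup_of_normal_left.mp hmem
      refine ⟨n, hn, w, ⟨?_, hw⟩, rfl⟩
      have : w = n⁻¹ * (n * w) := by group
      rw [this]
      exact L.mul_mem (L.inv_mem (hNL hn)) hl
  rw [h2, Subgroup.card_bot, mul_one, h3] at h1
  exact h1

end Cfsg.Agent.Lib.Helper13
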