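import Mathlib
import Cfsg.Agent.Lib.Helper13.CarterBasic
import Cfsg.Agent.Lib.Helper13.MinNormalSolvable
import Cfsg.Agent.Lib.Helper13.ProdCard
import Cfsg.Agent.S0551

set_option autoImplicit false

namespace Cfsg.Agent.Lib.Helper13

open Pointwise

universe u

variable {G : Type u} [Group G]

/-- The intersection of a subgroup `M` with an abelian normal subgroup `A` is normal in `M ⊔ A`. -/
lemma inf_normal_of_sup_eq_top (A M : Subgroup G) [hA : A.Normal]
    (hab : ∀ a ∈ A, ∀ b ∈ A, a * b = b * a) (hsup : M ⊔ A = ⊤) : (A ⊓ M).Normal := by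
  rw [← Subgroup.normalizer_eq_top_iff, eq_top_iff, ← hsup]
  apply sup_le
  · intro m hm
    rw [Subgroup.mem_normalizer_iff]
    intro x
    constructor
    · intro hx
      exact ⟨hA.conj_mem x hx.1 m, M.mul_mem (M.mul_mem hm hx.2) (M.inv_mem hm)⟩
    · intro hx
      have h1 : m⁻¹ * (m * x * m⁻¹) * m⁻¹⁻¹ ∈ A ⊓ M :=
        ⟨hA.conj_mem _ hx.1 m⁻¹,
          M.mul_mem (M.mul_mem (M.inv_mem hm) hx.2) (M.inv_mem (M.inv_mem hm))⟩
      simpa [mul_assoc] using h1
  · intro a ha
    rw [Subgroup.mem_normalizer_iff]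
    intro x
    constructor
    · intro hx
      have : a * x * a⁻¹ = x := by rw [hab a ha x hx.1, mul_assoc, mul_inv_cancel, mul_one]
      rw [this]; exact hx
    · intro hx
      have hxA : x ∈ A := by
        have := hA.conj_mem _ hx.1 a⁻¹
        simpa [mul_assoc] using this
      have : a * x * a⁻¹ = x := by rw [hab a ha x hxA, mul_assoc, mul_inv_cancel, mul_one]
      rw [this] at hx; exact hx

lemma inf_eq_bot_of_minNormal (A C : Subgroup G) (hA : IsMinNormal A)
    (hab : ∀ a ∈ A, ∀ b ∈ A, a * b = b * a) (hsup : C ⊔ A = ⊤) (hAC : ¬ A ≤ C) :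
    A ⊓ C = ⊥ := by
  have hAn : A.Normal := hA.1
  have h1 := inf_normal_of_sup_eq_top A C hab hsup
  rcases hA.2.2 _ h1 inf_le_left with h | h
  · exact h
  · exact absurd (h ▸ inf_le_right) hAC

lemma isCoatom_of_minNormal (A C : Subgroup G) (hA : IsMinNormal A)
    (hab : ∀ a ∈ A, ∀ b ∈ A, a * b = b * a) (hsup : C ⊔ A = ⊤) (hAC : ¬ A ≤ C) :
    IsCoatom C := by
  have hAn : A.Normal := hA.1
  constructor
  · intro h
    exact hAC (h ▸ le_top)
  · intro M hCM
    have hsupM : M ⊔ A = ⊤ := by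
      rw [eq_top_iff, ← hsup]; exact sup_le_sup_right hCM.le A
    have h1 := inf_normal_of_sup_eq_top A M hab hsupM
    obtain ⟨m, hmM, hmC⟩ := SetLike.exists_of_lt hCM
    have hm : m ∈ ((C ⊔ A : Subgroup G) : Set G) := by rw [hsup]; exact Set.mem_univ _
    rw [Subgroup.mul_normal, Set.mem_mul] at hm
    obtain ⟨c, hc, a, ha, hca⟩ := hm
    have haM : a ∈ M := by
      have : a = c⁻¹ * m := by rw [← hca]; group
      rw [this]
      exact M.mul_mem (M.inv_mem (hCM.le hc)) hmM
    have hane : a ≠ 1 := by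
      rintro rfl
      rw [mul_one] at hca
      exact hmC (hca ▸ hc)
    rcases hA.2.2 _ h1 inf_le_left with h | h
    · exfalso
      have : a ∈ A ⊓ M := ⟨ha, haM⟩
      rw [h, Subgroup.mem_bot] at this
      exact hane this
    · rw [eq_top_iff, ← hsupM]
      exact sup_le le_rfl (h ▸ inf_le_right)

lemma card_mul_card_of_complement [Finite G] (A C : Subgroup G) [hA : A.Normal]
    (hsup : C ⊔ A = ⊤) (hinf : A ⊓ C = ⊥) : Nat.card C * Nat.card A = Nat.card G := by
  have h1 := card_mul_card_inf C A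
  rw [← Subgroup.mul_normal, hsup, inf_comm, hinf, Subgroup.card_bot, mul_one] at h1
  rw [← h1]
  simp

/-- conjugacy in the case where the core of the first complement is nontrivial -/
lemma conj_of_core_ne_bot {n : ℕ} (ih : CarterConjBelow.{u} n) [Finite G] [Group.IsSolvable G]
    (hn : Nat.card G = n) (C1 C2 : Subgroup G) (h1 : Cfsg.IsCarterSubgroup C1)
    (h2 : Cfsg.IsCarterSubgroup C2) (hcore : C1.normalCore ≠ ⊥)
    (hcard : Nat.card C1 = Nat.card C2) : ∃ g : G, MulAut.conj g • C1 = C2 := by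
  set R := C1.normalCore with hR
  have hRn : R.Normal := Subgroup.normalCore_normal C1
  have hRC : R ≤ C1 := Subgroup.normalCore_le C1
  have hGc : Nat.card G = Nat.card (G ⧸ R) * Nat.card R :=
    Subgroup.card_eq_card_quotient_mul_card_subgroup R
  have hR1 : 1 < Nat.card R := (Subgroup.one_lt_card_iff_ne_bot R).mpr hcore
  have hQlt : Nat.card (G ⧸ R) < n := by
    rw [← hn, hGc]; exact lt_mul_of_one_lt_right Nat.card_pos hR1
  obtain ⟨g', hg'⟩ := ih (G ⧸ R) hQlt _ _ (carter_map_mk' ih hn.le C1 h1 R)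
    (carter_map_mk' ih hn.le C2 h2 R)
  obtain ⟨g, rfl⟩ := QuotientGroup.mk'_surjective R g'
  rw [← map_conj_smul] at hg'
  have h3 := congrArg (Subgroup.comap (QuotientGroup.mk' R)) hg'
  rw [comap_map_mk', comap_map_mk'] at h3
  have h4 : R ≤ MulAut.conj g • C1 := by
    have : MulAut.conj g • R = R := Subgroup.Normal.conj_smul_eq_self g R
    rw [← this]
    exact Subgroup.pointwise_smul_le_pointwise_smul_iff.mpr hRC
  rw [sup_eq_left.mpr h4] at h3
  refine ⟨g, ?_⟩
  symm
  apply Subgroup.eq_of_le_of_card_ge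
  · rw [h3]; exact le_sup_left
  · rw [card_conj_smul, hcard]

/-- Any two Carter subgroups of a finite solvable group are conjugate. -/
theorem carter_conj_aux (n : ℕ) : ∀ (G : Type u) [Group G] [Finite G] [Group.IsSolvable G],
    Nat.card G = n → ∀ C1 C2 : Subgroup G, Cfsg.IsCarterSubgroup C1 → Cfsg.IsCarterSubgroup C2 →
    ∃ g : G, MulAut.conj g • C1 = C2 := by
  induction n using Nat.strong_induction_on with
  | _ n ih =>
    intro G _ _ _ hn C1 C2 h1 h2
    have ihb : CarterConjBelow.{u} n := fun X _ _ _ hX D1 D2 hD1 hD2 =>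
      ih _ hX X rfl D1 D2 hD1 hD2
    rcases subsingleton_or_nontrivial G with hsub | hnon
    · refine ⟨1, ?_⟩
      have : Subsingleton (Subgroup G) := ⟨fun A B => by
        ext x; simp [Subsingleton.elim x 1]⟩
      exact Subsingleton.elim _ _
    obtain ⟨A, hA⟩ := exists_isMinNormal (G := G)
    have hAn : A.Normal := hA.1
    have hab : ∀ a ∈ A, ∀ b ∈ A, a * b = b * a := fun a ha b hb => hA.mul_comm_of_mem ha hb
    have hGc : Nat.card G = Nat.card (G ⧸ A) * Nat.card A :=
      Subgroup.card_eq_card_quotient_mul_card_subgroup A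
    have hA1 : 1 < Nat.card A := (Subgroup.one_lt_card_iff_ne_bot A).mpr hA.2.1
    have hQlt : Nat.card (G ⧸ A) < n := by
      rw [← hn, hGc]; exact lt_mul_of_one_lt_right Nat.card_pos hA1
    obtain ⟨g', hg'⟩ := ih _ hQlt (G ⧸ A) rfl _ _ (carter_map_mk' ihb hn.le C1 h1 A)
      (carter_map_mk' ihb hn.le C2 h2 A)
    obtain ⟨g, rfl⟩ := QuotientGroup.mk'_surjective A g'
    rw [← map_conj_smul] at hg'
    have hsup := congrArg (Subgroup.comap (QuotientGroup.mk' A)) hg'
    rw [comap_map_mk', comap_map_mk'] at hsup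
    have h1' : Cfsg.IsCarterSubgroup (MulAut.conj g • C1) := isCarterSubgroup_conj h1 g
    suffices hsuff : ∃ g' : G, MulAut.conj g' • (MulAut.conj g • C1) = C2 by
      obtain ⟨g', hg''⟩ := hsuff
      exact ⟨g' * g, by rw [map_mul, mul_smul]; exact hg''⟩
    generalize MulAut.conj g • C1 = D1 at hsup h1'
    by_cases htop : C2 ⊔ A = ⊤
    · rw [htop] at hsup
      by_cases hA1 : A ≤ D1
      · have hD1 : D1 = ⊤ := by rw [← hsup]; exact (sup_eq_left.mpr hA1).symm
        have hnil : Group.IsNilpotent G := by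
          have := h1'.1
          rw [hD1] at this
          exact Group.nilpotent_of_mulEquiv Subgroup.topEquiv
        refine ⟨1, ?_⟩
        rw [map_one, one_smul, hD1, eq_top_of_normalizer_eq_self C2 h2.2]
      by_cases hA2 : A ≤ C2
      · have hC2 : C2 = ⊤ := by rw [← htop]; exact (sup_eq_left.mpr hA2).symm
        have hnil : Group.IsNilpotent G := by
          have := h2.1
          rw [hC2] at this
          exact Group.nilpotent_of_mulEquiv Subgroup.topEquiv
        refine ⟨1, ?_⟩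
        rw [map_one, one_smul, hC2, eq_top_of_normalizer_eq_self D1 h1'.2]
      have hi1 := inf_eq_bot_of_minNormal A D1 hA hab hsup hA1
      have hi2 := inf_eq_bot_of_minNormal A C2 hA hab htop hA2
      have hc1 := card_mul_card_of_complement A D1 hsup hi1
      have hc2 := card_mul_card_of_complement A C2 htop hi2
      have hcard : Nat.card D1 = Nat.card C2 :=
        Nat.eq_of_mul_eq_mul_right Nat.card_pos (hc1.trans hc2.symm)
      by_cases hcore1 : D1.normalCore = ⊥
      · by_cases hcore2 : C2.normalCore = ⊥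
        · exact Cfsg.Agent.S0551.result D1 C2 (isCoatom_of_minNormal A D1 hA hab hsup hA1)
            (isCoatom_of_minNormal A C2 hA hab htop hA2) hcore1 hcore2
        · obtain ⟨g2, hg2⟩ := conj_of_core_ne_bot ihb hn C2 D1 h2 h1' hcore2 hcard.symm
          refine ⟨g2⁻¹, ?_⟩
          rw [← hg2, ← mul_smul, ← map_mul, inv_mul_cancel, map_one, one_smul]
      · exact conj_of_core_ne_bot ihb hn D1 C2 h1' h2 hcore1 hcard
    · have hKlt : Nat.card (C2 ⊔ A : Subgroup G) < n := by
        have h3 : (C2 ⊔ A).index ≠ 1 := fun h => htop (Subgroup.index_eq_one.mp h)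
        have h4 := (C2 ⊔ A).card_mul_index
        have h5 : 0 < (C2 ⊔ A).index := Nat.pos_of_ne_zero Subgroup.index_ne_zero_of_finite
        have h6 : 1 < (C2 ⊔ A).index := by omega
        rw [← hn, ← h4]
        exact lt_mul_of_one_lt_right Nat.card_pos h6
      have hD1K : IsCarterIn D1 (C2 ⊔ A) :=
        (isCarterIn_top.mpr h1').mono (hsup ▸ le_sup_left) le_top
      have hC2K : IsCarterIn C2 (C2 ⊔ A) := (isCarterIn_top.mpr h2).mono le_sup_left le_top
      obtain ⟨l, _, hl⟩ := conj_in_of_below ihb (C2 ⊔ A) hKlt D1 C2 hD1K hC2K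
      exact ⟨l, hl⟩

theorem carter_conj [Finite G] [Group.IsSolvable G] (C1 C2 : Subgroup G)
    (h1 : Cfsg.IsCarterSubgroup C1) (h2 : Cfsg.IsCarterSubgroup C2) :
    ∃ g : G, MulAut.conj g • C1 = C2 :=
  carter_conj_aux _ G rfl C1 C2 h1 h2

lemma carterConjBelow_all (n : ℕ) : CarterConjBelow.{u} n :=
  fun X _ _ _ _ D1 D2 hD1 hD2 => carter_conj D1 D2 hD1 hD2

end Cfsg.Agent.Lib.Helper13
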