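import Mathlib
import Cfsg.Prelude.Def_SolvableStructure
import Cfsg.Agent.Lib.Helper13.Basic
import Cfsg.Agent.Lib.Helper13.QuotientLemmas

set_option autoImplicit false

namespace Cfsg.Agent.Lib.Helper13

open Pointwise

variable {G : Type*} [Group G]

/-- If `D` normalizes `K` then `|D : D ∩ K|` divides `|G : K|`. -/
lemma relIndex_dvd_index_of_le_normalizer [Finite G] (K D : Subgroup G)
    (hD : D ≤ Subgroup.normalizer (K : Set G)) : K.relIndex D ∣ K.index := by
  set L := Subgroup.normalizer (K : Set G) with hL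
  have hKL : K ≤ L := Subgroup.le_normalizer
  have hn : (K.subgroupOf L).Normal := Subgroup.normal_in_normalizer
  have h1 : (K.subgroupOf L).relIndex (D.subgroupOf L) ∣ (K.subgroupOf L).index :=
    Subgroup.relIndex_dvd_index_of_normal _ _
  rw [Subgroup.relIndex_subgroupOf hD] at h1
  exact h1.trans (Subgroup.relIndex_dvd_index_of_le hKL)

section
variable {K : Nat.Primes → Subgroup G} (hK : Cfsg.IsComplementSystem K)
include hK

lemma IsComplementSystem.card_mul (p : Nat.Primes) :
    Nat.card (K p) * (p : ℕ) ^ (Nat.card G).factorization p = Nat.card G := by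
  rw [← hK p]; exact (K p).card_mul_index

lemma IsComplementSystem.not_dvd_card [Finite G] (p : Nat.Primes) : ¬ (p : ℕ) ∣ Nat.card (K p) := by
  intro h
  obtain ⟨c, hc⟩ := h
  have e := IsComplementSystem.card_mul hK p
  have h1 : (p : ℕ) ^ ((Nat.card G).factorization p + 1) ∣ Nat.card G := by
    rw [hc] at e
    generalize (Nat.card G).factorization p = v at e ⊢
    exact ⟨c, by rw [← e]; ring⟩
  exact Nat.pow_succ_factorization_not_dvd Nat.card_pos.ne' p.2 h1

lemma IsComplementSystem.coprime_card [Finite G] (p : Nat.Primes) : (Nat.card (K p)).Coprime p :=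
  ((Nat.Prime.coprime_iff_not_dvd p.2).mpr (IsComplementSystem.not_dvd_card hK p)).symm

/-- A normal `r`-subgroup lies in every Hall `p'`-subgroup for `p ≠ r`. -/
lemma IsComplementSystem.normal_le [Finite G] (p : Nat.Primes) (N : Subgroup G) [N.Normal] (r : ℕ)
    (hr : r.Prime) (hN : IsPGroup r N) (hrp : r ≠ p) : N ≤ K p := by
  have hrF : Fact r.Prime := ⟨hr⟩
  have h1 : (K p).relIndex N ∣ (K p).index := relIndex_normal_dvd_index (K p) N
  have h2 : (K p).relIndex N ∣ Nat.card N := Subgroup.relIndex_dvd_card _ _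
  obtain ⟨k, hk⟩ := hN.exists_card_eq
  rw [hK p] at h1
  rw [hk] at h2
  have hcop : Nat.Coprime ((p : ℕ) ^ (Nat.card G).factorization p) (r ^ k) :=
    Nat.Coprime.pow _ _ ((Nat.coprime_primes p.2 hr).mpr (fun h => hrp h.symm))
  have h3 : (K p).relIndex N = 1 := Nat.eq_one_of_dvd_coprimes hcop h1 h2
  exact Subgroup.relIndex_eq_one.mp h3

/-- The images of a complement system in a quotient form a complement system. -/
lemma IsComplementSystem.map_mk' [Finite G] (N : Subgroup G) [N.Normal] :
    Cfsg.IsComplementSystem (fun p => (K p).map (QuotientGroup.mk' N)) := by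
  intro p
  have hp : (p : ℕ).Prime := p.2
  show ((K p).map (QuotientGroup.mk' N)).index = _
  have h1 : ((K p).map (QuotientGroup.mk' N)).index = (K p ⊔ N).index := by
    rw [Subgroup.index_map, QuotientGroup.ker_mk',
      MonoidHom.range_eq_top_of_surjective _ (QuotientGroup.mk'_surjective N),
      Subgroup.index_top, mul_one]
  have h2 : (K p ⊔ N).index ∣ (p : ℕ) ^ (Nat.card G).factorization p := by
    rw [← hK p]; exact Subgroup.index_dvd_of_le le_sup_left
  obtain ⟨j, _, hj⟩ := (Nat.dvd_prime_pow hp).mp h2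
  have h3 : Nat.card ((K p).map (QuotientGroup.mk' N)) ∣ Nat.card (K p) :=
    Subgroup.card_map_dvd _ _
  have h4 : ¬ (p : ℕ) ∣ Nat.card ((K p).map (QuotientGroup.mk' N)) :=
    fun h => IsComplementSystem.not_dvd_card hK p (h.trans h3)
  have h5 := ((K p).map (QuotientGroup.mk' N)).card_mul_index
  rw [h1, hj] at h5
  have h6 : (Nat.card ((K p).map (QuotientGroup.mk' N))).factorization p = 0 :=
    Nat.factorization_eq_zero_of_not_dvd h4
  have h7 : ((p : ℕ) ^ j).factorization p = j := by simp [hp.factorization_pow]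
  rw [h1, hj, ← h5, Nat.factorization_mul Nat.card_pos.ne' (pow_pos hp.pos j).ne',
    Finsupp.coe_add, Pi.add_apply, h6, h7, zero_add]

end

lemma mem_systemNormalizer_iff {K : Nat.Primes → Subgroup G} {g : G} :
    g ∈ Cfsg.systemNormalizer K ↔ ∀ p, g ∈ Subgroup.normalizer (K p : Set G) := by
  unfold Cfsg.systemNormalizer
  exact Subgroup.mem_iInf

lemma systemNormalizer_le (K : Nat.Primes → Subgroup G) (p : Nat.Primes) :
    Cfsg.systemNormalizer K ≤ Subgroup.normalizer (K p : Set G) :=
  iInf_le _ p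

/-- A subgroup whose order is coprime to the index of the normal subgroup `N` lies in `N`. -/
lemma le_normal_of_coprime_card_index [Finite G] (A N : Subgroup G) [N.Normal]
    (hcop : (Nat.card A).Coprime N.index) : A ≤ N := by
  intro a ha
  have h2 : a ^ N.index ∈ N := Subgroup.pow_index_mem N a
  have h3 : orderOf a ∣ Nat.card A := by
    have := orderOf_dvd_natCard (⟨a, ha⟩ : A)
    rwa [Subgroup.orderOf_mk] at this
  have h4 : (N.index).Coprime (orderOf a) :=
    (Nat.Coprime.coprime_dvd_left h3 hcop).symm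
  obtain ⟨m, hm⟩ := exists_pow_eq_self_of_coprime h4
  rw [← hm]
  exact N.pow_mem h2 m

/-- The system normalizer of a complement system is nilpotent. -/
theorem systemNormalizer_isNilpotent [Finite G] {K : Nat.Primes → Subgroup G}
    (hK : Cfsg.IsComplementSystem K) : Group.IsNilpotent (Cfsg.systemNormalizer K) := by
  set D := Cfsg.systemNormalizer K with hD
  apply (Group.isNilpotent_of_finite_tfae (G := D)).out 3 0 |>.mp
  intro q hq Q
  -- the normal `p`-complements of `D`
  have hTn : ∀ p : Nat.Primes, ((K p).subgroupOf D).Normal := fun p =>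
    Subgroup.normal_subgroupOf_of_le_normalizer (systemNormalizer_le K p)
  have hTidx : ∀ p : Nat.Primes, ∃ j, ((K p).subgroupOf D).index = (p : ℕ) ^ j := by
    intro p
    have h1 : (K p).relIndex D ∣ (K p).index :=
      relIndex_dvd_index_of_le_normalizer (K p) D (systemNormalizer_le K p)
    rw [hK p] at h1
    obtain ⟨j, _, hj⟩ := (Nat.dvd_prime_pow p.2).mp h1
    exact ⟨j, hj⟩
  have hTcard : ∀ p : Nat.Primes, Nat.card ((K p).subgroupOf D) ∣ Nat.card (K p) := by
    intro p
    have : Nat.card ((K p).subgroupOf D) = Nat.card ((K p ⊓ D : Subgroup G)) := by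
      rw [← Subgroup.inf_subgroupOf_right]
      exact Nat.card_congr (Subgroup.subgroupOfEquivOfLe inf_le_right).toEquiv
    rw [this]
    exact Subgroup.card_dvd_of_le inf_le_left
  -- Q lies in each T p for p ≠ q
  have hQle : ∀ p : Nat.Primes, (p : ℕ) ≠ q → (Q : Subgroup D) ≤ (K p).subgroupOf D := by
    intro p hpq
    have := hTn p
    apply le_normal_of_coprime_card_index
    obtain ⟨j, hj⟩ := hTidx p
    obtain ⟨k, hk⟩ := Q.isPGroup'.exists_card_eq
    rw [hj, hk]
    exact Nat.Coprime.pow _ _ ((Nat.coprime_primes hq.out p.2).mpr (fun h => hpq h.symm))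
  set R : Subgroup D := ⨅ p : {p : Nat.Primes // (p : ℕ) ≠ q}, (K p.1).subgroupOf D with hR
  have hRn : R.Normal := Subgroup.normal_iInf_normal (fun p => hTn p.1)
  have hQR : (Q : Subgroup D) ≤ R := le_iInf (fun p => hQle p.1 p.2)
  have hRq : IsPGroup q R := by
    have hall : ∀ {d : ℕ}, d.Prime → d ∣ Nat.card R → d = q := by
      intro d hd hdd
      by_contra hne
      have h1 : R ≤ (K ⟨d, hd⟩).subgroupOf D := iInf_le _ (⟨⟨d, hd⟩, hne⟩ : {p : Nat.Primes // (p : ℕ) ≠ q})
      have h2 : Nat.card R ∣ Nat.card (K ⟨d, hd⟩) :=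
        (Subgroup.card_dvd_of_le h1).trans (hTcard ⟨d, hd⟩)
      exact IsComplementSystem.not_dvd_card hK ⟨d, hd⟩ (hdd.trans h2)
    exact IsPGroup.of_card (Nat.eq_prime_pow_of_unique_prime_dvd Nat.card_pos.ne' hall)
  have : R = Q := Q.is_maximal' hRq hQR
  rw [← this]
  exact hRn

end Cfsg.Agent.Lib.Helper13
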