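import Mathlib
import Cfsg.Agent.Lib.Helper13.ComplementSystem
import Cfsg.Agent.Lib.Helper13.SZAmbient
import Cfsg.Agent.Lib.Helper13.MinNormalSolvable

set_option autoImplicit false

namespace Cfsg.Agent.Lib.Helper13

open Pointwise

universe u

variable {G : Type u} [Group G]

lemma IsComplementSystem.conj [Finite G] {K : Nat.Primes → Subgroup G}
    (hK : Cfsg.IsComplementSystem K) (g : G) :
    Cfsg.IsComplementSystem (fun p => MulAut.conj g • K p) := by
  intro p
  show (MulAut.conj g • K p).index = _
  rw [index_conj_smul]; exact hK p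

/-- Two complement systems that agree modulo a minimal normal subgroup `N` of a finite solvable
group are conjugate by an element of `N`. -/
lemma exists_conj_of_sup_minNormal_eq [Finite G] [Group.IsSolvable G]
    {K L : Nat.Primes → Subgroup G} (hK : Cfsg.IsComplementSystem K)
    (hL : Cfsg.IsComplementSystem L) (N : Subgroup G) (hN : IsMinNormal N)
    (h : ∀ p, K p ⊔ N = L p ⊔ N) : ∃ n ∈ N, ∀ p, MulAut.conj n • K p = L p := by
  have hNn : N.Normal := hN.1
  obtain ⟨r, hr, hrd, -, hNr⟩ := hN.exists_prime
  have hrF : Fact r.Prime := ⟨hr⟩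
  set rP : Nat.Primes := ⟨r, hr⟩ with hrP
  have hne : ∀ p : Nat.Primes, p ≠ rP → K p = L p := by
    intro p hp
    have hp' : r ≠ (p : ℕ) := fun h => hp (Subtype.ext h.symm)
    have h1 : N ≤ K p := IsComplementSystem.normal_le hK p N r hr hNr hp'
    have h2 : N ≤ L p := IsComplementSystem.normal_le hL p N r hr hNr hp'
    have := h p
    rwa [sup_eq_left.mpr h1, sup_eq_left.mpr h2] at this
  obtain ⟨k, hk⟩ := hNr.exists_card_eq
  have hcopK : (Nat.card N).Coprime (Nat.card (K rP)) := by
    rw [hk]
    exact Nat.Coprime.pow_left _ (IsComplementSystem.coprime_card hK rP).symm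
  have hcopL : (Nat.card N).Coprime (Nat.card (L rP)) := by
    rw [hk]
    exact Nat.Coprime.pow_left _ (IsComplementSystem.coprime_card hL rP).symm
  have h1 : K rP ⊓ N = ⊥ := (Subgroup.disjoint_of_coprime_natCard hcopK.symm).eq_bot
  have h2 : L rP ⊓ N = ⊥ := (Subgroup.disjoint_of_coprime_natCard hcopL.symm).eq_bot
  obtain ⟨n, hn, hconj⟩ := exists_conj_of_sup_eq_abelian N
    (fun a ha b hb => hN.mul_comm_of_mem ha hb) (K rP) (L rP) h1 h2 (h rP) hcopK
  refine ⟨n, hn, fun p => ?_⟩
  by_cases hp : p = rP
  · rw [hp]; exact hconj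
  · rw [hne p hp]
    have hp' : r ≠ (p : ℕ) := fun h => hp (Subtype.ext h.symm)
    exact Subgroup.conj_smul_eq_self_of_mem
      (IsComplementSystem.normal_le hL p N r hr hNr hp' hn)

/-- Any two complement systems of a finite solvable group are simultaneously conjugate. -/
theorem complementSystems_conj_aux (n : ℕ) : ∀ (G : Type u) [Group G] [Finite G]
    [Group.IsSolvable G], Nat.card G = n → ∀ K L : Nat.Primes → Subgroup G,
    Cfsg.IsComplementSystem K → Cfsg.IsComplementSystem L →
    ∃ g : G, ∀ p, MulAut.conj g • K p = L p := by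
  induction n using Nat.strong_induction_on with
  | _ n ih =>
    intro G _ _ _ hn K L hK hL
    rcases subsingleton_or_nontrivial G with hsub | hnon
    · refine ⟨1, fun p => ?_⟩
      have : Subsingleton (Subgroup G) := ⟨fun A B => by
        ext x; simp [Subsingleton.elim x 1]⟩
      exact Subsingleton.elim _ _
    · obtain ⟨N, hN⟩ := exists_isMinNormal (G := G)
      have hNn : N.Normal := hN.1
      have hGc : Nat.card G = Nat.card (G ⧸ N) * Nat.card N :=
        Subgroup.card_eq_card_quotient_mul_card_subgroup N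
      have hN1 : 1 < Nat.card N := (Subgroup.one_lt_card_iff_ne_bot N).mpr hN.2.1
      have hQlt : Nat.card (G ⧸ N) < n := by
        rw [← hn, hGc]; exact lt_mul_of_one_lt_right Nat.card_pos hN1
      obtain ⟨g', hg'⟩ := ih _ hQlt (G ⧸ N) rfl _ _
        (IsComplementSystem.map_mk' hK N) (IsComplementSystem.map_mk' hL N)
      obtain ⟨g, rfl⟩ := QuotientGroup.mk'_surjective N g'
      have hsup : ∀ p, MulAut.conj g • K p ⊔ N = L p ⊔ N := by
        intro p
        have := hg' p
        rw [← map_conj_smul] at this
        have := congrArg (Subgroup.comap (QuotientGroup.mk' N)) this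
        rwa [comap_map_mk', comap_map_mk'] at this
      obtain ⟨m, _, hm⟩ := exists_conj_of_sup_minNormal_eq (IsComplementSystem.conj hK g) hL N hN hsup
      refine ⟨m * g, fun p => ?_⟩
      rw [map_mul, mul_smul]
      exact hm p

theorem complementSystems_conj [Finite G] [Group.IsSolvable G] (K L : Nat.Primes → Subgroup G)
    (hK : Cfsg.IsComplementSystem K) (hL : Cfsg.IsComplementSystem L) :
    ∃ g : G, ∀ p, MulAut.conj g • K p = L p :=
  complementSystems_conj_aux (Nat.card G) G rfl K L hK hL

end Cfsg.Agent.Lib.Helper13
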