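import Mathlib
import Cfsg.Agent.Lib.Helper13.ComplementSystemConj

set_option autoImplicit false

namespace Cfsg.Agent.Lib.Helper13

open Pointwise

universe u

/-- Lifting lemma: if `g` normalizes every `K p` modulo the normal subgroup `N`, then some
`N`-translate of `g` normalizes every `K p`. -/
theorem exists_mul_normalizes_aux (n : ℕ) : ∀ (G : Type u) [Group G] [Finite G]
    [Group.IsSolvable G], Nat.card G = n → ∀ (N : Subgroup G), N.Normal →
    ∀ K : Nat.Primes → Subgroup G, Cfsg.IsComplementSystem K → ∀ g : G,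
    (∀ p, MulAut.conj g • K p ⊔ N = K p ⊔ N) →
    ∃ m ∈ N, ∀ p, MulAut.conj (m * g) • K p = K p := by
  induction n using Nat.strong_induction_on with
  | _ n ih =>
    intro G _ _ _ hn N hNn K hK g hg
    by_cases hNbot : N = ⊥
    · refine ⟨1, N.one_mem, fun p => ?_⟩
      have := hg p
      rw [hNbot, sup_bot_eq, sup_bot_eq] at this
      rwa [one_mul]
    · obtain ⟨N0, hN0N, hN0⟩ := exists_isMinNormal_le N hNn hNbot
      have hN0n : N0.Normal := hN0.1
      have hGc : Nat.card G = Nat.card (G ⧸ N0) * Nat.card N0 :=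
        Subgroup.card_eq_card_quotient_mul_card_subgroup N0
      have hN1 : 1 < Nat.card N0 := (Subgroup.one_lt_card_iff_ne_bot N0).mpr hN0.2.1
      have hQlt : Nat.card (G ⧸ N0) < n := by
        rw [← hn, hGc]; exact lt_mul_of_one_lt_right Nat.card_pos hN1
      have hNbar : (N.map (QuotientGroup.mk' N0)).Normal :=
        hNn.map _ (QuotientGroup.mk'_surjective N0)
      have hgbar : ∀ p, MulAut.conj (QuotientGroup.mk' N0 g) • (K p).map (QuotientGroup.mk' N0)
          ⊔ N.map (QuotientGroup.mk' N0) =
          (K p).map (QuotientGroup.mk' N0) ⊔ N.map (QuotientGroup.mk' N0) := by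
        intro p
        rw [← map_conj_smul, ← Subgroup.map_sup, ← Subgroup.map_sup, hg p]
      obtain ⟨m', hm'N, hm'⟩ := ih _ hQlt (G ⧸ N0) rfl (N.map (QuotientGroup.mk' N0)) hNbar _
        (IsComplementSystem.map_mk' hK N0) (QuotientGroup.mk' N0 g) hgbar
      obtain ⟨m, hmN, rfl⟩ := hm'N
      have hsup : ∀ p, MulAut.conj (m * g) • K p ⊔ N0 = K p ⊔ N0 := by
        intro p
        have := hm' p
        rw [← map_mul, ← map_conj_smul] at this
        have := congrArg (Subgroup.comap (QuotientGroup.mk' N0)) this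
        rwa [comap_map_mk', comap_map_mk'] at this
      obtain ⟨m0, hm0, hm0'⟩ := exists_conj_of_sup_minNormal_eq
        (IsComplementSystem.conj hK (m * g)) hK N0 hN0 hsup
      refine ⟨m0 * m, N.mul_mem (hN0N hm0) hmN, fun p => ?_⟩
      rw [mul_assoc, map_mul, mul_smul]
      exact hm0' p

theorem exists_mul_mem_systemNormalizer {G : Type u} [Group G] [Finite G] [Group.IsSolvable G]
    (N : Subgroup G) [hNn : N.Normal] {K : Nat.Primes → Subgroup G}
    (hK : Cfsg.IsComplementSystem K) (g : G)
    (hg : ∀ p, MulAut.conj g • K p ⊔ N = K p ⊔ N) :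
    ∃ m ∈ N, m * g ∈ Cfsg.systemNormalizer K := by
  obtain ⟨m, hm, h⟩ := exists_mul_normalizes_aux (Nat.card G) G rfl N hNn K hK g hg
  refine ⟨m, hm, ?_⟩
  rw [mem_systemNormalizer_iff]
  intro p
  rw [mem_normalizer_iff_conj_smul]
  exact h p

/-- The system normalizer of the image system in a quotient is the image of the system
normalizer. -/
theorem systemNormalizer_map_mk' {G : Type u} [Group G] [Finite G] [Group.IsSolvable G]
    (N : Subgroup G) [hNn : N.Normal] {K : Nat.Primes → Subgroup G}
    (hK : Cfsg.IsComplementSystem K) :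
    Cfsg.systemNormalizer (fun p => (K p).map (QuotientGroup.mk' N)) =
      (Cfsg.systemNormalizer K).map (QuotientGroup.mk' N) := by
  apply le_antisymm
  · intro x hx
    obtain ⟨g, rfl⟩ := QuotientGroup.mk'_surjective N x
    rw [mem_systemNormalizer_iff] at hx
    have hg : ∀ p, MulAut.conj g • K p ⊔ N = K p ⊔ N := by
      intro p
      have := hx p
      rw [mem_normalizer_iff_conj_smul, ← map_conj_smul] at this
      have := congrArg (Subgroup.comap (QuotientGroup.mk' N)) this
      rwa [comap_map_mk', comap_map_mk'] at this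
    obtain ⟨m, hm, hmg⟩ := exists_mul_mem_systemNormalizer N hK g hg
    refine ⟨m * g, hmg, ?_⟩
    rw [map_mul]
    have : QuotientGroup.mk' N m = 1 := (QuotientGroup.eq_one_iff m).mpr hm
    rw [this, one_mul]
  · rintro _ ⟨d, hd, rfl⟩
    rw [SetLike.mem_coe, mem_systemNormalizer_iff] at hd
    rw [mem_systemNormalizer_iff]
    intro p
    have := hd p
    rw [mem_normalizer_iff_conj_smul] at this ⊢
    rw [← map_conj_smul, this]

end Cfsg.Agent.Lib.Helper13
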