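import Mathlib
import Cfsg.Agent.Lib.Helper13.SystemNormalizerQuot
import Cfsg.Agent.Lib.Helper13.PrimSolvable

set_option autoImplicit false

namespace Cfsg.Agent.Lib.Helper13

open Pointwise
open scoped commutatorElement

universe u

variable {G : Type u} [Group G]

/-- If the normal subgroup `R` induces an `r`-group of automorphisms on the nontrivial normal
`r`-subgroup `N`, then `R` has a nontrivial fixed point on `N`. -/
lemma inf_centralizer_ne_bot_of_relIndex [Finite G] (r : ℕ) [Fact r.Prime] (N R : Subgroup G)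
    [N.Normal] [R.Normal] (hN : IsPGroup r N) (hNne : N ≠ ⊥) (k : ℕ)
    (hk : (Subgroup.centralizer (N : Set G)).relIndex R = r ^ k) :
    N ⊓ Subgroup.centralizer (R : Set G) ≠ ⊥ := by
  have hr : r.Prime := Fact.out
  set C := Subgroup.centralizer (N : Set G) with hC
  obtain ⟨P0⟩ : Nonempty (Sylow r G) := inferInstance
  have h1 : ¬ r ∣ (P0 : Subgroup G).index := P0.not_dvd_index
  have h2' : ¬ r ∣ (P0 : Subgroup G).relIndex R :=
    not_dvd_relIndex_of_normal r (P0 : Subgroup G) R h1
  obtain ⟨P, hP⟩ : ∃ P : Subgroup G, P = (P0 : Subgroup G) ⊓ R := ⟨_, rfl⟩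
  have h2 : ¬ r ∣ P.relIndex R := by
    rw [hP, Subgroup.inf_relIndex_right]
    exact h2'
  have h3 : (P ⊔ C).relIndex R ∣ P.relIndex R := Subgroup.relIndex_dvd_of_le_left R le_sup_left
  have h4 : (P ⊔ C).relIndex R ∣ r ^ k := by
    rw [← hk]; exact Subgroup.relIndex_dvd_of_le_left R le_sup_right
  obtain ⟨j, _, hj⟩ := (Nat.dvd_prime_pow hr).mp h4
  have hj0 : j = 0 := by
    by_contra hj0
    apply h2
    refine dvd_trans ?_ h3
    rw [hj]
    exact dvd_pow_self r hj0
  rw [hj0, pow_zero, Subgroup.relIndex_eq_one] at hj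
  have hPr : IsPGroup r P := P0.2.to_le (hP ▸ inf_le_left)
  have h5 := inf_centralizer_ne_bot r P N hPr hN hNne
  intro h6
  apply h5
  rw [eq_bot_iff, ← h6]
  intro x hx
  refine ⟨hx.1, ?_⟩
  have hPZ : P ≤ Subgroup.centralizer {x} := by
    intro y hy
    rw [Subgroup.mem_centralizer_singleton_iff]
    exact hx.2 y hy
  have hCZ : C ≤ Subgroup.centralizer {x} := by
    intro y hy
    rw [Subgroup.mem_centralizer_singleton_iff]
    exact (hy x hx.1).symm
  have hRZ : R ≤ Subgroup.centralizer {x} := hj.trans (sup_le hPZ hCZ)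
  intro y hy
  have := hRZ hy
  rw [Subgroup.mem_centralizer_singleton_iff] at this
  exact this

/-- System normalizers avoid eccentric minimal normal subgroups. -/
theorem inf_systemNormalizer_eq_bot_of_not_central [Finite G] [Group.IsSolvable G]
    {K : Nat.Primes → Subgroup G} (hK : Cfsg.IsComplementSystem K) (N : Subgroup G)
    (hN : IsMinNormal N) (hnc : ¬ N ≤ Subgroup.center G) :
    N ⊓ Cfsg.systemNormalizer K = ⊥ := by
  have hNn : N.Normal := hN.1
  obtain ⟨r, hr, hrd, -, hNr⟩ := hN.exists_prime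
  have hrF : Fact r.Prime := ⟨hr⟩
  set C := Subgroup.centralizer (N : Set G) with hC
  have hCn : C.Normal := Subgroup.normal_centralizer
  have hCtop : C ≠ ⊤ := by
    intro h
    apply hnc
    intro x hx
    rw [Subgroup.mem_center_iff]
    intro g
    have hg : g ∈ C := h ▸ Subgroup.mem_top g
    exact (hg x hx).symm
  have hnt : Nontrivial (G ⧸ C) := QuotientGroup.nontrivial_iff.mpr hCtop
  obtain ⟨R', hR'⟩ := exists_isMinNormal (G := G ⧸ C)
  obtain ⟨q, hq, hqd, -, hR'q⟩ := hR'.exists_prime
  have hqF : Fact q.Prime := ⟨hq⟩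
  have hR'n : R'.Normal := hR'.1
  set R := R'.comap (QuotientGroup.mk' C) with hR
  have hRn : R.Normal := hR'n.comap _
  have hCR : C ≤ R := le_comap_mk' C R'
  have hRnC : ¬ R ≤ C := by
    intro h
    apply hR'.2.1
    rw [eq_bot_iff, ← map_comap_mk' C R', ← QuotientGroup.map_mk'_self C]
    exact Subgroup.map_mono h
  obtain ⟨k, hk⟩ := hR'q.exists_card_eq
  have hrel : C.relIndex R = q ^ k := by
    have h1 := Subgroup.relIndex_mul_relIndex ⊥ C R bot_le hCR
    rw [Subgroup.relIndex_bot_left, Subgroup.relIndex_bot_left, hR, card_comap_mk', hk,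
      mul_comm] at h1
    exact Nat.eq_of_mul_eq_mul_right Nat.card_pos h1
  -- the fixed points of `R` on `N`
  have hN0n : (N ⊓ Subgroup.centralizer (R : Set G)).Normal := by
    have : (Subgroup.centralizer (R : Set G)).Normal := Subgroup.normal_centralizer
    infer_instance
  have hN0 : N ⊓ Subgroup.centralizer (R : Set G) = ⊥ := by
    rcases hN.2.2 _ hN0n inf_le_left with h | h
    · exact h
    · exfalso
      apply hRnC
      have : N ≤ Subgroup.centralizer (R : Set G) := by rw [← h]; exact inf_le_right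
      exact Subgroup.le_centralizer_iff.mp this
  have hqr : q ≠ r := by
    rintro rfl
    exact inf_centralizer_ne_bot_of_relIndex q N R hNr hN.2.1 k hrel hN0
  -- `R ≤ K_r C`
  have hRle : R ≤ K ⟨r, hr⟩ ⊔ C := by
    have h1 : R' ≤ (K ⟨r, hr⟩).map (QuotientGroup.mk' C) :=
      IsComplementSystem.normal_le (IsComplementSystem.map_mk' hK C) ⟨r, hr⟩ R' q hq hR'q hqr
    rw [← comap_map_mk']
    exact Subgroup.comap_mono h1
  obtain ⟨j, hj⟩ := hNr.exists_card_eq
  have hdisj : K ⟨r, hr⟩ ⊓ N = ⊥ := by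
    apply disjoint_iff.mp
    apply Subgroup.disjoint_of_coprime_natCard
    rw [hj]
    exact Nat.Coprime.pow_right j (IsComplementSystem.coprime_card hK ⟨r, hr⟩)
  rw [eq_bot_iff, ← hN0]
  intro x hx
  refine ⟨hx.1, ?_⟩
  have hxD := (mem_systemNormalizer_iff.mp hx.2) ⟨r, hr⟩
  have hKZ : K ⟨r, hr⟩ ≤ Subgroup.centralizer {x} := by
    intro y hy
    rw [Subgroup.mem_centralizer_singleton_iff]
    have h1 : x * y * x⁻¹ * y⁻¹ ∈ K ⟨r, hr⟩ := by
      have := (Subgroup.mem_normalizer_iff.mp hxD y).mp hy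
      exact (K ⟨r, hr⟩).mul_mem this ((K ⟨r, hr⟩).inv_mem hy)
    have h2 : x * y * x⁻¹ * y⁻¹ ∈ N := by
      have : y * x⁻¹ * y⁻¹ ∈ N := hNn.conj_mem _ (N.inv_mem hx.1) y
      have := N.mul_mem hx.1 this
      simpa [mul_assoc] using this
    have h3 : x * y * x⁻¹ * y⁻¹ ∈ K ⟨r, hr⟩ ⊓ N := ⟨h1, h2⟩
    rw [hdisj, Subgroup.mem_bot] at h3
    have : x * y = y * x := by
      have h4 : x * y * x⁻¹ * y⁻¹ * (y * x) = y * x := by rw [h3, one_mul]
      rw [← h4]; group
    exact this.symm
  have hCZ : C ≤ Subgroup.centralizer {x} := by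
    intro y hy
    rw [Subgroup.mem_centralizer_singleton_iff]
    exact (hy x hx.1).symm
  have hRZ : R ≤ Subgroup.centralizer {x} := hRle.trans (sup_le hKZ hCZ)
  intro y hy
  have := hRZ hy
  rw [Subgroup.mem_centralizer_singleton_iff] at this
  exact this

/-- System normalizers cover central chief factors and avoid eccentric ones. -/
theorem cover_avoid [Finite G] [Group.IsSolvable G] {K : Nat.Primes → Subgroup G}
    (hK : Cfsg.IsComplementSystem K) (A B : Subgroup G) [hAn : A.Normal] [hBn : B.Normal]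
    (hAB : A < B)
    (hchief : ∀ N : Subgroup G, N.Normal → A ≤ N → N ≤ B → N = A ∨ N = B) :
    (⁅B, (⊤ : Subgroup G)⁆ ≤ A → B ≤ A ⊔ Cfsg.systemNormalizer K) ∧
    (¬ ⁅B, (⊤ : Subgroup G)⁆ ≤ A → B ⊓ Cfsg.systemNormalizer K ≤ A) := by
  have hquot := systemNormalizer_map_mk' A hK
  constructor
  · intro hcomm b hb
    have hcentral : QuotientGroup.mk' A b ∈ Subgroup.center (G ⧸ A) := by
      rw [Subgroup.mem_center_iff]
      intro g'
      obtain ⟨g, rfl⟩ := QuotientGroup.mk'_surjective A g'
      have h1 : ⁅b, g⁆ ∈ A := hcomm (Subgroup.commutator_mem_commutator hb (Subgroup.mem_top g))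
      have h2 : QuotientGroup.mk' A ⁅b, g⁆ = 1 := (QuotientGroup.eq_one_iff _).mpr h1
      rw [map_commutatorElement, commutatorElement_eq_one_iff_mul_comm] at h2
      exact h2.symm
    have h3 : QuotientGroup.mk' A b ∈
        Cfsg.systemNormalizer (fun p => (K p).map (QuotientGroup.mk' A)) := by
      rw [mem_systemNormalizer_iff]
      intro p
      exact Subgroup.center_le_normalizer _ hcentral
    rw [hquot] at h3
    have h4 : b ∈ ((Cfsg.systemNormalizer K).map (QuotientGroup.mk' A)).comap
        (QuotientGroup.mk' A) := h3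
    rw [comap_map_mk', sup_comm] at h4
    exact h4
  · intro hncomm
    have hBbar : IsMinNormal (B.map (QuotientGroup.mk' A)) := by
      refine ⟨hBn.map _ (QuotientGroup.mk'_surjective A), ?_, ?_⟩
      · intro h
        apply hAB.not_ge
        intro b hb
        have h1 : QuotientGroup.mk' A b ∈ B.map (QuotientGroup.mk' A) := ⟨b, hb, rfl⟩
        rw [h, Subgroup.mem_bot] at h1
        exact (QuotientGroup.eq_one_iff _).mp h1
      · intro M' hM'n hM'le
        have h1 : (M'.comap (QuotientGroup.mk' A)).Normal := hM'n.comap _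
        have h2 : A ≤ M'.comap (QuotientGroup.mk' A) := le_comap_mk' A M'
        have h3 : M'.comap (QuotientGroup.mk' A) ≤ B := by
          have := Subgroup.comap_mono (f := QuotientGroup.mk' A) hM'le
          rw [comap_map_mk', sup_eq_left.mpr hAB.le] at this
          exact this
        rcases hchief _ h1 h2 h3 with h | h
        · left
          rw [← map_comap_mk' A M', h, QuotientGroup.map_mk'_self]
        · right
          rw [← map_comap_mk' A M', h]
    have hnc : ¬ B.map (QuotientGroup.mk' A) ≤ Subgroup.center (G ⧸ A) := by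
      intro h
      apply hncomm
      rw [Subgroup.commutator_le]
      intro b hb g _
      have h1 : QuotientGroup.mk' A b ∈ Subgroup.center (G ⧸ A) := h ⟨b, hb, rfl⟩
      rw [Subgroup.mem_center_iff] at h1
      have h2 : QuotientGroup.mk' A ⁅b, g⁆ = 1 := by
        rw [map_commutatorElement, commutatorElement_eq_one_iff_mul_comm]
        exact (h1 _).symm
      exact (QuotientGroup.eq_one_iff _).mp h2
    have h5 := inf_systemNormalizer_eq_bot_of_not_central (IsComplementSystem.map_mk' hK A)
      _ hBbar hnc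
    rw [hquot] at h5
    intro x hx
    have h6 : QuotientGroup.mk' A x ∈ B.map (QuotientGroup.mk' A) ⊓
        (Cfsg.systemNormalizer K).map (QuotientGroup.mk' A) :=
      ⟨⟨x, hx.1, rfl⟩, ⟨x, hx.2, rfl⟩⟩
    rw [h5, Subgroup.mem_bot] at h6
    exact (QuotientGroup.eq_one_iff _).mp h6

end Cfsg.Agent.Lib.Helper13
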