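import Mathlib
import Cfsg.Agent.Lib.Helper13.SystemNormalizerQuot

set_option autoImplicit false

namespace Cfsg.Agent.Lib.Helper13

open Pointwise

universe u

/-- In a group with commutative multiplication every system normalizer is everything. -/
lemma systemNormalizer_eq_top_of_comm {G : Type u} [Group G]
    (hc : ∀ a b : G, a * b = b * a) (K : Nat.Primes → Subgroup G) :
    Cfsg.systemNormalizer K = ⊤ := by
  rw [eq_top_iff]
  intro g _
  rw [mem_systemNormalizer_iff]
  intro p
  rw [Subgroup.mem_normalizer_iff]
  intro h
  have : g * h * g⁻¹ = h := by rw [hc g h, mul_assoc, mul_inv_cancel, mul_one]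
  rw [this]

/-- A nontrivial finite solvable group has nontrivial system normalizers. -/
theorem systemNormalizer_ne_bot {G : Type u} [Group G] [Finite G] [Group.IsSolvable G]
    [Nontrivial G] {K : Nat.Primes → Subgroup G} (hK : Cfsg.IsComplementSystem K) :
    Cfsg.systemNormalizer K ≠ ⊥ := by
  intro hbot
  have hlt : _root_.commutator G < ⊤ := Group.IsSolvable.commutator_lt_top_of_nontrivial G
  have hcomm : IsMulCommutative (G ⧸ _root_.commutator G) :=
    Subgroup.Normal.quotient_commutative_iff_commutator_le.mpr le_rfl
  have h1 := systemNormalizer_map_mk' (_root_.commutator G) hK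
  rw [systemNormalizer_eq_top_of_comm (fun a b => hcomm.is_comm.comm a b), hbot,
    Subgroup.map_bot] at h1
  have hnt : Nontrivial (G ⧸ _root_.commutator G) := QuotientGroup.nontrivial_iff.mpr hlt.ne
  exact top_ne_bot h1

/-- The normal closure of a system normalizer is the whole group. -/
theorem normalClosure_systemNormalizer {G : Type u} [Group G] [Finite G] [Group.IsSolvable G]
    {K : Nat.Primes → Subgroup G} (hK : Cfsg.IsComplementSystem K) :
    Subgroup.normalClosure ((Cfsg.systemNormalizer K : Subgroup G) : Set G) = ⊤ := by
  by_contra hT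
  set T := Subgroup.normalClosure ((Cfsg.systemNormalizer K : Subgroup G) : Set G) with hTdef
  have hTn : T.Normal := Subgroup.normalClosure_normal
  have hnt : Nontrivial (G ⧸ T) := QuotientGroup.nontrivial_iff.mpr hT
  have h1 := systemNormalizer_map_mk' T hK
  have h2 : (Cfsg.systemNormalizer K).map (QuotientGroup.mk' T) = ⊥ := by
    rw [eq_bot_iff, ← QuotientGroup.map_mk'_self T]
    exact Subgroup.map_mono Subgroup.le_normalClosure
  rw [h2] at h1
  exact systemNormalizer_ne_bot (IsComplementSystem.map_mk' hK T) h1

end Cfsg.Agent.Lib.Helper13
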