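import Mathlib
import Cfsg.Agent.Lib.Helper13.CarterConj
import Cfsg.Agent.Lib.Helper13.CoverAvoid
import Cfsg.Agent.Lib.Helper13.SystemNormalizerClosure
import Cfsg.Agent.Lib.Helper01.Hall

set_option autoImplicit false

namespace Cfsg.Agent.Lib.Helper13

open Pointwise
open scoped commutatorElement

universe u

variable {G : Type u} [Group G]

/-- A minimal normal subgroup inside a nilpotent normal subgroup `F` is centralized by `F`. -/
lemma IsMinNormal.commute_of_le_nilpotent {N F : Subgroup G} (hN : IsMinNormal N) [hFn : F.Normal]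
    (hF : Group.IsNilpotent F) (hNF : N ≤ F) : ∀ m ∈ N, ∀ f ∈ F, m * f = f * m := by
  have hNn : N.Normal := hN.1
  have h1 : (⁅N, F⁆).Normal := Subgroup.commutator_normal N F
  have h2 : ⁅N, F⁆ ≤ N := Subgroup.commutator_le_left N F
  have h3 : ⁅N, F⁆ = ⊥ := by
    rcases hN.2.2 _ h1 h2 with h | h
    · exact h
    · exfalso
      obtain ⟨k, hk⟩ := (Subgroup.isNilpotent_iff_lowerCentralSeries F).mp hF
      have h4 : ∀ j, N ≤ F.lowerCentralSeries j := by
        intro j
        induction j with
        | zero => exact hNF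
        | succ j ih =>
          rw [Subgroup.lowerCentralSeries_succ]
          calc N = ⁅N, F⁆ := h.symm
            _ ≤ ⁅F.lowerCentralSeries j, F⁆ := Subgroup.commutator_mono ih le_rfl
      have := h4 k
      rw [hk, le_bot_iff] at this
      exact hN.2.1 this
  intro m hm f hf
  have h5 : ⁅m, f⁆ ∈ ⁅N, F⁆ := Subgroup.commutator_mem_commutator hm hf
  rw [h3, Subgroup.mem_bot, commutatorElement_eq_one_iff_mul_comm] at h5
  exact h5

/-- If `G/F` is nilpotent, every system normalizer supplements `F`. -/
lemma systemNormalizer_sup_eq_top [Finite G] [Group.IsSolvable G] (F : Subgroup G) [hFn : F.Normal]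
    (hGF : Group.IsNilpotent (G ⧸ F)) {K : Nat.Primes → Subgroup G}
    (hK : Cfsg.IsComplementSystem K) : Cfsg.systemNormalizer K ⊔ F = ⊤ := by
  by_contra hne
  set D := Cfsg.systemNormalizer K with hD
  have hbar : (D ⊔ F).map (QuotientGroup.mk' F) ≠ ⊤ := by
    intro h
    apply hne
    have h1 := congrArg (Subgroup.comap (QuotientGroup.mk' F)) h
    rw [comap_map_mk', Subgroup.comap_top, sup_assoc, sup_idem] at h1
    exact h1
  rcases eq_top_or_exists_le_coatom ((D ⊔ F).map (QuotientGroup.mk' F)) with h | ⟨M', hM', hle⟩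
  · exact hbar h
  · have htfae := (Group.isNilpotent_of_finite_tfae (G := G ⧸ F)).out 0 2
    have hM'n : M'.Normal := (htfae.mp hGF) M' hM'
    have hMn : (M'.comap (QuotientGroup.mk' F)).Normal := hM'n.comap _
    have hDM : D ≤ M'.comap (QuotientGroup.mk' F) := by
      intro d hd
      exact hle ⟨d, (le_sup_left : D ≤ D ⊔ F) hd, rfl⟩
    have h1 : Subgroup.normalClosure (D : Set G) ≤ M'.comap (QuotientGroup.mk' F) :=
      Subgroup.normalClosure_le_normal hDM
    rw [hD, normalClosure_systemNormalizer hK, top_le_iff] at h1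
    apply hM'.1
    rw [← map_comap_mk' F M', h1]
    exact Subgroup.map_top_of_surjective _ (QuotientGroup.mk'_surjective F)

/-- In a group with a nilpotent normal subgroup supplemented by a system normalizer, the system
normalizer is self-normalizing. -/
theorem systemNormalizer_self_normalizing_aux (n : ℕ) : ∀ (G : Type u) [Group G] [Finite G]
    [Group.IsSolvable G], Nat.card G = n → ∀ (F : Subgroup G), F.Normal → Group.IsNilpotent F →
    ∀ K : Nat.Primes → Subgroup G, Cfsg.IsComplementSystem K →
    Cfsg.systemNormalizer K ⊔ F = ⊤ →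
    Subgroup.normalizer ((Cfsg.systemNormalizer K : Subgroup G) : Set G) =
      Cfsg.systemNormalizer K := by
  induction n using Nat.strong_induction_on with
  | _ n ih =>
    intro G _ _ _ hn F hFn hF K hK hsup
    by_cases hFbot : F = ⊥
    · rw [hFbot, sup_bot_eq] at hsup
      rw [hsup, Subgroup.normalizer_eq_top]
    obtain ⟨N, hNF, hN⟩ := exists_isMinNormal_le F hFn hFbot
    have hNn : N.Normal := hN.1
    have hGc : Nat.card G = Nat.card (G ⧸ N) * Nat.card N :=
      Subgroup.card_eq_card_quotient_mul_card_subgroup N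
    have hN1 : 1 < Nat.card N := (Subgroup.one_lt_card_iff_ne_bot N).mpr hN.2.1
    have hQlt : Nat.card (G ⧸ N) < n := by
      rw [← hn, hGc]; exact lt_mul_of_one_lt_right Nat.card_pos hN1
    have hsurj := QuotientGroup.mk'_surjective N
    have hquot := systemNormalizer_map_mk' N hK
    have hFbar : Group.IsNilpotent ↥(F.map (QuotientGroup.mk' N)) :=
      Group.nilpotent_of_surjective ((QuotientGroup.mk' N).subgroupMap F)
        ((QuotientGroup.mk' N).subgroupMap_surjective F)
    have hIH := ih _ hQlt (G ⧸ N) rfl (F.map (QuotientGroup.mk' N)) (hFn.map _ hsurj) hFbar _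
      (IsComplementSystem.map_mk' hK N)
      (by rw [hquot, ← Subgroup.map_sup, hsup, Subgroup.map_top_of_surjective _ hsurj])
    rw [hquot] at hIH
    set D := Cfsg.systemNormalizer K with hD
    apply le_antisymm _ Subgroup.le_normalizer
    intro x hx
    have h1 : QuotientGroup.mk' N x ∈ Subgroup.normalizer ((D.map (QuotientGroup.mk' N) :
        Subgroup (G ⧸ N)) : Set (G ⧸ N)) :=
      Subgroup.le_normalizer_map _ ⟨x, hx, rfl⟩
    rw [hIH] at h1
    have h2 : x ∈ (D.map (QuotientGroup.mk' N)).comap (QuotientGroup.mk' N) := h1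
    rw [comap_map_mk', ← SetLike.mem_coe, Subgroup.mul_normal, Set.mem_mul] at h2
    obtain ⟨d, hd, m, hm, hdm⟩ := h2
    have hmN : m ∈ Subgroup.normalizer (D : Set G) := by
      have : m = d⁻¹ * x := by rw [← hdm]; group
      rw [this]
      exact Subgroup.mul_mem _ (Subgroup.inv_mem _ (Subgroup.le_normalizer hd)) hx
    suffices hmD : m ∈ D by
      rw [← hdm]; exact D.mul_mem hd hmD
    by_cases hcent : N ≤ Subgroup.center G
    · rw [hD, mem_systemNormalizer_iff]
      intro p
      exact Subgroup.center_le_normalizer _ (hcent hm)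
    · have havoid := inf_systemNormalizer_eq_bot_of_not_central hK N hN hcent
      have hmc : m ∈ Subgroup.center G := by
        rw [Subgroup.mem_center_iff]
        intro g
        have hg : g ∈ ((D ⊔ F : Subgroup G) : Set G) := by rw [hsup]; exact Set.mem_univ _
        rw [Subgroup.mul_normal, Set.mem_mul] at hg
        obtain ⟨d', hd', f, hf, rfl⟩ := hg
        have hmf : m * f = f * m := hN.commute_of_le_nilpotent hF hNF m hm f hf
        have hmd : m * d' = d' * m := by
          have h3 : m * d' * m⁻¹ * d'⁻¹ ∈ N ⊓ D := by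
            constructor
            · have : d' * m⁻¹ * d'⁻¹ ∈ N := hNn.conj_mem _ (N.inv_mem hm) d'
              have := N.mul_mem hm this
              simpa [mul_assoc] using this
            · have := (Subgroup.mem_normalizer_iff.mp hmN d').mp hd'
              exact D.mul_mem this (D.inv_mem hd')
          rw [havoid, Subgroup.mem_bot] at h3
          have h4 : m * d' * m⁻¹ * d'⁻¹ * (d' * m) = d' * m := by rw [h3, one_mul]
          rw [← h4]; group
        rw [mul_assoc, ← hmf, ← mul_assoc, ← hmd, mul_assoc]
      have hZn : (Subgroup.center G ⊓ N).Normal := inferInstance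
      rcases hN.2.2 _ hZn inf_le_right with h | h
      · have : m ∈ Subgroup.center G ⊓ N := ⟨hmc, hm⟩
        rw [h, Subgroup.mem_bot] at this
        rw [this]; exact D.one_mem
      · exact absurd (h ▸ inf_le_left) hcent

/-- Every finite solvable group has a Hall complement system. -/
theorem exists_isComplementSystem [Finite G] [Group.IsSolvable G] :
    ∃ K : Nat.Primes → Subgroup G, Cfsg.IsComplementSystem K := by
  have key : ∀ p : Nat.Primes, ∃ H : Subgroup G,
      H.index = (p : ℕ) ^ (Nat.card G).factorization p := by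
    intro p
    obtain ⟨a, ha⟩ : ∃ a, a = (p : ℕ) ^ (Nat.card G).factorization p := ⟨_, rfl⟩
    obtain ⟨b, hb⟩ : ∃ b, b = Nat.card G / (p : ℕ) ^ (Nat.card G).factorization p := ⟨_, rfl⟩
    have h1 : a * b = Nat.card G := by
      rw [ha, hb]; exact Nat.ordProj_mul_ordCompl_eq_self _ _
    have hcop : Nat.Coprime b a := by
      rw [ha, hb]
      exact (Nat.Coprime.pow_left _ (Nat.coprime_ordCompl p.2 Nat.card_pos.ne')).symm
    obtain ⟨⟨H, hH⟩, -, -⟩ := Cfsg.Agent.Lib.Helper01.hallProp (G := G) b a
      (by rw [mul_comm]; exact h1.symm) hcop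
    refine ⟨H, ?_⟩
    rw [← ha]
    have h2 := H.card_mul_index
    rw [hH, ← h1, mul_comm a b] at h2
    have hpos : 0 < b := by rw [← hH]; exact Nat.card_pos
    exact Nat.eq_of_mul_eq_mul_left hpos h2
  choose K hK using key
  exact ⟨K, hK⟩

lemma systemNormalizer_conj (K : Nat.Primes → Subgroup G) (g : G) :
    Cfsg.systemNormalizer (fun p => MulAut.conj g • K p) =
      MulAut.conj g • Cfsg.systemNormalizer K := by
  ext x
  rw [mem_systemNormalizer_iff, Subgroup.mem_pointwise_smul_iff_inv_smul_mem,
    mem_systemNormalizer_iff]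
  constructor
  · intro h p
    have := h p
    rwa [normalizer_conj_smul, Subgroup.mem_pointwise_smul_iff_inv_smul_mem] at this
  · intro h p
    have := h p
    rwa [normalizer_conj_smul, Subgroup.mem_pointwise_smul_iff_inv_smul_mem]

/-- In a nilpotent-by-nilpotent finite group the Carter subgroups are exactly the system
normalizers. -/
theorem carter_iff_systemNormalizer [Finite G] (F : Subgroup G) [hFn : F.Normal]
    (hF : Group.IsNilpotent F) (hGF : Group.IsNilpotent (G ⧸ F)) (C : Subgroup G) :
    Cfsg.IsCarterSubgroup C ↔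
      ∃ K : Nat.Primes → Subgroup G, Cfsg.IsComplementSystem K ∧ C = Cfsg.systemNormalizer K := by
  have hsolv : Group.IsSolvable G :=
    Group.isSolvable_of_ker_le_range F.subtype (QuotientGroup.mk' F)
      (by rw [QuotientGroup.ker_mk', Subgroup.range_subtype])
  have hcarter : ∀ K : Nat.Primes → Subgroup G, Cfsg.IsComplementSystem K →
      Cfsg.IsCarterSubgroup (Cfsg.systemNormalizer K) := by
    intro K hK
    exact ⟨systemNormalizer_isNilpotent hK,
      systemNormalizer_self_normalizing_aux _ G rfl F hFn hF K hK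
        (systemNormalizer_sup_eq_top F hGF hK)⟩
  constructor
  · intro hC
    obtain ⟨K0, hK0⟩ := exists_isComplementSystem (G := G)
    obtain ⟨g, hg⟩ := carter_conj _ C (hcarter K0 hK0) hC
    refine ⟨fun p => MulAut.conj g • K0 p, IsComplementSystem.conj hK0 g, ?_⟩
    rw [systemNormalizer_conj, hg]
  · rintro ⟨K, hK, rfl⟩
    exact hcarter K hK

end Cfsg.Agent.Lib.Helper13
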