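import Mathlib
import Cfsg.Agent.Lib.Helper12.Supersolvable
import Cfsg.Agent.S0573

set_option autoImplicit false

namespace Cfsg.Agent.Lib.Helper13

universe u

/-- A finite group which is a product of two cyclic subgroups is supersolvable
(via Itô's theorem S0573). -/
theorem isSupersolvable_of_cyclic_product_aux (n : ℕ) :
    ∀ (G : Type u) [Group G] [Finite G] (A B : Subgroup G), IsCyclic A → IsCyclic B →
      (∀ g : G, ∃ a ∈ A, ∃ b ∈ B, g = a * b) → Nat.card G = n → Cfsg.IsSupersolvable G := by
  induction n using Nat.strong_induction_on with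
  | _ n ih =>
    intro G _ _ A B hA hB hAB hn
    by_cases htriv : Subsingleton G
    · exact Cfsg.Agent.Lib.Helper12.isSupersolvable_of_subsingleton
    · have hnt : Nontrivial G := not_subsingleton_iff_nontrivial.mp htriv
      haveI : IsMulCommutative A := ⟨⟨fun a b => (IsCyclic.commGroup (α := A)).mul_comm a b⟩⟩
      haveI : IsMulCommutative B := ⟨⟨fun a b => (IsCyclic.commGroup (α := B)).mul_comm a b⟩⟩
      obtain ⟨N, hNn, hN1, hNle⟩ := Cfsg.Agent.S0573.result A B hAB
      haveI := hNn
      -- N is cyclic
      haveI hNc : IsCyclic N := by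
        rcases hNle with h | h
        · have : IsCyclic (N.subgroupOf A) := inferInstance
          exact isCyclic_of_surjective (Subgroup.subgroupOfEquivOfLe h).toMonoidHom
            (Subgroup.subgroupOfEquivOfLe h).surjective
        · have : IsCyclic (N.subgroupOf B) := inferInstance
          exact isCyclic_of_surjective (Subgroup.subgroupOfEquivOfLe h).toMonoidHom
            (Subgroup.subgroupOfEquivOfLe h).surjective
      apply Cfsg.Agent.Lib.Helper12.isSupersolvable_of_cyclic_normal N
      -- quotient
      have hlt : Nat.card (G ⧸ N) < n := by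
        rw [← hn, ← Subgroup.index_eq_card]
        have h1 : 1 < Nat.card N := by
          rw [Finite.one_lt_card_iff_nontrivial]
          exact (Subgroup.nontrivial_iff_ne_bot N).mpr hN1
        have h2 := Subgroup.card_mul_index N
        have hpos : 0 < N.index := Nat.pos_of_ne_zero (Subgroup.index_ne_zero_of_finite)
        nlinarith
      refine ih _ hlt (G ⧸ N) (A.map (QuotientGroup.mk' N)) (B.map (QuotientGroup.mk' N)) ?_ ?_ ?_ rfl
      · exact isCyclic_of_surjective ((QuotientGroup.mk' N).subgroupMap A)
          ((QuotientGroup.mk' N).subgroupMap_surjective A)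
      · exact isCyclic_of_surjective ((QuotientGroup.mk' N).subgroupMap B)
          ((QuotientGroup.mk' N).subgroupMap_surjective B)
      · intro g
        obtain ⟨g, rfl⟩ := QuotientGroup.mk'_surjective N g
        obtain ⟨a, ha, b, hb, rfl⟩ := hAB g
        exact ⟨_, Subgroup.mem_map_of_mem _ ha, _, Subgroup.mem_map_of_mem _ hb, map_mul _ _ _⟩

end Cfsg.Agent.Lib.Helper13
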