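import Mathlib

/-!
# Linear algebra for the Hall–Higman critical case (helper13)

Pure linear algebra: kernel-chain counts for nilpotent operators, the char-`p` polynomial
identities `(X-1)^(p^m) = X^(p^m) - 1` and `(X-1)^(p^m-1) = ∑ X^i`, and a commutant construction.
-/

set_option autoImplicit false
set_option linter.style.haveILetI false

namespace Cfsg.Agent.Lib.Helper13

open Module

section LinAlg

variable {K : Type*} [Field K]

/-- rank-nullity along the kernel chain of a power of an endomorphism -/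
theorem hh_finrank_ker_pow_succ {M : Type*} [AddCommGroup M] [Module K M] [FiniteDimensional K M]
    (T : Module.End K M) (j : ℕ) :
    finrank K (LinearMap.ker (T ^ (j + 1))) =
      finrank K (LinearMap.range ((T ^ j).domRestrict (LinearMap.ker (T ^ (j + 1)))))
        + finrank K (LinearMap.ker (T ^ j)) := by
  have h := LinearMap.finrank_range_add_finrank_ker
    ((T ^ j).domRestrict (LinearMap.ker (T ^ (j + 1))))
  have hk : LinearMap.ker ((T ^ j).domRestrict (LinearMap.ker (T ^ (j + 1)))) =
      (LinearMap.ker (T ^ j)).comap (LinearMap.ker (T ^ (j + 1))).subtype := by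
    ext v
    simp [LinearMap.domRestrict_apply]
  have hle : LinearMap.ker (T ^ j) ≤ LinearMap.ker (T ^ (j + 1)) := by
    intro v hv
    rw [LinearMap.mem_ker] at hv ⊢
    rw [pow_succ', Module.End.mul_apply, hv, map_zero]
  rw [hk, (Submodule.comapSubtypeEquivOfLe hle).finrank_eq] at h
  omega

/-- a nilpotent operator whose kernel lies in a line has nilpotency index at least the dimension -/
theorem hh_finrank_le_of_ker_le_span {V : Type*} [AddCommGroup V] [Module K V]
    [FiniteDimensional K V] (N : Module.End K V) (s : ℕ) (hs : N ^ s = 0) (v0 : V)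
    (hker : LinearMap.ker N ≤ Submodule.span K {v0}) : finrank K V ≤ s := by
  have h1 : finrank K (LinearMap.ker N) ≤ 1 := by
    refine le_trans (Submodule.finrank_mono hker) ?_
    exact (finrank_span_le_card ({v0} : Set V)).trans (by simp)
  have key : ∀ j : ℕ, finrank K (LinearMap.ker (N ^ j)) ≤ j := by
    intro j
    induction j with
    | zero =>
      have : LinearMap.ker (N ^ 0) = ⊥ := by
        rw [pow_zero]; exact LinearMap.ker_id
      rw [this]; simp
    | succ j ih =>
      rw [hh_finrank_ker_pow_succ N j]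
      have hr : LinearMap.range ((N ^ j).domRestrict (LinearMap.ker (N ^ (j + 1)))) ≤
          LinearMap.ker N := by
        rintro _ ⟨v, rfl⟩
        rw [LinearMap.mem_ker, LinearMap.domRestrict_apply, ← Module.End.mul_apply, ← pow_succ']
        exact LinearMap.mem_ker.1 v.2
      have := Submodule.finrank_mono hr
      omega
  have htop : LinearMap.ker (N ^ s) = ⊤ := by
    rw [hs]; exact LinearMap.ker_zero
  have := key s
  rw [htop, finrank_top] at this
  exact this

/-- the count behind "trivial summand plus free module" for a unipotent operator -/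
theorem hh_count {A : Type*} [AddCommGroup A] [Module K A] [FiniteDimensional K A]
    (T : Module.End K A) (τ : A →ₗ[K] K) (e : A) (n : ℕ) (hn : 2 ≤ n) (hTn : T ^ n = 0)
    (hτe : τ e = 1) (hTe : T e = 0) (hτT : ∀ b, τ (T b) = 0)
    (hF : ∀ b, T b = 0 → ∃ (c : K) (w : A), b = c • e + (T ^ (n - 1)) w) :
    finrank K A + n = 1 + n * finrank K (LinearMap.ker T) := by
  set C0 : Submodule K A := LinearMap.ker T ⊓ LinearMap.ker τ with hC0
  -- (a) finrank ker T = 1 + finrank C0
  have ha : finrank K (LinearMap.ker T) = 1 + finrank K C0 := by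
    have h := LinearMap.finrank_range_add_finrank_ker (τ.domRestrict (LinearMap.ker T))
    have hr : LinearMap.range (τ.domRestrict (LinearMap.ker T)) = ⊤ := by
      rw [LinearMap.range_eq_top]
      intro c
      refine ⟨⟨c • e, ?_⟩, ?_⟩
      · rw [LinearMap.mem_ker, map_smul, hTe, smul_zero]
      · rw [LinearMap.domRestrict_apply]
        simp [hτe]
    have hk : LinearMap.ker (τ.domRestrict (LinearMap.ker T)) =
        C0.comap (LinearMap.ker T).subtype := by
      ext v
      simp [LinearMap.domRestrict_apply, hC0]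
    have hle : C0 ≤ LinearMap.ker T := inf_le_left
    rw [hr, hk, (Submodule.comapSubtypeEquivOfLe hle).finrank_eq, finrank_top,
      Module.finrank_self] at h
    omega
  have hτpow : ∀ k : ℕ, 1 ≤ k → ∀ b, τ ((T ^ k) b) = 0 := by
    intro k hk b
    obtain ⟨k', rfl⟩ : ∃ k', k = k' + 1 := ⟨k - 1, by omega⟩
    rw [pow_succ', Module.End.mul_apply]
    exact hτT _
  -- (b) the range of `T^j` on `ker T^(j+1)` is `C0`, for `1 ≤ j < n`
  have hb : ∀ j : ℕ, 1 ≤ j → j + 1 ≤ n →
      LinearMap.range ((T ^ j).domRestrict (LinearMap.ker (T ^ (j + 1)))) = C0 := by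
    intro j hj1 hjn
    apply le_antisymm
    · rintro _ ⟨v, rfl⟩
      rw [hC0, Submodule.mem_inf, LinearMap.mem_ker, LinearMap.mem_ker,
        LinearMap.domRestrict_apply]
      refine ⟨?_, hτpow j hj1 _⟩
      rw [← Module.End.mul_apply, ← pow_succ']
      exact LinearMap.mem_ker.1 v.2
    · intro b hbC
      rw [hC0, Submodule.mem_inf, LinearMap.mem_ker, LinearMap.mem_ker] at hbC
      obtain ⟨c, w, hcw⟩ := hF b hbC.1
      have hc : c = 0 := by
        have h2 := hbC.2
        rw [hcw, map_add, map_smul, hτe, hτpow (n - 1) (by omega) w] at h2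
        simpa using h2
      rw [hc, zero_smul, zero_add] at hcw
      have hsplit : T ^ (n - 1) = T ^ j * T ^ (n - 1 - j) := by
        rw [← pow_add]; congr 1; omega
      refine ⟨⟨(T ^ (n - 1 - j)) w, ?_⟩, ?_⟩
      · rw [LinearMap.mem_ker, ← Module.End.mul_apply, ← pow_add]
        have : j + 1 + (n - 1 - j) = n := by omega
        rw [this, hTn]; rfl
      · rw [LinearMap.domRestrict_apply, hcw, hsplit]
        rfl
  -- (c) the chain count
  have hc : ∀ j : ℕ, 1 ≤ j → j ≤ n →
      finrank K (LinearMap.ker (T ^ j)) = finrank K (LinearMap.ker T) + (j - 1) * finrank K C0 := by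
    intro j hj1
    induction j with
    | zero => omega
    | succ j ih =>
      intro hjn
      rcases Nat.eq_zero_or_pos j with hj0 | hjpos
      · subst hj0
        rw [zero_add, pow_one]
        simp
      · rw [hh_finrank_ker_pow_succ T j, hb j hjpos hjn, ih hjpos (by omega)]
        have : j + 1 - 1 = (j - 1) + 1 := by omega
        rw [this, add_mul, one_mul]; ring
  have htop : LinearMap.ker (T ^ n) = ⊤ := by
    rw [hTn]; exact LinearMap.ker_zero
  have hfin := hc n (by omega) le_rfl
  rw [htop, finrank_top] at hfin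
  rw [hfin, ha]
  obtain ⟨n', rfl⟩ : ∃ n', n = n' + 1 := ⟨n - 1, by omega⟩
  simp only [Nat.add_sub_cancel]
  ring

end LinAlg

section Commutant

variable {K : Type*} [Field K] {V : Type*} [AddCommGroup V] [Module K V]

/-- the "trace-like" element of the commutant of a nilpotent operator -/
theorem hh_commutant_sum_commute (N a : Module.End K V) (s : ℕ) (hs : N ^ s = 0) :
    (∑ j ∈ Finset.range s, N ^ j * a * N ^ (s - 1 - j)) * N =
      N * ∑ j ∈ Finset.range s, N ^ j * a * N ^ (s - 1 - j) := by
  have h1 : (∑ j ∈ Finset.range s, N ^ j * a * N ^ (s - 1 - j)) * N =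
      ∑ j ∈ Finset.range s, N ^ j * a * N ^ (s - j) := by
    rw [Finset.sum_mul]
    refine Finset.sum_congr rfl fun j hj => ?_
    have hj' := Finset.mem_range.1 hj
    rw [mul_assoc, ← pow_succ]
    congr 2; omega
  have h2 : N * (∑ j ∈ Finset.range s, N ^ j * a * N ^ (s - 1 - j)) =
      ∑ j ∈ Finset.range s, N ^ (j + 1) * a * N ^ (s - (j + 1)) := by
    rw [Finset.mul_sum]
    refine Finset.sum_congr rfl fun j _ => ?_
    rw [← mul_assoc, ← mul_assoc, ← pow_succ']
    congr 2
    omega
  have h3 := Finset.sum_range_succ (fun j => N ^ j * a * N ^ (s - j)) s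
  have h4 := Finset.sum_range_succ' (fun j => N ^ j * a * N ^ (s - j)) s
  simp only [Nat.sub_self, pow_zero, mul_one, hs, zero_mul, add_zero, Nat.sub_zero, one_mul,
    mul_zero] at h3 h4
  rw [h1, h2, ← h3, h4]

theorem hh_pow_apply_ker (N : Module.End K V) (w : V) (hw : N w = 0) (k : ℕ) (hk : 1 ≤ k) :
    (N ^ k) w = 0 := by
  obtain ⟨k', rfl⟩ : ∃ k', k = k' + 1 := ⟨k - 1, by omega⟩
  rw [pow_succ, Module.End.mul_apply, hw, map_zero]

variable [FiniteDimensional K V]

/-- if the commutant of the nilpotent `N` acts by scalars on `ker N`, then `ker N` is a line -/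
theorem hh_ker_le_span (N : Module.End K V) (s : ℕ) (hs1 : 1 ≤ s) (hs : N ^ s = 0) (v : V)
    (hv : (N ^ (s - 1)) v ≠ 0)
    (hscal : ∀ b : Module.End K V, b * N = N * b →
      ∃ c : K, ∀ w ∈ LinearMap.ker N, b w = c • w) :
    LinearMap.ker N ≤ Submodule.span K {(N ^ (s - 1)) v} := by
  intro w1 hw1
  by_cases hw10 : w1 = 0
  · rw [hw10]; exact Submodule.zero_mem _
  obtain ⟨φ, hφ⟩ : ∃ φ : Module.Dual K V, φ w1 ≠ 0 := by
    by_contra hcon
    push Not at hcon
    exact hw10 ((Module.forall_dual_apply_eq_zero_iff K w1).1 hcon)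
  set a : Module.End K V := φ.smulRight v with ha
  obtain ⟨c, hc⟩ := hscal _ (hh_commutant_sum_commute N a s hs)
  have hval : ∀ w ∈ LinearMap.ker N,
      (∑ j ∈ Finset.range s, N ^ j * a * N ^ (s - 1 - j)) w = φ w • (N ^ (s - 1)) v := by
    intro w hw
    rw [LinearMap.mem_ker] at hw
    rw [LinearMap.sum_apply, Finset.sum_eq_single (s - 1)]
    · rw [Nat.sub_self, pow_zero, mul_one, Module.End.mul_apply, ha,
        LinearMap.smulRight_apply, map_smul]
    · intro j hj hjne
      have hj' := Finset.mem_range.1 hj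
      rw [Module.End.mul_apply, hh_pow_apply_ker N w hw (s - 1 - j) (by omega), map_zero]
    · intro hns
      exact absurd (Finset.mem_range.2 (by omega)) hns
  have h1 := hc w1 hw1
  rw [hval w1 hw1] at h1
  have hc0 : c ≠ 0 := by
    intro hc0
    rw [hc0, zero_smul] at h1
    exact (smul_ne_zero hφ hv) h1
  have : w1 = (c⁻¹ * φ w1) • (N ^ (s - 1)) v := by
    rw [mul_smul, h1, smul_smul, inv_mul_cancel₀ hc0, one_smul]
  rw [this]
  exact Submodule.smul_mem _ _ (Submodule.mem_span_singleton_self _)

omit [FiniteDimensional K V] in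
/-- powers of a nilpotent operator below its index are linearly independent -/
theorem hh_linearIndependent_pow (N : Module.End K V) (s : ℕ) (hs : N ^ s = 0)
    (hmin : ∀ k < s, N ^ k ≠ 0) : LinearIndependent K (fun i : Fin s => N ^ (i : ℕ)) := by
  rw [Fintype.linearIndependent_iff]
  intro g hg
  by_contra hcon
  push Not at hcon
  have hex : ∃ k : ℕ, ∃ h : k < s, g ⟨k, h⟩ ≠ 0 := by
    obtain ⟨i, hi⟩ := hcon
    exact ⟨i, i.2, hi⟩
  classical
  set k0 := Nat.find hex with hk0
  obtain ⟨hk0s, hgk0⟩ := Nat.find_spec hex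
  have hlt : ∀ i : Fin s, (i : ℕ) < k0 → g i = 0 := by
    intro i hi
    by_contra hne
    exact Nat.find_min hex hi ⟨i.2, hne⟩
  have h2 := congrArg (fun b => N ^ (s - 1 - k0) * b) hg
  simp only [mul_zero, Finset.mul_sum, mul_smul_comm, ← pow_add] at h2
  rw [Finset.sum_eq_single (⟨k0, hk0s⟩ : Fin s)] at h2
  · have h3 : s - 1 - k0 + k0 = s - 1 := by omega
    simp only [h3] at h2
    rcases smul_eq_zero.1 h2 with h | h
    · exact hgk0 h
    · exact hmin (s - 1) (by omega) h
  · intro i _ hine
    rcases lt_or_gt_of_ne (fun h => hine (Fin.ext h) : (i : ℕ) ≠ k0) with hi | hi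
    · rw [hlt i hi, zero_smul]
    · have : s - 1 - k0 + (i : ℕ) = s + ((i : ℕ) - k0 - 1) := by omega
      rw [this, pow_add, hs, zero_mul, smul_zero]
  · intro h; exact absurd (Finset.mem_univ _) h

/-- the commutant of a nilpotent operator of index `s` has dimension at least `s` -/
theorem hh_le_finrank_commutant (N : Module.End K V) (s : ℕ) (hs : N ^ s = 0)
    (hmin : ∀ k < s, N ^ k ≠ 0) (C : Submodule K (Module.End K V))
    (hC : ∀ b : Module.End K V, b * N = N * b → b ∈ C) : s ≤ finrank K C := by
  have hmem : ∀ i : Fin s, N ^ (i : ℕ) ∈ C := fun i => hC _ (by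
    rw [← pow_succ, ← pow_succ'])
  have hli : LinearIndependent K (fun i : Fin s => (⟨N ^ (i : ℕ), hmem i⟩ : C)) := by
    apply LinearIndependent.of_comp C.subtype
    exact hh_linearIndependent_pow N s hs hmin
  have := hli.fintype_card_le_finrank
  simpa using this

end Commutant

section CharPoly

variable {K : Type*} [Field K] (p : ℕ) [Fact p.Prime] [CharP K p]

theorem hh_poly_sub_one_pow (m : ℕ) :
    ((Polynomial.X : Polynomial K) - 1) ^ (p ^ m) = Polynomial.X ^ (p ^ m) - 1 := by
  rw [sub_pow_char_pow, one_pow]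

theorem hh_poly_geom (m : ℕ) :
    ((Polynomial.X : Polynomial K) - 1) ^ (p ^ m - 1) =
      ∑ i ∈ Finset.range (p ^ m), (Polynomial.X : Polynomial K) ^ i := by
  have h1 : (∑ i ∈ Finset.range (p ^ m), (Polynomial.X : Polynomial K) ^ i) *
      (Polynomial.X - 1) = Polynomial.X ^ (p ^ m) - 1 := geom_sum_mul _ _
  have hpos : 1 ≤ p ^ m := Nat.one_le_pow _ _ (Fact.out : p.Prime).pos
  have h2 : ((Polynomial.X : Polynomial K) - 1) ^ (p ^ m - 1) * (Polynomial.X - 1) =
      Polynomial.X ^ (p ^ m) - 1 := by
    rw [← pow_succ, Nat.sub_add_cancel hpos, hh_poly_sub_one_pow]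
  have hne : (Polynomial.X : Polynomial K) - 1 ≠ 0 := by
    have := Polynomial.X_sub_C_ne_zero (1 : K)
    simpa using this
  exact mul_right_cancel₀ hne (h2.trans h1.symm)

theorem hh_sub_one_pow {R : Type*} [Ring R] [Algebra K R] (a : R) (m : ℕ) :
    (a - 1) ^ (p ^ m) = a ^ (p ^ m) - 1 := by
  have := congrArg (Polynomial.aeval a) (hh_poly_sub_one_pow (K := K) p m)
  simpa using this

theorem hh_geom {R : Type*} [Ring R] [Algebra K R] (a : R) (m : ℕ) :
    (a - 1) ^ (p ^ m - 1) = ∑ i ∈ Finset.range (p ^ m), a ^ i := by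
  have := congrArg (Polynomial.aeval a) (hh_poly_geom (K := K) p m)
  simpa using this

end CharPoly

end Cfsg.Agent.Lib.Helper13
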