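import Mathlib

/-!
# Hall–Higman critical case: the commutant of `ρ x` is "scalars plus traces" (helper13)
-/

set_option autoImplicit false
set_option linter.style.haveILetI false

namespace Cfsg.Agent.Lib.Helper13

open Module

/-- Schur's lemma over an algebraically closed field, for an irreducible set of operators -/
theorem hh_schur {K V : Type*} [Field K] [IsAlgClosed K] [AddCommGroup V] [Module K V]
    [FiniteDimensional K V] [Nontrivial V] (S : Set (Module.End K V))
    (hirr : ∀ W : Submodule K V, (∀ a ∈ S, W.map a ≤ W) → W = ⊥ ∨ W = ⊤)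
    (b : Module.End K V) (hb : ∀ a ∈ S, a * b = b * a) : ∃ c : K, b = c • 1 := by
  obtain ⟨μ, hμ⟩ := Module.End.exists_eigenvalue b
  refine ⟨μ, ?_⟩
  have hW := hirr (Module.End.eigenspace b μ) ?_
  · rcases hW with h | h
    · exact absurd h (Module.End.hasEigenvalue_iff.1 hμ)
    · ext v
      have : v ∈ Module.End.eigenspace b μ := by rw [h]; trivial
      rw [Module.End.mem_eigenspace_iff] at this
      simp [this]
  · rintro a ha _ ⟨v, hv, rfl⟩
    rw [SetLike.mem_coe, Module.End.mem_eigenspace_iff] at hv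
    rw [Module.End.mem_eigenspace_iff]
    have := congrArg (fun f => f v) (hb a ha)
    simp only [Module.End.mul_apply] at this
    rw [← this, hv, map_smul]

/-- sums over a finite set on which a permutation of order dividing `n` acts freely are traces -/
theorem hh_orbit_sum {α : Type*} [DecidableEq α] (π : Equiv.Perm α) (n : ℕ) (hn : 0 < n)
    (hπ : π ^ n = 1) {K A : Type*} [Semiring K] [AddCommGroup A] [Module K A]
    (σ : Module.End K A) (f : α → A) (hf : ∀ a, f (π a) = σ (f a)) :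
    ∀ (Y : Finset α), (∀ a ∈ Y, π a ∈ Y) →
      (∀ a ∈ Y, ∀ i, 0 < i → i < n → (π ^ i) a ≠ a) →
      ∃ w, ∑ a ∈ Y, f a = ∑ i ∈ Finset.range n, (σ ^ i) w := by
  intro Y
  induction' hk : Y.card using Nat.strong_induction_on with k ih generalizing Y
  intro hinv hfree
  rcases Y.eq_empty_or_nonempty with rfl | ⟨a0, ha0⟩
  · exact ⟨0, by simp⟩
  have hpowY : ∀ i : ℕ, (π ^ i) a0 ∈ Y := by
    intro i
    induction i with
    | zero => simpa using ha0
    | succ i ih' =>
      rw [pow_succ', Equiv.Perm.mul_apply]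
      exact hinv _ ih'
  have hfpow : ∀ (i : ℕ) (a : α), f ((π ^ i) a) = (σ ^ i) (f a) := by
    intro i a
    induction i with
    | zero => simp
    | succ i ih' =>
      rw [pow_succ', Equiv.Perm.mul_apply, hf, ih', pow_succ', Module.End.mul_apply]
  set O := (Finset.range n).image (fun i => (π ^ i) a0) with hO
  have hOY : O ⊆ Y := by
    intro a ha
    rw [hO, Finset.mem_image] at ha
    obtain ⟨i, _, rfl⟩ := ha
    exact hpowY i
  have hinj : Set.InjOn (fun i => (π ^ i) a0) (Finset.range n : Set ℕ) := by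
    have key : ∀ i j : ℕ, i ≤ j → j < n → (π ^ i) a0 = (π ^ j) a0 → i = j := by
      intro i j hij hjn h
      by_contra hne
      have hlt : i < j := lt_of_le_of_ne hij hne
      have h2 : (π ^ (j - i)) a0 = a0 := by
        have : π ^ j = π ^ i * π ^ (j - i) := by rw [← pow_add]; congr 1; omega
        rw [this, Equiv.Perm.mul_apply] at h
        exact ((π ^ i).injective h).symm
      exact hfree a0 ha0 (j - i) (by omega) (by omega) h2
    intro i hi j hj h
    have hi' := Finset.mem_range.1 (Finset.mem_coe.1 hi)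
    have hj' := Finset.mem_range.1 (Finset.mem_coe.1 hj)
    rcases le_total i j with hij | hij
    · exact key i j hij hj' h
    · exact (key j i hij hi' h.symm).symm
  have hsumO : ∑ a ∈ O, f a = ∑ i ∈ Finset.range n, (σ ^ i) (f a0) := by
    rw [hO, Finset.sum_image hinj]
    exact Finset.sum_congr rfl fun i _ => hfpow i a0
  have ha0O : a0 ∈ O := by
    rw [hO, Finset.mem_image]
    exact ⟨0, Finset.mem_range.2 hn, by simp⟩
  have hOinv : ∀ a, π a ∈ O → a ∈ O := by
    intro a ha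
    rw [hO, Finset.mem_image] at ha ⊢
    obtain ⟨i, hi, hia⟩ := ha
    have hi' := Finset.mem_range.1 hi
    rcases Nat.eq_zero_or_pos i with hi0 | hipos
    · subst hi0
      refine ⟨n - 1, Finset.mem_range.2 (by omega), ?_⟩
      have h1 : π ^ (n - 1) * π = 1 := by
        rw [← pow_succ, Nat.sub_add_cancel hn, hπ]
      have h2 : (π ^ (n - 1)) (π a) = a := by
        rw [← Equiv.Perm.mul_apply, h1]; rfl
      rw [← hia] at h2
      simpa using h2
    · refine ⟨i - 1, Finset.mem_range.2 (by omega), ?_⟩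
      have : π ^ i = π * π ^ (i - 1) := by
        rw [← pow_succ']; congr 1; omega
      rw [this, Equiv.Perm.mul_apply] at hia
      exact π.injective hia
  have hcard : (Y \ O).card < k := by
    rw [← hk]
    apply Finset.card_lt_card
    refine ⟨Finset.sdiff_subset, fun h => ?_⟩
    have := h ha0
    rw [Finset.mem_sdiff] at this
    exact this.2 ha0O
  obtain ⟨w', hw'⟩ := ih _ hcard (Y \ O) rfl
    (fun a ha => by
      rw [Finset.mem_sdiff] at ha ⊢
      exact ⟨hinv a ha.1, fun h => ha.2 (hOinv a h)⟩)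
    (fun a ha => hfree a (Finset.mem_sdiff.1 ha).1)
  refine ⟨f a0 + w', ?_⟩
  rw [← Finset.sum_sdiff hOY, hw', hsumO, ← Finset.sum_add_distrib]
  refine Finset.sum_congr rfl fun i _ => ?_
  rw [map_add, add_comm]

section Conj

variable {G : Type*} [Group G]

/-- conjugation by `x` as a permutation of a normal subgroup -/
def hhConj (Q : Subgroup G) [hQn : Q.Normal] (x : G) : Equiv.Perm Q where
  toFun g := ⟨x * g * x⁻¹, hQn.conj_mem _ g.2 x⟩
  invFun g := ⟨x⁻¹ * g * x, by simpa using hQn.conj_mem _ g.2 x⁻¹⟩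
  left_inv g := by ext; simp [mul_assoc]
  right_inv g := by ext; simp [mul_assoc]

theorem hhConj_pow_apply (Q : Subgroup G) [Q.Normal] (x : G) (i : ℕ) (g : Q) :
    (((hhConj Q x) ^ i) g : G) = x ^ i * g * (x ^ i)⁻¹ := by
  induction i with
  | zero => simp
  | succ i ih =>
    rw [pow_succ', Equiv.Perm.mul_apply]
    change x * ((hhConj Q x ^ i) g : G) * x⁻¹ = _
    rw [ih, pow_succ']
    simp [mul_assoc]

end Conj

section Sigma

variable {K : Type*} [Field K] {V : Type*} [AddCommGroup V] [Module K V]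

/-- the operator `w ↦ u * w * u'` on `End V` -/
noncomputable def hhSigma (u u' : Module.End K V) : Module.End K (Module.End K V) :=
  LinearMap.mulLeft K u ∘ₗ LinearMap.mulRight K u'

theorem hhSigma_apply (u u' w : Module.End K V) : hhSigma u u' w = u * w * u' := by
  simp [hhSigma, mul_assoc]

theorem hhSigma_pow_apply (u u' : Module.End K V) (i : ℕ) (w : Module.End K V) :
    ((hhSigma u u') ^ i) w = u ^ i * w * u' ^ i := by
  induction i generalizing w with
  | zero => simp
  | succ i ih =>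
    rw [pow_succ', Module.End.mul_apply, ih, hhSigma_apply, pow_succ' u, pow_succ u']
    simp only [mul_assoc]

end Sigma

section F1

variable {G : Type*} [Group G] [Finite G] {K : Type*} [Field K] {V : Type*} [AddCommGroup V]
  [Module K V]

/-- **Key structural fact.** In the Hall–Higman critical configuration, every endomorphism
commuting with `ρ x` is a scalar plus a trace `∑ ρ(x)^i w ρ(x)^{-i}`. -/
theorem hh_F1 (p q : ℕ) [Fact p.Prime] [Fact q.Prime] (hpq : p ≠ q)
    (Q : Subgroup G) [Q.Normal] (hQ : IsPGroup q Q) (x : G) (hx1 : x ≠ 1)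
    (hC : ∀ y ∈ Subgroup.zpowers x, y ≠ 1 →
      Subgroup.centralizer ({y} : Set G) = Subgroup.zpowers x ⊔ Subgroup.center G)
    [IsAlgClosed K] [CharP K p] [FiniteDimensional K V] [Nontrivial V]
    (ρ : Representation K G V)
    (hirr : ∀ W : Submodule K V, (∀ g ∈ Q, Submodule.map (ρ g) W ≤ W) → W = ⊥ ∨ W = ⊤)
    (b : Module.End K V) (hb : ρ x * b = b * ρ x) :
    ∃ (c : K) (w : Module.End K V),
      b = c • 1 + ∑ i ∈ Finset.range (orderOf x), ρ x ^ i * w * ρ x⁻¹ ^ i := by
  classical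
  haveI : Fintype G := Fintype.ofFinite G
  have hschur : ∀ a : Module.End K V, (∀ g ∈ Q, ρ g * a = a * ρ g) → ∃ c : K, a = c • 1 := by
    intro a ha
    apply hh_schur (ρ '' (Q : Set G)) _ a
    · rintro _ ⟨g, hg, rfl⟩; exact ha g hg
    · intro W hW
      exact hirr W (fun g hg => hW _ ⟨g, hg, rfl⟩)
  have hinv : ∀ g : G, ρ g * ρ g⁻¹ = 1 := fun g => by rw [← map_mul, mul_inv_cancel, map_one]
  have hinv' : ∀ g : G, ρ g⁻¹ * ρ g = 1 := fun g => by rw [← map_mul, inv_mul_cancel, map_one]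
  let Cb : Subgroup G :=
    { carrier := {g | ρ g * b = b * ρ g}
      mul_mem' := by
        intro g h hg hh
        simp only [Set.mem_ofPred_eq] at *
        rw [map_mul, mul_assoc, hh, ← mul_assoc, hg, mul_assoc]
      one_mem' := by simp
      inv_mem' := by
        intro g hg
        simp only [Set.mem_ofPred_eq] at *
        calc ρ g⁻¹ * b = ρ g⁻¹ * b * (ρ g * ρ g⁻¹) := by rw [hinv, mul_one]
          _ = ρ g⁻¹ * (b * ρ g) * ρ g⁻¹ := by simp only [mul_assoc]
          _ = ρ g⁻¹ * (ρ g * b) * ρ g⁻¹ := by rw [hg]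
          _ = (ρ g⁻¹ * ρ g) * b * ρ g⁻¹ := by simp only [mul_assoc]
          _ = b * ρ g⁻¹ := by rw [hinv', one_mul] }
  have hCb : ∀ g, g ∈ Cb ↔ ρ g * b = b * ρ g := fun g => Iff.rfl
  have hxCb : x ∈ Cb := hb
  have hcenter : Subgroup.center G ≤ Cb := by
    intro z hz
    obtain ⟨c, hc⟩ := hschur (ρ z) (fun g _ => by
      rw [← map_mul, ← map_mul, Subgroup.mem_center_iff.1 hz g])
    rw [hCb, hc]; simp
  have hsup : Subgroup.zpowers x ⊔ Subgroup.center G ≤ Cb :=
    sup_le ((Subgroup.zpowers_le).2 hxCb) hcenter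
  have hsupx : Subgroup.zpowers x ⊔ Subgroup.center G ≤
      Subgroup.centralizer ({x} : Set G) := by
    apply sup_le
    · rw [Subgroup.zpowers_le]; exact Subgroup.mem_centralizer_singleton_iff.2 rfl
    · exact Subgroup.center_le_centralizer _
  set n := orderOf x with hn_def
  have hn : 0 < n := orderOf_pos x
  set π := hhConj Q x with hπ_def
  have hπn : π ^ n = 1 := by
    ext g
    rw [hhConj_pow_apply, hn_def, pow_orderOf_eq_one]; simp
  set f : Q → Module.End K V := fun g => ρ (g : G) * b * ρ ((g : G)⁻¹) with hf_def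
  set σ := hhSigma (ρ x) (ρ x⁻¹) with hσ_def
  have hub : ρ x⁻¹ * b * ρ x = b := by
    rw [mul_assoc, ← hb, ← mul_assoc, hinv', one_mul]
  have hπcoe : ∀ g : Q, ((π g : Q) : G) = x * g * x⁻¹ := fun g => rfl
  have hf : ∀ g, f (π g) = σ (f g) := by
    intro g
    rw [hσ_def, hhSigma_apply]
    simp only [hf_def, hπcoe]
    have h1 : (x * (g : G) * x⁻¹)⁻¹ = x * (g : G)⁻¹ * x⁻¹ := by group
    rw [h1]
    simp only [map_mul]
    calc ρ x * ρ (g : G) * ρ x⁻¹ * b * (ρ x * ρ (g : G)⁻¹ * ρ x⁻¹)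
        = ρ x * ρ (g : G) * (ρ x⁻¹ * b * ρ x) * ρ (g : G)⁻¹ * ρ x⁻¹ := by
          simp only [mul_assoc]
      _ = ρ x * (ρ (g : G) * b * ρ (g : G)⁻¹) * ρ x⁻¹ := by
          rw [hub]; simp only [mul_assoc]
  -- fixed points
  have hcomm_of_fix : ∀ g : Q, π g = g → (g : G) ∈ Subgroup.centralizer ({x} : Set G) := by
    intro g hg
    have h1 : x * (g : G) * x⁻¹ = g := by rw [← hπcoe, hg]
    rw [Subgroup.mem_centralizer_singleton_iff]
    have := congrArg (· * x) h1
    simp only [mul_assoc, inv_mul_cancel, mul_one] at this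
    exact this.symm
  have hfix : ∀ g : Q, π g = g → f g = b := by
    intro g hg
    have h1 := hcomm_of_fix g hg
    rw [hC x (Subgroup.mem_zpowers x) hx1] at h1
    have h2 := (hCb _).1 (hsup h1)
    simp only [hf_def]
    rw [h2, mul_assoc, hinv, mul_one]
  set Y : Finset Q := Finset.univ.filter (fun g => ¬ π g = g) with hY_def
  have hYinv : ∀ g ∈ Y, π g ∈ Y := by
    intro g hg
    rw [hY_def, Finset.mem_filter] at hg ⊢
    exact ⟨Finset.mem_univ _, fun h => hg.2 (π.injective h)⟩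
  have hYfree : ∀ g ∈ Y, ∀ i, 0 < i → i < n → (π ^ i) g ≠ g := by
    intro g hg i hi0 hin hig
    rw [hY_def, Finset.mem_filter] at hg
    apply hg.2
    have h1 : x ^ i * (g : G) * (x ^ i)⁻¹ = g := by rw [← hhConj_pow_apply, hig]
    have hxi : x ^ i ≠ 1 := pow_ne_one_of_lt_orderOf (by omega) hin
    have h2 : (g : G) ∈ Subgroup.centralizer ({x ^ i} : Set G) := by
      rw [Subgroup.mem_centralizer_singleton_iff]
      have := congrArg (· * x ^ i) h1
      simp only [mul_assoc, inv_mul_cancel, mul_one] at this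
      exact this.symm
    rw [hC (x ^ i) (Subgroup.pow_mem _ (Subgroup.mem_zpowers x) i) hxi] at h2
    have h3 := hsupx h2
    rw [Subgroup.mem_centralizer_singleton_iff] at h3
    apply Subtype.ext
    rw [hπcoe, ← h3, mul_assoc, mul_inv_cancel, mul_one]
  obtain ⟨w, hw⟩ := hh_orbit_sum π n hn hπn σ f hf Y hYinv hYfree
  -- the total sum is a scalar
  obtain ⟨c0, hc0⟩ : ∃ c0 : K, ∑ g : Q, f g = c0 • 1 := by
    apply hschur
    intro h hh
    have h1 : ρ h * (∑ g : Q, f g) * ρ h⁻¹ = ∑ g : Q, f g := by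
      rw [Finset.mul_sum, Finset.sum_mul]
      rw [← Equiv.sum_comp (Equiv.mulLeft (⟨h, hh⟩ : Q)) f]
      refine Finset.sum_congr rfl fun g _ => ?_
      simp only [hf_def, Equiv.coe_mulLeft, Subgroup.coe_mul, mul_inv_rev, map_mul]
      simp only [mul_assoc]
    calc ρ h * ∑ g : Q, f g = ρ h * (∑ g : Q, f g) * (ρ h⁻¹ * ρ h) := by
          rw [hinv', mul_one]
      _ = (ρ h * (∑ g : Q, f g) * ρ h⁻¹) * ρ h := by simp only [mul_assoc]
      _ = (∑ g : Q, f g) * ρ h := by rw [h1]
  -- split the sum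
  have hsplit : ∑ g : Q, f g =
      (Finset.univ.filter (fun g : Q => π g = g)).card • b + ∑ g ∈ Y, f g := by
    rw [← Finset.sum_filter_add_sum_filter_not Finset.univ (fun g : Q => π g = g)]
    congr 1
    rw [Finset.sum_congr rfl (fun g hg => hfix g (Finset.mem_filter.1 hg).2), Finset.sum_const]
  -- the number of fixed points is invertible in K
  have hqK : (q : K) ≠ 0 := by
    intro h0
    have := (CharP.cast_eq_zero_iff K p q).1 h0
    exact hpq ((Nat.prime_dvd_prime_iff_eq (Fact.out : p.Prime) (Fact.out : q.Prime)).1 this)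
  have hcardK : (((Finset.univ.filter (fun g : Q => π g = g)).card : ℕ) : K) ≠ 0 := by
    let F : Subgroup Q := (Subgroup.centralizer ({x} : Set G)).subgroupOf Q
    have hFmem : ∀ g : Q, g ∈ F ↔ π g = g := by
      intro g
      constructor
      · intro hg
        have h3 : (g : G) ∈ Subgroup.centralizer ({x} : Set G) := Subgroup.mem_subgroupOf.1 hg
        rw [Subgroup.mem_centralizer_singleton_iff] at h3
        apply Subtype.ext
        rw [hπcoe, ← h3, mul_assoc, mul_inv_cancel, mul_one]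
      · intro hg
        exact Subgroup.mem_subgroupOf.2 (hcomm_of_fix g hg)
    have hcard : (Finset.univ.filter (fun g : Q => π g = g)).card = Nat.card F := by
      rw [Nat.card_eq_fintype_card, Fintype.card_subtype]
      congr 1
      ext g
      simp only [Finset.mem_filter, Finset.mem_univ, true_and]
      exact (hFmem g).symm
    obtain ⟨k, hk⟩ := IsPGroup.iff_card.1 (hQ.to_subgroup F)
    rw [hcard, hk, Nat.cast_pow]
    exact pow_ne_zero _ hqK
  set kF : K := (((Finset.univ.filter (fun g : Q => π g = g)).card : ℕ) : K) with hkF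
  refine ⟨kF⁻¹ * c0, -(kF⁻¹ • w), ?_⟩
  have hmain : c0 • (1 : Module.End K V) = kF • b + ∑ i ∈ Finset.range n, (σ ^ i) w := by
    rw [← hc0, hsplit, hw, hkF, Nat.cast_smul_eq_nsmul]
  have hsum : ∑ i ∈ Finset.range n, ρ x ^ i * -(kF⁻¹ • w) * ρ x⁻¹ ^ i =
      -(kF⁻¹ • ∑ i ∈ Finset.range n, (σ ^ i) w) := by
    rw [Finset.smul_sum, ← Finset.sum_neg_distrib]
    refine Finset.sum_congr rfl fun i _ => ?_
    rw [hσ_def, hhSigma_pow_apply]
    simp
  rw [hsum]
  have h2 : ∑ i ∈ Finset.range n, (σ ^ i) w = c0 • (1 : Module.End K V) - kF • b := by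
    rw [hmain]; abel
  rw [h2, smul_sub, smul_smul, smul_smul, inv_mul_cancel₀ hcardK, one_smul]
  abel

end F1

section Avg

variable {G : Type*} [Group G] {K : Type*} [Field K] {V : Type*} [AddCommGroup V] [Module K V]

/-- the sum of the `Q`-conjugates of an operator commutes with `ρ Q` -/
theorem hh_avg_commute (Q : Subgroup G) [Fintype Q] (ρ : Representation K G V)
    (b : Module.End K V) (h : G) (hh : h ∈ Q) :
    ρ h * (∑ g : Q, ρ (g : G) * b * ρ ((g : G)⁻¹)) =
      (∑ g : Q, ρ (g : G) * b * ρ ((g : G)⁻¹)) * ρ h := by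
  have hinv' : ρ h⁻¹ * ρ h = 1 := by rw [← map_mul, inv_mul_cancel, map_one]
  set f : Q → Module.End K V := fun g => ρ (g : G) * b * ρ ((g : G)⁻¹) with hf_def
  have h1 : ρ h * (∑ g : Q, f g) * ρ h⁻¹ = ∑ g : Q, f g := by
    rw [Finset.mul_sum, Finset.sum_mul]
    rw [← Equiv.sum_comp (Equiv.mulLeft (⟨h, hh⟩ : Q)) f]
    refine Finset.sum_congr rfl fun g _ => ?_
    simp only [hf_def, Equiv.coe_mulLeft, Subgroup.coe_mul, mul_inv_rev, map_mul]
    simp only [mul_assoc]
  calc ρ h * ∑ g : Q, f g = ρ h * (∑ g : Q, f g) * (ρ h⁻¹ * ρ h) := by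
        rw [hinv', mul_one]
    _ = (ρ h * (∑ g : Q, f g) * ρ h⁻¹) * ρ h := by simp only [mul_assoc]
    _ = (∑ g : Q, f g) * ρ h := by rw [h1]

/-- conjugating the argument of the `Q`-sum by a normalising element conjugates the sum -/
theorem hh_avg_conj (Q : Subgroup G) [Q.Normal] [Fintype Q] (ρ : Representation K G V)
    (b : Module.End K V) (x : G) :
    ∑ g : Q, ρ (g : G) * (ρ x * b * ρ x⁻¹) * ρ ((g : G)⁻¹) =
      ρ x * (∑ g : Q, ρ (g : G) * b * ρ ((g : G)⁻¹)) * ρ x⁻¹ := by
  have e1 : ∀ g : G, ρ x * (ρ (x⁻¹ * g * x⁻¹⁻¹) * b * ρ ((x⁻¹ * g * x⁻¹⁻¹)⁻¹)) * ρ x⁻¹ =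
      ρ g * (ρ x * b * ρ x⁻¹) * ρ g⁻¹ := by
    intro g
    have h1 : ρ x * ρ (x⁻¹ * g * x⁻¹⁻¹) = ρ g * ρ x := by
      rw [← map_mul, ← map_mul]; congr 1; group
    have h2 : ρ ((x⁻¹ * g * x⁻¹⁻¹)⁻¹) * ρ x⁻¹ = ρ x⁻¹ * ρ g⁻¹ := by
      rw [← map_mul, ← map_mul]; congr 1; group
    calc ρ x * (ρ (x⁻¹ * g * x⁻¹⁻¹) * b * ρ ((x⁻¹ * g * x⁻¹⁻¹)⁻¹)) * ρ x⁻¹
        = (ρ x * ρ (x⁻¹ * g * x⁻¹⁻¹)) * b * (ρ ((x⁻¹ * g * x⁻¹⁻¹)⁻¹) * ρ x⁻¹) := by
          simp only [mul_assoc]
      _ = ρ g * (ρ x * b * ρ x⁻¹) * ρ g⁻¹ := by rw [h1, h2]; simp only [mul_assoc]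
  rw [Finset.mul_sum, Finset.sum_mul]
  rw [← Equiv.sum_comp (hhConj Q x⁻¹)
    (fun g : Q => ρ x * (ρ (g : G) * b * ρ ((g : G)⁻¹)) * ρ x⁻¹)]
  refine Finset.sum_congr rfl fun g _ => ?_
  exact (e1 g).symm

end Avg

end Cfsg.Agent.Lib.Helper13
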