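import Mathlib
import Cfsg.Agent.Lib.Helper13.HHOrbit

/-!
# Irreducible representations of `q`-groups over an algebraically closed field of
characteristic `≠ q` have `q`-power degree (helper13)
-/

set_option autoImplicit false
set_option linter.style.haveILetI false

namespace Cfsg.Agent.Lib.Helper13

open Module

universe u v

section PrimePow

variable {K : Type*} [Field K]

/-- irreducibility of a representation given as a monoid hom into `End` -/
def HHIrr {P : Type*} [Group P] {V : Type*} [AddCommGroup V] [Module K V]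
    (ρ : P →* Module.End K V) : Prop :=
  ∀ W : Submodule K V, (∀ g, W.map (ρ g) ≤ W) → W = ⊥ ∨ W = ⊤

/-- Schur's lemma for `HHIrr` -/
theorem HHIrr.schur [IsAlgClosed K] {P : Type*} [Group P] {V : Type*} [AddCommGroup V]
    [Module K V] [FiniteDimensional K V] [Nontrivial V] {ρ : P →* Module.End K V}
    (h : HHIrr ρ) (b : Module.End K V) (hb : ∀ g, ρ g * b = b * ρ g) : ∃ c : K, b = c • 1 := by
  apply hh_schur (Set.range ρ) _ b
  · rintro _ ⟨g, rfl⟩; exact hb g
  · intro W hW
    exact h W (fun g => hW _ ⟨g, rfl⟩)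

/-- an irreducible representation with commuting image is one-dimensional -/
theorem HHIrr.finrank_eq_one_of_comm [IsAlgClosed K] {P : Type*} [Group P] {V : Type*}
    [AddCommGroup V] [Module K V] [FiniteDimensional K V] [Nontrivial V]
    {ρ : P →* Module.End K V} (h : HHIrr ρ) (hc : ∀ g g', ρ g * ρ g' = ρ g' * ρ g) :
    finrank K V = 1 := by
  obtain ⟨v, hv⟩ := exists_ne (0 : V)
  have hW := h (Submodule.span K {v}) ?_
  · rcases hW with hW | hW
    · exact absurd ((Submodule.span_singleton_eq_bot).1 hW) hv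
    · rw [← finrank_top K V, ← hW]
      exact finrank_span_singleton hv
  · intro g
    obtain ⟨c, hcg⟩ := h.schur (ρ g) (fun g' => hc g' g)
    rintro _ ⟨w, hw, rfl⟩
    rw [hcg]
    simpa using Submodule.smul_mem _ c hw

/-- a nonabelian finite `q`-group has an element of the second centre outside the centre -/
theorem hh_exists_second_center {P : Type*} [Group P] [Finite P] (q : ℕ) [Fact q.Prime]
    (hP : IsPGroup q P) (hnc : ¬ ∀ a b : P, a * b = b * a) :
    ∃ x : P, x ∉ Subgroup.center P ∧ ∀ g : P, g * x * g⁻¹ * x⁻¹ ∈ Subgroup.center P := by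
  have hZ : Subgroup.center P ≠ ⊤ := by
    intro h
    apply hnc
    intro a b
    have : b ∈ Subgroup.center P := by rw [h]; trivial
    exact (Subgroup.mem_center_iff.1 this a)
  haveI : Nontrivial (P ⧸ Subgroup.center P) := by
    rw [← Finite.one_lt_card_iff_nontrivial, ← Subgroup.index_eq_card]
    exact Subgroup.one_lt_index_of_ne_top hZ
  have hPq : IsPGroup q (P ⧸ Subgroup.center P) := hP.to_quotient _
  haveI := hPq.center_nontrivial
  obtain ⟨⟨zb, hzb⟩, hzne⟩ := exists_ne (1 : Subgroup.center (P ⧸ Subgroup.center P))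
  have hzb1 : zb ≠ 1 := fun h => hzne (Subtype.ext h)
  obtain ⟨x, rfl⟩ := QuotientGroup.mk_surjective zb
  refine ⟨x, fun hx => hzb1 ((QuotientGroup.eq_one_iff x).2 hx), fun g => ?_⟩
  rw [← QuotientGroup.eq_one_iff]
  have h1 := Subgroup.mem_center_iff.1 hzb (g : P ⧸ Subgroup.center P)
  simp only [QuotientGroup.mk_mul, QuotientGroup.mk_inv]
  rw [h1]
  group

/-- dimension of an internal direct sum over a finite index type -/
theorem hh_finrank_eq_sum {ι : Type*} [Fintype ι] [DecidableEq ι] {V : Type*} [AddCommGroup V]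
    [Module K V] [FiniteDimensional K V] (W : ι → Submodule K V) (hi : iSupIndep W)
    (hs : iSup W = ⊤) : finrank K V = ∑ i, finrank K (W i) := by
  have h := DirectSum.isInternal_submodule_of_iSupIndep_of_iSup_eq_top hi hs
  rw [← (LinearEquiv.ofBijective (DirectSum.coeLinearMap W) h).finrank_eq,
    Module.finrank_directSum]

/-- the statement proved by induction on the group order -/
def HHClaim (K : Type*) [Field K] (q m : ℕ) : Prop :=
  ∀ (P : Type u) [Group P] [Finite P], Nat.card P = m → IsPGroup q P →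
    ∀ (V : Type v) [AddCommGroup V] [Module K V] [FiniteDimensional K V] [Nontrivial V]
      (ρ : P →* Module.End K V), HHIrr ρ → ∃ b : ℕ, finrank K V = q ^ b

theorem hh_claim [IsAlgClosed K] (q : ℕ) [Fact q.Prime] : ∀ m, HHClaim.{u, v} K q m := by
  intro m
  induction m using Nat.strong_induction_on with
  | _ m ih =>
  intro P _ _ hm hP V _ _ _ _ ρ hirr
  classical
  by_cases hinj : Function.Injective ρ
  swap
  · -- pass to the quotient by the kernel
    have hker : ρ.ker ≠ ⊥ := fun h => hinj ((MonoidHom.ker_eq_bot_iff ρ).1 h)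
    have hlt : Nat.card (P ⧸ ρ.ker) < m := by
      have h1 := Subgroup.card_eq_card_quotient_mul_card_subgroup ρ.ker
      have h2 : 1 < Nat.card ρ.ker := (Subgroup.one_lt_card_iff_ne_bot _).2 hker
      have h3 : 0 < Nat.card (P ⧸ ρ.ker) := Nat.card_pos
      rw [← hm, h1]
      nlinarith
    refine ih _ hlt (P ⧸ ρ.ker) rfl (hP.to_quotient _) V
      (QuotientGroup.lift ρ.ker ρ (fun g hg => hg)) ?_
    intro W hW
    exact hirr W (fun g => by simpa using hW (g : P ⧸ ρ.ker))
  by_cases hcomm : ∀ a b : P, a * b = b * a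
  · exact ⟨0, by
      rw [pow_zero]
      exact hirr.finrank_eq_one_of_comm (fun g g' => by rw [← map_mul, ← map_mul, hcomm])⟩
  -- the nonabelian faithful case
  obtain ⟨x, hxZ, hx2⟩ := hh_exists_second_center q hP hcomm
  set X := ρ x with hX
  have hinv : ∀ g : P, ρ g * ρ g⁻¹ = 1 := fun g => by rw [← map_mul, mul_inv_cancel, map_one]
  have hinv' : ∀ g : P, ρ g⁻¹ * ρ g = 1 := fun g => by rw [← map_mul, inv_mul_cancel, map_one]
  have hscal : ∀ g : P, ∃ c : K, ρ (g * x * g⁻¹ * x⁻¹) = c • 1 := by
    intro g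
    apply hirr.schur
    intro h
    rw [← map_mul, ← map_mul, Subgroup.mem_center_iff.1 (hx2 g) h]
  choose χ hχ using hscal
  have hone_ne : (1 : Module.End K V) ≠ 0 := one_ne_zero
  have hsmul_inj : ∀ a b : K, a • (1 : Module.End K V) = b • 1 → a = b := by
    intro a b h
    by_contra hne
    have : (a - b) • (1 : Module.End K V) = 0 := by rw [sub_smul, h, sub_self]
    rcases smul_eq_zero.1 this with h' | h'
    · exact hne (sub_eq_zero.1 h')
    · exact hone_ne h'
  have hχ1 : ∀ g, ρ g * X = χ g • (X * ρ g) := by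
    intro g
    have h1 : g * x = (g * x * g⁻¹ * x⁻¹) * (x * g) := by group
    rw [hX, ← map_mul, h1, map_mul, hχ, map_mul, smul_mul_assoc, one_mul]
  have hχ0 : ∀ g, χ g ≠ 0 := by
    intro g h0
    have h1 := hinv (g * x * g⁻¹ * x⁻¹)
    rw [hχ, h0, zero_smul, zero_mul] at h1
    exact hone_ne h1.symm
  have hχmul : ∀ g h, χ (g * h) = χ g * χ h := by
    intro g h
    apply hsmul_inj
    have hc := Subgroup.mem_center_iff.1 (hx2 h) g
    have h1 : (g * h) * x * (g * h)⁻¹ * x⁻¹ =
        (h * x * h⁻¹ * x⁻¹) * (g * x * g⁻¹ * x⁻¹) := by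
      calc (g * h) * x * (g * h)⁻¹ * x⁻¹
          = g * (h * x * h⁻¹ * x⁻¹) * x * g⁻¹ * x⁻¹ := by group
        _ = (h * x * h⁻¹ * x⁻¹) * g * x * g⁻¹ * x⁻¹ := by rw [hc]
        _ = _ := by group
    rw [← hχ, h1, map_mul, hχ, hχ, smul_mul_smul_comm, one_mul, mul_comm]
  have hχcomm : ∀ g, χ g = 1 ↔ g * x = x * g := by
    intro g
    constructor
    · intro h
      have h1 := hχ g
      rw [h, one_smul, ← map_one ρ] at h1
      have h2 := hinj h1
      have : g * x = (g * x * g⁻¹ * x⁻¹) * (x * g) := by group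
      rw [this, h2, one_mul]
    · intro h
      apply hsmul_inj
      rw [← hχ, one_smul]
      have : g * x * g⁻¹ * x⁻¹ = 1 := by rw [h]; group
      rw [this, map_one]
  have hχone : χ 1 = 1 := (hχcomm 1).2 (by simp)
  let χ' : P →* Kˣ :=
    { toFun := fun g => Units.mk0 (χ g) (hχ0 g)
      map_one' := by ext; simpa using hχone
      map_mul' := fun g h => by ext; simpa using hχmul g h }
  have hχ'val : ∀ g, ((χ' g : Kˣ) : K) = χ g := fun g => rfl
  have hχinv : ∀ g, χ g⁻¹ = (χ g)⁻¹ := by
    intro g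
    have := hχmul g⁻¹ g
    rw [inv_mul_cancel, hχone] at this
    exact eq_inv_of_mul_eq_one_left this.symm
  -- an eigenvalue of `X`
  obtain ⟨μ, hμ⟩ := Module.End.exists_eigenvalue X
  set E := Module.End.eigenspace X μ with hE
  have hEne : E ≠ ⊥ := Module.End.hasEigenvalue_iff.1 hμ
  have hμ0 : μ ≠ 0 := by
    intro h0
    obtain ⟨v, hv⟩ := hμ.exists_hasEigenvector
    have h1 := hv.apply_eq_smul
    rw [h0, zero_smul] at h1
    have h2 : (ρ x⁻¹ * X) v = v := by rw [hX, hinv']; rfl
    rw [Module.End.mul_apply, h1, map_zero] at h2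
    exact hv.2 h2.symm
  have hmap : ∀ (g : P) (ν : K) (v : V), v ∈ Module.End.eigenspace X ν →
      ρ g v ∈ Module.End.eigenspace X ((χ g)⁻¹ * ν) := by
    intro g ν v hv
    rw [Module.End.mem_eigenspace_iff] at hv ⊢
    have h1 : X * ρ g = (χ g)⁻¹ • (ρ g * X) := by
      rw [hχ1, smul_smul, inv_mul_cancel₀ (hχ0 g), one_smul]
    have h2 : X (ρ g v) = (X * ρ g) v := rfl
    rw [h2, h1, LinearMap.smul_apply, Module.End.mul_apply, hv, map_smul, smul_smul]
  have hρinj : ∀ g : P, Function.Injective (ρ g) := by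
    intro g
    apply Function.LeftInverse.injective (g := ρ g⁻¹)
    intro v
    rw [← Module.End.mul_apply, hinv']; rfl
  -- the family of eigenspaces in the orbit
  haveI : Finite χ'.range := Finite.of_surjective χ'.rangeRestrict χ'.rangeRestrict_surjective
  haveI : Fintype χ'.range := Fintype.ofFinite _
  let W : χ'.range → Submodule K V := fun c => Module.End.eigenspace X (((c : Kˣ) : K) * μ)
  have hW1 : W 1 = E := by
    simp only [W, hE]
    congr 1
    simp
  have hWind : iSupIndep W := by
    apply (Module.End.eigenspaces_iSupIndep X).comp (f := fun c : χ'.range => ((c : Kˣ) : K) * μ)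
    intro c c' h
    have h1 : ((c : Kˣ) : K) = ((c' : Kˣ) : K) := mul_right_cancel₀ hμ0 h
    exact Subtype.ext (Units.ext h1)
  have hWmap : ∀ (g : P) (c : χ'.range),
      (W c).map (ρ g) ≤ W ⟨(χ' g)⁻¹ * c, mul_mem (inv_mem ⟨g, rfl⟩) c.2⟩ := by
    rintro g c _ ⟨v, hv, rfl⟩
    have := hmap g _ v hv
    simp only [W]
    rw [Units.val_mul, Units.val_inv_eq_inv_val, hχ'val, mul_assoc]
    exact this
  have hWtop : ⨆ c, W c = ⊤ := by
    rcases hirr (⨆ c, W c) (fun g => by
      rw [Submodule.map_iSup]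
      exact iSup_le fun c => (hWmap g c).trans (le_iSup W _)) with h | h
    · exfalso
      apply hEne
      rw [← hW1, eq_bot_iff, ← h]
      exact le_iSup W 1
    · exact h
  have hfinmap : ∀ (g : P) (S : Submodule K V), finrank K (S.map (ρ g)) = finrank K S :=
    fun g S => (Submodule.equivMapOfInjective (ρ g) (hρinj g) S).finrank_eq.symm
  have hWrank : ∀ c : χ'.range, finrank K (W c) = finrank K E := by
    rintro ⟨c, g, rfl⟩
    apply le_antisymm
    · rw [← hfinmap g (W ⟨χ' g, g, rfl⟩)]
      apply Submodule.finrank_mono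
      refine (hWmap g _).trans (le_of_eq ?_)
      rw [← hW1]
      congr 1
      apply Subtype.ext
      simp
    · rw [← hfinmap g⁻¹ E]
      apply Submodule.finrank_mono
      rintro _ ⟨v, hv, rfl⟩
      have := hmap g⁻¹ μ v hv
      rw [hχinv, inv_inv] at this
      exact this
  have hsum : finrank K V = Nat.card χ'.range * finrank K E := by
    rw [hh_finrank_eq_sum W hWind hWtop, Finset.sum_congr rfl (fun c _ => hWrank c),
      Finset.sum_const, Finset.card_univ, smul_eq_mul, Nat.card_eq_fintype_card]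
  obtain ⟨j, hj⟩ : ∃ j, Nat.card χ'.range = q ^ j := by
    obtain ⟨k, hk⟩ := IsPGroup.iff_card.1 hP
    have h1 : Nat.card χ'.range ∣ q ^ k := hk ▸ Subgroup.card_range_dvd χ'
    obtain ⟨j, _, hj⟩ := (Nat.dvd_prime_pow (Fact.out : q.Prime)).1 h1
    exact ⟨j, hj⟩
  -- the inertia subgroup
  set P₁ := χ'.ker with hP₁
  have hmemP₁ : ∀ g, g ∈ P₁ ↔ χ g = 1 := by
    intro g
    rw [hP₁, MonoidHom.mem_ker]
    constructor
    · intro h; rw [← hχ'val, h]; rfl
    · intro h; exact Units.ext (by rw [hχ'val, h]; rfl)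
  have hP₁top : P₁ ≠ ⊤ := by
    intro h
    apply hxZ
    rw [Subgroup.mem_center_iff]
    intro g
    exact (hχcomm g).1 ((hmemP₁ g).1 (by rw [h]; trivial))
  have hlt : Nat.card P₁ < m := by
    have h1 := Subgroup.card_mul_index P₁
    have h2 := Subgroup.one_lt_index_of_ne_top hP₁top
    have h3 : 0 < Nat.card P₁ := Nat.card_pos
    rw [← hm, ← h1]
    nlinarith
  have hEinv : ∀ (h : P₁) (v : V), v ∈ E → ρ (h : P) v ∈ E := by
    intro h v hv
    have := hmap h μ v hv
    rw [(hmemP₁ h).1 h.2, inv_one, one_mul] at this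
    exact this
  let ρ₁ : P₁ →* Module.End K E :=
    { toFun := fun h => (ρ (h : P)).restrict (hEinv h)
      map_one' := by ext v; simp
      map_mul' := fun h h' => by ext v; simp }
  have hρ₁ : ∀ (h : P₁) (e : E), ((ρ₁ h e : E) : V) = ρ (h : P) (e : V) := fun h e => rfl
  haveI : Nontrivial E := (Submodule.nontrivial_iff_ne_bot).2 hEne
  have hirr₁ : HHIrr ρ₁ := by
    intro U' hU'
    by_cases hU0 : U' = ⊥
    · exact Or.inl hU0
    right
    set U : Submodule K V := U'.map E.subtype with hU
    have hUE : U ≤ E := Submodule.map_subtype_le E U'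
    have hUne : U ≠ ⊥ := by
      obtain ⟨u', hu', hu'0⟩ := Submodule.exists_mem_ne_zero_of_ne_bot hU0
      intro h
      have h1 : (u' : V) ∈ U := ⟨u', hu', rfl⟩
      rw [h, Submodule.mem_bot] at h1
      exact hu'0 (Subtype.ext h1)
    set Uh : Submodule K V := ⨆ g : P, U.map (ρ g) with hUh
    have hUhtop : Uh = ⊤ := by
      rcases hirr Uh (fun h => by
        rw [hUh, Submodule.map_iSup]
        refine iSup_le fun g => ?_
        rw [← Submodule.map_comp]
        have : (ρ h) ∘ₗ (ρ g) = ρ (h * g) := by rw [map_mul]; rfl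
        rw [this]
        exact le_iSup (fun g : P => U.map (ρ g)) (h * g)) with h | h
      · exfalso
        apply hUne
        rw [eq_bot_iff, ← h]
        refine le_trans (le_of_eq ?_) (le_iSup (fun g : P => U.map (ρ g)) 1)
        rw [map_one]
        exact (Submodule.map_id U).symm
      · exact h
    set E' : Submodule K V := ⨆ (c : χ'.range) (_ : c ≠ 1), W c with hE'
    have hdisj : Disjoint (W 1) E' := hWind 1
    have hUhle : Uh ≤ U ⊔ E' := by
      rw [hUh]
      refine iSup_le fun g => ?_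
      by_cases hg : χ g = 1
      · refine le_trans ?_ le_sup_left
        rintro _ ⟨_, ⟨u', hu', rfl⟩, rfl⟩
        have hgP : g ∈ P₁ := (hmemP₁ g).2 hg
        refine ⟨ρ₁ ⟨g, hgP⟩ u', hU' ⟨g, hgP⟩ ⟨u', hu', rfl⟩, ?_⟩
        rfl
      · refine le_trans ?_ le_sup_right
        have hc : (⟨(χ' g)⁻¹ * 1, mul_mem (inv_mem ⟨g, rfl⟩) (1 : χ'.range).2⟩ : χ'.range) ≠ 1 := by
          intro h
          apply hg
          have h1 := congrArg (fun c : χ'.range => ((c : Kˣ) : K)) h
          simp only [OneMemClass.coe_one, mul_one, Units.val_inv_eq_inv_val, hχ'val,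
            Units.val_one] at h1
          exact inv_eq_one.1 h1
        refine le_trans ?_ (le_iSup₂ (f := fun (c : χ'.range) (_ : c ≠ 1) => W c) _ hc)
        refine le_trans (Submodule.map_mono ?_) (hWmap g 1)
        rw [hW1]; exact hUE
    have hEU : E ≤ U := by
      have h1 : E ≤ (U ⊔ E') ⊓ E := by
        refine le_inf ?_ le_rfl
        refine le_trans ?_ hUhle
        rw [hUhtop]; exact le_top
      rw [sup_inf_assoc_of_le E' hUE] at h1
      have h2 : E' ⊓ E = ⊥ := by
        rw [inf_comm, ← hW1]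
        exact hdisj.eq_bot
      rw [h2, sup_bot_eq] at h1
      exact h1
    rw [eq_top_iff]
    intro e _
    obtain ⟨u', hu', hu'e⟩ := hEU e.2
    have : u' = e := Subtype.ext hu'e
    rw [← this]; exact hu'
  obtain ⟨b', hb'⟩ := ih _ hlt P₁ rfl (hP.to_subgroup P₁) E ρ₁ hirr₁
  exact ⟨j + b', by rw [hsum, hj, hb', pow_add]⟩

/-- **Degrees of irreducible representations of `q`-groups are powers of `q`**
(algebraically closed coefficient field of any characteristic). -/
theorem hh_finrank_prime_pow [IsAlgClosed K] (q : ℕ) [Fact q.Prime] {P : Type u} [Group P]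
    [Finite P] (hP : IsPGroup q P) {V : Type v} [AddCommGroup V] [Module K V]
    [FiniteDimensional K V] [Nontrivial V] (ρ : P →* Module.End K V) (hirr : HHIrr ρ) :
    ∃ b : ℕ, finrank K V = q ^ b :=
  hh_claim q (Nat.card P) P rfl hP V ρ hirr

end PrimePow

end Cfsg.Agent.Lib.Helper13
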