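import Mathlib
import Cfsg.Agent.Lib.Helper13.HHLin
import Cfsg.Agent.Lib.Helper13.HHOrbit
import Cfsg.Agent.Lib.Helper13.HHPrimePow

/-!
# The Hall–Higman critical case in twisted form (helper13)

Data: a finite `q`-group `Q` (a type) with an automorphism `α`, a representation
`ρ : Q →* End V` and an operator `X` with `X ρ(g) = ρ(α g) X`, `X^(p^m) = 1`, `α^(p^m) = 1`.
-/

set_option autoImplicit false
set_option linter.style.haveILetI false

namespace Cfsg.Agent.Lib.Helper13

open Module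

/-- in a cyclic `p`-group every nontrivial subgroup contains the subgroup of order `p`
(membership form) -/
theorem hh_pow_mem_of_pow_mem {G : Type*} [Group G] {p : ℕ} [Fact p.Prime] (S : Subgroup G)
    (x : G) (m : ℕ) (hm : 1 ≤ m) (hxm : x ^ (p ^ m) ∈ S) (i : ℕ) (hi0 : 0 < i)
    (hi : i < p ^ m) (hc : x ^ i ∈ S) : x ^ (p ^ (m - 1)) ∈ S := by
  have hp : p.Prime := Fact.out
  have h3 : x ^ (Nat.gcd i (p ^ m)) ∈ S := by
    have hb := Nat.gcd_eq_gcd_ab i (p ^ m)
    have : x ^ ((Nat.gcd i (p ^ m) : ℕ) : ℤ) ∈ S := by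
      rw [hb, zpow_add, zpow_mul, zpow_mul, zpow_natCast, zpow_natCast]
      exact S.mul_mem (S.zpow_mem hc _) (S.zpow_mem hxm _)
    rwa [zpow_natCast] at this
  obtain ⟨v, hvm, hv⟩ := (Nat.dvd_prime_pow hp).1 (Nat.gcd_dvd_right i (p ^ m))
  have hvlt : v < m := by
    by_contra hge
    have hvm' : v = m := by omega
    have h4 : Nat.gcd i (p ^ m) ≤ i := Nat.le_of_dvd hi0 (Nat.gcd_dvd_left _ _)
    rw [hv, hvm'] at h4
    omega
  rw [hv] at h3
  have h5 : x ^ (p ^ (m - 1)) = (x ^ (p ^ v)) ^ (p ^ (m - 1 - v)) := by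
    rw [← pow_mul, ← pow_add]; congr 2; omega
  rw [h5]
  exact S.pow_mem h3 _

section Tw

variable {Q : Type*} [Group Q] {K : Type*} [Field K] {V : Type*} [AddCommGroup V] [Module K V]

theorem hh_rho_mul_inv (ρ : Q →* Module.End K V) (g : Q) : ρ g * ρ g⁻¹ = 1 := by
  rw [← map_mul, mul_inv_cancel, map_one]

theorem hh_rho_inv_mul (ρ : Q →* Module.End K V) (g : Q) : ρ g⁻¹ * ρ g = 1 := by
  rw [← map_mul, inv_mul_cancel, map_one]

/-- the sum of the conjugates of an operator commutes with the image of `ρ` -/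
theorem hh_avgT_commute [Fintype Q] (ρ : Q →* Module.End K V) (b : Module.End K V) (h : Q) :
    ρ h * (∑ g : Q, ρ g * b * ρ g⁻¹) = (∑ g : Q, ρ g * b * ρ g⁻¹) * ρ h := by
  set f : Q → Module.End K V := fun g => ρ g * b * ρ g⁻¹ with hf_def
  have h1 : ρ h * (∑ g : Q, f g) * ρ h⁻¹ = ∑ g : Q, f g := by
    rw [Finset.mul_sum, Finset.sum_mul]
    rw [← Equiv.sum_comp (Equiv.mulLeft h) f]
    refine Finset.sum_congr rfl fun g _ => ?_
    simp only [hf_def, Equiv.coe_mulLeft, mul_inv_rev, map_mul]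
    simp only [mul_assoc]
  calc ρ h * ∑ g : Q, f g = ρ h * (∑ g : Q, f g) * (ρ h⁻¹ * ρ h) := by
        rw [hh_rho_inv_mul, mul_one]
    _ = (ρ h * (∑ g : Q, f g) * ρ h⁻¹) * ρ h := by simp only [mul_assoc]
    _ = (∑ g : Q, f g) * ρ h := by rw [h1]

/-- consequences of the twisting relation -/
theorem hh_tw_conj (ρ : Q →* Module.End K V) (α : MulAut Q) (X X' : Module.End K V)
    (hXX' : X * X' = 1) (htw : ∀ g, X * ρ g = ρ (α g) * X) (g : Q) :
    ρ (α g) = X * ρ g * X' := by
  rw [htw, mul_assoc, hXX', mul_one]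

/-- conjugating the argument of the sum by the twisting operator conjugates the sum -/
theorem hh_avgT_conj [Fintype Q] (ρ : Q →* Module.End K V) (α : MulAut Q)
    (X X' : Module.End K V) (hXX' : X * X' = 1) (hX'X : X' * X = 1)
    (htw : ∀ g, X * ρ g = ρ (α g) * X) (b : Module.End K V) :
    ∑ g : Q, ρ g * (X * b * X') * ρ g⁻¹ = X * (∑ g : Q, ρ g * b * ρ g⁻¹) * X' := by
  rw [Finset.mul_sum, Finset.sum_mul]
  rw [← Equiv.sum_comp (MulAut.toPerm Q α) (fun g : Q => ρ g * (X * b * X') * ρ g⁻¹)]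
  refine Finset.sum_congr rfl fun g _ => ?_
  have h1 : (MulAut.toPerm Q α) g = α g := rfl
  rw [h1, ← map_inv α g, hh_tw_conj ρ α X X' hXX' htw, hh_tw_conj ρ α X X' hXX' htw]
  calc X * ρ g * X' * (X * b * X') * (X * ρ g⁻¹ * X')
      = X * ρ g * (X' * X) * b * (X' * X) * ρ g⁻¹ * X' := by simp only [mul_assoc]
    _ = X * (ρ g * b * ρ g⁻¹) * X' := by rw [hX'X]; simp only [mul_one, mul_assoc]

end Tw

section F1T

variable {Q : Type*} [Group Q] [Finite Q] {K : Type*} [Field K] {V : Type*} [AddCommGroup V]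
  [Module K V]

/-- **Key structural fact**, twisted form. -/
theorem hh_F1T (p q : ℕ) [Fact p.Prime] [Fact q.Prime] (hpq : p ≠ q) (hQ : IsPGroup q Q)
    (α : MulAut Q) (m : ℕ) (hm : 1 ≤ m) (hαm : α ^ (p ^ m) = 1)
    [IsAlgClosed K] [CharP K p] [FiniteDimensional K V] [Nontrivial V]
    (ρ : Q →* Module.End K V) (X X' : Module.End K V) (hXX' : X * X' = 1) (hX'X : X' * X = 1)
    (htw : ∀ g, X * ρ g = ρ (α g) * X) (hirr : HHIrr ρ)
    (hH1 : ∀ g, (α ^ (p ^ (m - 1))) g = g → ∃ c : K, ρ g = c • 1)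
    (b : Module.End K V) (hb : X * b = b * X) :
    ∃ (c : K) (w : Module.End K V),
      b = c • 1 + ∑ i ∈ Finset.range (p ^ m), X ^ i * w * X' ^ i := by
  classical
  haveI : Fintype Q := Fintype.ofFinite Q
  set β := α ^ (p ^ (m - 1)) with hβ
  have hαβ : ∀ g, β (α g) = α (β g) := by
    intro g
    have : β * α = α * β := by rw [hβ, ← pow_succ, ← pow_succ']
    exact congrArg (fun a : MulAut Q => a g) this
  set n := p ^ m with hn_def
  have hn : 0 < n := pow_pos (Fact.out : p.Prime).pos m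
  set π := MulAut.toPerm Q α with hπ_def
  have hπpow : ∀ (i : ℕ) (g : Q), (π ^ i) g = (α ^ i) g := by
    intro i g
    rw [hπ_def, ← map_pow]; rfl
  have hπn : π ^ n = 1 := by
    rw [hπ_def, ← map_pow, hαm, map_one]
  set f : Q → Module.End K V := fun g => ρ g * b * ρ g⁻¹ with hf_def
  set σ := hhSigma X X' with hσ_def
  have hub : X' * b * X = b := by
    rw [mul_assoc, ← hb, ← mul_assoc, hX'X, one_mul]
  have hf : ∀ g, f (π g) = σ (f g) := by
    intro g
    rw [hσ_def, hhSigma_apply]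
    have h1 : π g = α g := rfl
    simp only [hf_def, h1]
    rw [← map_inv α g, hh_tw_conj ρ α X X' hXX' htw, hh_tw_conj ρ α X X' hXX' htw]
    calc X * ρ g * X' * b * (X * ρ g⁻¹ * X')
        = X * ρ g * (X' * b * X) * ρ g⁻¹ * X' := by simp only [mul_assoc]
      _ = X * (ρ g * b * ρ g⁻¹) * X' := by rw [hub]; simp only [mul_assoc]
  have hfix : ∀ g : Q, β g = g → f g = b := by
    intro g hg
    obtain ⟨c, hc⟩ := hH1 g hg
    have hcomm : ρ g * b = b * ρ g := by
      rw [hc, smul_mul_assoc, one_mul, mul_smul_comm, mul_one]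
    simp only [hf_def]
    rw [hcomm, mul_assoc, hh_rho_mul_inv, mul_one]
  set Y : Finset Q := Finset.univ.filter (fun g : Q => ¬ β g = g) with hY_def
  have hYinv : ∀ g ∈ Y, π g ∈ Y := by
    intro g hg
    rw [hY_def, Finset.mem_filter] at hg ⊢
    refine ⟨Finset.mem_univ _, fun h => hg.2 ?_⟩
    have h1 : π g = α g := rfl
    rw [h1, hαβ] at h
    exact α.injective h
  have hYfree : ∀ g ∈ Y, ∀ i, 0 < i → i < n → (π ^ i) g ≠ g := by
    intro g hg i hi0 hin hig
    rw [hY_def, Finset.mem_filter] at hg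
    apply hg.2
    rw [hπpow] at hig
    have h1 : α ^ i ∈ MulAction.stabilizer (MulAut Q) g := MulAction.mem_stabilizer_iff.2 hig
    have h2 : α ^ (p ^ m) ∈ MulAction.stabilizer (MulAut Q) g := by
      rw [hαm]; exact Subgroup.one_mem _
    exact MulAction.mem_stabilizer_iff.1
      (hh_pow_mem_of_pow_mem (MulAction.stabilizer (MulAut Q) g) α m hm h2 i hi0 hin h1)
  obtain ⟨w, hw⟩ := hh_orbit_sum π n hn hπn σ f hf Y hYinv hYfree
  obtain ⟨c0, hc0⟩ : ∃ c0 : K, ∑ g : Q, f g = c0 • 1 := by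
    apply hirr.schur
    intro h
    exact hh_avgT_commute ρ b h
  have hsplit : ∑ g : Q, f g =
      (Finset.univ.filter (fun g : Q => β g = g)).card • b + ∑ g ∈ Y, f g := by
    rw [← Finset.sum_filter_add_sum_filter_not Finset.univ (fun g : Q => β g = g)]
    congr 1
    rw [Finset.sum_congr rfl (fun g hg => hfix g (Finset.mem_filter.1 hg).2), Finset.sum_const]
  have hqK : (q : K) ≠ 0 := by
    intro h0
    have := (CharP.cast_eq_zero_iff K p q).1 h0
    exact hpq ((Nat.prime_dvd_prime_iff_eq (Fact.out : p.Prime) (Fact.out : q.Prime)).1 this)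
  have hcardK : (((Finset.univ.filter (fun g : Q => β g = g)).card : ℕ) : K) ≠ 0 := by
    let F : Subgroup Q :=
      { carrier := {g | β g = g}
        mul_mem' := by
          intro a b ha hb
          simp only [Set.mem_ofPred_eq] at *
          rw [map_mul, ha, hb]
        one_mem' := by simp
        inv_mem' := by
          intro a ha
          simp only [Set.mem_ofPred_eq] at *
          rw [map_inv, ha] }
    have hcard : (Finset.univ.filter (fun g : Q => β g = g)).card = Nat.card F := by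
      rw [Nat.card_eq_fintype_card, Fintype.card_subtype]
      rfl
    obtain ⟨k, hk⟩ := IsPGroup.iff_card.1 (hQ.to_subgroup F)
    rw [hcard, hk, Nat.cast_pow]
    exact pow_ne_zero _ hqK
  set kF : K := (((Finset.univ.filter (fun g : Q => β g = g)).card : ℕ) : K) with hkF
  refine ⟨kF⁻¹ * c0, -(kF⁻¹ • w), ?_⟩
  have hmain : c0 • (1 : Module.End K V) = kF • b + ∑ i ∈ Finset.range n, (σ ^ i) w := by
    rw [← hc0, hsplit, hw, hkF, Nat.cast_smul_eq_nsmul]
  have hsum : ∑ i ∈ Finset.range n, X ^ i * -(kF⁻¹ • w) * X' ^ i =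
      -(kF⁻¹ • ∑ i ∈ Finset.range n, (σ ^ i) w) := by
    rw [Finset.smul_sum, ← Finset.sum_neg_distrib]
    refine Finset.sum_congr rfl fun i _ => ?_
    rw [hσ_def, hhSigma_pow_apply]
    simp
  rw [hsum]
  have h2 : ∑ i ∈ Finset.range n, (σ ^ i) w = c0 • (1 : Module.End K V) - kF • b := by
    rw [hmain]; abel
  rw [h2, smul_sub, smul_smul, smul_smul, inv_mul_cancel₀ hcardK, one_smul]
  abel

end F1T

end Cfsg.Agent.Lib.Helper13
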