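import Mathlib
import Cfsg.Agent.Lib.Helper13.HHLin
import Cfsg.Agent.Lib.Helper13.HHOrbit
import Cfsg.Agent.Lib.Helper13.HHPrimePow
import Cfsg.Agent.Lib.Helper13.HHTw

/-!
# The Hall–Higman critical case in twisted form: the count (helper13)
-/

set_option autoImplicit false
set_option linter.style.haveILetI false

namespace Cfsg.Agent.Lib.Helper13

open Module

section CriticalT

/-- **Hall–Higman critical case**, twisted form: `Q` is a finite `q`-group (a type), `α` an
automorphism of `p`-power order, `ρ` an irreducible representation over an algebraically closed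
field of characteristic `p`, `X` an invertible operator of `p`-power order twisting `ρ` by `α`,
and `ρ` is scalar on the fixed points of `α^(p^(m-1))`. -/
theorem hh_criticalT (p q : ℕ) [Fact p.Prime] [Fact q.Prime] (hpq : p ≠ q)
    {Q : Type*} [Group Q] [Finite Q] (hQ : IsPGroup q Q)
    (α : MulAut Q) (m : ℕ) (hm : 1 ≤ m) (hαm : α ^ (p ^ m) = 1)
    {K : Type*} [Field K] [IsAlgClosed K] [CharP K p] {V : Type*} [AddCommGroup V] [Module K V]
    [FiniteDimensional K V] [Nontrivial V]
    (ρ : Q →* Module.End K V) (X X' : Module.End K V) (hXX' : X * X' = 1) (hX'X : X' * X = 1)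
    (hXm : X ^ (p ^ m) = 1) (htw : ∀ g, X * ρ g = ρ (α g) * X) (hirr : HHIrr ρ)
    (hX1 : X ≠ 1)
    (hH1 : ∀ g, (α ^ (p ^ (m - 1))) g = g → ∃ c : K, ρ g = c • 1)
    (s : ℕ) (hs : (X - 1) ^ s = 0) (hmin : ∀ k < s, (X - 1) ^ k ≠ 0) :
    p ^ m - 1 ≤ s ∧ s ≤ p ^ m ∧
      (s = p ^ m - 1 →
        (∃ b : ℕ, p ^ m - 1 = q ^ b) ∧ ¬ (∀ g h : Q, g * h = h * g)) := by
  classical
  haveI : Fintype Q := Fintype.ofFinite Q
  set n := p ^ m with hn_def
  have hnpos : 0 < n := pow_pos (Fact.out : p.Prime).pos m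
  set u := X with hu
  set u' := X' with hu'
  set N := u - 1 with hN
  have huu' : u * u' = 1 := hXX'
  have hu'u : u' * u = 1 := hX'X
  have hun : u ^ n = 1 := hXm
  have hu'n : u' ^ n = 1 := by
    have hc : Commute u' u := by
      show u' * u = u * u'
      rw [huu', hu'u]
    calc u' ^ n = u' ^ n * u ^ n := by rw [hun, mul_one]
      _ = (u' * u) ^ n := (hc.mul_pow n).symm
      _ = 1 := by rw [hu'u, one_pow]
  have hNn : N ^ n = 0 := by
    rw [hN, hn_def, hh_sub_one_pow (K := K) p u m, ← hn_def, hun, sub_self]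
  have hs1 : 1 ≤ s := by
    by_contra h
    have h0 : s = 0 := by omega
    rw [h0, pow_zero] at hs
    exact one_ne_zero hs
  have hsn : s ≤ n := by
    by_contra h
    exact hmin n (by omega) hNn
  by_cases hlt : s < n
  swap
  · have : s = n := by omega
    refine ⟨by omega, by omega, fun h => ?_⟩
    omega
  have hn2 : 2 ≤ n := by omega
  have hF1 := hh_F1T p q hpq hQ α m hm hαm ρ X X' hXX' hX'X htw hirr hH1
  have hgeomV : N ^ (n - 1) = ∑ i ∈ Finset.range n, u ^ i := by
    rw [hN, hn_def]; exact hh_geom (K := K) p u m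
  have hNn1 : N ^ (n - 1) = 0 := by
    have : n - 1 = s + (n - 1 - s) := by omega
    rw [this, pow_add, hs, zero_mul]
  have hcommN : ∀ b : Module.End K V, b * N = N * b → u * b = b * u := by
    intro b hb
    rw [hN, mul_sub, sub_mul, mul_one, one_mul] at hb
    exact (sub_left_inj.1 hb).symm
  have hu'fix : ∀ w ∈ LinearMap.ker N, ∀ i : ℕ, (u' ^ i) w = w := by
    intro w hw i
    have h1 : u w = w := by
      rw [LinearMap.mem_ker, hN, LinearMap.sub_apply, sub_eq_zero] at hw
      simpa using hw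
    have h2 : u' w = w := by
      have : (u' * u) w = w := by rw [hu'u]; rfl
      rw [Module.End.mul_apply, h1] at this
      exact this
    induction i with
    | zero => simp
    | succ i ih => rw [pow_succ, Module.End.mul_apply, h2, ih]
  have hscal : ∀ b : Module.End K V, b * N = N * b →
      ∃ c : K, ∀ w ∈ LinearMap.ker N, b w = c • w := by
    intro b hb
    obtain ⟨c, w', hbw⟩ := hF1 b (hcommN b hb)
    refine ⟨c, fun w hw => ?_⟩
    rw [hbw, LinearMap.add_apply, LinearMap.smul_apply, LinearMap.sum_apply]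
    have h1 : ∀ i ∈ Finset.range n, (u ^ i * w' * u' ^ i) w = (u ^ i) (w' w) := by
      intro i _
      rw [Module.End.mul_apply, Module.End.mul_apply, hu'fix w hw i]
    rw [Finset.sum_congr rfl h1, ← LinearMap.sum_apply, ← hgeomV, hNn1]
    simp
  obtain ⟨v, hv⟩ : ∃ v : V, (N ^ (s - 1)) v ≠ 0 := by
    by_contra hcon
    push Not at hcon
    exact hmin (s - 1) (by omega) (LinearMap.ext hcon)
  have hker := hh_ker_le_span N s hs1 hs v hv hscal
  have hd_le : finrank K V ≤ s := hh_finrank_le_of_ker_le_span N s hs _ hker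
  have hs_le : s ≤ finrank K V := by
    by_contra h
    have hnil : IsNilpotent N := ⟨s, hs⟩
    have h1 := LinearMap.aeval_self_charpoly N
    rw [IsNilpotent.charpoly_eq_X_pow_finrank hnil] at h1
    simp only [map_pow, Polynomial.aeval_X] at h1
    exact hmin _ (by omega) h1
  have hd : finrank K V = s := le_antisymm hd_le hs_le
  set σ := hhSigma u u' with hσ
  set T : Module.End K (Module.End K V) := σ - 1 with hT
  have hσn : σ ^ n = 1 := by
    ext w : 1
    rw [hσ, hhSigma_pow_apply, hun, hu'n]; simp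
  have hTn : T ^ n = 0 := by
    rw [hT, hn_def, hh_sub_one_pow (K := K) p σ m, ← hn_def, hσn, sub_self]
  have hTgeom : T ^ (n - 1) = ∑ i ∈ Finset.range n, σ ^ i := by
    rw [hT, hn_def]; exact hh_geom (K := K) p σ m
  have hTapp : ∀ b : Module.End K V, T b = u * b * u' - b := by
    intro b
    rw [hT, LinearMap.sub_apply, hσ, hhSigma_apply]; rfl
  have hTzero : ∀ b : Module.End K V, T b = 0 ↔ u * b = b * u := by
    intro b
    rw [hTapp, sub_eq_zero]
    constructor
    · intro h
      calc u * b = u * b * (u' * u) := by rw [hu'u, mul_one]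
        _ = (u * b * u') * u := by simp only [mul_assoc]
        _ = b * u := by rw [h]
    · intro h
      rw [h, mul_assoc, huu', mul_one]
  have hqK : (q : K) ≠ 0 := by
    intro h0
    have := (CharP.cast_eq_zero_iff K p q).1 h0
    exact hpq ((Nat.prime_dvd_prime_iff_eq (Fact.out : p.Prime) (Fact.out : q.Prime)).1 this)
  have hQK : ((Fintype.card Q : ℕ) : K) ≠ 0 := by
    obtain ⟨k, hk⟩ := IsPGroup.iff_card.1 hQ
    rw [← Nat.card_eq_fintype_card, hk, Nat.cast_pow]
    exact pow_ne_zero _ hqK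
  let Sav : Module.End K (Module.End K V) :=
    ∑ g : Q, hhSigma (ρ g) (ρ g⁻¹)
  have hSav : ∀ b, Sav b = ∑ g : Q, ρ g * b * ρ g⁻¹ := by
    intro b
    simp only [Sav, LinearMap.sum_apply, hhSigma_apply]
  have hSavscal : ∀ b, ∃ c : K, Sav b = c • 1 := by
    intro b
    apply hirr.schur
    intro g
    rw [hSav]
    exact hh_avgT_commute ρ b g
  obtain ⟨v1, hv1⟩ := exists_ne (0 : V)
  obtain ⟨φ0, hφ0⟩ : ∃ φ : Module.Dual K V, φ v1 ≠ 0 := by
    by_contra hcon
    push Not at hcon
    exact hv1 ((Module.forall_dual_apply_eq_zero_iff K v1).1 hcon)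
  let τ : Module.End K V →ₗ[K] K :=
    (((Fintype.card Q : ℕ) : K)⁻¹ * (φ0 v1)⁻¹) • (φ0 ∘ₗ (LinearMap.applyₗ v1) ∘ₗ Sav)
  have hτapp : ∀ b, τ b = ((Fintype.card Q : ℕ) : K)⁻¹ * (φ0 v1)⁻¹ * φ0 (Sav b v1) := by
    intro b; rfl
  have hτscal : ∀ (b : Module.End K V) (c : K), Sav b = c • 1 →
      τ b = ((Fintype.card Q : ℕ) : K)⁻¹ * c := by
    intro b c hc
    rw [hτapp, hc, LinearMap.smul_apply, Module.End.one_apply, map_smul, smul_eq_mul]
    field_simp
  have hτ1 : τ 1 = 1 := by
    have h1 : Sav 1 = ((Fintype.card Q : ℕ) : K) • (1 : Module.End K V) := by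
      rw [hSav]
      have : ∀ g : Q, ρ g * 1 * ρ g⁻¹ = 1 := by
        intro g
        rw [mul_one, hh_rho_mul_inv]
      rw [Finset.sum_congr rfl (fun g _ => this g), Finset.sum_const, Finset.card_univ,
        Nat.cast_smul_eq_nsmul]
    rw [hτscal 1 _ h1, inv_mul_cancel₀ hQK]
  have hτT : ∀ b, τ (T b) = 0 := by
    intro b
    obtain ⟨c, hc⟩ := hSavscal b
    have h1 : Sav (u * b * u') = c • 1 := by
      rw [hSav, hh_avgT_conj ρ α X X' hXX' hX'X htw b, ← hSav, hc, mul_smul_comm,
        smul_mul_assoc, mul_one, huu']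
    rw [hTapp, map_sub, hτscal _ c h1, hτscal _ c hc, sub_self]
  have hT1 : T 1 = 0 := by rw [hTzero]; simp
  have hF : ∀ b, T b = 0 → ∃ (c : K) (w : Module.End K V), b = c • 1 + (T ^ (n - 1)) w := by
    intro b hb
    obtain ⟨c, w, hbw⟩ := hF1 b ((hTzero b).1 hb)
    refine ⟨c, w, ?_⟩
    rw [hbw, hTgeom, LinearMap.sum_apply]
    congr 1
    refine Finset.sum_congr rfl fun i _ => ?_
    rw [hσ, hhSigma_pow_apply]
  have hcount := hh_count T τ 1 n hn2 hTn hτ1 hT1 hτT hF
  rw [Module.finrank_linearMap, hd] at hcount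
  have hCge : s ≤ finrank K (LinearMap.ker T) :=
    hh_le_finrank_commutant N s hs hmin (LinearMap.ker T) (fun b hb => by
      rw [LinearMap.mem_ker, hTzero]
      exact hcommN b hb)
  have hsne1 : s ≠ 1 := by
    intro h1
    rw [h1, pow_one, hN, sub_eq_zero] at hs
    exact hX1 hs
  have hsn1 : s = n - 1 := by
    by_contra hne
    have h2 : 2 ≤ s := by omega
    have h3 : s + 2 ≤ n := by omega
    have h4 : n * s ≤ n * finrank K (LinearMap.ker T) := Nat.mul_le_mul_left _ hCge
    nlinarith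
  refine ⟨by omega, hsn, fun _ => ?_⟩
  constructor
  · obtain ⟨b, hb⟩ := hh_finrank_prime_pow q hQ ρ hirr
    exact ⟨b, by rw [← hsn1, ← hd, hb]⟩
  · intro hcomm
    have h1 := hirr.finrank_eq_one_of_comm (fun g g' => by
      rw [← map_mul, ← map_mul, hcomm g g'])
    rw [hd] at h1
    exact hsne1 h1

end CriticalT

end Cfsg.Agent.Lib.Helper13
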