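import Mathlib
import Cfsg.Agent.Lib.Helper13.HHTwCrit

/-!
# Twisted Hall–Higman data (helper13)

A bundled form of: a group `Q` with an automorphism `α` of order dividing `p^n`, a
representation `ρ` of `Q` and an invertible operator `X` of order dividing `p^n` with
`X ρ(g) = ρ(α g) X`.  Constructions: restriction to invariant subspaces, quotients, restriction
to `α`-invariant subgroups and passage to `p`-th powers.
-/

set_option autoImplicit false
set_option linter.style.haveILetI false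

namespace Cfsg.Agent.Lib.Helper13

open Module

/-- twisted Hall–Higman data -/
structure HHTwData (K : Type*) [Field K] (p n : ℕ) (Q : Type*) [Group Q] (V : Type*)
    [AddCommGroup V] [Module K V] where
  /-- the automorphism -/
  α : MulAut Q
  /-- the representation -/
  ρ : Q →* Module.End K V
  /-- the twisting operator -/
  X : Module.End K V
  /-- its inverse -/
  X' : Module.End K V
  hXX' : X * X' = 1
  hX'X : X' * X = 1
  hXn : X ^ (p ^ n) = 1
  hαn : α ^ (p ^ n) = 1
  htw : ∀ g, X * ρ g = ρ (α g) * X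

/-- intertwining maps intertwine the powers of `A - 1` -/
theorem hh_intertwine_pow {K : Type*} [Field K] {V W : Type*} [AddCommGroup V] [Module K V]
    [AddCommGroup W] [Module K W] (φ : V →ₗ[K] W) (A : Module.End K V) (B : Module.End K W)
    (h : ∀ v, φ (A v) = B (φ v)) (r : ℕ) (v : V) :
    φ (((A - 1) ^ r) v) = ((B - 1) ^ r) (φ v) := by
  induction r generalizing v with
  | zero => simp
  | succ r ih =>
    rw [pow_succ, pow_succ, Module.End.mul_apply, Module.End.mul_apply, ih]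
    congr 1
    simp [h]

/-- intertwining maps intertwine powers -/
theorem hh_intertwine_pow' {K : Type*} [Field K] {V W : Type*} [AddCommGroup V] [Module K V]
    [AddCommGroup W] [Module K W] (φ : V →ₗ[K] W) (A : Module.End K V) (B : Module.End K W)
    (h : ∀ v, φ (A v) = B (φ v)) (r : ℕ) (v : V) :
    φ ((A ^ r) v) = (B ^ r) (φ v) := by
  induction r generalizing v with
  | zero => simp
  | succ r ih =>
    rw [pow_succ, pow_succ, Module.End.mul_apply, Module.End.mul_apply, ih, h]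

/-- restriction of an automorphism to an invariant subgroup -/
def hhRestrAut {Q : Type*} [Group Q] (α : MulAut Q) (E : Subgroup Q)
    (hE : ∀ g ∈ E, α g ∈ E) (hE' : ∀ g ∈ E, α⁻¹ g ∈ E) : MulAut E where
  toFun g := ⟨α g, hE g g.2⟩
  invFun g := ⟨α⁻¹ g, hE' g g.2⟩
  left_inv g := by ext; simp
  right_inv g := by ext; simp
  map_mul' g h := by ext; simp

theorem hhRestrAut_coe {Q : Type*} [Group Q] (α : MulAut Q) (E : Subgroup Q)
    (hE : ∀ g ∈ E, α g ∈ E) (hE' : ∀ g ∈ E, α⁻¹ g ∈ E) (g : E) :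
    ((hhRestrAut α E hE hE' g : E) : Q) = α g := rfl

theorem hhRestrAut_pow_coe {Q : Type*} [Group Q] (α : MulAut Q) (E : Subgroup Q)
    (hE : ∀ g ∈ E, α g ∈ E) (hE' : ∀ g ∈ E, α⁻¹ g ∈ E) (k : ℕ) (g : E) :
    ((((hhRestrAut α E hE hE') ^ k) g : E) : Q) = (α ^ k) g := by
  induction k with
  | zero => simp
  | succ k ih =>
    rw [pow_succ', pow_succ', MulAut.mul_apply, MulAut.mul_apply, hhRestrAut_coe, ih]

theorem hh_pow_mem_of_invariant {Q : Type*} [Group Q] (α : MulAut Q) (E : Subgroup Q)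
    (hE : ∀ g ∈ E, α g ∈ E) (k : ℕ) : ∀ g ∈ E, (α ^ k) g ∈ E := by
  induction k with
  | zero => intro g hg; simpa using hg
  | succ k ih =>
    intro g hg
    rw [pow_succ', MulAut.mul_apply]
    exact hE _ (ih g hg)

/-- restriction of a representation to an invariant subspace -/
def hhResRep {K : Type*} [Field K] {Q : Type*} [Group Q] {V : Type*} [AddCommGroup V]
    [Module K V] (ρ : Q →* Module.End K V) (U : Submodule K V)
    (hU : ∀ g, ∀ v ∈ U, ρ g v ∈ U) : Q →* Module.End K U where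
  toFun g := (ρ g).restrict (hU g)
  map_one' := by
    ext v
    simp
  map_mul' g h := by
    ext v
    simp

theorem hhResRep_coe {K : Type*} [Field K] {Q : Type*} [Group Q] {V : Type*} [AddCommGroup V]
    [Module K V] (ρ : Q →* Module.End K V) (U : Submodule K V)
    (hU : ∀ g, ∀ v ∈ U, ρ g v ∈ U) (g : Q) (u : U) :
    ((hhResRep ρ U hU g u : U) : V) = ρ g u := rfl

/-- the representation on a quotient by an invariant subspace -/
def hhQuotRep {K : Type*} [Field K] {Q : Type*} [Group Q] {V : Type*} [AddCommGroup V]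
    [Module K V] (ρ : Q →* Module.End K V) (U : Submodule K V)
    (hU : ∀ g, ∀ v ∈ U, ρ g v ∈ U) : Q →* Module.End K (V ⧸ U) where
  toFun g := U.mapQ U (ρ g) (fun v hv => hU g v hv)
  map_one' := by
    ext v
    simp
  map_mul' g h := by
    ext v
    simp

theorem hhQuotRep_mk {K : Type*} [Field K] {Q : Type*} [Group Q] {V : Type*} [AddCommGroup V]
    [Module K V] (ρ : Q →* Module.End K V) (U : Submodule K V)
    (hU : ∀ g, ∀ v ∈ U, ρ g v ∈ U) (g : Q) (v : V) :
    hhQuotRep ρ U hU g (Submodule.Quotient.mk v) = Submodule.Quotient.mk (ρ g v) := rfl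

namespace HHTwData

variable {K : Type*} [Field K] {p n : ℕ} {Q : Type*} [Group Q] {V : Type*} [AddCommGroup V]
  [Module K V] (D : HHTwData K p n Q V)

/-- the power of `α` of order dividing `p` -/
def β : MulAut Q := D.α ^ (p ^ (n - 1))

/-- the non-commuting hypothesis -/
def NC : Prop := ∃ g, D.ρ (D.β g) ≠ D.ρ g

/-- irreducibility under `ρ(Q)` and `X` -/
def Irr : Prop := ∀ W : Submodule K V, (∀ g, ∀ v ∈ W, D.ρ g v ∈ W) → (∀ v ∈ W, D.X v ∈ W) →
  W = ⊥ ∨ W = ⊤

theorem tw_pow (i : ℕ) (g : Q) : D.X ^ i * D.ρ g = D.ρ ((D.α ^ i) g) * D.X ^ i := by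
  induction i generalizing g with
  | zero => simp
  | succ i ih =>
    calc D.X ^ (i + 1) * D.ρ g = D.X ^ i * (D.X * D.ρ g) := by rw [pow_succ, mul_assoc]
      _ = D.X ^ i * D.ρ (D.α g) * D.X := by rw [D.htw, mul_assoc]
      _ = D.ρ ((D.α ^ i) (D.α g)) * (D.X ^ i * D.X) := by rw [ih, mul_assoc]
      _ = D.ρ ((D.α ^ (i + 1)) g) * D.X ^ (i + 1) := by
          rw [← pow_succ, pow_succ D.α, MulAut.mul_apply]

theorem comm_XX' : Commute D.X D.X' := by
  show D.X * D.X' = D.X' * D.X
  rw [D.hXX', D.hX'X]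

theorem X_pow_mul (i : ℕ) : D.X ^ i * D.X' ^ i = 1 := by
  rw [← D.comm_XX'.mul_pow, D.hXX', one_pow]

theorem X'_pow_mul (i : ℕ) : D.X' ^ i * D.X ^ i = 1 := by
  rw [← D.comm_XX'.symm.mul_pow, D.hX'X, one_pow]

theorem X'_pow_n : D.X' ^ (p ^ n) = 1 := by
  have := D.X'_pow_mul (p ^ n)
  rwa [D.hXn, mul_one] at this

theorem X'_eq (hp : 0 < p) : D.X' = D.X ^ (p ^ n - 1) := by
  have h1 : p ^ n = (p ^ n - 1) + 1 := by
    have := pow_pos hp n
    omega
  calc D.X' = D.X' * D.X ^ (p ^ n) := by rw [D.hXn, mul_one]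
    _ = D.X' * (D.X * D.X ^ (p ^ n - 1)) := by rw [← pow_succ', ← h1]
    _ = (D.X' * D.X) * D.X ^ (p ^ n - 1) := by rw [mul_assoc]
    _ = D.X ^ (p ^ n - 1) := by rw [D.hX'X, one_mul]

theorem tw' (g : Q) : D.X' * D.ρ g = D.ρ (D.α⁻¹ g) * D.X' := by
  have h := D.htw (D.α⁻¹ g)
  rw [MulAut.apply_inv_self] at h
  calc D.X' * D.ρ g = D.X' * D.ρ g * (D.X * D.X') := by rw [D.hXX', mul_one]
    _ = D.X' * (D.ρ g * D.X) * D.X' := by simp only [mul_assoc]
    _ = D.X' * (D.X * D.ρ (D.α⁻¹ g)) * D.X' := by rw [h]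
    _ = (D.X' * D.X) * D.ρ (D.α⁻¹ g) * D.X' := by simp only [mul_assoc]
    _ = D.ρ (D.α⁻¹ g) * D.X' := by rw [D.hX'X, one_mul]

theorem conj_pow (i : ℕ) (g : Q) : D.ρ ((D.α ^ i) g) = D.X ^ i * D.ρ g * D.X' ^ i := by
  rw [D.tw_pow, mul_assoc, D.X_pow_mul, mul_one]

/-- passage to `p`-th powers -/
def powP (hn : 1 ≤ n) : HHTwData K p (n - 1) Q V where
  α := D.α ^ p
  ρ := D.ρ
  X := D.X ^ p
  X' := D.X' ^ p
  hXX' := D.X_pow_mul p
  hX'X := D.X'_pow_mul p
  hXn := by
    rw [← pow_mul, ← pow_succ', Nat.sub_add_cancel hn, D.hXn]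
  hαn := by
    rw [← pow_mul, ← pow_succ', Nat.sub_add_cancel hn, D.hαn]
  htw := D.tw_pow p

theorem X'_mem (hp : 0 < p) (U : Submodule K V) (hX : ∀ v ∈ U, D.X v ∈ U) :
    ∀ v ∈ U, D.X' v ∈ U := by
  intro v hv
  rw [D.X'_eq hp]
  have : ∀ k : ℕ, ∀ v ∈ U, (D.X ^ k) v ∈ U := by
    intro k
    induction k with
    | zero => intro v hv; simpa using hv
    | succ k ih =>
      intro v hv
      rw [pow_succ', Module.End.mul_apply]
      exact hX _ (ih v hv)
  exact this _ v hv

/-- restriction to an invariant subspace -/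
def sub (hp : 0 < p) (U : Submodule K V) (hρ : ∀ g, ∀ v ∈ U, D.ρ g v ∈ U)
    (hX : ∀ v ∈ U, D.X v ∈ U) : HHTwData K p n Q U where
  α := D.α
  ρ := hhResRep D.ρ U hρ
  X := D.X.restrict hX
  X' := D.X'.restrict (D.X'_mem hp U hX)
  hXX' := by
    ext v
    have := congrArg (fun f => f (v : V)) D.hXX'
    simpa [LinearMap.coe_restrict_apply] using this
  hX'X := by
    ext v
    have := congrArg (fun f => f (v : V)) D.hX'X
    simpa [LinearMap.coe_restrict_apply] using this
  hXn := by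
    ext v
    have h1 := hh_intertwine_pow' U.subtype (D.X.restrict hX) D.X (fun v => rfl) (p ^ n) v
    rw [D.hXn] at h1
    simpa using h1
  hαn := D.hαn
  htw := by
    intro g
    ext v
    have := congrArg (fun f => f (v : V)) (D.htw g)
    simpa [LinearMap.coe_restrict_apply, hhResRep_coe] using this

/-- the quotient by an invariant subspace -/
def quot (hp : 0 < p) (U : Submodule K V) (hρ : ∀ g, ∀ v ∈ U, D.ρ g v ∈ U)
    (hX : ∀ v ∈ U, D.X v ∈ U) : HHTwData K p n Q (V ⧸ U) where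
  α := D.α
  ρ := hhQuotRep D.ρ U hρ
  X := U.mapQ U D.X (fun v hv => hX v hv)
  X' := U.mapQ U D.X' (fun v hv => D.X'_mem hp U hX v hv)
  hXX' := by
    ext v
    have := congrArg (fun f => f v) D.hXX'
    simp only [Module.End.mul_apply, Module.End.one_apply] at this
    simp [this]
  hX'X := by
    ext v
    have := congrArg (fun f => f v) D.hX'X
    simp only [Module.End.mul_apply, Module.End.one_apply] at this
    simp [this]
  hXn := by
    ext v
    have h1 := hh_intertwine_pow' U.mkQ D.X (U.mapQ U D.X (fun v hv => hX v hv))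
      (fun v => rfl) (p ^ n) v
    rw [D.hXn] at h1
    simpa using h1.symm
  hαn := D.hαn
  htw := by
    intro g
    ext v
    have := congrArg (fun f => f v) (D.htw g)
    simp only [Module.End.mul_apply] at this
    simp [hhQuotRep_mk, this]

theorem inv_mem_of_invariant (hp : 0 < p) (E : Subgroup Q) (hE : ∀ g ∈ E, D.α g ∈ E) :
    ∀ g ∈ E, D.α⁻¹ g ∈ E := by
  have h1 : D.α⁻¹ = D.α ^ (p ^ n - 1) := by
    have h2 : p ^ n = (p ^ n - 1) + 1 := by
      have := pow_pos hp n
      omega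
    have h3 := D.hαn
    rw [h2, pow_succ] at h3
    exact inv_eq_of_mul_eq_one_left h3
  rw [h1]
  exact hh_pow_mem_of_invariant D.α E hE _

/-- restriction to an `α`-invariant subgroup -/
def resGroup (hp : 0 < p) (E : Subgroup Q) (hE : ∀ g ∈ E, D.α g ∈ E) : HHTwData K p n E V where
  α := hhRestrAut D.α E hE (D.inv_mem_of_invariant hp E hE)
  ρ := D.ρ.comp E.subtype
  X := D.X
  X' := D.X'
  hXX' := D.hXX'
  hX'X := D.hX'X
  hXn := D.hXn
  hαn := by
    ext g
    rw [hhRestrAut_pow_coe, D.hαn]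
    rfl
  htw := by
    intro g
    exact D.htw g

end HHTwData

end Cfsg.Agent.Lib.Helper13
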