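import Mathlib
import Cfsg.Agent.Lib.Helper13.HHBData

/-!
# Pieces of the proof of Hall–Higman's Theorem B in twisted form (helper13)
-/

set_option autoImplicit false
set_option linter.style.haveILetI false

namespace Cfsg.Agent.Lib.Helper13

open Module

section Pieces

variable {K : Type*} [Field K] {Q : Type*} [Group Q] {V : Type*} [AddCommGroup V] [Module K V]

/-- an element of a finite group of order invertible in `K` acting unipotently of index two
acts trivially -/
theorem hh_unipotent_trivial [Finite Q] (ρ : Q →* Module.End K V)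
    (hcard : ((Nat.card Q : ℕ) : K) ≠ 0) (k : Q) (h : (ρ k - 1) ^ 2 = 0) : ρ k = 1 := by
  set N := ρ k - 1 with hN
  have hNN : N * N = 0 := by rw [← sq]; exact h
  have hk : ρ k = 1 + N := by rw [hN]; abel
  have hpow : ∀ m : ℕ, (1 + N) ^ m = 1 + m • N := by
    intro m
    induction m with
    | zero => simp
    | succ m ih =>
      rw [pow_succ, ih, mul_add, mul_one, add_mul, one_mul, smul_mul_assoc, hNN, smul_zero,
        add_zero, succ_nsmul]
      abel
  have h1 : ρ k ^ Nat.card Q = 1 := by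
    rw [← map_pow, pow_card_eq_one', map_one]
  rw [hk, hpow] at h1
  have h2 : (Nat.card Q) • N = 0 := by
    have := congrArg (fun a => a - 1) h1
    simpa using this
  rw [← Nat.cast_smul_eq_nsmul K] at h2
  rcases smul_eq_zero.1 h2 with h3 | h3
  · exact absurd h3 hcard
  · rw [hk, h3, add_zero]

/-- **Maschke-type lemma**: if the commutant of `ρ(Q)` consists of scalars then `ρ` is
irreducible -/
theorem hh_irr_of_commutant [Finite Q] (ρ : Q →* Module.End K V)
    (hcard : ((Nat.card Q : ℕ) : K) ≠ 0)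
    (hC : ∀ a : Module.End K V, (∀ g, ρ g * a = a * ρ g) → ∃ c : K, a = c • 1) : HHIrr ρ := by
  classical
  haveI : Fintype Q := Fintype.ofFinite Q
  intro W hW
  by_cases hbot : W = ⊥
  · exact Or.inl hbot
  right
  have hWmem : ∀ g, ∀ w ∈ W, ρ g w ∈ W := fun g w hw => hW g ⟨w, hw, rfl⟩
  obtain ⟨f, hf⟩ := LinearMap.exists_leftInverse_of_injective W.subtype
    (LinearMap.ker_eq_bot.2 W.injective_subtype)
  set π0 : Module.End K V := W.subtype ∘ₗ f with hπ0
  have hπ0W : ∀ w ∈ W, π0 w = w := by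
    intro w hw
    have := congrArg (fun l => l ⟨w, hw⟩) hf
    simp only [LinearMap.comp_apply, LinearMap.id_apply] at this
    rw [hπ0, LinearMap.comp_apply]
    show ((f w : W) : V) = w
    have h2 : f (W.subtype ⟨w, hw⟩) = ⟨w, hw⟩ := this
    have h3 : W.subtype ⟨w, hw⟩ = w := rfl
    rw [h3] at h2
    rw [h2]
  have hπ0mem : ∀ v, π0 v ∈ W := fun v => (f v).2
  set a : Module.End K V := ∑ g : Q, ρ g * π0 * ρ g⁻¹ with ha
  obtain ⟨c, hc⟩ := hC a (fun h => hh_avgT_commute ρ π0 h)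
  have haW : ∀ w ∈ W, a w = (Fintype.card Q) • w := by
    intro w hw
    rw [ha, LinearMap.sum_apply]
    have : ∀ g ∈ (Finset.univ : Finset Q), (ρ g * π0 * ρ g⁻¹) w = w := by
      intro g _
      rw [Module.End.mul_apply, Module.End.mul_apply, hπ0W _ (hWmem g⁻¹ w hw),
        ← Module.End.mul_apply, hh_rho_mul_inv]
      rfl
    rw [Finset.sum_congr rfl this, Finset.sum_const, Finset.card_univ]
  have hamem : ∀ v, a v ∈ W := by
    intro v
    rw [ha, LinearMap.sum_apply]
    refine Submodule.sum_mem _ fun g _ => ?_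
    rw [Module.End.mul_apply, Module.End.mul_apply]
    exact hWmem g _ (hπ0mem _)
  obtain ⟨w, hw, hw0⟩ := (Submodule.ne_bot_iff W).1 hbot
  have hcc : c = ((Fintype.card Q : ℕ) : K) := by
    have h1 := haW w hw
    rw [hc, LinearMap.smul_apply, Module.End.one_apply, ← Nat.cast_smul_eq_nsmul K] at h1
    have h2 : (c - ((Fintype.card Q : ℕ) : K)) • w = 0 := by rw [sub_smul, h1, sub_self]
    rcases smul_eq_zero.1 h2 with h3 | h3
    · exact sub_eq_zero.1 h3
    · exact absurd h3 hw0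
  have hc0 : c ≠ 0 := by
    rw [hcc, ← Nat.card_eq_fintype_card]; exact hcard
  rw [eq_top_iff]
  intro v _
  have h1 := hamem (c⁻¹ • v)
  rw [hc, LinearMap.smul_apply, Module.End.one_apply, smul_smul, mul_inv_cancel₀ hc0,
    one_smul] at h1
  exact h1

end Pieces

namespace HHTwData

variable {K : Type*} [Field K] {p n : ℕ} {Q : Type*} [Group Q] {V : Type*} [AddCommGroup V]
  [Module K V] (D : HHTwData K p n Q V)

/-- the non-commuting hypothesis passes to an invariant subspace or to the quotient -/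
theorem NC_sub_or_quot [Finite Q] (hp : 0 < p) (hcard : ((Nat.card Q : ℕ) : K) ≠ 0)
    (U : Submodule K V) (hρ : ∀ g, ∀ v ∈ U, D.ρ g v ∈ U) (hX : ∀ v ∈ U, D.X v ∈ U)
    (h : D.NC) : (D.sub hp U hρ hX).NC ∨ (D.quot hp U hρ hX).NC := by
  by_contra hcon
  push Not at hcon
  obtain ⟨hs, hq⟩ := hcon
  obtain ⟨g, hg⟩ := h
  have hs' : ∀ u ∈ U, D.ρ (D.β g) u = D.ρ g u := by
    intro u hu
    have h1 : (D.sub hp U hρ hX).ρ ((D.sub hp U hρ hX).β g) = (D.sub hp U hρ hX).ρ g := by
      by_contra h2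
      exact hs ⟨g, h2⟩
    have h3 := congrArg (fun f => ((f ⟨u, hu⟩ : U) : V)) h1
    exact h3
  have hq' : ∀ v, D.ρ (D.β g) v - D.ρ g v ∈ U := by
    intro v
    have h1 : (D.quot hp U hρ hX).ρ ((D.quot hp U hρ hX).β g) = (D.quot hp U hρ hX).ρ g := by
      by_contra h2
      exact hq ⟨g, h2⟩
    have h3 := congrArg (fun f => f (Submodule.Quotient.mk v)) h1
    have h4 : (Submodule.Quotient.mk (D.ρ (D.β g) v) : V ⧸ U) =
        Submodule.Quotient.mk (D.ρ g v) := h3
    exact (Submodule.Quotient.eq U).1 h4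
  set k := g⁻¹ * D.β g with hk
  have hρk : D.ρ k = D.ρ g⁻¹ * D.ρ (D.β g) := by rw [hk, map_mul]
  have hU1 : ∀ u ∈ U, D.ρ k u = u := by
    intro u hu
    rw [hρk, Module.End.mul_apply, hs' u hu, ← Module.End.mul_apply, hh_rho_inv_mul]
    rfl
  have hV1 : ∀ v, D.ρ k v - v ∈ U := by
    intro v
    have h1 := hρ g⁻¹ _ (hq' v)
    rw [map_sub, ← Module.End.mul_apply, ← Module.End.mul_apply, hh_rho_inv_mul, ← hρk] at h1
    exact h1
  have hsq : (D.ρ k - 1) ^ 2 = 0 := by
    ext v
    rw [sq, Module.End.mul_apply]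
    have h1 : (D.ρ k - 1) v = D.ρ k v - v := rfl
    rw [h1]
    have h2 := hU1 _ (hV1 v)
    show (D.ρ k - 1) (D.ρ k v - v) = 0
    rw [LinearMap.sub_apply, h2]
    simp
  have h1 := hh_unipotent_trivial D.ρ hcard k hsq
  apply hg
  have : D.β g = g * k := by rw [hk]; group
  rw [this, map_mul, h1, mul_one]

/-- the commutant of `ρ(Q)` is stable under conjugation by `X` -/
theorem commutant_conj (b : Module.End K V) (hb : ∀ g, D.ρ g * b = b * D.ρ g) (g : Q) :
    D.ρ g * (D.X * b * D.X') = (D.X * b * D.X') * D.ρ g := by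
  have h1 : D.ρ g * D.X = D.X * D.ρ (D.α⁻¹ g) := by
    have := D.htw (D.α⁻¹ g)
    rw [MulAut.apply_inv_self] at this
    exact this.symm
  calc D.ρ g * (D.X * b * D.X') = (D.ρ g * D.X) * b * D.X' := by simp only [mul_assoc]
    _ = D.X * (D.ρ (D.α⁻¹ g) * b) * D.X' := by rw [h1]; simp only [mul_assoc]
    _ = D.X * b * (D.ρ (D.α⁻¹ g) * D.X') := by rw [hb]; simp only [mul_assoc]
    _ = (D.X * b * D.X') * D.ρ g := by rw [← D.tw']; simp only [mul_assoc]

/-- Schur's lemma for `ρ(Q)` together with `X` -/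
theorem schurX [IsAlgClosed K] [FiniteDimensional K V] [Nontrivial V] (hirr : D.Irr)
    (b : Module.End K V) (hb : ∀ g, D.ρ g * b = b * D.ρ g) (hbX : D.X * b = b * D.X) :
    ∃ c : K, b = c • 1 := by
  apply hh_schur (Set.range D.ρ ∪ {D.X}) _ b
  · rintro a (⟨g, rfl⟩ | ha)
    · exact hb g
    · rw [Set.mem_singleton_iff] at ha
      rw [ha]; exact hbX
  · intro W hW
    apply hirr W
    · intro g v hv
      exact hW (D.ρ g) (Or.inl ⟨g, rfl⟩) ⟨v, hv, rfl⟩
    · intro v hv
      exact hW D.X (Or.inr rfl) ⟨v, hv, rfl⟩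

/-- **The dichotomy**: if `V` is irreducible under `ρ(Q)` and `X` and the commutant of `ρ(Q)` is
not reduced to the scalars, it contains an element `c` with `X c X⁻¹ = c + 1`. -/
theorem exists_shift [Fact p.Prime] [CharP K p] [IsAlgClosed K] [FiniteDimensional K V]
    [Nontrivial V] (hirr : D.Irr) (a : Module.End K V) (ha : ∀ g, D.ρ g * a = a * D.ρ g)
    (hna : ¬ ∃ c : K, a = c • 1) :
    ∃ c : Module.End K V, (∀ g, D.ρ g * c = c * D.ρ g) ∧ D.X * c * D.X' = c + 1 := by
  classical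
  set σ := hhSigma D.X D.X' with hσ
  set T : Module.End K (Module.End K V) := σ - 1 with hT
  have hσn : σ ^ (p ^ n) = 1 := by
    ext w : 1
    rw [hσ, hhSigma_pow_apply, D.hXn, D.X'_pow_n]; simp
  have hTn : T ^ (p ^ n) = 0 := by
    rw [hT, hh_sub_one_pow (K := K) p σ n, hσn, sub_self]
  have hTapp : ∀ b : Module.End K V, T b = D.X * b * D.X' - b := by
    intro b
    rw [hT, LinearMap.sub_apply, hσ, hhSigma_apply]; rfl
  have hTzero : ∀ b : Module.End K V, T b = 0 → D.X * b = b * D.X := by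
    intro b h
    rw [hTapp, sub_eq_zero] at h
    calc D.X * b = D.X * b * (D.X' * D.X) := by rw [D.hX'X, mul_one]
      _ = (D.X * b * D.X') * D.X := by simp only [mul_assoc]
      _ = b * D.X := by rw [h]
  have hTC : ∀ b : Module.End K V, (∀ g, D.ρ g * b = b * D.ρ g) →
      ∀ g, D.ρ g * T b = T b * D.ρ g := by
    intro b hb g
    rw [hTapp, mul_sub, sub_mul, D.commutant_conj b hb g, hb g]
  have hTkC : ∀ k : ℕ, ∀ g, D.ρ g * (T ^ k) a = (T ^ k) a * D.ρ g := by
    intro k
    induction k with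
    | zero => simpa using ha
    | succ k ih =>
      rw [pow_succ', Module.End.mul_apply]
      exact hTC _ ih
  have hex : ∃ k : ℕ, (T ^ k) a = 0 := ⟨p ^ n, by rw [hTn]; rfl⟩
  set k := Nat.find hex with hk
  have hk0 : (T ^ k) a = 0 := Nat.find_spec hex
  have hkmin : ∀ j < k, (T ^ j) a ≠ 0 := fun j hj => Nat.find_min hex hj
  have hkne0 : k ≠ 0 := by
    intro h0
    rw [h0, pow_zero, Module.End.one_apply] at hk0
    exact hna ⟨0, by rw [hk0, zero_smul]⟩
  have hkne1 : k ≠ 1 := by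
    intro h1
    rw [h1, pow_one] at hk0
    exact hna (D.schurX hirr a ha (hTzero a hk0))
  have hk2 : 2 ≤ k := by omega
  set c' := (T ^ (k - 2)) a with hc'
  have hTc' : T c' = (T ^ (k - 1)) a := by
    rw [hc', ← Module.End.mul_apply, ← pow_succ']
    congr 2; omega
  have hTTc' : T (T c') = 0 := by
    rw [hTc', ← Module.End.mul_apply, ← pow_succ']
    have : k - 1 + 1 = k := by omega
    rw [this, hk0]
  have hTc'ne : T c' ≠ 0 := by
    rw [hTc']; exact hkmin _ (by omega)
  have hc'C : ∀ g, D.ρ g * c' = c' * D.ρ g := hTkC _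
  obtain ⟨l, hl⟩ := D.schurX hirr (T c') (hTC c' hc'C) (hTzero _ hTTc')
  have hl0 : l ≠ 0 := by
    intro h0
    rw [h0, zero_smul] at hl
    exact hTc'ne hl
  refine ⟨l⁻¹ • c', fun g => ?_, ?_⟩
  · rw [mul_smul_comm, smul_mul_assoc, hc'C g]
  · have h1 : T (l⁻¹ • c') = 1 := by
      rw [map_smul, hl, smul_smul, inv_mul_cancel₀ hl0, one_smul]
    rw [hTapp] at h1
    rw [← h1]; abel

end HHTwData

end Cfsg.Agent.Lib.Helper13
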