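import Mathlib
import Cfsg.Agent.Lib.Helper13.HHBPieces

/-!
# Theorem B in twisted form: the imprimitive case (helper13)

If `c` commutes with `ρ(Q)` and `X c X⁻¹ = c + 1`, the eigenspaces of `c` are `Q`-invariant blocks
permuted by `X` in cycles of length `p`.
-/

set_option autoImplicit false
set_option linter.style.haveILetI false

namespace Cfsg.Agent.Lib.Helper13

open Module

namespace HHTwData

variable {K : Type*} [Field K] {p n : ℕ} {Q : Type*} [Group Q] {V : Type*} [AddCommGroup V]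
  [Module K V] (D : HHTwData K p n Q V)

/-- the blocks -/
def blk (c : Module.End K V) (μ : K) (j : ℕ) : Submodule K V :=
  Module.End.eigenspace c (μ - (j : K))

theorem mem_blk (c : Module.End K V) (μ : K) (j : ℕ) (v : V) :
    v ∈ blk c μ j ↔ c v = (μ - (j : K)) • v := by
  rw [blk, Module.End.mem_eigenspace_iff]

section

variable (c : Module.End K V) (hc : ∀ g, D.ρ g * c = c * D.ρ g)
  (hXc : D.X * c * D.X' = c + 1) (μ : K)

include hc in
theorem ρ_map_blk (j : ℕ) (g : Q) (v : V) (hv : v ∈ blk c μ j) : D.ρ g v ∈ blk c μ j := by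
  rw [mem_blk] at hv ⊢
  have := congrArg (fun f => f v) (hc g)
  simp only [Module.End.mul_apply] at this
  rw [← this, hv, map_smul]

include hXc in
theorem X_map_blk (j : ℕ) (v : V) (hv : v ∈ blk c μ j) : D.X v ∈ blk c μ (j + 1) := by
  rw [mem_blk] at hv ⊢
  have h1 : D.X * c = (c + 1) * D.X := by
    rw [← hXc]
    simp only [mul_assoc, D.hX'X, mul_one]
  have h2 := congrArg (fun f => f v) h1
  simp only [Module.End.mul_apply, LinearMap.add_apply, Module.End.one_apply] at h2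
  rw [hv, map_smul] at h2
  have h3 : c (D.X v) = (μ - (j : K)) • D.X v - D.X v := by rw [h2]; abel
  rw [h3]
  push_cast
  rw [← sub_sub, sub_smul (μ - (j : K) : K) 1 (D.X v), one_smul]

include hXc in
theorem X'_map_blk (j : ℕ) (v : V) (hv : v ∈ blk c μ (j + 1)) : D.X' v ∈ blk c μ j := by
  rw [mem_blk] at hv ⊢
  have h1 : c * D.X' = D.X' * (c + 1) := by
    rw [← hXc]
    simp only [← mul_assoc, D.hX'X, one_mul]
  have h2 := congrArg (fun f => f v) h1
  simp only [Module.End.mul_apply, LinearMap.add_apply, Module.End.one_apply] at h2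
  rw [h2, hv, map_add, map_smul]
  push_cast
  have : (μ - ((j : K) + 1)) • D.X' v + D.X' v = ((μ - ((j : K) + 1)) + 1) • D.X' v := by
    rw [add_smul, one_smul]
  rw [this]
  congr 1
  ring

theorem blk_add_p [CharP K p] (j : ℕ) : blk c μ (j + p) = blk c μ j := by
  unfold blk
  congr 2
  push_cast
  rw [CharP.cast_eq_zero K p, add_zero]

include hXc in
theorem Xpow_map_blk (i j : ℕ) (v : V) (hv : v ∈ blk c μ j) : (D.X ^ i) v ∈ blk c μ (j + i) := by
  induction i with
  | zero => simpa using hv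
  | succ i ih =>
    rw [pow_succ', Module.End.mul_apply, ← add_assoc]
    exact D.X_map_blk c hXc μ _ _ ih

include hXc in
theorem X'pow_map_blk (i j : ℕ) (v : V) (hv : v ∈ blk c μ (j + i)) :
    (D.X' ^ i) v ∈ blk c μ j := by
  induction i generalizing v with
  | zero => simpa using hv
  | succ i ih =>
    rw [pow_succ, Module.End.mul_apply]
    apply ih
    rw [← add_assoc] at hv
    exact D.X'_map_blk c hXc μ _ _ hv

theorem Xpow_injective (i : ℕ) (v : V) (hv : (D.X ^ i) v = 0) : v = 0 := by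
  have := congrArg (fun f => f v) (D.X'_pow_mul i)
  simp only [Module.End.mul_apply, Module.End.one_apply] at this
  rw [← this, hv, map_zero]

theorem indep_blk [Fact p.Prime] [CharP K p] :
    iSupIndep (fun j : Fin p => blk c μ (j : ℕ)) := by
  have hinj : Function.Injective (fun j : Fin p => μ - ((j : ℕ) : K)) := by
    intro i j hij
    have h1 : ((i : ℕ) : K) = ((j : ℕ) : K) := by
      have := sub_right_injective hij
      exact this
    rw [CharP.natCast_eq_natCast K p] at h1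
    apply Fin.ext
    rw [Nat.ModEq, Nat.mod_eq_of_lt i.2, Nat.mod_eq_of_lt j.2] at h1
    exact h1
  exact (Module.End.eigenspaces_iSupIndep c).comp hinj

include hXc in
theorem sum_pow_ne_zero [Fact p.Prime] [CharP K p] (w : V) (hw : w ∈ blk c μ 0) (hw0 : w ≠ 0) :
    ∑ i ∈ Finset.range p, (D.X ^ i) w ≠ 0 := by
  have hp : p.Prime := Fact.out
  have hli : LinearIndependent K (fun i : Fin p => (D.X ^ (i : ℕ)) w) := by
    apply iSupIndep.linearIndependent _ (indep_blk (p := p) c μ)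
    · intro i
      have := D.Xpow_map_blk c hXc μ (i : ℕ) 0 w hw
      rwa [zero_add] at this
    · intro i h0
      exact hw0 (D.Xpow_injective _ w h0)
  intro h0
  rw [← Fin.sum_univ_eq_sum_range (fun i => (D.X ^ i) w) p] at h0
  have h1 := Fintype.linearIndependent_iff.1 hli (fun _ => 1) (by simpa using h0) ⟨0, hp.pos⟩
  exact one_ne_zero h1

include hXc in
/-- the nilpotency index of `X - 1` is at least `p` times that of `X^p - 1` on a block -/
theorem pow_ne_zero_of_block [Fact p.Prime] [CharP K p] (r₁ : ℕ) (hr₁ : 1 ≤ r₁) (w : V)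
    (hw : w ∈ blk c μ 0) (hw0 : ((D.X ^ p - 1) ^ (r₁ - 1)) w ≠ 0) :
    (D.X - 1) ^ (p * r₁ - 1) ≠ 0 := by
  have hp : p.Prime := Fact.out
  have hmap : ∀ v ∈ blk c μ 0, (D.X ^ p - 1) v ∈ blk c μ 0 := by
    intro v hv
    rw [LinearMap.sub_apply, Module.End.one_apply]
    refine Submodule.sub_mem _ ?_ hv
    have := D.Xpow_map_blk c hXc μ p 0 v hv
    rwa [blk_add_p] at this
  have hmapk : ∀ k : ℕ, ∀ v ∈ blk c μ 0, ((D.X ^ p - 1) ^ k) v ∈ blk c μ 0 := by
    intro k
    induction k with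
    | zero => intro v hv; simpa using hv
    | succ k ih =>
      intro v hv
      rw [pow_succ', Module.End.mul_apply]
      exact hmap _ (ih v hv)
  have h1 : (D.X - 1) ^ (p * r₁ - 1) = (D.X - 1) ^ (p - 1) * (D.X ^ p - 1) ^ (r₁ - 1) := by
    have h2 : (D.X - 1) ^ p = D.X ^ p - 1 := by
      have := hh_sub_one_pow (K := K) p D.X 1
      rwa [pow_one] at this
    rw [← h2, ← pow_mul, ← pow_add]
    congr 1
    have hp1 := hp.pos
    obtain ⟨t, rfl⟩ : ∃ t, r₁ = t + 1 := ⟨r₁ - 1, by omega⟩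
    rw [Nat.add_sub_cancel, mul_add, mul_one]
    omega
  have h3 : (D.X - 1) ^ (p - 1) = ∑ i ∈ Finset.range p, D.X ^ i := by
    have := hh_geom (K := K) p D.X 1
    rwa [pow_one] at this
  intro h0
  have h4 := congrArg (fun f => f w) h0
  simp only [LinearMap.zero_apply] at h4
  rw [h1, Module.End.mul_apply, h3, LinearMap.sum_apply] at h4
  exact D.sum_pow_ne_zero c hXc μ _ (hmapk _ w hw) hw0 h4

include hXc in
theorem blk_zero_ne_top (hB0 : blk c μ 0 ≠ ⊥) : blk c μ 0 ≠ ⊤ := by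
  intro htop
  obtain ⟨w, hw, hw0⟩ := (Submodule.ne_bot_iff _).1 hB0
  have h1 := D.X_map_blk c hXc μ 0 w hw
  have h2 : D.X w ∈ blk c μ 0 := by rw [htop]; trivial
  rw [mem_blk] at h1 h2
  rw [h2] at h1
  have h3 : ((μ - ((0 : ℕ) : K)) - (μ - ((0 + 1 : ℕ) : K))) • D.X w = 0 := by
    rw [sub_smul, ← h1, sub_self]
  have h4 : ((μ - ((0 : ℕ) : K)) - (μ - ((0 + 1 : ℕ) : K))) = 1 := by
    push_cast; ring
  rw [h4, one_smul] at h3
  have := D.Xpow_injective 1 w (by rwa [pow_one])
  exact hw0 this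

include hc hXc in
theorem iSup_blk_eq_top [Fact p.Prime] [CharP K p] (hirr : D.Irr) (hB0 : blk c μ 0 ≠ ⊥) :
    ⨆ j : Fin p, blk c μ (j : ℕ) = ⊤ := by
  have hp : p.Prime := Fact.out
  set U := ⨆ j : Fin p, blk c μ (j : ℕ) with hU
  have hle : ∀ j : Fin p, blk c μ (j : ℕ) ≤ U := fun j => le_iSup (fun j : Fin p => blk c μ j) j
  have hinv1 : ∀ g, ∀ v ∈ U, D.ρ g v ∈ U := by
    intro g
    show U ≤ U.comap (D.ρ g)
    rw [hU]
    refine iSup_le fun j v hv => ?_
    exact hle j (D.ρ_map_blk c hc μ j g v hv)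
  have hinv2 : ∀ v ∈ U, D.X v ∈ U := by
    show U ≤ U.comap D.X
    rw [hU]
    refine iSup_le fun j v hv => ?_
    have h1 := D.X_map_blk c hXc μ j v hv
    by_cases hj : (j : ℕ) + 1 < p
    · exact hle ⟨(j : ℕ) + 1, hj⟩ h1
    · have hjp : (j : ℕ) + 1 = 0 + p := by have := j.2; omega
      rw [hjp, blk_add_p] at h1
      exact hle ⟨0, hp.pos⟩ h1
  rcases hirr U hinv1 hinv2 with h | h
  · exfalso
    apply hB0
    rw [eq_bot_iff, ← h]
    exact hle ⟨0, hp.pos⟩
  · exact h

include hc hXc in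
/-- agreement on one block implies agreement everywhere -/
theorem eq_of_eq_on_blk [Fact p.Prime] [CharP K p] (hirr : D.Irr) (hB0 : blk c μ 0 ≠ ⊥)
    (h : ∀ g, ∀ w ∈ blk c μ 0, D.ρ (D.β g) w = D.ρ g w) (g : Q) : D.ρ (D.β g) = D.ρ g := by
  have htop := D.iSup_blk_eq_top c hc hXc μ hirr hB0
  have hconj : ∀ (j : ℕ) (g' : Q) (w : V),
      D.ρ g' ((D.X ^ j) w) = (D.X ^ j) (D.ρ ((D.α ^ j)⁻¹ g') w) := by
    intro j g' w
    have := congrArg (fun f => f w) (D.tw_pow j ((D.α ^ j)⁻¹ g'))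
    simp only [Module.End.mul_apply, MulAut.apply_inv_self] at this
    exact this.symm
  have hcomm : ∀ (j : ℕ) (g' : Q), (D.α ^ j)⁻¹ (D.β g') = D.β ((D.α ^ j)⁻¹ g') := by
    intro j g'
    have h1 : (D.α ^ j)⁻¹ * D.β = D.β * (D.α ^ j)⁻¹ :=
      ((Commute.pow_pow_self D.α j (p ^ (n - 1))).inv_left).eq
    exact congrArg (fun a : MulAut Q => a g') h1
  ext v
  have hv : v ∈ ⨆ j : Fin p, blk c μ (j : ℕ) := by rw [htop]; trivial
  refine Submodule.iSup_induction (fun j : Fin p => blk c μ (j : ℕ))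
    (motive := fun v => D.ρ (D.β g) v = D.ρ g v) hv ?_ (by simp) ?_
  · intro j v hv
    have hw : (D.X' ^ (j : ℕ)) v ∈ blk c μ 0 := by
      apply D.X'pow_map_blk c hXc μ
      rwa [zero_add]
    have hvw : v = (D.X ^ (j : ℕ)) ((D.X' ^ (j : ℕ)) v) := by
      rw [← Module.End.mul_apply, D.X_pow_mul]; rfl
    rw [hvw, hconj, hconj, hcomm, h _ _ hw]
  · intro v w hv hw
    rw [map_add, map_add, hv, hw]

end

end HHTwData

end Cfsg.Agent.Lib.Helper13
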