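import Mathlib
import Cfsg.Prelude
import Cfsg.Agent.Lib.Helper01.PPrimeCore
import Cfsg.Agent.Lib.Helper02.HHDual
import Cfsg.Agent.Lib.Helper06.CoprimePairs

/-!
# Theorem B: the group-theoretic reduction (helper13)

In a finite `p`-solvable group with `O_p = 1`, an element `x` of order `p^n` (`n ≥ 1`) normalises
a `q`-subgroup (`q ≠ p`) that is not centralised by `x^(p^(n-1))`.
-/

set_option autoImplicit false
set_option linter.style.haveILetI false

namespace Cfsg.Agent.Lib.Helper13

open Cfsg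

theorem hh_exists_q_subgroup {G : Type*} [Group G] [Finite G] {p : ℕ} [Fact p.Prime]
    (hsol : IsPSolvable p G) (hOp : pCore p G = ⊥) (x : G) (n : ℕ) (hn : 1 ≤ n)
    (hx : orderOf x = p ^ n) :
    ∃ (q : ℕ) (_ : q.Prime) (Q : Subgroup G), q ≠ p ∧ IsPGroup q Q ∧
      (∀ g ∈ Q, x * g * x⁻¹ ∈ Q) ∧
      ∃ g ∈ Q, x ^ (p ^ (n - 1)) * g ≠ g * x ^ (p ^ (n - 1)) := by
  classical
  have hp : p.Prime := Fact.out
  set N := pPrimeCore p G with hN
  haveI hNn : N.Normal := Cfsg.Agent.Lib.Helper01.pPrimeCore_normal p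
  have hNc : (Nat.card N).Coprime p := Cfsg.Agent.Lib.Helper01.pPrimeCore_card_coprime p
  have hCN : Subgroup.centralizer (N : Set G) ≤ N :=
    Cfsg.Agent.Lib.Helper02.HHDual.centralizer_pPrimeCore_le hsol hOp
  set y := x ^ (p ^ (n - 1)) with hy
  have hyp : y ^ p = 1 := by
    rw [hy, ← pow_mul, ← pow_succ, Nat.sub_add_cancel hn, ← hx, pow_orderOf_eq_one]
  have hy1 : y ≠ 1 := by
    intro h
    have h1 := orderOf_dvd_of_pow_eq_one h
    rw [hx] at h1
    have h2 : p ^ n ≤ p ^ (n - 1) := Nat.le_of_dvd (pow_pos hp.pos _) h1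
    have h3 : p ^ (n - 1) < p ^ n := Nat.pow_lt_pow_right hp.one_lt (by omega)
    omega
  have hyN : y ∉ N := by
    intro h
    have h1 : (⟨y, h⟩ : N) ^ Nat.card N = 1 := pow_card_eq_one'
    have h2 : y ^ Nat.card N = 1 := by
      have h := congrArg (fun a : N => (a : G)) h1
      simp only [Subgroup.coe_pow, Subgroup.coe_one] at h
      exact h
    have h3 := orderOf_dvd_of_pow_eq_one h2
    have h4 := orderOf_dvd_of_pow_eq_one hyp
    have h5 := Nat.dvd_gcd h3 h4
    rw [Nat.Coprime] at hNc
    rw [hNc] at h5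
    exact hy1 (orderOf_eq_one_iff.1 (Nat.dvd_one.1 h5))
  by_contra hcon
  push Not at hcon
  -- then `y` centralises `N`
  apply hyN
  apply hCN
  set C := N ⊓ Subgroup.centralizer ({y} : Set G) with hC
  have hCle : C ≤ N := inf_le_left
  have hdvd : Nat.card N ∣ Nat.card C := by
    rw [← Nat.factorization_prime_le_iff_dvd Nat.card_pos.ne' Nat.card_pos.ne']
    intro q hq
    haveI : Fact q.Prime := ⟨hq⟩
    by_cases hqp : q = p
    · rw [hqp]
      have : (Nat.card N).factorization p = 0 := by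
        apply Nat.factorization_eq_zero_of_not_dvd
        intro hd
        have := Nat.Coprime.eq_one_of_dvd hNc.symm hd
        exact hp.one_lt.ne' this
      rw [this]; exact Nat.zero_le _
    · obtain ⟨Q, hQN, hQinv, hQcard⟩ := Cfsg.Agent.Lib.Helper06.exists_invariant_sylow
        (Subgroup.zpowers x) (IsPGroup.of_card (n := n) (by rw [Nat.card_zpowers, hx])) N hNc q
      have hQq : IsPGroup q Q := IsPGroup.of_card hQcard
      have hQC : Q ≤ C := by
        intro g hg
        refine ⟨hQN hg, ?_⟩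
        show g ∈ Subgroup.centralizer ({y} : Set G)
        rw [Subgroup.mem_centralizer_singleton_iff]
        by_contra hne
        have := hcon q hq Q hqp hQq (fun g hg => hQinv x (Subgroup.mem_zpowers x) g hg) g hg
        exact hne this.symm
      have h1 : Nat.card Q ∣ Nat.card C := Subgroup.card_dvd_of_le hQC
      rw [hQcard] at h1
      exact (hq.pow_dvd_iff_le_factorization Nat.card_pos.ne').1 h1
  have hCN' : C = N :=
    Subgroup.eq_of_le_of_card_ge hCle (Nat.le_of_dvd Nat.card_pos hdvd)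
  rw [Subgroup.mem_centralizer_iff]
  intro g hg
  have : g ∈ C := by rw [hCN']; exact hg
  have h1 : g ∈ Subgroup.centralizer ({y} : Set G) := this.2
  rw [Subgroup.mem_centralizer_singleton_iff] at h1
  exact h1

end Cfsg.Agent.Lib.Helper13
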