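import Mathlib
import Cfsg.Agent.Lib.Helper13.HHBPieces

/-!
# Theorem B in twisted form: the minimal case (helper13)

If `ρ` is irreducible on `Q` and every proper `α`-invariant subgroup of `Q` "commutes with `Y`",
then `ρ` is scalar on the fixed points of `β`.
-/

set_option autoImplicit false
set_option linter.style.haveILetI false

namespace Cfsg.Agent.Lib.Helper13

open Module

namespace HHTwData

variable {K : Type*} [Field K] {p n : ℕ} {Q : Type*} [Group Q] {V : Type*} [AddCommGroup V]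
  [Module K V] (D : HHTwData K p n Q V)

theorem β_comm_α (g : Q) : D.β (D.α g) = D.α (D.β g) := by
  have h1 : D.β * D.α = D.α * D.β := (Commute.pow_self D.α _).eq
  exact congrArg (fun a : MulAut Q => a g) h1

theorem ρ_β (g : Q) :
    D.ρ (D.β g) = D.X ^ (p ^ (n - 1)) * D.ρ g * D.X' ^ (p ^ (n - 1)) := D.conj_pow _ g

/-- in the minimal situation `ρ` is scalar on the fixed points of `β` -/
theorem scalar_on_fixed [Finite Q] (q : ℕ) [Fact p.Prime] [Fact q.Prime] (hpq : p ≠ q)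
    (hQ : IsPGroup q Q) [IsAlgClosed K] [FiniteDimensional K V] [Nontrivial V] (hn : 1 ≤ n)
    (hirr : HHIrr D.ρ) (hNC : D.NC)
    (hM : ∀ E : Subgroup Q, (∀ g ∈ E, D.α g ∈ E) → E ≠ ⊤ → ∀ d ∈ E, D.ρ (D.β d) = D.ρ d) :
    ∀ g, D.β g = g → ∃ c : K, D.ρ g = c • 1 := by
  classical
  have hp : p.Prime := Fact.out
  have hq : q.Prime := Fact.out
  set Y := D.X ^ (p ^ (n - 1)) with hY
  set Y' := D.X' ^ (p ^ (n - 1)) with hY'
  have hYconj : ∀ g, D.ρ (D.β g) = Y * D.ρ g * Y' := D.ρ_β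
  have hYY' : Y * Y' = 1 := D.X_pow_mul _
  have hY'Y : Y' * Y = 1 := D.X'_pow_mul _
  have hYp : Y ^ p = 1 := by
    rw [hY, ← pow_mul, ← pow_succ, Nat.sub_add_cancel hn, D.hXn]
  have hY'p : Y' ^ p = 1 := by
    rw [hY', ← pow_mul, ← pow_succ, Nat.sub_add_cancel hn, D.X'_pow_n]
  -- the fixed points of β
  let F : Subgroup Q :=
    { carrier := {g | D.β g = g}
      mul_mem' := by
        intro a b ha hb
        simp only [Set.mem_ofPred_eq] at *
        rw [map_mul, ha, hb]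
      one_mem' := by simp
      inv_mem' := by
        intro a ha
        simp only [Set.mem_ofPred_eq] at *
        rw [map_inv, ha] }
  have hFmem : ∀ g, g ∈ F ↔ D.β g = g := fun g => Iff.rfl
  have hFα : ∀ g ∈ F, D.α g ∈ F := by
    intro g hg
    rw [hFmem] at hg ⊢
    rw [D.β_comm_α, hg]
  have hFtop : F ≠ ⊤ := by
    intro h
    obtain ⟨g, hg⟩ := hNC
    apply hg
    have : g ∈ F := by rw [h]; trivial
    rw [(hFmem g).1 this]
  haveI : Group.IsNilpotent Q := hQ.isNilpotent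
  obtain ⟨M, hM1, hFM⟩ := (eq_top_or_exists_le_coatom F).resolve_left hFtop
  haveI hMn : M.Normal := Subgroup.NormalizerCondition.normal_of_coatom M
    Group.normalizerCondition_of_isNilpotent hM1
  set D₁ := Subgroup.normalClosure (F : Set Q) with hD₁
  have hD₁M : D₁ ≤ M := Subgroup.normalClosure_le_normal hFM
  have hD₁top : D₁ ≠ ⊤ := by
    intro h
    rw [h] at hD₁M
    exact hM1.1 (top_le_iff.1 hD₁M)
  have hD₁α : ∀ g ∈ D₁, D.α g ∈ D₁ := by
    intro g hg
    have h1 : D₁.map D.α.toMonoidHom =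
        Subgroup.normalClosure (D.α.toMonoidHom '' (F : Set Q)) :=
      Subgroup.map_normalClosure _ _ D.α.surjective
    have h2 : Subgroup.normalClosure (D.α.toMonoidHom '' (F : Set Q)) ≤ D₁ :=
      Subgroup.normalClosure_mono (by rintro _ ⟨x, hx, rfl⟩; exact hFα x hx)
    have h3 : D.α.toMonoidHom g ∈ D₁.map D.α.toMonoidHom := Subgroup.mem_map_of_mem _ hg
    rw [h1] at h3
    exact h2 h3
  have hD₁ρ := hM D₁ hD₁α hD₁top
  -- the subgroup [Q, β]
  set L := Subgroup.closure {k : Q | ∃ h, k = h⁻¹ * D.β h} with hL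
  have hLα : ∀ g ∈ L, D.α g ∈ L := by
    show L ≤ L.comap D.α.toMonoidHom
    rw [hL, Subgroup.closure_le]
    rintro _ ⟨h, rfl⟩
    show D.α (h⁻¹ * D.β h) ∈ Subgroup.closure {k : Q | ∃ h, k = h⁻¹ * D.β h}
    apply Subgroup.subset_closure
    exact ⟨D.α h, by rw [map_mul, map_inv, D.β_comm_α]⟩
  have hLtop : L = ⊤ := by
    by_contra hLne
    have hLρ := hM L hLα hLne
    obtain ⟨g, hg⟩ := hNC
    apply hg
    set k := g⁻¹ * D.β g with hk
    have hkL : k ∈ L := Subgroup.subset_closure ⟨g, rfl⟩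
    have hkY : Y * D.ρ k * Y' = D.ρ k := by
      rw [← hYconj]; exact hLρ k hkL
    have hkYj : ∀ j : ℕ, Y * D.ρ k ^ j * Y' = D.ρ k ^ j := by
      intro j
      induction j with
      | zero => simpa using hYY'
      | succ j ih =>
        calc Y * D.ρ k ^ (j + 1) * Y' = Y * D.ρ k ^ j * (Y' * Y) * D.ρ k * Y' := by
              rw [hY'Y, mul_one, pow_succ]; simp only [mul_assoc]
          _ = (Y * D.ρ k ^ j * Y') * (Y * D.ρ k * Y') := by simp only [mul_assoc]
          _ = D.ρ k ^ (j + 1) := by rw [ih, hkY, pow_succ]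
    have hβg : D.ρ (D.β g) = D.ρ g * D.ρ k := by
      rw [← map_mul]; congr 1; rw [hk]; group
    have hpow : ∀ j : ℕ, Y ^ j * D.ρ g * Y' ^ j = D.ρ g * D.ρ k ^ j := by
      intro j
      induction j with
      | zero => simp
      | succ j ih =>
        calc Y ^ (j + 1) * D.ρ g * Y' ^ (j + 1) = Y * (Y ^ j * D.ρ g * Y' ^ j) * Y' := by
              rw [pow_succ', pow_succ]; simp only [mul_assoc]
          _ = Y * (D.ρ g * D.ρ k ^ j) * Y' := by rw [ih]
          _ = Y * D.ρ g * (Y' * Y) * D.ρ k ^ j * Y' := by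
              rw [hY'Y, mul_one]; simp only [mul_assoc]
          _ = (Y * D.ρ g * Y') * (Y * D.ρ k ^ j * Y') := by simp only [mul_assoc]
          _ = D.ρ g * D.ρ k * D.ρ k ^ j := by rw [← hYconj, hβg, hkYj]
          _ = D.ρ g * D.ρ k ^ (j + 1) := by rw [pow_succ', mul_assoc]
    have hkp : D.ρ k ^ p = 1 := by
      have h1 := hpow p
      rw [hYp, hY'p, one_mul, mul_one] at h1
      have h2 : D.ρ g⁻¹ * D.ρ g = D.ρ g⁻¹ * (D.ρ g * D.ρ k ^ p) := congrArg _ h1
      rw [← mul_assoc, hh_rho_inv_mul, one_mul] at h2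
      exact h2.symm
    have hkq : D.ρ k ^ Nat.card Q = 1 := by
      rw [← map_pow, pow_card_eq_one', map_one]
    have hk1 : D.ρ k = 1 := by
      obtain ⟨e, he⟩ := IsPGroup.iff_card.1 hQ
      have hcop : Nat.Coprime p (Nat.card Q) := by
        rw [he]
        exact Nat.Coprime.pow_right _ ((Nat.coprime_primes hp hq).2 hpq)
      have h1 := orderOf_dvd_of_pow_eq_one hkp
      have h2 := orderOf_dvd_of_pow_eq_one hkq
      have h3 := Nat.dvd_gcd h1 h2
      rw [Nat.Coprime] at hcop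
      rw [hcop] at h3
      exact orderOf_eq_one_iff.1 (Nat.dvd_one.1 h3)
    rw [hβg, hk1, mul_one]
  intro g hg
  have hgD₁ : g ∈ D₁ := Subgroup.subset_normalClosure ((hFmem g).2 hg)
  apply hirr.schur
  have hgen : ∀ h : Q, D.ρ (h⁻¹ * D.β h) * D.ρ g = D.ρ g * D.ρ (h⁻¹ * D.β h) := by
    intro h
    have hconj : h * g * h⁻¹ ∈ D₁ := Subgroup.normalClosure_normal.conj_mem g hgD₁ h
    have h1 := hD₁ρ _ hconj
    have h1' : D.β (h * g * h⁻¹) = D.β h * g * (D.β h)⁻¹ := by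
      rw [map_mul, map_mul, map_inv, hg]
    rw [h1'] at h1
    calc D.ρ (h⁻¹ * D.β h) * D.ρ g
        = D.ρ (h⁻¹ * (D.β h * g * (D.β h)⁻¹) * D.β h) := by
          rw [← map_mul]; congr 1; group
      _ = D.ρ h⁻¹ * D.ρ (D.β h * g * (D.β h)⁻¹) * D.ρ (D.β h) := by
          rw [map_mul _ (h⁻¹ * (D.β h * g * (D.β h)⁻¹)) (D.β h), map_mul _ h⁻¹]
      _ = D.ρ h⁻¹ * D.ρ (h * g * h⁻¹) * D.ρ (D.β h) := by rw [h1]
      _ = D.ρ (h⁻¹ * (h * g * h⁻¹) * D.β h) := by
          rw [map_mul _ (h⁻¹ * (h * g * h⁻¹)) (D.β h), map_mul _ h⁻¹]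
      _ = D.ρ g * D.ρ (h⁻¹ * D.β h) := by
          rw [← map_mul]; congr 1; group
  have hall : ∀ k ∈ L, D.ρ k * D.ρ g = D.ρ g * D.ρ k := by
    intro k hk
    rw [hL] at hk
    induction hk using Subgroup.closure_induction with
    | mem x hx =>
      obtain ⟨h, rfl⟩ := hx
      exact hgen h
    | one => simp
    | mul x y _ _ hx hy =>
      rw [map_mul, mul_assoc, hy, ← mul_assoc, hx, mul_assoc]
    | inv x _ hx =>
      calc D.ρ x⁻¹ * D.ρ g = D.ρ x⁻¹ * D.ρ g * (D.ρ x * D.ρ x⁻¹) := by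
            rw [hh_rho_mul_inv, mul_one]
        _ = D.ρ x⁻¹ * (D.ρ g * D.ρ x) * D.ρ x⁻¹ := by simp only [mul_assoc]
        _ = D.ρ x⁻¹ * (D.ρ x * D.ρ g) * D.ρ x⁻¹ := by rw [hx]
        _ = (D.ρ x⁻¹ * D.ρ x) * D.ρ g * D.ρ x⁻¹ := by simp only [mul_assoc]
        _ = D.ρ g * D.ρ x⁻¹ := by rw [hh_rho_inv_mul, one_mul]
  intro h
  exact hall h (by rw [hLtop]; trivial)

end HHTwData

end Cfsg.Agent.Lib.Helper13
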