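import Mathlib
import Cfsg.Agent.Lib.Helper13.HHBCase2
import Cfsg.Agent.Lib.Helper13.HHBMin

/-!
# Hall–Higman's Theorem B in twisted linear form (helper13)
-/

set_option autoImplicit false
set_option linter.style.haveILetI false

namespace Cfsg.Agent.Lib.Helper13

open Module

/-- the conclusion of Theorem B -/
def HHConcl (p q n r : ℕ) (Q : Type*) [Group Q] : Prop :=
  p ^ n ≤ r ∨ ∃ n₀ m : ℕ, 1 ≤ n₀ ∧ n₀ ≤ n ∧ 1 ≤ m ∧ p ^ n₀ - 1 = q ^ m ∧
    (¬ ∀ g h : Q, g * h = h * g) ∧ p ^ (n - n₀) * (p ^ n₀ - 1) ≤ r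

/-- the statement proved by induction on the dimension `d` and the order `c` -/
def HHBStmt.{uQ, uV, uK} (K : Type uK) [Field K] (p q d c : ℕ) : Prop :=
  ∀ (Q : Type uQ) [Group Q] [Finite Q] (V : Type uV) [AddCommGroup V] [Module K V]
    [FiniteDimensional K V] (n : ℕ) (D : HHTwData K p n Q V),
    finrank K V = d → Nat.card Q = c → IsPGroup q Q → 1 ≤ n → D.NC →
      ∀ r, (D.X - 1) ^ r = 0 → HHConcl p q n r Q

set_option maxHeartbeats 1600000 in
theorem hh_B_main.{uQ, uV, uK} (K : Type uK) [Field K] [IsAlgClosed K] (p q : ℕ) [Fact p.Prime]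
    [Fact q.Prime] (hpq : p ≠ q) [CharP K p] : ∀ d c, HHBStmt.{uQ, uV, uK} K p q d c := by
  intro d
  induction d using Nat.strong_induction_on with
  | _ d ihd =>
  intro c
  induction c using Nat.strong_induction_on with
  | _ c ihc =>
  intro Q _ _ V _ _ _ n D hd hc hQ hn hNC r hr
  classical
  have hp : p.Prime := Fact.out
  have hq : q.Prime := Fact.out
  have hqK : (q : K) ≠ 0 := by
    intro h0
    have := (CharP.cast_eq_zero_iff K p q).1 h0
    exact hpq ((Nat.prime_dvd_prime_iff_eq hp hq).1 this)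
  have hcardK : ((Nat.card Q : ℕ) : K) ≠ 0 := by
    obtain ⟨e, he⟩ := IsPGroup.iff_card.1 hQ
    rw [he, Nat.cast_pow]
    exact pow_ne_zero _ hqK
  haveI : Nontrivial V := by
    by_contra hnt
    rw [not_nontrivial_iff_subsingleton] at hnt
    obtain ⟨g, hg⟩ := hNC
    apply hg
    ext v
    exact Subsingleton.elim _ _
  by_cases hirrX : D.Irr
  swap
  · -- reducible: pass to an invariant subspace or to the quotient
    unfold HHTwData.Irr at hirrX
    push Not at hirrX
    obtain ⟨W, hWρ, hWX, hWbot, hWtop⟩ := hirrX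
    rcases D.NC_sub_or_quot hp.pos hcardK W hWρ hWX hNC with h | h
    · have hlt : finrank K W < d := by
        rw [← hd]; exact Submodule.finrank_lt hWtop
      have hr' : ((D.sub hp.pos W hWρ hWX).X - 1) ^ r = 0 := by
        ext w
        have h1 := hh_intertwine_pow W.subtype (D.sub hp.pos W hWρ hWX).X D.X (fun v => rfl) r w
        rw [hr] at h1
        simpa using h1
      exact ihd _ hlt _ Q W n (D.sub hp.pos W hWρ hWX) rfl rfl hQ hn h r hr'
    · have hlt : finrank K (V ⧸ W) < d := by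
        have h1 := Submodule.finrank_quotient_add_finrank W
        have h2 : 0 < finrank K W :=
          Nat.pos_of_ne_zero (fun h => hWbot (Submodule.finrank_eq_zero.1 h))
        omega
      have hr' : ((D.quot hp.pos W hWρ hWX).X - 1) ^ r = 0 := by
        ext v
        have h1 := hh_intertwine_pow W.mkQ D.X (D.quot hp.pos W hWρ hWX).X (fun v => rfl) r v
        rw [hr] at h1
        simpa using h1.symm
      exact ihd _ hlt _ Q (V ⧸ W) n (D.quot hp.pos W hWρ hWX) rfl rfl hQ hn h r hr'
  by_cases hC : ∀ a : Module.End K V, (∀ g, D.ρ g * a = a * D.ρ g) → ∃ c : K, a = c • 1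
  · -- `ρ` is irreducible on `Q`
    have hirrQ : HHIrr D.ρ := hh_irr_of_commutant D.ρ hcardK hC
    by_cases hM : ∀ E : Subgroup Q, (∀ g ∈ E, D.α g ∈ E) → E ≠ ⊤ →
        ∀ d ∈ E, D.ρ (D.β d) = D.ρ d
    · -- the minimal (critical) case
      have hH1 := D.scalar_on_fixed q hpq hQ hn hirrQ hNC hM
      have hX1 : D.X ≠ 1 := by
        intro h1
        obtain ⟨g, hg⟩ := hNC
        apply hg
        have h2 : D.X' = 1 := by
          have := D.hX'X
          rwa [h1, mul_one] at this
        rw [D.ρ_β, h1, h2, one_pow, one_mul, mul_one]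
      have hex : ∃ s, (D.X - 1) ^ s = 0 := ⟨r, hr⟩
      set s := Nat.find hex with hs_def
      have hs : (D.X - 1) ^ s = 0 := Nat.find_spec hex
      have hmin : ∀ k < s, (D.X - 1) ^ k ≠ 0 := fun k hk => Nat.find_min hex hk
      have hsr : s ≤ r := Nat.find_min' hex hr
      obtain ⟨h1, h2, h3⟩ := hh_criticalT p q hpq hQ D.α n hn D.hαn D.ρ D.X D.X' D.hXX' D.hX'X
        D.hXn D.htw hirrQ hX1 hH1 s hs hmin
      by_cases hsn : s = p ^ n - 1
      · obtain ⟨⟨b, hb⟩, hnc⟩ := h3 hsn
        right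
        refine ⟨n, b, hn, le_refl _, ?_, hb, hnc, ?_⟩
        · by_contra hb0
          have hb0' : b = 0 := by omega
          rw [hb0', pow_zero] at hb
          have hs1 : s = 1 := by omega
          rw [hs1, pow_one, sub_eq_zero] at hs
          exact hX1 hs
        · rw [Nat.sub_self, pow_zero, one_mul]; omega
      · left; omega
    · -- a proper invariant subgroup still does not commute: recurse
      push Not at hM
      obtain ⟨E, hEα, hEtop, d₀, hd₀E, hd₀⟩ := hM
      have hlt : Nat.card E < c := by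
        rw [← hc]
        refine lt_of_le_of_ne (Subgroup.card_le_card_group E) (fun h => hEtop ?_)
        exact Subgroup.eq_top_of_card_eq E h
      have hNC' : (D.resGroup hp.pos E hEα).NC := by
        refine ⟨⟨d₀, hd₀E⟩, ?_⟩
        have h1 : (((D.resGroup hp.pos E hEα).β ⟨d₀, hd₀E⟩ : E) : Q) = D.β d₀ :=
          hhRestrAut_pow_coe D.α E hEα (D.inv_mem_of_invariant hp.pos E hEα) _ _
        show D.ρ (((D.resGroup hp.pos E hEα).β ⟨d₀, hd₀E⟩ : E) : Q) ≠ D.ρ d₀
        rw [h1]
        exact hd₀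
      have hr' : ((D.resGroup hp.pos E hEα).X - 1) ^ r = 0 := hr
      have := ihc _ hlt E V n (D.resGroup hp.pos E hEα) hd rfl (hQ.to_subgroup E) hn hNC' r hr'
      rcases this with h | ⟨n₀, m, h1, h2, h3, h4, h5, h6⟩
      · left; exact h
      · right
        refine ⟨n₀, m, h1, h2, h3, h4, ?_, h6⟩
        intro hcomm
        apply h5
        intro g h
        exact Subtype.ext (hcomm g h)
  · -- the commutant of `ρ(Q)` is larger than the scalars: blocks
    push Not at hC
    obtain ⟨a, ha, hna⟩ := hC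
    obtain ⟨cc, hcc, hXc⟩ := D.exists_shift hirrX a ha (by push Not; exact hna)
    obtain ⟨μ, hμ⟩ := Module.End.exists_eigenvalue cc
    have hB0 : HHTwData.blk cc μ 0 ≠ ⊥ := by
      have := Module.End.hasEigenvalue_iff.1 hμ
      unfold HHTwData.blk
      simpa using this
    set B := HHTwData.blk cc μ 0 with hB
    have hρB : ∀ g, ∀ v ∈ B, (D.powP hn).ρ g v ∈ B :=
      fun g v hv => D.ρ_map_blk cc hcc μ 0 g v hv
    have hXB : ∀ v ∈ B, (D.powP hn).X v ∈ B := by
      intro v hv
      have := D.Xpow_map_blk cc hXc μ p 0 v hv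
      rwa [HHTwData.blk_add_p] at this
    set D₀ := (D.powP hn).sub hp.pos B hρB hXB with hD₀
    have hnil : (D₀.X - 1) ^ (p ^ (n - 1)) = 0 := by
      rw [hh_sub_one_pow (K := K) p D₀.X (n - 1), D₀.hXn, sub_self]
    have hex : ∃ s, (D₀.X - 1) ^ s = 0 := ⟨_, hnil⟩
    set r₁ := Nat.find hex with hr₁_def
    have hr₁ : (D₀.X - 1) ^ r₁ = 0 := Nat.find_spec hex
    have hr₁min : ∀ k < r₁, (D₀.X - 1) ^ k ≠ 0 := fun k hk => Nat.find_min hex hk
    haveI : Nontrivial B := Submodule.nontrivial_iff_ne_bot.2 hB0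
    have hr₁pos : 1 ≤ r₁ := by
      by_contra h
      have h0 : r₁ = 0 := by omega
      rw [h0, pow_zero] at hr₁
      exact one_ne_zero hr₁
    obtain ⟨w, hw⟩ : ∃ w : B, ((D₀.X - 1) ^ (r₁ - 1)) w ≠ 0 := by
      by_contra hcon
      push Not at hcon
      exact hr₁min (r₁ - 1) (by omega) (LinearMap.ext hcon)
    have hw' : ((D.X ^ p - 1) ^ (r₁ - 1)) (w : V) ≠ 0 := by
      have h1 := hh_intertwine_pow B.subtype D₀.X (D.X ^ p) (fun v => rfl) (r₁ - 1) w
      intro h0
      apply hw
      apply Subtype.ext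
      have h2 : B.subtype w = (w : V) := rfl
      rw [h2, h0] at h1
      exact h1
    have hne := D.pow_ne_zero_of_block cc hXc μ r₁ hr₁pos (w : V) w.2 hw'
    have hpr : p * r₁ ≤ r := by
      by_contra hlt
      apply hne
      have : p * r₁ - 1 = r + (p * r₁ - 1 - r) := by omega
      rw [this, pow_add, hr, zero_mul]
    by_cases hn1 : n = 1
    · left
      rw [hn1, pow_one]
      calc p = p * 1 := (mul_one p).symm
        _ ≤ p * r₁ := Nat.mul_le_mul_left _ hr₁pos
        _ ≤ r := hpr
    · have hn2 : 1 ≤ n - 1 := by omega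
      have hNC₀ : D₀.NC := by
        by_contra hcon
        unfold HHTwData.NC at hcon
        push Not at hcon
        obtain ⟨g, hg⟩ := hNC
        apply hg
        apply D.eq_of_eq_on_blk cc hcc hXc μ hirrX hB0
        intro g' w hw
        have h1 := congrArg (fun f => ((f ⟨w, hw⟩ : B) : V)) (hcon g')
        have hβ : D₀.β = D.β := by
          unfold HHTwData.β
          show (D.α ^ p) ^ (p ^ (n - 1 - 1)) = D.α ^ (p ^ (n - 1))
          rw [← pow_mul, ← pow_succ']
          congr 2; omega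
        rw [hβ] at h1
        exact h1
      have hlt : finrank K B < d := by
        rw [← hd]
        exact Submodule.finrank_lt (D.blk_zero_ne_top cc hXc μ hB0)
      have := ihd _ hlt _ Q B (n - 1) D₀ rfl rfl hQ hn2 hNC₀ r₁ hr₁
      rcases this with h | ⟨n₀, m, h1, h2, h3, h4, h5, h6⟩
      · left
        calc p ^ n = p * p ^ (n - 1) := by rw [← pow_succ']; congr 1; omega
          _ ≤ p * r₁ := Nat.mul_le_mul_left _ h
          _ ≤ r := hpr
      · right
        refine ⟨n₀, m, h1, by omega, h3, h4, h5, ?_⟩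
        calc p ^ (n - n₀) * (p ^ n₀ - 1) = p * (p ^ (n - 1 - n₀) * (p ^ n₀ - 1)) := by
              rw [← mul_assoc, ← pow_succ']; congr 2; omega
          _ ≤ p * r₁ := Nat.mul_le_mul_left _ h6
          _ ≤ r := hpr

end Cfsg.Agent.Lib.Helper13
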