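import Mathlib
import Cfsg.Agent.Lib.Helper13.HHBMain

/-!
# Hall–Higman's Theorem B in twisted linear form: the final statement (helper13)
-/

set_option autoImplicit false
set_option linter.style.haveILetI false

namespace Cfsg.Agent.Lib.Helper13

open Module

/-- **Hall–Higman Theorem B**, twisted linear form.  `K` is algebraically closed of
characteristic `p`, `Q` is a finite `q`-group with an automorphism `α` with `α^(p^n) = 1`,
`ρ` a representation of `Q` on `V` and `X` an invertible operator with `X^(p^n) = 1` and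
`X ρ(g) X⁻¹ = ρ(α g)`.  If `ρ(Q)` does not commute with `X^(p^(n-1))`, then `(X-1)^r = 0` forces
`r ≥ p^n`, or we are in the exceptional situation. -/
theorem hh_theoremB_tw {K : Type*} [Field K] [IsAlgClosed K] {V : Type*} [AddCommGroup V]
    [Module K V] [FiniteDimensional K V] (p q : ℕ) [Fact p.Prime] [Fact q.Prime] (hpq : p ≠ q)
    [CharP K p] {Q : Type*} [Group Q] [Finite Q] (hQ : IsPGroup q Q) (α : MulAut Q) (n : ℕ)
    (hn : 1 ≤ n) (hα : α ^ (p ^ n) = 1) (ρ : Q →* Module.End K V) (X X' : Module.End K V)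
    (hXX' : X * X' = 1) (hX'X : X' * X = 1) (hXn : X ^ (p ^ n) = 1)
    (htw : ∀ g, X * ρ g = ρ (α g) * X)
    (hNC : ∃ g, ρ g * X ^ (p ^ (n - 1)) ≠ X ^ (p ^ (n - 1)) * ρ g)
    (r : ℕ) (hr : (X - 1) ^ r = 0) :
    p ^ n ≤ r ∨ ∃ n₀ m : ℕ, 1 ≤ n₀ ∧ n₀ ≤ n ∧ 1 ≤ m ∧ p ^ n₀ - 1 = q ^ m ∧
      (¬ ∀ g h : Q, g * h = h * g) ∧ p ^ (n - n₀) * (p ^ n₀ - 1) ≤ r := by
  let D : HHTwData K p n Q V :=
    { α := α, ρ := ρ, X := X, X' := X', hXX' := hXX', hX'X := hX'X, hXn := hXn, hαn := hα,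
      htw := htw }
  have hNC' : D.NC := by
    obtain ⟨g, hg⟩ := hNC
    refine ⟨g, fun h => hg ?_⟩
    rw [D.ρ_β] at h
    have h1 : D.X' ^ (p ^ (n - 1)) * D.X ^ (p ^ (n - 1)) = 1 := D.X'_pow_mul _
    show D.ρ g * D.X ^ (p ^ (n - 1)) = D.X ^ (p ^ (n - 1)) * D.ρ g
    calc D.ρ g * D.X ^ (p ^ (n - 1))
        = (D.X ^ (p ^ (n - 1)) * D.ρ g * D.X' ^ (p ^ (n - 1))) * D.X ^ (p ^ (n - 1)) := by rw [h]
      _ = D.X ^ (p ^ (n - 1)) * D.ρ g * (D.X' ^ (p ^ (n - 1)) * D.X ^ (p ^ (n - 1))) := by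
          simp only [mul_assoc]
      _ = D.X ^ (p ^ (n - 1)) * D.ρ g := by rw [h1, mul_one]
  exact hh_B_main K p q hpq _ _ Q V n D rfl rfl hQ hn hNC' r hr

end Cfsg.Agent.Lib.Helper13
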