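import Mathlib
import Cfsg.Prelude
import Cfsg.Agent.Lib.Helper13.HHBTheorem
import Cfsg.Agent.Lib.Helper13.HHBGroup

/-!
# Hall–Higman's Theorem B (helper13)

* `hh_theoremB_subgroup`: the general form, for an element `x` of `GL(V)` with `x^(p^n) = 1`
  normalising a `q`-subgroup `Q` of `GL(V)` not centralised by `x^(p^(n-1))`; no hypothesis on any
  ambient group.
* `hh_theoremB`: the classical form for `p`-solvable linear groups with `O_p = 1`.
-/

set_option autoImplicit false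
set_option linter.style.haveILetI false

namespace Cfsg.Agent.Lib.Helper13

open Module

set_option maxHeartbeats 1600000 in
/-- **Theorem B of Hall and Higman, subgroup form.**  `x ∈ GL(V)` in characteristic `p` with
`x^(p^n) = 1` normalises the finite `q`-subgroup `Q` (`q ≠ p`) and `x^(p^(n-1))` does not
centralise `Q`.  If `(x-1)^r = 0` then `r ≥ p^n`, or `Q` is nonabelian, `p^n₀ - 1 = q^m` for some
`1 ≤ n₀ ≤ n`, and `r ≥ p^(n-n₀) (p^n₀ - 1)`. -/
theorem hh_theoremB_subgroup {F : Type*} [Field F] {p : ℕ} [Fact p.Prime] [CharP F p] {V : Type*}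
    [AddCommGroup V] [Module F V] [FiniteDimensional F V] (x : V ≃ₗ[F] V) (n : ℕ) (hn : 1 ≤ n)
    (hxn : x ^ (p ^ n) = 1) (q : ℕ) [Fact q.Prime] (hqp : q ≠ p) (Q : Subgroup (V ≃ₗ[F] V))
    [Finite Q] (hQq : IsPGroup q Q) (hQinv : ∀ g ∈ Q, x * g * x⁻¹ ∈ Q)
    (hNC : ∃ g ∈ Q, x ^ (p ^ (n - 1)) * g ≠ g * x ^ (p ^ (n - 1)))
    (r : ℕ) (hr : ((x : Module.End F V) - 1) ^ r = 0) :
    p ^ n ≤ r ∨ ∃ n₀ m : ℕ, 1 ≤ n₀ ∧ n₀ ≤ n ∧ 1 ≤ m ∧ p ^ n₀ - 1 = q ^ m ∧
      (∃ a ∈ Q, ∃ b ∈ Q, a * b ≠ b * a) ∧ p ^ (n - n₀) * (p ^ n₀ - 1) ≤ r := by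
  classical
  have hp : p.Prime := Fact.out
  let toEnd : (V ≃ₗ[F] V) →* Module.End F V :=
    LinearEquiv.automorphismGroup.toLinearMapMonoidHom
  have htoEnd_inj : Function.Injective toEnd := LinearEquiv.toLinearMap_injective
  set xe : Module.End F V := toEnd x with hxe
  have hxe' : (x : Module.End F V) = xe := rfl
  rw [hxe'] at hr
  obtain ⟨g, hgQ, hgy⟩ := hNC
  let φ : Module.End F V →ₐ[F] Module.End (AlgebraicClosure F)
      (TensorProduct F (AlgebraicClosure F) V) :=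
    Module.End.baseChangeHom F (AlgebraicClosure F) V
  have hφinj : Function.Injective φ :=
    LinearMap.baseChangeHom_injective F V (AlgebraicClosure F)
  let c : MulAut (V ≃ₗ[F] V) := MulAut.conj x
  have hcinv : ∀ g ∈ Q, c g ∈ Q := fun g hg => hQinv g hg
  have hcpow : ∀ k : ℕ, c ^ k = MulAut.conj (x ^ k) := fun k => (map_pow MulAut.conj x k).symm
  have hcn : c ^ (p ^ n) = 1 := by rw [hcpow, hxn, map_one]
  have hcinv' : ∀ g ∈ Q, c⁻¹ g ∈ Q := by
    have h1 : c⁻¹ = c ^ (p ^ n - 1) := by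
      have h2 := hcn
      have h3 : p ^ n = (p ^ n - 1) + 1 := by
        have := pow_pos hp.pos n
        omega
      rw [h3, pow_succ] at h2
      exact inv_eq_of_mul_eq_one_left h2
    rw [h1]
    exact hh_pow_mem_of_invariant c Q hcinv _
  let α : MulAut Q := hhRestrAut c Q hcinv hcinv'
  have hα : α ^ (p ^ n) = 1 := by
    ext g
    rw [hhRestrAut_pow_coe, hcn]
    rfl
  let ι : Q →* (V ≃ₗ[F] V) := Q.subtype
  let ρ : Q →* Module.End (AlgebraicClosure F) (TensorProduct F (AlgebraicClosure F) V) :=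
    (φ : Module.End F V →* _).comp (toEnd.comp ι)
  have hρ : ∀ g : Q, ρ g = φ (toEnd (ι g)) := fun g => rfl
  let X := φ (toEnd x)
  let X' := φ (toEnd x⁻¹)
  have hXX' : X * X' = 1 := by
    show φ (toEnd x) * φ (toEnd x⁻¹) = 1
    rw [← map_mul, ← map_mul, mul_inv_cancel, map_one, map_one]
  have hX'X : X' * X = 1 := by
    show φ (toEnd x⁻¹) * φ (toEnd x) = 1
    rw [← map_mul, ← map_mul, inv_mul_cancel, map_one, map_one]
  have hXpow : ∀ k : ℕ, X ^ k = φ (toEnd (x ^ k)) := by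
    intro k
    show φ (toEnd x) ^ k = _
    rw [← map_pow, ← map_pow]
  have hXn : X ^ (p ^ n) = 1 := by
    rw [hXpow, hxn, map_one, map_one]
  have htw : ∀ g, X * ρ g = ρ (α g) * X := by
    intro g
    show φ (toEnd x) * φ (toEnd (ι g)) = φ (toEnd (ι (α g))) * φ (toEnd x)
    rw [← map_mul, ← map_mul, ← map_mul, ← map_mul]
    congr 2
    have h1 : ι (α g) = x * ι g * x⁻¹ := rfl
    rw [h1]
    group
  have hNC : ∃ g, ρ g * X ^ (p ^ (n - 1)) ≠ X ^ (p ^ (n - 1)) * ρ g := by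
    refine ⟨⟨g, hgQ⟩, fun h => hgy ?_⟩
    rw [hXpow, hρ, ← map_mul, ← map_mul, ← map_mul, ← map_mul] at h
    have h1 := htoEnd_inj (hφinj h)
    exact h1.symm
  have hr' : (X - 1) ^ r = 0 := by
    have h1 : φ ((xe - 1) ^ r) = (φ xe - 1) ^ r := by rw [map_pow, map_sub, map_one]
    show (φ xe - 1) ^ r = 0
    rw [← h1, hr, map_zero]
  have hmain := hh_theoremB_tw (K := AlgebraicClosure F)
    (V := TensorProduct F (AlgebraicClosure F) V) p q (fun h => hqp h.symm) hQq α n hn hα ρ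
    X X' hXX' hX'X hXn htw hNC r hr'
  rcases hmain with h | ⟨n₀, m, h1, h2, h3, h4, h5, h6⟩
  · left; exact h
  · right
    refine ⟨n₀, m, h1, h2, h3, h4, ?_, h6⟩
    by_contra hcon
    push Not at hcon
    apply h5
    intro a b
    exact Subtype.ext (hcon a a.2 b b.2)

/-- **Theorem B of Hall and Higman.** -/
theorem hh_theoremB {F : Type*} [Field F] {p : ℕ} [Fact p.Prime] [CharP F p] {V : Type*}
    [AddCommGroup V] [Module F V] [FiniteDimensional F V] [Nontrivial V]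
    (H : Subgroup (V ≃ₗ[F] V)) [Finite H] (hsol : Cfsg.IsPSolvable p H)
    (hOp : Cfsg.pCore p H = ⊥) (x : V ≃ₗ[F] V) (hx : x ∈ H) (n : ℕ) (hn : orderOf x = p ^ n)
    (r : ℕ) (hr : minpoly F (x : Module.End F V) = (Polynomial.X - 1) ^ r) :
    r = p ^ n ∨ ∃ n₀ q m : ℕ, 1 ≤ n₀ ∧ n₀ ≤ n ∧ q.Prime ∧ 1 ≤ m ∧ p ^ n₀ - 1 = q ^ m ∧
      (∀ Q : Sylow q H, ¬ IsMulCommutative Q) ∧ p ^ (n - n₀) * (p ^ n₀ - 1) ≤ r := by
  classical
  have hp : p.Prime := Fact.out
  let toEnd : (V ≃ₗ[F] V) →* Module.End F V :=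
    LinearEquiv.automorphismGroup.toLinearMapMonoidHom
  set xe : Module.End F V := toEnd x with hxe
  have hxe' : (x : Module.End F V) = xe := rfl
  have hxr : (xe - 1) ^ r = 0 := by
    have h1 := minpoly.aeval F (x : Module.End F V)
    rw [hr] at h1
    have h2 : ((x : Module.End F V) - 1) ^ r = 0 := by simpa using h1
    exact h2
  have hxpn : xe ^ (p ^ n) = 1 := by
    rw [hxe, ← map_pow, ← hn, pow_orderOf_eq_one, map_one]
  have hrle : r ≤ p ^ n := by
    have h1 : (xe - 1) ^ (p ^ n) = 0 := by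
      rw [hh_sub_one_pow (K := F) p xe n, hxpn, sub_self]
    have h2 : minpoly F xe ∣ (Polynomial.X - 1) ^ (p ^ n) :=
      minpoly.dvd F xe (by simpa using h1)
    rw [← hxe', hr] at h2
    have hX : (Polynomial.X - 1 : Polynomial F) = Polynomial.X - Polynomial.C 1 := by simp
    rw [hX] at h2
    exact (pow_dvd_pow_iff (Polynomial.X_sub_C_ne_zero 1) (Polynomial.not_isUnit_X_sub_C 1)).1 h2
  rcases Nat.eq_zero_or_pos n with hn0 | hnpos
  · left
    rw [hn0, pow_zero] at hrle ⊢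
    have hr0 : r ≠ 0 := by
      intro h0
      rw [h0, pow_zero] at hr
      exact minpoly.ne_one F (x : Module.End F V) hr
    omega
  · let x' : H := ⟨x, hx⟩
    have hx'ord : orderOf x' = p ^ n := by rw [← hn]; exact Subgroup.orderOf_mk x hx
    obtain ⟨q, hq, Q, hqp, hQq, hQinv, g, hgQ, hgy⟩ :=
      hh_exists_q_subgroup hsol hOp x' n hnpos hx'ord
    haveI : Fact q.Prime := ⟨hq⟩
    set Q' : Subgroup (V ≃ₗ[F] V) := Q.map H.subtype with hQ'
    have hQ'q : IsPGroup q Q' := hQq.map H.subtype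
    haveI : Finite Q' := by
      rw [hQ']
      exact Finite.of_surjective (fun g : Q => (⟨H.subtype g, ⟨g, g.2, rfl⟩⟩ : Q.map H.subtype))
        (by rintro ⟨_, ⟨g, hg, rfl⟩⟩; exact ⟨⟨g, hg⟩, rfl⟩)
    have hQ'inv : ∀ g ∈ Q', x * g * x⁻¹ ∈ Q' := by
      rintro _ ⟨g, hg, rfl⟩
      exact ⟨x' * g * x'⁻¹, hQinv g hg, rfl⟩
    have hNC : ∃ g ∈ Q', x ^ (p ^ (n - 1)) * g ≠ g * x ^ (p ^ (n - 1)) := by
      refine ⟨(g : V ≃ₗ[F] V), ⟨g, hgQ, rfl⟩, fun h => hgy ?_⟩
      apply Subtype.ext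
      exact h
    have hxn : x ^ (p ^ n) = 1 := by rw [← hn, pow_orderOf_eq_one]
    have hmain := hh_theoremB_subgroup x n hnpos hxn q hqp Q' hQ'q hQ'inv hNC r hxr
    rcases hmain with h | ⟨n₀, m, h1, h2, h3, h4, ⟨a, ha, b, hb, hab⟩, h6⟩
    · left; omega
    · right
      refine ⟨n₀, q, m, h1, h2, hq, h3, h4, ?_, h6⟩
      intro S hS
      obtain ⟨a', ha', rfl⟩ := ha
      obtain ⟨b', hb', rfl⟩ := hb
      obtain ⟨S₀, hS₀⟩ := hQq.exists_le_sylow
      obtain ⟨h, hh⟩ := MulAction.exists_smul_eq H S S₀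
      have key : ∀ a : H, a ∈ (S₀ : Subgroup H) → h⁻¹ * a * h ∈ (S : Subgroup H) := by
        intro a ha
        rw [← hh, Sylow.coe_subgroup_smul, Subgroup.mem_pointwise_smul_iff_inv_smul_mem] at ha
        simpa [MulAut.smul_def, MulAut.conj_inv_apply] using ha
      have ha := key a' (hS₀ ha')
      have hb := key b' (hS₀ hb')
      have h7 := hS.is_comm.comm (⟨_, ha⟩ : S) ⟨_, hb⟩
      have h8 : (h⁻¹ * a' * h) * (h⁻¹ * b' * h) = (h⁻¹ * b' * h) * (h⁻¹ * a' * h) :=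
        congrArg (fun s : S => (s : H)) h7
      apply hab
      have h9 : h⁻¹ * (a' * b') * h = h⁻¹ * (b' * a') * h := by
        calc h⁻¹ * (a' * b') * h = (h⁻¹ * a' * h) * (h⁻¹ * b' * h) := by group
          _ = (h⁻¹ * b' * h) * (h⁻¹ * a' * h) := h8
          _ = h⁻¹ * (b' * a') * h := by group
      have h10 : a' * b' = b' * a' := mul_left_cancel (mul_right_cancel h9)
      have := congrArg (fun s : H => (s : V ≃ₗ[F] V)) h10
      exact this

end Cfsg.Agent.Lib.Helper13
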