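import Mathlib
import Cfsg.Agent.Lib.Helper13.HHLin
import Cfsg.Agent.Lib.Helper13.HHOrbit
import Cfsg.Agent.Lib.Helper13.HHPrimePow

/-!
# The Hall–Higman critical case (helper13)

`G ⊇ Q ⊴ G` a `q`-group, `x` a `p`-element with `C_G(y) = ⟨x⟩ Z(G)` for `1 ≠ y ∈ ⟨x⟩`,
`ρ` faithful over an algebraically closed field of characteristic `p`, irreducible on `Q`.
Then `ρ x - 1` has nilpotency index `|x|` or `|x| - 1`, and in the latter case
`|x| - 1 = dim V` is a power of `q` and `Q` is nonabelian.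
-/

set_option autoImplicit false
set_option linter.style.haveILetI false

namespace Cfsg.Agent.Lib.Helper13

open Module

theorem hh_critical {G : Type*} [Group G] [Finite G] (p q : ℕ) [Fact p.Prime] [Fact q.Prime]
    (hpq : p ≠ q) (Q : Subgroup G) [Q.Normal] (hQ : IsPGroup q Q) (x : G)
    (hx : IsPGroup p (Subgroup.zpowers x))
    (hC : ∀ y ∈ Subgroup.zpowers x, y ≠ 1 →
      Subgroup.centralizer ({y} : Set G) = Subgroup.zpowers x ⊔ Subgroup.center G)
    {K : Type*} [Field K] [IsAlgClosed K] [CharP K p] {V : Type*} [AddCommGroup V] [Module K V]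
    [FiniteDimensional K V] [Nontrivial V] (ρ : Representation K G V)
    (hfaith : Function.Injective ρ)
    (hirr : ∀ W : Submodule K V, (∀ g ∈ Q, Submodule.map (ρ g) W ≤ W) → W = ⊥ ∨ W = ⊤)
    (s : ℕ) (hs : (ρ x - 1) ^ s = 0) (hmin : ∀ k < s, (ρ x - 1) ^ k ≠ 0) :
    Nat.card (Subgroup.zpowers x) - 1 ≤ s ∧ s ≤ Nat.card (Subgroup.zpowers x) ∧
      (s = Nat.card (Subgroup.zpowers x) - 1 →
        (∃ b : ℕ, Nat.card (Subgroup.zpowers x) - 1 = q ^ b) ∧ ¬ IsMulCommutative Q) := by
  classical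
  haveI : Fintype G := Fintype.ofFinite G
  set n := Nat.card (Subgroup.zpowers x) with hn_def
  have hno : n = orderOf x := Nat.card_zpowers x
  obtain ⟨m, hm⟩ := IsPGroup.iff_card.1 hx
  rw [← hn_def] at hm
  have hnpos : 0 < n := by rw [hno]; exact orderOf_pos x
  set u := ρ x with hu
  set u' := ρ x⁻¹ with hu'
  set N := u - 1 with hN
  have huu' : u * u' = 1 := by rw [hu, hu', ← map_mul, mul_inv_cancel, map_one]
  have hu'u : u' * u = 1 := by rw [hu, hu', ← map_mul, inv_mul_cancel, map_one]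
  have hun : u ^ n = 1 := by rw [hu, ← map_pow, hno, pow_orderOf_eq_one, map_one]
  have hu'n : u' ^ n = 1 := by
    rw [hu', ← map_pow, inv_pow, hno, pow_orderOf_eq_one, inv_one, map_one]
  have hNn : N ^ n = 0 := by
    rw [hN, hm, hh_sub_one_pow (K := K) p u m, ← hm, hun, sub_self]
  have hs1 : 1 ≤ s := by
    by_contra h
    have h0 : s = 0 := by omega
    rw [h0, pow_zero] at hs
    exact one_ne_zero hs
  have hsn : s ≤ n := by
    by_contra h
    exact hmin n (by omega) hNn
  by_cases hlt : s < n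
  swap
  · have : s = n := by omega
    refine ⟨by omega, by omega, fun h => ?_⟩
    omega
  -- main case `s < n`
  have hn2 : 2 ≤ n := by omega
  have hx1 : x ≠ 1 := by
    intro h
    rw [hno, h, orderOf_one] at hn2
    omega
  have hF1 := hh_F1 p q hpq Q hQ x hx1 hC ρ hirr
  have hgeomV : N ^ (n - 1) = ∑ i ∈ Finset.range n, u ^ i := by
    rw [hN, hm]; exact hh_geom (K := K) p u m
  have hNn1 : N ^ (n - 1) = 0 := by
    have : n - 1 = s + (n - 1 - s) := by omega
    rw [this, pow_add, hs, zero_mul]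
  have hcommN : ∀ b : Module.End K V, b * N = N * b → u * b = b * u := by
    intro b hb
    rw [hN, mul_sub, sub_mul, mul_one, one_mul] at hb
    exact (sub_left_inj.1 hb).symm
  have hu'fix : ∀ w ∈ LinearMap.ker N, ∀ i : ℕ, (u' ^ i) w = w := by
    intro w hw i
    have h1 : u w = w := by
      rw [LinearMap.mem_ker, hN, LinearMap.sub_apply, sub_eq_zero] at hw
      simpa using hw
    have h2 : u' w = w := by
      have : (u' * u) w = w := by rw [hu'u]; rfl
      rw [Module.End.mul_apply, h1] at this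
      exact this
    induction i with
    | zero => simp
    | succ i ih => rw [pow_succ, Module.End.mul_apply, h2, ih]
  have hscal : ∀ b : Module.End K V, b * N = N * b →
      ∃ c : K, ∀ w ∈ LinearMap.ker N, b w = c • w := by
    intro b hb
    obtain ⟨c, w', hbw⟩ := hF1 b (hcommN b hb)
    refine ⟨c, fun w hw => ?_⟩
    rw [hbw, ← hno, LinearMap.add_apply, LinearMap.smul_apply, LinearMap.sum_apply]
    have h1 : ∀ i ∈ Finset.range n, (u ^ i * w' * u' ^ i) w = (u ^ i) (w' w) := by
      intro i _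
      rw [Module.End.mul_apply, Module.End.mul_apply, hu'fix w hw i]
    rw [Finset.sum_congr rfl h1, ← LinearMap.sum_apply, ← hgeomV, hNn1]
    simp
  obtain ⟨v, hv⟩ : ∃ v : V, (N ^ (s - 1)) v ≠ 0 := by
    by_contra hcon
    push Not at hcon
    exact hmin (s - 1) (by omega) (LinearMap.ext hcon)
  have hker := hh_ker_le_span N s hs1 hs v hv hscal
  have hd_le : finrank K V ≤ s := hh_finrank_le_of_ker_le_span N s hs _ hker
  have hs_le : s ≤ finrank K V := by
    by_contra h
    have hnil : IsNilpotent N := ⟨s, hs⟩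
    have h1 := LinearMap.aeval_self_charpoly N
    rw [IsNilpotent.charpoly_eq_X_pow_finrank hnil] at h1
    simp only [map_pow, Polynomial.aeval_X] at h1
    exact hmin _ (by omega) h1
  have hd : finrank K V = s := le_antisymm hd_le hs_le
  -- the counting argument on `End V`
  set σ := hhSigma u u' with hσ
  set T : Module.End K (Module.End K V) := σ - 1 with hT
  have hσn : σ ^ n = 1 := by
    ext w : 1
    rw [hσ, hhSigma_pow_apply, hun, hu'n]; simp
  have hTn : T ^ n = 0 := by
    rw [hT, hm, hh_sub_one_pow (K := K) p σ m, ← hm, hσn, sub_self]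
  have hTgeom : T ^ (n - 1) = ∑ i ∈ Finset.range n, σ ^ i := by
    rw [hT, hm]; exact hh_geom (K := K) p σ m
  have hTapp : ∀ b : Module.End K V, T b = u * b * u' - b := by
    intro b
    rw [hT, LinearMap.sub_apply, hσ, hhSigma_apply]; rfl
  have hTzero : ∀ b : Module.End K V, T b = 0 ↔ u * b = b * u := by
    intro b
    rw [hTapp, sub_eq_zero]
    constructor
    · intro h
      calc u * b = u * b * (u' * u) := by rw [hu'u, mul_one]
        _ = (u * b * u') * u := by simp only [mul_assoc]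
        _ = b * u := by rw [h]
    · intro h
      rw [h, mul_assoc, huu', mul_one]
  -- the averaging functional
  have hqK : (q : K) ≠ 0 := by
    intro h0
    have := (CharP.cast_eq_zero_iff K p q).1 h0
    exact hpq ((Nat.prime_dvd_prime_iff_eq (Fact.out : p.Prime) (Fact.out : q.Prime)).1 this)
  have hQK : ((Fintype.card Q : ℕ) : K) ≠ 0 := by
    obtain ⟨k, hk⟩ := IsPGroup.iff_card.1 hQ
    rw [← Nat.card_eq_fintype_card, hk, Nat.cast_pow]
    exact pow_ne_zero _ hqK
  have hschurQ : ∀ a : Module.End K V, (∀ g ∈ Q, ρ g * a = a * ρ g) → ∃ c : K, a = c • 1 := by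
    intro a ha
    apply hh_schur (ρ '' (Q : Set G)) _ a
    · rintro _ ⟨g, hg, rfl⟩; exact ha g hg
    · intro W hW
      exact hirr W (fun g hg => hW _ ⟨g, hg, rfl⟩)
  let Sav : Module.End K (Module.End K V) :=
    ∑ g : Q, hhSigma (ρ (g : G)) (ρ ((g : G)⁻¹))
  have hSav : ∀ b, Sav b = ∑ g : Q, ρ (g : G) * b * ρ ((g : G)⁻¹) := by
    intro b
    simp only [Sav, LinearMap.sum_apply, hhSigma_apply]
  have hSavscal : ∀ b, ∃ c : K, Sav b = c • 1 := by
    intro b
    apply hschurQ
    intro g hg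
    rw [hSav]
    exact hh_avg_commute Q ρ b g hg
  obtain ⟨v1, hv1⟩ := exists_ne (0 : V)
  obtain ⟨φ0, hφ0⟩ : ∃ φ : Module.Dual K V, φ v1 ≠ 0 := by
    by_contra hcon
    push Not at hcon
    exact hv1 ((Module.forall_dual_apply_eq_zero_iff K v1).1 hcon)
  let τ : Module.End K V →ₗ[K] K :=
    (((Fintype.card Q : ℕ) : K)⁻¹ * (φ0 v1)⁻¹) • (φ0 ∘ₗ (LinearMap.applyₗ v1) ∘ₗ Sav)
  have hτapp : ∀ b, τ b = ((Fintype.card Q : ℕ) : K)⁻¹ * (φ0 v1)⁻¹ * φ0 (Sav b v1) := by
    intro b; rfl
  have hτscal : ∀ (b : Module.End K V) (c : K), Sav b = c • 1 →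
      τ b = ((Fintype.card Q : ℕ) : K)⁻¹ * c := by
    intro b c hc
    rw [hτapp, hc, LinearMap.smul_apply, Module.End.one_apply, map_smul, smul_eq_mul]
    field_simp
  have hτ1 : τ 1 = 1 := by
    have h1 : Sav 1 = ((Fintype.card Q : ℕ) : K) • (1 : Module.End K V) := by
      rw [hSav]
      have : ∀ g : Q, ρ (g : G) * 1 * ρ ((g : G)⁻¹) = 1 := by
        intro g
        rw [mul_one, ← map_mul, mul_inv_cancel, map_one]
      rw [Finset.sum_congr rfl (fun g _ => this g), Finset.sum_const, Finset.card_univ,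
        Nat.cast_smul_eq_nsmul]
    rw [hτscal 1 _ h1, inv_mul_cancel₀ hQK]
  have hτT : ∀ b, τ (T b) = 0 := by
    intro b
    obtain ⟨c, hc⟩ := hSavscal b
    have h1 : Sav (u * b * u') = c • 1 := by
      rw [hSav, hu, hu', hh_avg_conj Q ρ b x, ← hSav, hc, ← hu, ← hu', mul_smul_comm,
        smul_mul_assoc, mul_one, huu']
    rw [hTapp, map_sub, hτscal _ c h1, hτscal _ c hc, sub_self]
  have hT1 : T 1 = 0 := by rw [hTzero]; simp
  have hF : ∀ b, T b = 0 → ∃ (c : K) (w : Module.End K V), b = c • 1 + (T ^ (n - 1)) w := by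
    intro b hb
    obtain ⟨c, w, hbw⟩ := hF1 b ((hTzero b).1 hb)
    refine ⟨c, w, ?_⟩
    rw [hbw, hTgeom, LinearMap.sum_apply, ← hno]
    congr 1
    refine Finset.sum_congr rfl fun i _ => ?_
    rw [hσ, hhSigma_pow_apply]
  have hcount := hh_count T τ 1 n hn2 hTn hτ1 hT1 hτT hF
  rw [Module.finrank_linearMap, hd] at hcount
  have hCge : s ≤ finrank K (LinearMap.ker T) :=
    hh_le_finrank_commutant N s hs hmin (LinearMap.ker T) (fun b hb => by
      rw [LinearMap.mem_ker, hTzero]
      exact hcommN b hb)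
  -- `s = 1` is impossible
  have hsne1 : s ≠ 1 := by
    intro h1
    rw [h1, pow_one, hN, sub_eq_zero] at hs
    apply hx1
    apply hfaith
    rw [map_one]; exact hs
  have hsn1 : s = n - 1 := by
    by_contra hne
    have h2 : 2 ≤ s := by omega
    have h3 : s + 2 ≤ n := by omega
    have h4 : n * s ≤ n * finrank K (LinearMap.ker T) := Nat.mul_le_mul_left _ hCge
    nlinarith
  refine ⟨by omega, hsn, fun _ => ?_⟩
  -- the restriction to `Q`
  let ρQ : Q →* Module.End K V := (ρ : G →* Module.End K V).comp Q.subtype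
  have hirrQ : HHIrr ρQ := by
    intro W hW
    exact hirr W (fun g hg => hW ⟨g, hg⟩)
  constructor
  · obtain ⟨b, hb⟩ := hh_finrank_prime_pow q hQ ρQ hirrQ
    exact ⟨b, by rw [← hsn1, ← hd, hb]⟩
  · intro hcomm
    have h1 := hirrQ.finrank_eq_one_of_comm (fun g g' => by
      rw [← map_mul, ← map_mul, hcomm.is_comm.comm g g'])
    rw [hd] at h1
    exact hsne1 h1

end Cfsg.Agent.Lib.Helper13
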