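import Mathlib
import Cfsg.Agent.Lib.Helper13.HHLin
import Cfsg.Agent.Lib.Helper13.HHOrbit
import Cfsg.Agent.Lib.Helper13.HHPrimePow

/-!
# The Hall–Higman critical case, representation-theoretic form (helper13)

A version of `hh_critical` for a not necessarily faithful representation, with `Q` only
normalised by `x`: the hypothesis on centralisers is replaced by
"elements of `Q` commuting with `y = x^(p^(m-1))` act as scalars".
-/

set_option autoImplicit false
set_option linter.style.haveILetI false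

namespace Cfsg.Agent.Lib.Helper13

open Module

section ConjN

variable {G : Type*} [Group G]

/-- conjugation by a normalising element as a permutation of a subgroup -/
def hhConjN (Q : Subgroup G) (x : G) (hx : x ∈ Subgroup.normalizer (Q : Set G)) :
    Equiv.Perm Q where
  toFun g := ⟨x * g * x⁻¹, (Subgroup.mem_normalizer_iff.1 hx g).1 g.2⟩
  invFun g := ⟨x⁻¹ * g * x, by
    have := (Subgroup.mem_normalizer_iff.1 (Subgroup.inv_mem _ hx) g).1 g.2
    simpa using this⟩
  left_inv g := by ext; simp [mul_assoc]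
  right_inv g := by ext; simp [mul_assoc]

theorem hhConjN_pow_apply (Q : Subgroup G) (x : G) (hx : x ∈ Subgroup.normalizer (Q : Set G))
    (i : ℕ) (g : Q) : (((hhConjN Q x hx) ^ i) g : G) = x ^ i * g * (x ^ i)⁻¹ := by
  induction i with
  | zero => simp
  | succ i ih =>
    rw [pow_succ', Equiv.Perm.mul_apply]
    change x * ((hhConjN Q x hx ^ i) g : G) * x⁻¹ = _
    rw [ih, pow_succ']
    simp [mul_assoc]

/-- in a cyclic `p`-group every nontrivial subgroup contains the subgroup of order `p` -/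
theorem hh_commute_pow_of_commute {p : ℕ} [Fact p.Prime] (x g : G) (m : ℕ) (hm : 1 ≤ m)
    (hxm : x ^ (p ^ m) = 1) (i : ℕ) (hi0 : 0 < i) (hi : i < p ^ m)
    (hc : x ^ i * g = g * x ^ i) : x ^ (p ^ (m - 1)) * g = g * x ^ (p ^ (m - 1)) := by
  have hp : p.Prime := Fact.out
  set S := Subgroup.centralizer ({g} : Set G) with hS
  have hmemS : ∀ z : G, z ∈ S ↔ z * g = g * z := fun z =>
    Subgroup.mem_centralizer_singleton_iff
  have h1 : x ^ i ∈ S := (hmemS _).2 hc
  have h2 : x ^ (p ^ m) ∈ S := by rw [hxm]; exact S.one_mem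
  -- x ^ gcd ∈ S
  have h3 : x ^ (Nat.gcd i (p ^ m)) ∈ S := by
    have hb := Nat.gcd_eq_gcd_ab i (p ^ m)
    have : x ^ ((Nat.gcd i (p ^ m) : ℕ) : ℤ) ∈ S := by
      rw [hb, zpow_add, zpow_mul, zpow_mul, zpow_natCast, zpow_natCast]
      exact S.mul_mem (S.zpow_mem h1 _) (S.zpow_mem h2 _)
    rwa [zpow_natCast] at this
  obtain ⟨v, hvm, hv⟩ := (Nat.dvd_prime_pow hp).1 (Nat.gcd_dvd_right i (p ^ m))
  have hvlt : v < m := by
    by_contra hge
    have hvm' : v = m := by omega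
    have h4 : Nat.gcd i (p ^ m) ≤ i := Nat.le_of_dvd hi0 (Nat.gcd_dvd_left _ _)
    rw [hv, hvm'] at h4
    omega
  rw [hv] at h3
  have h5 : x ^ (p ^ (m - 1)) = (x ^ (p ^ v)) ^ (p ^ (m - 1 - v)) := by
    rw [← pow_mul, ← pow_add]; congr 2; omega
  rw [← hmemS, h5]
  exact S.pow_mem h3 _

end ConjN

section AvgN

variable {G : Type*} [Group G] {K : Type*} [Field K] {V : Type*} [AddCommGroup V] [Module K V]

/-- conjugating the argument of the `Q`-sum by a normalising element conjugates the sum -/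
theorem hh_avg_conjN (Q : Subgroup G) (x : G) (hx : x ∈ Subgroup.normalizer (Q : Set G))
    [Fintype Q] (ρ : Representation K G V) (b : Module.End K V) :
    ∑ g : Q, ρ (g : G) * (ρ x * b * ρ x⁻¹) * ρ ((g : G)⁻¹) =
      ρ x * (∑ g : Q, ρ (g : G) * b * ρ ((g : G)⁻¹)) * ρ x⁻¹ := by
  have e1 : ∀ g : G, ρ x * (ρ (x⁻¹ * g * x⁻¹⁻¹) * b * ρ ((x⁻¹ * g * x⁻¹⁻¹)⁻¹)) * ρ x⁻¹ =
      ρ g * (ρ x * b * ρ x⁻¹) * ρ g⁻¹ := by
    intro g
    have h1 : ρ x * ρ (x⁻¹ * g * x⁻¹⁻¹) = ρ g * ρ x := by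
      rw [← map_mul, ← map_mul]; congr 1; group
    have h2 : ρ ((x⁻¹ * g * x⁻¹⁻¹)⁻¹) * ρ x⁻¹ = ρ x⁻¹ * ρ g⁻¹ := by
      rw [← map_mul, ← map_mul]; congr 1; group
    calc ρ x * (ρ (x⁻¹ * g * x⁻¹⁻¹) * b * ρ ((x⁻¹ * g * x⁻¹⁻¹)⁻¹)) * ρ x⁻¹
        = (ρ x * ρ (x⁻¹ * g * x⁻¹⁻¹)) * b * (ρ ((x⁻¹ * g * x⁻¹⁻¹)⁻¹) * ρ x⁻¹) := by
          simp only [mul_assoc]
      _ = ρ g * (ρ x * b * ρ x⁻¹) * ρ g⁻¹ := by rw [h1, h2]; simp only [mul_assoc]
  rw [Finset.mul_sum, Finset.sum_mul]
  rw [← Equiv.sum_comp (hhConjN Q x⁻¹ (Subgroup.inv_mem _ hx))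
    (fun g : Q => ρ x * (ρ (g : G) * b * ρ ((g : G)⁻¹)) * ρ x⁻¹)]
  refine Finset.sum_congr rfl fun g _ => ?_
  exact (e1 g).symm

end AvgN

section F1N

variable {G : Type*} [Group G] [Finite G] {K : Type*} [Field K] {V : Type*} [AddCommGroup V]
  [Module K V]

/-- **Key structural fact**, representation-theoretic form. -/
theorem hh_F1N (p q : ℕ) [Fact p.Prime] [Fact q.Prime] (hpq : p ≠ q)
    (Q : Subgroup G) (hQ : IsPGroup q Q) (x : G)
    (hxQ : x ∈ Subgroup.normalizer (Q : Set G)) (m : ℕ) (hm : 1 ≤ m) (hxm : x ^ (p ^ m) = 1)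
    [IsAlgClosed K] [CharP K p] [FiniteDimensional K V] [Nontrivial V]
    (ρ : Representation K G V)
    (hirr : ∀ W : Submodule K V, (∀ g ∈ Q, Submodule.map (ρ g) W ≤ W) → W = ⊥ ∨ W = ⊤)
    (hH1 : ∀ g ∈ Q, x ^ (p ^ (m - 1)) * g = g * x ^ (p ^ (m - 1)) → ∃ c : K, ρ g = c • 1)
    (b : Module.End K V) (hb : ρ x * b = b * ρ x) :
    ∃ (c : K) (w : Module.End K V),
      b = c • 1 + ∑ i ∈ Finset.range (p ^ m), ρ x ^ i * w * ρ x⁻¹ ^ i := by
  classical
  haveI : Fintype G := Fintype.ofFinite G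
  have hschur : ∀ a : Module.End K V, (∀ g ∈ Q, ρ g * a = a * ρ g) → ∃ c : K, a = c • 1 := by
    intro a ha
    apply hh_schur (ρ '' (Q : Set G)) _ a
    · rintro _ ⟨g, hg, rfl⟩; exact ha g hg
    · intro W hW
      exact hirr W (fun g hg => hW _ ⟨g, hg, rfl⟩)
  have hinv : ∀ g : G, ρ g * ρ g⁻¹ = 1 := fun g => by rw [← map_mul, mul_inv_cancel, map_one]
  have hinv' : ∀ g : G, ρ g⁻¹ * ρ g = 1 := fun g => by rw [← map_mul, inv_mul_cancel, map_one]
  set y := x ^ (p ^ (m - 1)) with hy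
  have hxy : x * y = y * x := by rw [hy, ← pow_succ', ← pow_succ]
  set n := p ^ m with hn_def
  have hn : 0 < n := pow_pos (Fact.out : p.Prime).pos m
  set π := hhConjN Q x hxQ with hπ_def
  have hπn : π ^ n = 1 := by
    ext g
    rw [hhConjN_pow_apply, hxm]; simp
  set f : Q → Module.End K V := fun g => ρ (g : G) * b * ρ ((g : G)⁻¹) with hf_def
  set σ := hhSigma (ρ x) (ρ x⁻¹) with hσ_def
  have hub : ρ x⁻¹ * b * ρ x = b := by
    rw [mul_assoc, ← hb, ← mul_assoc, hinv', one_mul]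
  have hπcoe : ∀ g : Q, ((π g : Q) : G) = x * g * x⁻¹ := fun g => rfl
  have hf : ∀ g, f (π g) = σ (f g) := by
    intro g
    rw [hσ_def, hhSigma_apply]
    simp only [hf_def, hπcoe]
    have h1 : (x * (g : G) * x⁻¹)⁻¹ = x * (g : G)⁻¹ * x⁻¹ := by group
    rw [h1]
    simp only [map_mul]
    calc ρ x * ρ (g : G) * ρ x⁻¹ * b * (ρ x * ρ (g : G)⁻¹ * ρ x⁻¹)
        = ρ x * ρ (g : G) * (ρ x⁻¹ * b * ρ x) * ρ (g : G)⁻¹ * ρ x⁻¹ := by
          simp only [mul_assoc]
      _ = ρ x * (ρ (g : G) * b * ρ (g : G)⁻¹) * ρ x⁻¹ := by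
          rw [hub]; simp only [mul_assoc]
  -- elements commuting with `y`
  have hfix : ∀ g : Q, y * (g : G) = g * y → f g = b := by
    intro g hg
    obtain ⟨c, hc⟩ := hH1 g g.2 hg
    have hcomm : ρ (g : G) * b = b * ρ (g : G) := by
      rw [hc, smul_mul_assoc, one_mul, mul_smul_comm, mul_one]
    simp only [hf_def]
    rw [hcomm, mul_assoc, hinv, mul_one]
  set Y : Finset Q := Finset.univ.filter (fun g : Q => ¬ y * (g : G) = g * y) with hY_def
  have hYinv : ∀ g ∈ Y, π g ∈ Y := by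
    intro g hg
    rw [hY_def, Finset.mem_filter] at hg ⊢
    refine ⟨Finset.mem_univ _, fun h => hg.2 ?_⟩
    rw [hπcoe] at h
    -- y * (x g x⁻¹) = (x g x⁻¹) * y  ⇒  y g = g y
    have h1 : x⁻¹ * (y * (x * g * x⁻¹)) * x = x⁻¹ * ((x * g * x⁻¹) * y) * x := by rw [h]
    have hxy' : x⁻¹ * y = y * x⁻¹ := by
      have := congrArg (fun z => x⁻¹ * z * x⁻¹) hxy
      simp only [mul_assoc, mul_inv_cancel, mul_one, inv_mul_cancel_left] at this
      exact this.symm
    calc y * (g : G) = x⁻¹ * (y * (x * g * x⁻¹)) * x := by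
          rw [← mul_assoc x⁻¹ y, hxy']; group
      _ = x⁻¹ * ((x * g * x⁻¹) * y) * x := h1
      _ = g * y := by
          have : x⁻¹ * (x * (g : G) * x⁻¹ * y) * x = g * (x⁻¹ * y * x) := by group
          rw [this, hxy']; group
  have hYfree : ∀ g ∈ Y, ∀ i, 0 < i → i < n → (π ^ i) g ≠ g := by
    intro g hg i hi0 hin hig
    rw [hY_def, Finset.mem_filter] at hg
    apply hg.2
    have h1 : x ^ i * (g : G) * (x ^ i)⁻¹ = g := by
      rw [← hhConjN_pow_apply Q x hxQ i g, ← hπ_def, hig]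
    have h2 : x ^ i * (g : G) = g * x ^ i := by
      have := congrArg (· * x ^ i) h1
      simpa [mul_assoc] using this
    exact hh_commute_pow_of_commute x g m hm hxm i hi0 hin h2
  obtain ⟨w, hw⟩ := hh_orbit_sum π n hn hπn σ f hf Y hYinv hYfree
  obtain ⟨c0, hc0⟩ : ∃ c0 : K, ∑ g : Q, f g = c0 • 1 := by
    apply hschur
    intro h hh
    exact hh_avg_commute Q ρ b h hh
  have hsplit : ∑ g : Q, f g =
      (Finset.univ.filter (fun g : Q => y * (g : G) = g * y)).card • b + ∑ g ∈ Y, f g := by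
    rw [← Finset.sum_filter_add_sum_filter_not Finset.univ (fun g : Q => y * (g : G) = g * y)]
    congr 1
    rw [Finset.sum_congr rfl (fun g hg => hfix g (Finset.mem_filter.1 hg).2), Finset.sum_const]
  have hqK : (q : K) ≠ 0 := by
    intro h0
    have := (CharP.cast_eq_zero_iff K p q).1 h0
    exact hpq ((Nat.prime_dvd_prime_iff_eq (Fact.out : p.Prime) (Fact.out : q.Prime)).1 this)
  have hcardK : (((Finset.univ.filter (fun g : Q => y * (g : G) = g * y)).card : ℕ) : K) ≠ 0 := by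
    let F : Subgroup Q := (Subgroup.centralizer ({y} : Set G)).subgroupOf Q
    have hFmem : ∀ g : Q, g ∈ F ↔ y * (g : G) = g * y := by
      intro g
      rw [Subgroup.mem_subgroupOf, Subgroup.mem_centralizer_singleton_iff]
      exact eq_comm
    have hcard : (Finset.univ.filter (fun g : Q => y * (g : G) = g * y)).card = Nat.card F := by
      rw [Nat.card_eq_fintype_card, Fintype.card_subtype]
      congr 1
      ext g
      simp only [Finset.mem_filter, Finset.mem_univ, true_and]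
      exact (hFmem g).symm
    obtain ⟨k, hk⟩ := IsPGroup.iff_card.1 (hQ.to_subgroup F)
    rw [hcard, hk, Nat.cast_pow]
    exact pow_ne_zero _ hqK
  set kF : K := (((Finset.univ.filter (fun g : Q => y * (g : G) = g * y)).card : ℕ) : K)
    with hkF
  refine ⟨kF⁻¹ * c0, -(kF⁻¹ • w), ?_⟩
  have hmain : c0 • (1 : Module.End K V) = kF • b + ∑ i ∈ Finset.range n, (σ ^ i) w := by
    rw [← hc0, hsplit, hw, hkF, Nat.cast_smul_eq_nsmul]
  have hsum : ∑ i ∈ Finset.range n, ρ x ^ i * -(kF⁻¹ • w) * ρ x⁻¹ ^ i =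
      -(kF⁻¹ • ∑ i ∈ Finset.range n, (σ ^ i) w) := by
    rw [Finset.smul_sum, ← Finset.sum_neg_distrib]
    refine Finset.sum_congr rfl fun i _ => ?_
    rw [hσ_def, hhSigma_pow_apply]
    simp
  rw [hsum]
  have h2 : ∑ i ∈ Finset.range n, (σ ^ i) w = c0 • (1 : Module.End K V) - kF • b := by
    rw [hmain]; abel
  rw [h2, smul_sub, smul_smul, smul_smul, inv_mul_cancel₀ hcardK, one_smul]
  abel

end F1N

section CriticalN

/-- **Hall–Higman critical case**, representation-theoretic form: `ρ` need not be faithful and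
`Q` need only be normalised by `x`. -/
theorem hh_criticalN {G : Type*} [Group G] [Finite G] (p q : ℕ) [Fact p.Prime] [Fact q.Prime]
    (hpq : p ≠ q) (Q : Subgroup G) (hQ : IsPGroup q Q) (x : G)
    (hxQ : x ∈ Subgroup.normalizer (Q : Set G)) (m : ℕ) (hm : 1 ≤ m) (hxm : x ^ (p ^ m) = 1)
    {K : Type*} [Field K] [IsAlgClosed K] [CharP K p] {V : Type*} [AddCommGroup V] [Module K V]
    [FiniteDimensional K V] [Nontrivial V] (ρ : Representation K G V)
    (hρx : ρ x ≠ 1)
    (hirr : ∀ W : Submodule K V, (∀ g ∈ Q, Submodule.map (ρ g) W ≤ W) → W = ⊥ ∨ W = ⊤)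
    (hH1 : ∀ g ∈ Q, x ^ (p ^ (m - 1)) * g = g * x ^ (p ^ (m - 1)) → ∃ c : K, ρ g = c • 1)
    (s : ℕ) (hs : (ρ x - 1) ^ s = 0) (hmin : ∀ k < s, (ρ x - 1) ^ k ≠ 0) :
    p ^ m - 1 ≤ s ∧ s ≤ p ^ m ∧
      (s = p ^ m - 1 →
        (∃ b : ℕ, p ^ m - 1 = q ^ b) ∧ ¬ (∀ g ∈ Q, ∀ h ∈ Q, g * h = h * g)) := by
  classical
  haveI : Fintype G := Fintype.ofFinite G
  set n := p ^ m with hn_def
  have hnpos : 0 < n := pow_pos (Fact.out : p.Prime).pos m
  set u := ρ x with hu
  set u' := ρ x⁻¹ with hu'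
  set N := u - 1 with hN
  have huu' : u * u' = 1 := by rw [hu, hu', ← map_mul, mul_inv_cancel, map_one]
  have hu'u : u' * u = 1 := by rw [hu, hu', ← map_mul, inv_mul_cancel, map_one]
  have hun : u ^ n = 1 := by rw [hu, ← map_pow, hxm, map_one]
  have hu'n : u' ^ n = 1 := by
    rw [hu', ← map_pow, inv_pow, hxm, inv_one, map_one]
  have hNn : N ^ n = 0 := by
    rw [hN, hn_def, hh_sub_one_pow (K := K) p u m, ← hn_def, hun, sub_self]
  have hs1 : 1 ≤ s := by
    by_contra h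
    have h0 : s = 0 := by omega
    rw [h0, pow_zero] at hs
    exact one_ne_zero hs
  have hsn : s ≤ n := by
    by_contra h
    exact hmin n (by omega) hNn
  by_cases hlt : s < n
  swap
  · have : s = n := by omega
    refine ⟨by omega, by omega, fun h => ?_⟩
    omega
  have hn2 : 2 ≤ n := by omega
  have hF1 := hh_F1N p q hpq Q hQ x hxQ m hm hxm ρ hirr hH1
  have hgeomV : N ^ (n - 1) = ∑ i ∈ Finset.range n, u ^ i := by
    rw [hN, hn_def]; exact hh_geom (K := K) p u m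
  have hNn1 : N ^ (n - 1) = 0 := by
    have : n - 1 = s + (n - 1 - s) := by omega
    rw [this, pow_add, hs, zero_mul]
  have hcommN : ∀ b : Module.End K V, b * N = N * b → u * b = b * u := by
    intro b hb
    rw [hN, mul_sub, sub_mul, mul_one, one_mul] at hb
    exact (sub_left_inj.1 hb).symm
  have hu'fix : ∀ w ∈ LinearMap.ker N, ∀ i : ℕ, (u' ^ i) w = w := by
    intro w hw i
    have h1 : u w = w := by
      rw [LinearMap.mem_ker, hN, LinearMap.sub_apply, sub_eq_zero] at hw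
      simpa using hw
    have h2 : u' w = w := by
      have : (u' * u) w = w := by rw [hu'u]; rfl
      rw [Module.End.mul_apply, h1] at this
      exact this
    induction i with
    | zero => simp
    | succ i ih => rw [pow_succ, Module.End.mul_apply, h2, ih]
  have hscal : ∀ b : Module.End K V, b * N = N * b →
      ∃ c : K, ∀ w ∈ LinearMap.ker N, b w = c • w := by
    intro b hb
    obtain ⟨c, w', hbw⟩ := hF1 b (hcommN b hb)
    refine ⟨c, fun w hw => ?_⟩
    rw [hbw, LinearMap.add_apply, LinearMap.smul_apply, LinearMap.sum_apply]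
    have h1 : ∀ i ∈ Finset.range n, (u ^ i * w' * u' ^ i) w = (u ^ i) (w' w) := by
      intro i _
      rw [Module.End.mul_apply, Module.End.mul_apply, hu'fix w hw i]
    rw [Finset.sum_congr rfl h1, ← LinearMap.sum_apply, ← hgeomV, hNn1]
    simp
  obtain ⟨v, hv⟩ : ∃ v : V, (N ^ (s - 1)) v ≠ 0 := by
    by_contra hcon
    push Not at hcon
    exact hmin (s - 1) (by omega) (LinearMap.ext hcon)
  have hker := hh_ker_le_span N s hs1 hs v hv hscal
  have hd_le : finrank K V ≤ s := hh_finrank_le_of_ker_le_span N s hs _ hker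
  have hs_le : s ≤ finrank K V := by
    by_contra h
    have hnil : IsNilpotent N := ⟨s, hs⟩
    have h1 := LinearMap.aeval_self_charpoly N
    rw [IsNilpotent.charpoly_eq_X_pow_finrank hnil] at h1
    simp only [map_pow, Polynomial.aeval_X] at h1
    exact hmin _ (by omega) h1
  have hd : finrank K V = s := le_antisymm hd_le hs_le
  set σ := hhSigma u u' with hσ
  set T : Module.End K (Module.End K V) := σ - 1 with hT
  have hσn : σ ^ n = 1 := by
    ext w : 1
    rw [hσ, hhSigma_pow_apply, hun, hu'n]; simp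
  have hTn : T ^ n = 0 := by
    rw [hT, hn_def, hh_sub_one_pow (K := K) p σ m, ← hn_def, hσn, sub_self]
  have hTgeom : T ^ (n - 1) = ∑ i ∈ Finset.range n, σ ^ i := by
    rw [hT, hn_def]; exact hh_geom (K := K) p σ m
  have hTapp : ∀ b : Module.End K V, T b = u * b * u' - b := by
    intro b
    rw [hT, LinearMap.sub_apply, hσ, hhSigma_apply]; rfl
  have hTzero : ∀ b : Module.End K V, T b = 0 ↔ u * b = b * u := by
    intro b
    rw [hTapp, sub_eq_zero]
    constructor
    · intro h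
      calc u * b = u * b * (u' * u) := by rw [hu'u, mul_one]
        _ = (u * b * u') * u := by simp only [mul_assoc]
        _ = b * u := by rw [h]
    · intro h
      rw [h, mul_assoc, huu', mul_one]
  have hqK : (q : K) ≠ 0 := by
    intro h0
    have := (CharP.cast_eq_zero_iff K p q).1 h0
    exact hpq ((Nat.prime_dvd_prime_iff_eq (Fact.out : p.Prime) (Fact.out : q.Prime)).1 this)
  have hQK : ((Fintype.card Q : ℕ) : K) ≠ 0 := by
    obtain ⟨k, hk⟩ := IsPGroup.iff_card.1 hQ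
    rw [← Nat.card_eq_fintype_card, hk, Nat.cast_pow]
    exact pow_ne_zero _ hqK
  have hschurQ : ∀ a : Module.End K V, (∀ g ∈ Q, ρ g * a = a * ρ g) → ∃ c : K, a = c • 1 := by
    intro a ha
    apply hh_schur (ρ '' (Q : Set G)) _ a
    · rintro _ ⟨g, hg, rfl⟩; exact ha g hg
    · intro W hW
      exact hirr W (fun g hg => hW _ ⟨g, hg, rfl⟩)
  let Sav : Module.End K (Module.End K V) :=
    ∑ g : Q, hhSigma (ρ (g : G)) (ρ ((g : G)⁻¹))
  have hSav : ∀ b, Sav b = ∑ g : Q, ρ (g : G) * b * ρ ((g : G)⁻¹) := by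
    intro b
    simp only [Sav, LinearMap.sum_apply, hhSigma_apply]
  have hSavscal : ∀ b, ∃ c : K, Sav b = c • 1 := by
    intro b
    apply hschurQ
    intro g hg
    rw [hSav]
    exact hh_avg_commute Q ρ b g hg
  obtain ⟨v1, hv1⟩ := exists_ne (0 : V)
  obtain ⟨φ0, hφ0⟩ : ∃ φ : Module.Dual K V, φ v1 ≠ 0 := by
    by_contra hcon
    push Not at hcon
    exact hv1 ((Module.forall_dual_apply_eq_zero_iff K v1).1 hcon)
  let τ : Module.End K V →ₗ[K] K :=
    (((Fintype.card Q : ℕ) : K)⁻¹ * (φ0 v1)⁻¹) • (φ0 ∘ₗ (LinearMap.applyₗ v1) ∘ₗ Sav)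
  have hτapp : ∀ b, τ b = ((Fintype.card Q : ℕ) : K)⁻¹ * (φ0 v1)⁻¹ * φ0 (Sav b v1) := by
    intro b; rfl
  have hτscal : ∀ (b : Module.End K V) (c : K), Sav b = c • 1 →
      τ b = ((Fintype.card Q : ℕ) : K)⁻¹ * c := by
    intro b c hc
    rw [hτapp, hc, LinearMap.smul_apply, Module.End.one_apply, map_smul, smul_eq_mul]
    field_simp
  have hτ1 : τ 1 = 1 := by
    have h1 : Sav 1 = ((Fintype.card Q : ℕ) : K) • (1 : Module.End K V) := by
      rw [hSav]
      have : ∀ g : Q, ρ (g : G) * 1 * ρ ((g : G)⁻¹) = 1 := by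
        intro g
        rw [mul_one, ← map_mul, mul_inv_cancel, map_one]
      rw [Finset.sum_congr rfl (fun g _ => this g), Finset.sum_const, Finset.card_univ,
        Nat.cast_smul_eq_nsmul]
    rw [hτscal 1 _ h1, inv_mul_cancel₀ hQK]
  have hτT : ∀ b, τ (T b) = 0 := by
    intro b
    obtain ⟨c, hc⟩ := hSavscal b
    have h1 : Sav (u * b * u') = c • 1 := by
      rw [hSav, hu, hu', hh_avg_conjN Q x hxQ ρ b, ← hSav, hc, ← hu, ← hu', mul_smul_comm,
        smul_mul_assoc, mul_one, huu']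
    rw [hTapp, map_sub, hτscal _ c h1, hτscal _ c hc, sub_self]
  have hT1 : T 1 = 0 := by rw [hTzero]; simp
  have hF : ∀ b, T b = 0 → ∃ (c : K) (w : Module.End K V), b = c • 1 + (T ^ (n - 1)) w := by
    intro b hb
    obtain ⟨c, w, hbw⟩ := hF1 b ((hTzero b).1 hb)
    refine ⟨c, w, ?_⟩
    rw [hbw, hTgeom, LinearMap.sum_apply]
    congr 1
    refine Finset.sum_congr rfl fun i _ => ?_
    rw [hσ, hhSigma_pow_apply]
  have hcount := hh_count T τ 1 n hn2 hTn hτ1 hT1 hτT hF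
  rw [Module.finrank_linearMap, hd] at hcount
  have hCge : s ≤ finrank K (LinearMap.ker T) :=
    hh_le_finrank_commutant N s hs hmin (LinearMap.ker T) (fun b hb => by
      rw [LinearMap.mem_ker, hTzero]
      exact hcommN b hb)
  have hsne1 : s ≠ 1 := by
    intro h1
    rw [h1, pow_one, hN, sub_eq_zero] at hs
    exact hρx hs
  have hsn1 : s = n - 1 := by
    by_contra hne
    have h2 : 2 ≤ s := by omega
    have h3 : s + 2 ≤ n := by omega
    have h4 : n * s ≤ n * finrank K (LinearMap.ker T) := Nat.mul_le_mul_left _ hCge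
    nlinarith
  refine ⟨by omega, hsn, fun _ => ?_⟩
  let ρQ : Q →* Module.End K V := (ρ : G →* Module.End K V).comp Q.subtype
  have hirrQ : HHIrr ρQ := by
    intro W hW
    exact hirr W (fun g hg => hW ⟨g, hg⟩)
  constructor
  · obtain ⟨b, hb⟩ := hh_finrank_prime_pow q hQ ρQ hirrQ
    exact ⟨b, by rw [← hsn1, ← hd, hb]⟩
  · intro hcomm
    have h1 := hirrQ.finrank_eq_one_of_comm (fun g g' => by
      show ρ (g : G) * ρ (g' : G) = ρ (g' : G) * ρ (g : G)
      rw [← map_mul, ← map_mul, hcomm g g.2 g' g'.2])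
    rw [hd] at h1
    exact hsne1 h1

end CriticalN

end Cfsg.Agent.Lib.Helper13
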