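import Mathlib

/-!
# HallAlt pack (architect helper38), keystones 253806 (K-HA-P1) and 253807 (K-HA-P2)

A primitive permutation group containing a cycle of prime length `p`:
* `p + 1 = n`  ⟹ 2-transitive (Jordan) ⟹ `n (n - 1) ∣ |H|`;
* `p + 2 ≤ n`  ⟹ 3-transitive (Jordan) ⟹ `3 ∣ |H|`.
-/

set_option autoImplicit false
set_option linter.style.haveILetI false
open scoped Pointwise

namespace Cfsg.Agent.Lib.Helper13.HallAlt

/-- the index of the pointwise stabiliser of a `k`-set in a `k`-transitive group is
`n (n-1) ... (n-k+1)`, which therefore divides the order of the group. -/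
theorem descFactorial_dvd_card_of_isMultiplyPretransitive {α : Type} [Finite α]
    (H : Subgroup (Equiv.Perm α)) (k : ℕ) (hk : k ≤ Nat.card α)
    (hH : MulAction.IsMultiplyPretransitive ↥H α k) :
    (Nat.card α).descFactorial k ∣ Nat.card H := by
  classical
  haveI := Fintype.ofFinite α
  obtain ⟨t, -, ht⟩ := Finset.exists_subset_card_eq (s := (Finset.univ : Finset α)) (n := k)
    (by rw [Finset.card_univ, ← Nat.card_eq_fintype_card]; exact hk)
  have hs : (t : Set α).ncard = k := by rw [Set.ncard_coe_finset, ht]
  have h1 := MulAction.IsMultiplyPretransitive.index_of_fixingSubgroup_eq (G := ↥H) (t : Set α)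
    (by rw [hs]; exact hH)
  rw [hs] at h1
  have hdvd := Subgroup.index_dvd_card (fixingSubgroup ↥H (t : Set α))
  rw [h1, mul_comm, ← Nat.descFactorial_eq_factorial_mul_choose] at hdvd
  exact hdvd

/-- **K-HA-P2** (253807). -/
theorem card_dvd_of_prim_cycle {α : Type} [Finite α] (H : Subgroup (Equiv.Perm α))
    (hprim : MulAction.IsPreprimitive ↥H α) (g : Equiv.Perm α) (hg : g ∈ H) (hc : g.IsCycle)
    (p : ℕ) (hp : p.Prime) (hgp : {x | g x ≠ x}.ncard = p) (hpn : p + 1 = Nat.card α) :
    Nat.card α * (Nat.card α - 1) ∣ Nat.card H := by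
  classical
  haveI := Fintype.ofFinite α
  have hsupp : (g.support : Set α) = {x | g x ≠ x} := by
    ext x; simp [Equiv.Perm.mem_support]
  have hcard : g.support.card = p := by rw [← Set.ncard_coe_finset, hsupp, hgp]
  have hs : ((g.support : Set α)ᶜ).ncard = 0 + 1 := by
    have := Set.ncard_add_ncard_compl (g.support : Set α)
    rw [Set.ncard_coe_finset, hcard] at this
    omega
  have h2 : MulAction.IsMultiplyPretransitive H α 2 :=
    hprim.is_two_pretransitive hs (by have := hp.two_le; omega)
      (Equiv.Perm.isPretransitive_of_isCycle_mem hc hg)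
  have h3 := descFactorial_dvd_card_of_isMultiplyPretransitive H 2
    (by have := hp.two_le; omega) h2
  have h4 : (Nat.card α).descFactorial 2 = Nat.card α * (Nat.card α - 1) := by
    rw [Nat.descFactorial_succ, Nat.descFactorial_one, mul_comm]
  rw [h4] at h3
  exact h3

/-- **K-HA-P1** (253806). -/
theorem three_dvd_card_of_prim_cycle {α : Type} [Finite α] (H : Subgroup (Equiv.Perm α))
    (hprim : MulAction.IsPreprimitive ↥H α) (g : Equiv.Perm α) (hg : g ∈ H) (hc : g.IsCycle)
    (p : ℕ) (hp : p.Prime) (hgp : {x | g x ≠ x}.ncard = p) (hpn : p + 2 ≤ Nat.card α) :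
    3 ∣ Nat.card H := by
  classical
  haveI := Fintype.ofFinite α
  have hp2 := hp.two_le
  have hsupp : (g.support : Set α) = {x | g x ≠ x} := by
    ext x; simp [Equiv.Perm.mem_support]
  have hcard : g.support.card = p := by rw [← Set.ncard_coe_finset, hsupp, hgp]
  have hs : ((g.support : Set α)ᶜ).ncard = (Nat.card α - p - 1) + 1 := by
    have := Set.ncard_add_ncard_compl (g.support : Set α)
    rw [Set.ncard_coe_finset, hcard] at this
    omega
  haveI htr : MulAction.IsPretransitive (fixingSubgroup H ((g.support : Set α)ᶜ))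
      (SubMulAction.ofFixingSubgroup H ((g.support : Set α)ᶜ)) :=
    Equiv.Perm.isPretransitive_of_isCycle_mem hc hg
  have hcardX : Nat.card (SubMulAction.ofFixingSubgroup H ((g.support : Set α)ᶜ)) = p := by
    rw [← SetLike.coe_sort_coe, Nat.card_coe_set_eq]
    have : ((SubMulAction.ofFixingSubgroup H ((g.support : Set α)ᶜ) :
        SubMulAction (fixingSubgroup H ((g.support : Set α)ᶜ)) α) : Set α) =
        (g.support : Set α) := by
      ext x
      simp [SubMulAction.mem_ofFixingSubgroup_iff]
    rw [this, Set.ncard_coe_finset, hcard]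
  have hprim' : MulAction.IsPreprimitive (fixingSubgroup H ((g.support : Set α)ᶜ))
      (SubMulAction.ofFixingSubgroup H ((g.support : Set α)ᶜ)) :=
    MulAction.IsPreprimitive.of_prime_card (by rw [hcardX]; exact hp)
  have hmp : MulAction.IsMultiplyPreprimitive H α ((Nat.card α - p - 1) + 2) :=
    hprim.isMultiplyPreprimitive hs (by omega) hprim'
  haveI hmt : MulAction.IsMultiplyPretransitive H α ((Nat.card α - p - 1) + 2) := inferInstance
  have h3t : MulAction.IsMultiplyPretransitive H α 3 :=
    MulAction.isMultiplyPretransitive_of_le (n := (Nat.card α - p - 1) + 2) (by omega) (by omega)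
  have h3 := descFactorial_dvd_card_of_isMultiplyPretransitive H 3 (by omega) h3t
  refine Dvd.dvd.trans ?_ h3
  rw [Nat.descFactorial_eq_factorial_mul_choose]
  exact Dvd.dvd.mul_right (by decide) _

end Cfsg.Agent.Lib.Helper13.HallAlt
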