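import Mathlib
import Cfsg.Agent.S0022

/-!
# K-1542 (helper13): Frobenius condition modulo a normal subgroup of the kernel

`K` a normal Hall subgroup of the finite group `L` containing the centralisers of its non-identity
elements (a Frobenius kernel), `H₁ ≤ K` normal in `L`.  Then every element of `K` outside `H₁` is
centralised modulo `H₁` only from inside `K`.  (Coprime action, S0022.)
-/

set_option autoImplicit false

namespace Cfsg.Agent.Lib.Helper13.K1542

/-- an exponent `e` with `m ∣ e` and `e ≡ 1 (mod j)` for coprime `m`, `j` -/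
theorem kf_exists_exponent {m j : ℕ} (h : Nat.Coprime m j) :
    ∃ e : ℕ, m ∣ e ∧ e % j = 1 % j := by
  obtain ⟨e, he⟩ := Nat.chineseRemainder h 0 1
  refine ⟨e, ?_, ?_⟩
  · exact (Nat.modEq_zero_iff_dvd).1 he.1
  · exact he.2

/-- **Frobenius condition modulo `H₁`.** -/
theorem frob_mod {L : Type*} [Group L] [Finite L] (K : Subgroup L) [hK : K.Normal]
    (hHall : (Nat.card K).Coprime K.index)
    (hC : ∀ k ∈ K, k ≠ 1 → Subgroup.centralizer ({k} : Set L) ≤ K)
    (H₁ : Subgroup L) [hH₁ : H₁.Normal] (hH₁K : H₁ ≤ K) :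
    ∀ k ∈ K, k ∉ H₁ → ∀ x : L, x * k * x⁻¹ * k⁻¹ ∈ H₁ → x ∈ K := by
  intro k hk hkH x hx
  by_contra hxK
  have hj : 0 < K.index := Nat.pos_of_ne_zero Subgroup.index_ne_zero_of_finite
  obtain ⟨e, hme, hej⟩ := kf_exists_exponent hHall (j := K.index)
  -- `x ^ j ∈ K`
  have hxj : x ^ K.index ∈ K := by
    have h1 : (QuotientGroup.mk x : L ⧸ K) ^ K.index = 1 := by
      have : Nat.card (L ⧸ K) = K.index := (Subgroup.index_eq_card K).symm
      rw [← this]
      exact pow_card_eq_one'
    rw [← QuotientGroup.mk_pow] at h1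
    exact (QuotientGroup.eq_one_iff _).1 h1
  set y : L := x ^ e with hy
  -- `y ∉ K`
  have hyK : y ∉ K := by
    intro hyK
    apply hxK
    -- x = x^(e) * (x^j)^(-t) with e = 1 + j t, or x^e = x * (x^j)^t
    have hdiv : e = e % K.index + K.index * (e / K.index) := (Nat.mod_add_div e K.index).symm
    by_cases hj1 : K.index = 1
    · have : K = ⊤ := Subgroup.index_eq_one.1 hj1
      rw [this]; exact Subgroup.mem_top x
    · have h1lt : 1 < K.index := lt_of_le_of_ne hj (Ne.symm hj1)
      rw [Nat.mod_eq_of_lt h1lt] at hej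
      have h2 : y = x * (x ^ K.index) ^ (e / K.index) := by
        rw [hy, hdiv, hej, pow_add, pow_one, pow_mul]
        congr 2
        rw [← hej, ← hdiv]
      have h3 : x = y * ((x ^ K.index) ^ (e / K.index))⁻¹ := by
        rw [h2]; group
      rw [h3]
      exact K.mul_mem hyK (K.inv_mem (K.pow_mem hxj _))
  -- `y ^ j = 1`
  have hyj : y ^ K.index = 1 := by
    obtain ⟨t, ht⟩ := hme
    have h1 : y ^ K.index = ((x ^ K.index) ^ Nat.card K) ^ t := by
      rw [hy, ← pow_mul, ← pow_mul, ← pow_mul, ht]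
      congr 1
      ring
    rw [h1]
    have h2 : (x ^ K.index) ^ Nat.card K = 1 := by
      have h3 : ((⟨x ^ K.index, hxj⟩ : K) ^ Nat.card K : K) = 1 := pow_card_eq_one'
      have h4 := congrArg (Subtype.val) h3
      rw [Subgroup.coe_pow, Subgroup.coe_one] at h4
      exact h4
    rw [h2, one_pow]
  -- `A = ⟨y⟩`
  set A : Subgroup L := Subgroup.zpowers y with hA
  have hAcard : Nat.card A ∣ K.index := by
    rw [hA, Nat.card_zpowers]
    exact orderOf_dvd_of_pow_eq_one hyj
  have hcop : (Nat.card A).Coprime (Nat.card K) :=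
    (Nat.Coprime.coprime_dvd_left hAcard hHall.symm)
  -- modulo `H₁`, `y` commutes with `k`
  have hcomm : ∀ a ∈ A, a * k * a⁻¹ * k⁻¹ ∈ H₁ := by
    intro a ha
    have hxq : (QuotientGroup.mk x : L ⧸ H₁) * QuotientGroup.mk k =
        QuotientGroup.mk k * QuotientGroup.mk x := by
      have h1 : (QuotientGroup.mk (x * k * x⁻¹ * k⁻¹) : L ⧸ H₁) = 1 :=
        (QuotientGroup.eq_one_iff _).2 hx
      simp only [QuotientGroup.mk_mul, QuotientGroup.mk_inv] at h1
      have h2 := mul_inv_eq_one.1 h1
      exact mul_inv_eq_iff_eq_mul.1 h2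
    have hc1 : Commute (QuotientGroup.mk x : L ⧸ H₁) (QuotientGroup.mk k) := hxq
    obtain ⟨i, rfl⟩ := Subgroup.mem_zpowers_iff.1 ha
    have hc2 : Commute (QuotientGroup.mk (y ^ i) : L ⧸ H₁) (QuotientGroup.mk k) := by
      rw [hy, QuotientGroup.mk_zpow, QuotientGroup.mk_pow]
      exact (hc1.pow_left e).zpow_left i
    apply (QuotientGroup.eq_one_iff _).1
    simp only [QuotientGroup.mk_mul, QuotientGroup.mk_inv]
    rw [hc2.eq, mul_inv_cancel_right, mul_inv_cancel]
  have hAK : A ≤ Subgroup.normalizer (K : Set L) := by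
    rw [Subgroup.normalizer_eq_top]; exact le_top
  have hKN : K ≤ Subgroup.normalizer (H₁ : Set L) := by
    rw [Subgroup.normalizer_eq_top]; exact le_top
  have hAN : A ≤ Subgroup.normalizer (H₁ : Set L) := by
    rw [Subgroup.normalizer_eq_top]; exact le_top
  have hsolv : Group.IsSolvable A ∨ Group.IsSolvable K := by
    left
    have : IsCyclic A := by rw [hA]; infer_instance
    have hmc : IsMulCommutative A := IsCyclic.isMulCommutative
    exact Group.isSolvable_of_comm (fun a b => hmc.is_comm.comm a b)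
  obtain ⟨c, hc, hkc⟩ := Cfsg.Agent.S0022.result A K hAK hcop hsolv H₁ hH₁K hKN hAN k hk hcomm
  have hcK : c ∈ K := hc.1
  have hcA : c ∈ Subgroup.centralizer (A : Set L) := hc.2
  have hc1 : c ≠ 1 := by
    intro h
    rw [h, mul_one] at hkc
    exact hkH (by simpa using H₁.inv_mem hkc)
  have hyc : y ∈ Subgroup.centralizer ({c} : Set L) := by
    rw [Subgroup.mem_centralizer_iff]
    intro z hz
    rw [Set.mem_singleton_iff] at hz
    subst hz
    rw [Subgroup.mem_centralizer_iff] at hcA
    exact (hcA y (Subgroup.mem_zpowers y)).symm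
  exact hyK (hC c hcK hc1 hyc)

end Cfsg.Agent.Lib.Helper13.K1542
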