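import Mathlib
import Cfsg.Prelude.Def_OddOrder
import Cfsg.Prelude.Def_OddOrderChar
import Cfsg.Prelude.Def_OddOrderLocal
import Cfsg.Agent.S1537
import Cfsg.Agent.S1500
import Cfsg.Agent.Lib.Helper13.K1542B
import Cfsg.Agent.Lib.Helper13.BG1542A

/-!
# K-1542 leaf F2 (helper13): in the TI case the Dade map is induction on `ℤ[S]°`
-/

set_option autoImplicit false

namespace Cfsg.Agent.Lib.Helper13.K1542

open Cfsg Cfsg.Agent.Lib.Helper34

section Basic

variable {G : Type*} [Group G]

/-- the set normalisers of `H` and of `H ∖ {1}` coincide -/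
theorem kf2_normalizer_diff (H : Subgroup G) :
    Subgroup.normalizer ((H : Set G) \ {1}) = Subgroup.normalizer (H : Set G) := by
  ext g
  rw [Subgroup.mem_set_normalizer_iff, Subgroup.mem_set_normalizer_iff]
  have hone : ∀ h : G, g * h * g⁻¹ = 1 ↔ h = 1 := by
    intro h
    constructor
    · intro hh
      have : h = g⁻¹ * (g * h * g⁻¹) * g := by group
      rw [this, hh]; group
    · rintro rfl; group
  constructor
  · intro hg h
    by_cases h1 : h = 1
    · subst h1
      have : g * 1 * g⁻¹ = (1 : G) := by group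
      rw [this]
    · have := hg h
      simp only [Set.mem_sdiff, SetLike.mem_coe, Set.mem_singleton_iff, hone, h1, not_false_eq_true,
        and_true] at this
      exact this
  · intro hg h
    simp only [Set.mem_sdiff, SetLike.mem_coe, Set.mem_singleton_iff, hone]
    have := hg h
    simp only [SetLike.mem_coe] at this
    rw [this]

/-- in the TI case the centraliser of a non-identity element of `H` lies in `N_G(H)` -/
theorem kf2_centralizer_le_normalizer (H : Subgroup G) (hTI : IsTISubset (H : Set G)) {a : G}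
    (ha : a ∈ H) (ha1 : a ≠ 1) :
    Subgroup.centralizer ({a} : Set G) ≤ Subgroup.normalizer (H : Set G) := by
  intro g hg
  by_contra hgn
  apply ha1
  refine hTI g hgn a ha ?_
  rw [Subgroup.mem_centralizer_iff] at hg
  have h1 : a * g = g * a := hg a (Set.mem_singleton a)
  have h2 : g * a * g⁻¹ = a := by rw [← h1]; group
  rw [h2]
  exact ha

end Basic

section Main

variable {G : Type*} [Group G] [Fintype G]

/-- the facts on `(A(L), L, R)` in the TI case: `A(L) = H ∖ {1}`, and `C_G(a) ≤ L`, `R(a) = 1` for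
`a ∈ A(L)` -/
theorem kf2_facts (hG : IsMinSimpleOddOrder G) (L : Subgroup G) (hL : IsCoatom L)
    (hI : IsOfTypeI L)
    (hfrob : ∀ x ∈ fittingHallOf L, x ≠ 1 →
      L ⊓ Subgroup.centralizer ({x} : Set G) ≤ fittingHallOf L)
    (hTI : IsTISubset (fittingHallOf L : Set G)) :
    ∀ a ∈ typeA L, Subgroup.centralizer ({a} : Set G) ≤ L ∧ supportR L a = ⊥ := by
  classical
  have hA : typeA L = (fittingHallOf L : Set G) \ {1} :=
    Cfsg.Agent.Lib.Helper13.BG1542.typeA_eq L hI hfrob
  have hN : Subgroup.normalizer (typeA L) = L :=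
    (Cfsg.Agent.S1537.result hG L hL (typeA L) (Or.inr (Or.inl rfl))).1
  rw [hA, kf2_normalizer_diff] at hN
  intro a ha
  rw [hA] at ha
  have ha1 : a ≠ 1 := fun h => ha.2 (by rw [h]; exact Set.mem_singleton 1)
  have hle : Subgroup.centralizer ({a} : Set G) ≤ L := by
    have := kf2_centralizer_le_normalizer (fittingHallOf L) hTI ha.1 ha1
    rwa [hN] at this
  refine ⟨hle, ?_⟩
  unfold supportR
  rw [dif_neg]
  rintro ⟨h, -⟩
  exact h hle

/-- **K-1542 leaf F2**: in the TI case the Dade map is induction on `ℤ[S]°`. -/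
theorem dade_eq_ind_of_TI {G : Type*} [Group G] [Fintype G] (hG : Cfsg.IsMinSimpleOddOrder G)
    (L : Subgroup G) [Fintype L] (hL : IsCoatom L) (hI : Cfsg.IsOfTypeI L)
    (hfrob : ∀ x ∈ Cfsg.fittingHallOf L, x ≠ 1 →
      L ⊓ Subgroup.centralizer ({x} : Set G) ≤ Cfsg.fittingHallOf L)
    (hTI : Cfsg.IsTISubset (Cfsg.fittingHallOf L : Set G)) :
    ∀ α ∈ Cfsg.zspanOn (Cfsg.inducedIrrAbove (Cfsg.fittingHall L) ⊥) {1}ᶜ,
      Cfsg.dadeIsometry (Cfsg.typeA L) L (Cfsg.supportR L) α = Cfsg.indFun L α := by
  classical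
  intro α hα
  have hD : DadeHypothesis (typeA L) L (supportR L) := kb_dadeHypothesis hG L hL
  obtain ⟨hgen, hvan⟩ := kb_mem_zspanOn_facts L hI hα
  have hcl : IsClassFunction L α := isGeneralizedCharacter_isClassFunction hgen
  have hfacts := kf2_facts hG L hL hI hfrob hTI
  -- conjugates of `a ∈ A` inside `A` come from `L`
  have hfus : ∀ a ∈ typeA L, ∀ y : G, y⁻¹ * a * y ∈ typeA L → y ∈ L := by
    intro a ha y hy
    obtain ⟨z, hz, hza⟩ := hD.fusion a ha y⁻¹ (by simpa using hy)
    have hc : z⁻¹ * y⁻¹ ∈ Subgroup.centralizer ({a} : Set G) := by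
      rw [Subgroup.mem_centralizer_iff]
      intro w hw
      rw [Set.mem_singleton_iff] at hw
      subst hw
      have h1 : z * w * z⁻¹ = y⁻¹ * w * y := by simpa using hza
      have h2 : w = z⁻¹ * (y⁻¹ * w * y) * z := by rw [← h1]; group
      calc w * (z⁻¹ * y⁻¹) = (z⁻¹ * (y⁻¹ * w * y) * z) * (z⁻¹ * y⁻¹) := by rw [← h2]
        _ = z⁻¹ * y⁻¹ * w := by group
    have h3 : z⁻¹ * y⁻¹ ∈ L := (hfacts a ha).1 hc
    have h4 : y⁻¹ ∈ L := by
      have := L.mul_mem hz h3
      simpa using this
    simpa using L.inv_mem h4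
  funext g
  by_cases hconj : ∃ a : L, (a : G) ∈ typeA L ∧ ∃ x : G, x * g * x⁻¹ = (a : G)
  · obtain ⟨a, ha, x, hx⟩ := hconj
    have h1 : dadeIsometry (typeA L) L (supportR L) α g = α a :=
      Cfsg.Agent.S1500.dade_apply hD α hcl a ha 1 (Subgroup.one_mem _) x g (by rw [hx, mul_one])
    rw [h1]
    -- the induced function at `g`
    have hcg : indFun L α g = indFun L α (a : G) := by
      have := indFun_isClassFunction L α g x
      rw [hx] at this
      exact this.symm
    rw [hcg, indFun_apply]
    have hterm : ∀ y : G, extendByZero L α (y⁻¹ * (a : G) * y) =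
        if y ∈ L then α a else 0 := by
      intro y
      by_cases hy : y ∈ L
      · rw [if_pos hy]
        have hmem : y⁻¹ * (a : G) * y ∈ L := L.mul_mem (L.mul_mem (L.inv_mem hy) a.2) hy
        rw [extendByZero_apply_mem L α hmem]
        have := hcl a (⟨y, hy⟩ : L)⁻¹
        rw [← this]
        congr 1
        apply Subtype.ext
        simp
      · rw [if_neg hy]
        by_cases hmem : y⁻¹ * (a : G) * y ∈ L
        · rw [extendByZero_apply_mem L α hmem]
          apply hvan
          intro hA
          exact hy (hfus a ha y hA)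
        · exact extendByZero_apply_not_mem L α hmem
    simp only [hterm]
    rw [Finset.sum_ite, Finset.sum_const_zero, add_zero, Finset.sum_const, nsmul_eq_mul]
    have hcard : (Finset.filter (fun y : G => y ∈ L) Finset.univ).card = Nat.card L := by
      rw [Nat.card_eq_fintype_card, Fintype.card_subtype]
    rw [hcard]
    have hne : (Nat.card L : ℂ) ≠ 0 := by exact_mod_cast Nat.card_pos.ne'
    field_simp
  · -- `g` is not conjugate into `A`: both sides vanish
    have h1 : dadeIsometry (typeA L) L (supportR L) α g = 0 := by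
      apply Cfsg.Agent.S1500.dade_apply_not_mem α g _ hD.subset
      rintro ⟨a, ha, u, hu, x, hx⟩
      rw [(hfacts a ha).2, Subgroup.mem_bot] at hu
      apply hconj
      exact ⟨⟨a, hD.subset ha⟩, ha, x, by rw [hx, hu, mul_one]⟩
    rw [h1, indFun_apply]
    have hterm : ∀ y : G, extendByZero L α (y⁻¹ * g * y) = 0 := by
      intro y
      by_cases hmem : y⁻¹ * g * y ∈ L
      · rw [extendByZero_apply_mem L α hmem]
        apply hvan
        intro hA
        apply hconj
        exact ⟨⟨_, hmem⟩, hA, y⁻¹, by simp⟩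
      · exact extendByZero_apply_not_mem L α hmem
    simp [hterm]

end Main

end Cfsg.Agent.Lib.Helper13.K1542
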