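import Mathlib
import Cfsg.Prelude.Def_OddOrder
import Cfsg.Prelude.Def_OddOrderChar
import Cfsg.Prelude.Def_OddOrderLocal
import Cfsg.Agent.S1537
import Cfsg.Agent.S1524
import Cfsg.Agent.Lib.Helper33.CNFrob
import Cfsg.Agent.Lib.Helper13.K1542F2

/-!
# K-1542 leaf F1 (helper13, parallel hand): the TI case, via Sibley (`S1524`), for induction
-/

set_option autoImplicit false

namespace Cfsg.Agent.Lib.Helper13.K1542

open Cfsg

/-- **K-1542 leaf F1**: the TI case, via Sibley (`S1524`), for induction. -/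
theorem coherent_ind_of_TI {G : Type*} [Group G] [Fintype G] (hG : Cfsg.IsMinSimpleOddOrder G)
    (L : Subgroup G) [Fintype L] (hL : IsCoatom L) (hF : Cfsg.IsOfTypeF ↥L)
    (hfrob : ∀ x ∈ Cfsg.fittingHallOf L, x ≠ 1 →
      L ⊓ Subgroup.centralizer ({x} : Set G) ≤ Cfsg.fittingHallOf L)
    (hTI : Cfsg.IsTISubset (Cfsg.fittingHallOf L : Set G)) :
    Cfsg.IsCoherent (Cfsg.inducedIrrAbove (Cfsg.fittingHall L) ⊥) {1}ᶜ
      (fun α : L → ℂ => Cfsg.indFun L α) := by
  classical
  have hI : IsOfTypeI L := ⟨hF, Or.inl hTI⟩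
  obtain ⟨-, hodd, hK1, hK2, U, hU1, hcompl, -, -⟩ := hF
  -- the normaliser of `H`
  have hN : Subgroup.normalizer (fittingHallOf L : Set G) = L := by
    have hA : typeA L = (fittingHallOf L : Set G) \ {1} :=
      Cfsg.Agent.Lib.Helper13.BG1542.typeA_eq L hI hfrob
    have hN : Subgroup.normalizer (typeA L) = L :=
      (Cfsg.Agent.S1537.result hG L hL (typeA L) (Or.inr (Or.inl rfl))).1
    rwa [hA, kf2_normalizer_diff] at hN
  have hHL : fittingHallOf L ≤ L := Cfsg.Agent.Lib.Helper13.BG1542.fittingHallOf_le L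
  have hWL : U.map L.subtype ≤ L := Subgroup.map_subtype_le U
  have hH1 : fittingHallOf L ≠ ⊥ := by
    unfold fittingHallOf
    rw [Ne, Subgroup.map_eq_bot_iff_of_injective _ L.subtype_injective]
    exact hK1
  have hW1 : U.map L.subtype ≠ ⊥ := by
    rw [Ne, Subgroup.map_eq_bot_iff_of_injective _ L.subtype_injective]
    exact hU1
  have hnil : Group.IsNilpotent (fittingHallOf L) := by
    have := Cfsg.Agent.Lib.Helper33.fittingHall_isNilpotent ↥L
    exact Group.nilpotent_of_mulEquiv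
      (Subgroup.equivMapOfInjective (fittingHall ↥L) L.subtype L.subtype_injective)
  have hHn : ∀ x ∈ L, ∀ h ∈ fittingHallOf L, x * h * x⁻¹ ∈ fittingHallOf L := by
    intro x hx h hh
    obtain ⟨k, hk, rfl⟩ := hh
    have hn : (fittingHall ↥L).Normal := inferInstance
    exact ⟨(⟨x, hx⟩ : L) * k * (⟨x, hx⟩ : L)⁻¹, hn.conj_mem k hk _, by simp⟩
  have hinf : fittingHallOf L ⊓ U.map L.subtype = ⊥ := by
    unfold fittingHallOf
    rw [← Subgroup.map_inf _ _ _ L.subtype_injective, hcompl.disjoint.eq_bot, Subgroup.map_bot]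
  have hsup : fittingHallOf L ⊔ U.map L.subtype = L := by
    unfold fittingHallOf
    rw [← Subgroup.map_sup, hcompl.sup_eq_top, ← MonoidHom.range_eq_map, Subgroup.range_subtype]
  have hfpf : ∀ w ∈ U.map L.subtype, w ≠ 1 → ∀ h ∈ fittingHallOf L, w * h = h * w → h = 1 := by
    intro w hw hw1 h hh hwh
    by_contra hh1
    have h1 : w ∈ L ⊓ Subgroup.centralizer ({h} : Set G) := by
      refine Subgroup.mem_inf.2 ⟨hWL hw, Subgroup.mem_centralizer_iff.2 ?_⟩
      intro z hz
      rw [Set.mem_singleton_iff] at hz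
      subst hz
      exact hwh.symm
    have h2 : w ∈ fittingHallOf L := hfrob h hh hh1 h1
    have h3 : w ∈ fittingHallOf L ⊓ U.map L.subtype := Subgroup.mem_inf.2 ⟨h2, hw⟩
    rw [hinf, Subgroup.mem_bot] at h3
    exact hw1 h3
  have key := Cfsg.Agent.S1524.result (fittingHallOf L) L (U.map L.subtype) hodd hHL hWL hH1 hW1
    hnil hHn hinf hsup hfpf hTI hN
  have heq : (fittingHallOf L).subgroupOf L = fittingHall ↥L := by
    unfold fittingHallOf Subgroup.subgroupOf
    exact Subgroup.comap_map_eq_self_of_injective L.subtype_injective _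
  rwa [heq] at key

end Cfsg.Agent.Lib.Helper13.K1542
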