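import Mathlib
import Cfsg.Agent.Lib.Helper14.NilpHall
import Cfsg.Agent.Lib.Helper13.Basic

set_option autoImplicit false

namespace Cfsg.Agent.Lib.Helper13

open Pointwise

variable {G : Type*} [Group G]

/-- A Sylow `p`-subgroup of the subgroup `A`, viewed as a subgroup of the ambient group. -/
noncomputable def sy (A : Subgroup G) (p : ℕ) [Fact p.Prime] : Subgroup G :=
  ((Classical.arbitrary (Sylow p A) : Sylow p A) : Subgroup A).map A.subtype

lemma sy_le (A : Subgroup G) (p : ℕ) [Fact p.Prime] : sy A p ≤ A :=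
  Subgroup.map_subtype_le _

lemma sy_isPGroup (A : Subgroup G) (p : ℕ) [Fact p.Prime] : IsPGroup p (sy A p) :=
  (Sylow.isPGroup' _).map _

lemma card_sy [Finite G] (A : Subgroup G) (p : ℕ) [Fact p.Prime] :
    Nat.card (sy A p) = p ^ (Nat.card A).factorization p := by
  unfold sy
  rw [Nat.card_congr (Subgroup.equivMapOfInjective _ A.subtype A.subtype_injective).toEquiv.symm]
  exact Sylow.card_eq_multiplicity _

lemma not_dvd_relIndex_sy [Finite G] (A : Subgroup G) (p : ℕ) [Fact p.Prime] :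
    ¬ p ∣ (sy A p).relIndex A := by
  unfold sy
  have h1 : (((Classical.arbitrary (Sylow p A) : Sylow p A) : Subgroup A).map A.subtype).subgroupOf A
      = ((Classical.arbitrary (Sylow p A) : Sylow p A) : Subgroup A) := by
    ext x
    rw [Subgroup.mem_subgroupOf]
    constructor
    · rintro ⟨y, hy, hxy⟩
      have : y = x := Subtype.ext hxy
      exact this ▸ hy
    · intro hx
      exact ⟨x, hx, rfl⟩
  rw [Subgroup.relIndex, h1]
  exact Sylow.not_dvd_index _

lemma sy_ne_bot [Finite G] (A : Subgroup G) (p : ℕ) [hp : Fact p.Prime] (h : p ∣ Nat.card A) :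
    sy A p ≠ ⊥ := by
  intro hbot
  have h1 := card_sy A p
  rw [hbot, Subgroup.card_bot] at h1
  have h2 : 0 < (Nat.card A).factorization p :=
    hp.out.factorization_pos_of_dvd Nat.card_pos.ne' h
  have h3 : p ∣ p ^ (Nat.card A).factorization p := dvd_pow_self p h2.ne'
  rw [← h1] at h3
  exact hp.out.one_lt.ne' (Nat.dvd_one.mp h3)

/-- In a nilpotent subgroup, every `p`-subgroup lies in the Sylow `p`-part. -/
lemma le_sy [Finite G] {A : Subgroup G} (hA : Group.IsNilpotent A) (p : ℕ) [Fact p.Prime]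
    {Q : Subgroup G} (hQA : Q ≤ A) (hQ : IsPGroup p Q) : Q ≤ sy A p := by
  have hQ' : IsPGroup p (Q.subgroupOf A) := hQ.comap_subtype
  obtain ⟨P', hP'⟩ := hQ'.exists_le_sylow
  have hP : P' = Classical.arbitrary (Sylow p A) := by
    obtain ⟨g, hg⟩ := MulAction.exists_smul_eq A (Classical.arbitrary (Sylow p A)) P'
    rw [← hg, Sylow.smul_eq_of_normal]
  intro x hx
  refine ⟨⟨x, hQA hx⟩, ?_, rfl⟩
  rw [← hP]
  exact hP' (Subgroup.mem_subgroupOf.mpr hx)

lemma sy_normal [Finite G] {A : Subgroup G} (hA : Group.IsNilpotent A) (p : ℕ) [Fact p.Prime] :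
    A ≤ Subgroup.normalizer (sy A p : Set G) := by
  intro a ha
  rw [mem_normalizer_iff_conj_smul]
  apply conj_smul_eq_of_ge
  apply le_sy hA p
  · rintro x ⟨y, hy, rfl⟩
    exact A.mul_mem (A.mul_mem ha (sy_le A p hy)) (A.inv_mem ha)
  · exact (sy_isPGroup A p).map _

/-- The normalizer of a nilpotent subgroup normalizes its Sylow parts. -/
lemma normalizer_le_normalizer_sy [Finite G] {A : Subgroup G} (hA : Group.IsNilpotent A)
    (p : ℕ) [Fact p.Prime] :
    Subgroup.normalizer (A : Set G) ≤ Subgroup.normalizer (sy A p : Set G) := by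
  intro g hg
  rw [mem_normalizer_iff_conj_smul]
  apply conj_smul_eq_of_ge
  apply le_sy hA p
  · have h1 : MulAut.conj g • A = A := (mem_normalizer_iff_conj_smul A g).mp hg
    calc MulAut.conj g • sy A p ≤ MulAut.conj g • A :=
          Subgroup.pointwise_smul_le_pointwise_smul_iff.mpr (sy_le A p)
      _ = A := h1
  · exact (sy_isPGroup A p).map _

lemma orderOf_coprime_of_isPGroup {p q : ℕ} [hp : Fact p.Prime] [hq : Fact q.Prime] (hpq : p ≠ q)
    {P Q : Subgroup G} (hP : IsPGroup p P) (hQ : IsPGroup q Q) {x y : G} (hx : x ∈ P) (hy : y ∈ Q) :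
    (orderOf x).Coprime (orderOf y) := by
  obtain ⟨k, hk⟩ := hP ⟨x, hx⟩
  obtain ⟨l, hl⟩ := hQ ⟨y, hy⟩
  have hk' : x ^ p ^ k = 1 := by simpa using congrArg Subtype.val hk
  have hl' : y ^ q ^ l = 1 := by simpa using congrArg Subtype.val hl
  have h1 : orderOf x ∣ p ^ k := orderOf_dvd_of_pow_eq_one hk'
  have h2 : orderOf y ∣ q ^ l := orderOf_dvd_of_pow_eq_one hl'
  exact Nat.Coprime.of_dvd h1 h2
    (Nat.Coprime.pow k l ((Nat.coprime_primes hp.out hq.out).mpr hpq))

/-- Elements of a `p`-subgroup and a `q`-subgroup (`p ≠ q`) of a nilpotent subgroup commute. -/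
lemma commute_of_pgroups {A : Subgroup G} (hA : Group.IsNilpotent A) {p q : ℕ}
    [Fact p.Prime] [Fact q.Prime] (hpq : p ≠ q)
    {P Q : Subgroup G} (hPA : P ≤ A) (hQA : Q ≤ A) (hP : IsPGroup p P) (hQ : IsPGroup q Q)
    {x y : G} (hx : x ∈ P) (hy : y ∈ Q) : x * y = y * x :=
  Cfsg.Agent.Lib.Helper14.commute_of_mem_nilpotent hA (hPA hx) (hQA hy)
    (orderOf_coprime_of_isPGroup hpq hP hQ hx hy)

lemma le_centralizer_of_pgroups {A : Subgroup G} (hA : Group.IsNilpotent A) {p q : ℕ}
    [Fact p.Prime] [Fact q.Prime] (hpq : p ≠ q)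
    {P Q : Subgroup G} (hPA : P ≤ A) (hQA : Q ≤ A) (hP : IsPGroup p P) (hQ : IsPGroup q Q) :
    P ≤ Subgroup.centralizer (Q : Set G) := by
  intro x hx y hy
  exact (commute_of_pgroups hA hpq hPA hQA hP hQ hx hy).symm

/-- A subgroup containing all Sylow parts of `A` contains `A`. -/
lemma le_of_forall_sy_le [Finite G] (A K : Subgroup G)
    (h : ∀ (p : ℕ) [Fact p.Prime], p ∣ Nat.card A → sy A p ≤ K) : A ≤ K := by
  have h1 : Nat.card A ∣ Nat.card (A ⊓ K : Subgroup G) := by
    rw [← Nat.factorization_le_iff_dvd Nat.card_pos.ne' Nat.card_pos.ne']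
    intro p
    by_cases hp : p.Prime
    · haveI : Fact p.Prime := ⟨hp⟩
      by_cases hd : p ∣ Nat.card A
      · have h2 : sy A p ≤ A ⊓ K := le_inf (sy_le A p) (h p hd)
        have h3 := Subgroup.card_dvd_of_le h2
        rw [card_sy] at h3
        exact (hp.pow_dvd_iff_le_factorization Nat.card_pos.ne').mp h3
      · rw [Nat.factorization_eq_zero_of_not_dvd hd]
        exact Nat.zero_le _
    · rw [Nat.factorization_eq_zero_of_not_prime _ hp]
      exact Nat.zero_le _
  have h4 : A ⊓ K = A :=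
    Subgroup.eq_of_le_of_card_ge inf_le_left (Nat.le_of_dvd Nat.card_pos h1)
  exact h4 ▸ inf_le_right

/-- Sylow parts of a subgroup of a nilpotent subgroup. -/
lemma sy_eq_inf [Finite G] {A H : Subgroup G} (hA : Group.IsNilpotent A) (hH : Group.IsNilpotent H)
    (hHA : H ≤ A) (p : ℕ) [Fact p.Prime] : sy H p = H ⊓ sy A p := by
  apply le_antisymm
  · exact le_inf (sy_le H p) (le_sy hA p ((sy_le H p).trans hHA) (sy_isPGroup H p))
  · exact le_sy hH p inf_le_left ((sy_isPGroup A p).to_le inf_le_right)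

/-- A `p`-subgroup of `L` of index prime to `p` in `L` has the full `p`-part of the order. -/
lemma card_of_isPGroup_of_not_dvd_relIndex [Finite G] {p : ℕ} [hp : Fact p.Prime] {R L : Subgroup G}
    (hRL : R ≤ L) (hR : IsPGroup p R) (hidx : ¬ p ∣ R.relIndex L) :
    Nat.card R = p ^ (Nat.card L).factorization p := by
  obtain ⟨n, hn⟩ := IsPGroup.iff_card.mp hR
  have h1 := Cfsg.Agent.Lib.Helper14.card_mul_relIndex_of_le hRL
  have h2 : (Nat.card L).factorization p = n := by
    have h0 : R.relIndex L ≠ 0 := by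
      intro h0; rw [h0, mul_zero] at h1; exact Nat.card_pos.ne' h1.symm
    rw [← h1, hn, Nat.factorization_mul (pow_ne_zero _ hp.out.ne_zero) h0, Finsupp.add_apply,
      Nat.factorization_eq_zero_of_not_dvd hidx, hp.out.factorization_pow]
    simp
  rw [hn, h2]

/-- Sylow conjugacy in index language. -/
lemma exists_conj_eq_of_not_dvd_relIndex [Finite G] {p : ℕ} [Fact p.Prime] {L P R : Subgroup G}
    (hPL : P ≤ L) (hRL : R ≤ L) (hP : IsPGroup p P) (hR : IsPGroup p R)
    (hidxP : ¬ p ∣ P.relIndex L) (hidxR : ¬ p ∣ R.relIndex L) :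
    ∃ c ∈ L, R = MulAut.conj c • P := by
  obtain ⟨c, hc, hle⟩ := Cfsg.Agent.Lib.Helper14.exists_conj_le_of_not_dvd_relIndex hRL hP hR hidxP
  refine ⟨c, hc, Subgroup.eq_of_le_of_card_ge hle ?_⟩
  rw [card_conj_smul, card_of_isPGroup_of_not_dvd_relIndex hPL hP hidxP,
    card_of_isPGroup_of_not_dvd_relIndex hRL hR hidxR]

end Cfsg.Agent.Lib.Helper13
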