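import Mathlib
import Cfsg.Agent.Lib.Helper13.KWSylow
import Cfsg.Agent.Lib.Helper13.ProdCard

set_option autoImplicit false

namespace Cfsg.Agent.Lib.Helper13

open Pointwise

universe u

variable {G : Type u} [Group G]

lemma isNilpotent_of_le {A H : Subgroup G} (hA : Group.IsNilpotent A) (hHA : H ≤ A) :
    Group.IsNilpotent H :=
  Group.nilpotent_of_mulEquiv (Subgroup.subgroupOfEquivOfLe hHA)

/-- A factorization of a group by two nilpotent subgroups of coprime orders. -/
structure KWPair (A B : Subgroup G) : Prop where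
  nilA : Group.IsNilpotent A
  nilB : Group.IsNilpotent B
  cop : (Nat.card A).Coprime (Nat.card B)
  fact : ∀ g : G, ∃ a ∈ A, ∃ b ∈ B, g = a * b

namespace KWPair

variable {A B : Subgroup G}

lemma fact' (h : KWPair A B) : ∀ g : G, ∃ b ∈ B, ∃ a ∈ A, g = b * a := by
  intro g
  obtain ⟨a, ha, b, hb, hg⟩ := h.fact g⁻¹
  refine ⟨b⁻¹, B.inv_mem hb, a⁻¹, A.inv_mem ha, ?_⟩
  rw [← mul_inv_rev, ← hg, inv_inv]

lemma symm (h : KWPair A B) : KWPair B A :=
  ⟨h.nilB, h.nilA, h.cop.symm, h.fact'⟩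

lemma inf_eq_bot [Finite G] (h : KWPair A B) : A ⊓ B = ⊥ := by
  rw [← Subgroup.card_eq_one]
  have h1 : Nat.card (A ⊓ B : Subgroup G) ∣ Nat.card A := Subgroup.card_dvd_of_le inf_le_left
  have h2 : Nat.card (A ⊓ B : Subgroup G) ∣ Nat.card B := Subgroup.card_dvd_of_le inf_le_right
  exact Nat.eq_one_of_dvd_coprimes h.cop h1 h2

lemma card_eq [Finite G] (h : KWPair A B) : Nat.card G = Nat.card A * Nat.card B := by
  have := card_mul_card_inf_of_factorization A B h.fact
  rwa [h.inf_eq_bot, Subgroup.card_bot, mul_one] at this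

lemma index_eq [Finite G] (h : KWPair A B) : A.index = Nat.card B := by
  have h1 := Subgroup.card_mul_index A
  rw [h.card_eq] at h1
  exact Nat.eq_of_mul_eq_mul_left Nat.card_pos h1

lemma hall [Finite G] (h : KWPair A B) : (Nat.card A).Coprime A.index := by
  rw [h.index_eq]; exact h.cop

lemma not_dvd_index_sy [Finite G] (h : KWPair A B) (p : ℕ) [hp : Fact p.Prime]
    (hpA : p ∣ Nat.card A) : ¬ p ∣ (sy A p).index := by
  rw [← Subgroup.relIndex_mul_index (sy_le A p)]
  intro hd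
  rcases (Nat.Prime.dvd_mul hp.out).mp hd with h1 | h1
  · exact not_dvd_relIndex_sy A p h1
  · rw [h.index_eq] at h1
    exact Nat.Prime.not_coprime_iff_dvd.mpr ⟨p, hp.out, hpA, h1⟩ h.cop

lemma not_dvd_card_right [Finite G] (h : KWPair A B) {p : ℕ} (hp : p.Prime)
    (hpA : p ∣ Nat.card A) : ¬ p ∣ Nat.card B := fun h1 =>
  Nat.Prime.not_coprime_iff_dvd.mpr ⟨p, hp, hpA, h1⟩ h.cop

/-- Dedekind: a subgroup containing `A` is factorized. -/
lemma dedekind (h : KWPair A B) {H : Subgroup G} (hAH : A ≤ H) :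
    ∀ x ∈ H, ∃ a ∈ A, ∃ b ∈ H ⊓ B, x = a * b := by
  intro x hx
  obtain ⟨a, ha, b, hb, rfl⟩ := h.fact x
  refine ⟨a, ha, b, ⟨?_, hb⟩, rfl⟩
  have : b = a⁻¹ * (a * b) := by group
  rw [this]
  exact H.mul_mem (H.inv_mem (hAH ha)) hx

lemma one_lt_card_left_of_ne [Finite G] (h : KWPair A B) (hB : B ≠ ⊤) : A ≠ ⊥ := by
  rintro rfl
  apply hB
  rw [eq_top_iff]
  intro g _
  obtain ⟨a, ha, b, hb, rfl⟩ := h.fact g
  rw [Subgroup.mem_bot] at ha
  rw [ha, one_mul]; exact hb

end KWPair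

/-- A minimal counterexample to the coprime Kegel–Wielandt theorem. -/
structure KWMin (G : Type u) [Group G] : Prop where
  ih : ∀ (G' : Type u) [Group G'] [Finite G'] (A' B' : Subgroup G'), KWPair A' B' →
    Nat.card G' < Nat.card G → Group.IsSolvable G'
  ns : ¬ Group.IsSolvable G

namespace KWMin

variable {A B : Subgroup G}

/-- Proper subgroups factorized by coprime nilpotent subgroups are solvable. -/
lemma solvable_of_factorized [Finite G] (hm : KWMin G) (H A' B' : Subgroup G) (hA' : A' ≤ H)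
    (hB' : B' ≤ H) (nA : Group.IsNilpotent A') (nB : Group.IsNilpotent B')
    (cop : (Nat.card A').Coprime (Nat.card B'))
    (hf : ∀ x ∈ H, ∃ a ∈ A', ∃ b ∈ B', x = a * b) (hH : H ≠ ⊤) : Group.IsSolvable H := by
  apply hm.ih H (A'.subgroupOf H) (B'.subgroupOf H)
  · refine ⟨?_, ?_, ?_, ?_⟩
    · exact Group.nilpotent_of_mulEquiv (Subgroup.subgroupOfEquivOfLe hA').symm
    · exact Group.nilpotent_of_mulEquiv (Subgroup.subgroupOfEquivOfLe hB').symm
    · rw [Nat.card_congr (Subgroup.subgroupOfEquivOfLe hA').toEquiv,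
        Nat.card_congr (Subgroup.subgroupOfEquivOfLe hB').toEquiv]
      exact cop
    · intro x
      obtain ⟨a, ha, b, hb, hx⟩ := hf x x.2
      exact ⟨⟨a, hA' ha⟩, Subgroup.mem_subgroupOf.mpr ha, ⟨b, hB' hb⟩,
        Subgroup.mem_subgroupOf.mpr hb, Subtype.ext hx⟩
  · apply lt_of_le_of_ne (Subgroup.card_le_card_group H)
    intro h
    exact hH (Subgroup.eq_top_of_card_eq H h)

/-- Proper subgroups containing `A` are solvable. -/
lemma solvable_of_le [Finite G] (hm : KWMin G) (hk : KWPair A B) {H : Subgroup G} (hAH : A ≤ H)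
    (hH : H ≠ ⊤) : Group.IsSolvable H :=
  hm.solvable_of_factorized H A (H ⊓ B) hAH inf_le_left hk.nilA
    (isNilpotent_of_le hk.nilB inf_le_right)
    (Nat.Coprime.of_dvd_right (Subgroup.card_dvd_of_le inf_le_right) hk.cop)
    (hk.dedekind hAH) hH

end KWMin

end Cfsg.Agent.Lib.Helper13
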