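import Mathlib
import Cfsg.Agent.Lib.Helper13.Fitting
import Cfsg.Agent.Lib.Helper13.Basic

set_option autoImplicit false

namespace Cfsg.Agent.Lib.Helper13

open Pointwise

universe u

variable {G : Type u} [Group G]

/-- The Fitting subgroup of a subgroup `L`, as a subgroup of the ambient group. -/
noncomputable def fitOf (L : Subgroup G) : Subgroup G :=
  (Cfsg.fittingSubgroup L).map L.subtype

lemma fitOf_le (L : Subgroup G) : fitOf L ≤ L := Subgroup.map_subtype_le _

lemma fitOf_normalized (L : Subgroup G) : L ≤ Subgroup.normalizer (fitOf L : Set G) := by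
  haveI : (Cfsg.fittingSubgroup L).Normal := fittingSubgroup_normal
  intro l hl
  rw [Subgroup.mem_normalizer_iff]
  intro x
  constructor
  · rintro ⟨y, hy, rfl⟩
    refine ⟨⟨l, hl⟩ * y * ⟨l, hl⟩⁻¹, ?_, rfl⟩
    exact Subgroup.Normal.conj_mem inferInstance y hy ⟨l, hl⟩
  · rintro ⟨y, hy, hxy⟩
    refine ⟨⟨l, hl⟩⁻¹ * y * ⟨l, hl⟩, ?_, ?_⟩
    · have := Subgroup.Normal.conj_mem (inferInstance : (Cfsg.fittingSubgroup L).Normal) y hy
        ⟨l, hl⟩⁻¹
      simpa using this
    · have : (y : G) = l * x * l⁻¹ := hxy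
      simp only [Subgroup.subtype_apply, Subgroup.coe_mul, Subgroup.coe_inv, this]
      group

/-- Upper bound for the Fitting subgroup of `L`. -/
lemma fitOf_le_of_forall (L X : Subgroup G)
    (hX : ∀ N : Subgroup G, N ≤ L → L ≤ Subgroup.normalizer (N : Set G) →
      Group.IsNilpotent N → N ≤ X) : fitOf L ≤ X := by
  unfold fitOf
  rw [Subgroup.map_le_iff_le_comap]
  unfold Cfsg.fittingSubgroup
  apply sSup_le
  rintro N' ⟨hN'n, hN'nil⟩
  rw [← Subgroup.map_le_iff_le_comap]
  apply hX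
  · exact Subgroup.map_subtype_le _
  · intro l hl
    rw [Subgroup.mem_normalizer_iff]
    intro x
    constructor
    · rintro ⟨y, hy, rfl⟩
      exact ⟨⟨l, hl⟩ * y * ⟨l, hl⟩⁻¹, hN'n.conj_mem y hy ⟨l, hl⟩, rfl⟩
    · rintro ⟨y, hy, hxy⟩
      refine ⟨⟨l, hl⟩⁻¹ * y * ⟨l, hl⟩, ?_, ?_⟩
      · have := hN'n.conj_mem y hy ⟨l, hl⟩⁻¹
        simpa using this
      · have : (y : G) = l * x * l⁻¹ := hxy
        simp only [Subgroup.subtype_apply, Subgroup.coe_mul, Subgroup.coe_inv, this]
        group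
  · exact Group.nilpotent_of_mulEquiv
      (Subgroup.equivMapOfInjective N' L.subtype L.subtype_injective)

/-- In a finite solvable `L`, elements of `L` centralizing the Fitting subgroup lie in it. -/
lemma mem_fitOf_of_centralizes [Finite G] (L : Subgroup G) (hL : Group.IsSolvable L) {z : G}
    (hz : z ∈ L) (hc : ∀ f ∈ fitOf L, z * f = f * z) : z ∈ fitOf L := by
  have h1 : (⟨z, hz⟩ : L) ∈ Subgroup.centralizer
      ((Cfsg.fittingSubgroup L : Subgroup L) : Set L) := by
    intro f hf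
    apply Subtype.ext
    have := hc f.1 ⟨f, hf, rfl⟩
    simpa using this.symm
  exact ⟨⟨z, hz⟩, centralizer_fittingSubgroup_le h1, rfl⟩

end Cfsg.Agent.Lib.Helper13
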