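import Mathlib
import Cfsg.Agent.Lib.Helper13.KWBasic

set_option autoImplicit false

namespace Cfsg.Agent.Lib.Helper13

open Pointwise

universe u

variable {G : Type u} [Group G]

namespace KWPair

variable {A B : Subgroup G}

/-- The image of a coprime nilpotent factorization in a quotient. -/
lemma map_mk' (h : KWPair A B) (N : Subgroup G) [N.Normal] :
    KWPair (A.map (QuotientGroup.mk' N)) (B.map (QuotientGroup.mk' N)) := by
  refine ⟨?_, ?_, ?_, ?_⟩
  · haveI := h.nilA
    exact Group.nilpotent_of_surjective ((QuotientGroup.mk' N).subgroupMap A)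
      ((QuotientGroup.mk' N).subgroupMap_surjective A)
  · haveI := h.nilB
    exact Group.nilpotent_of_surjective ((QuotientGroup.mk' N).subgroupMap B)
      ((QuotientGroup.mk' N).subgroupMap_surjective B)
  · exact Nat.Coprime.of_dvd (Subgroup.card_map_dvd _ _) (Subgroup.card_map_dvd _ _) h.cop
  · intro g
    obtain ⟨g, rfl⟩ := QuotientGroup.mk'_surjective N g
    obtain ⟨a, ha, b, hb, rfl⟩ := h.fact g
    exact ⟨_, Subgroup.mem_map_of_mem _ ha, _, Subgroup.mem_map_of_mem _ hb, map_mul _ _ _⟩

end KWPair

namespace KWMin

variable {A B : Subgroup G}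

lemma solvable_of_normal_aux [Finite G] (hm : KWMin G) (hk : KWPair A B) (N : Subgroup G)
    [N.Normal] (hAN : A ⊔ N ≠ ⊤) : Group.IsSolvable N := by
  haveI := hm.solvable_of_le hk (le_sup_left : A ≤ A ⊔ N) hAN
  exact Group.isSolvable_of_isSolvable_injective
    (Subgroup.inclusion_injective (le_sup_right : N ≤ A ⊔ N))

/-- A minimal counterexample is simple. -/
lemma eq_bot_or_eq_top [Finite G] (hm : KWMin G) (hk : KWPair A B) (N : Subgroup G)
    (hN : N.Normal) : N = ⊥ ∨ N = ⊤ := by
  by_contra hcon
  push Not at hcon
  obtain ⟨hbot, htop⟩ := hcon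
  haveI := hN
  have hq : Group.IsSolvable (G ⧸ N) := by
    apply hm.ih (G ⧸ N) _ _ (hk.map_mk' N)
    rw [← Subgroup.index_eq_card]
    have h1 : 1 < Nat.card N := by
      rw [Finite.one_lt_card_iff_nontrivial]
      exact (Subgroup.nontrivial_iff_ne_bot N).mpr hbot
    have h2 := Subgroup.card_mul_index N
    have hpos : 0 < N.index := Nat.pos_of_ne_zero Subgroup.index_ne_zero_of_finite
    nlinarith
  have hNs : Group.IsSolvable N := by
    by_cases h1 : A ⊔ N = ⊤
    · by_cases h2 : B ⊔ N = ⊤
      · exfalso
        apply htop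
        rw [← Subgroup.index_eq_one]
        have e1 : N.index ∣ Nat.card A := by
          rw [← Subgroup.relIndex_top_right, ← h1, Subgroup.relIndex_sup_right]
          exact Subgroup.relIndex_dvd_card N A
        have e2 : N.index ∣ Nat.card B := by
          rw [← Subgroup.relIndex_top_right, ← h2, Subgroup.relIndex_sup_right]
          exact Subgroup.relIndex_dvd_card N B
        exact Nat.eq_one_of_dvd_coprimes hk.cop e1 e2
      · exact hm.solvable_of_normal_aux hk.symm N h2
    · exact hm.solvable_of_normal_aux hk N h1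
  apply hm.ns
  exact Group.isSolvable_of_ker_le_range N.subtype (QuotientGroup.mk' N)
    (by rw [QuotientGroup.ker_mk', Subgroup.range_subtype])

lemma center_eq_bot [Finite G] (hm : KWMin G) (hk : KWPair A B) : Subgroup.center G = ⊥ := by
  rcases hm.eq_bot_or_eq_top hk (Subgroup.center G) inferInstance with h | h
  · exact h
  · exfalso
    apply hm.ns
    apply Group.isSolvable_of_comm
    intro a b
    have ha : a ∈ Subgroup.center G := h ▸ Subgroup.mem_top a
    exact (Subgroup.mem_center_iff.mp ha b).symm

lemma nontrivial [Finite G] (hm : KWMin G) : Nontrivial G := by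
  by_contra h
  rw [not_nontrivial_iff_subsingleton] at h
  exact hm.ns inferInstance

lemma isSimpleGroup [Finite G] (hm : KWMin G) (hk : KWPair A B) : IsSimpleGroup G :=
  { exists_pair_ne := hm.nontrivial.exists_pair_ne
    eq_bot_or_eq_top_of_normal := fun N hN => hm.eq_bot_or_eq_top hk N hN }

/-- A normal subgroup of a subgroup which is a `p`-group, in a minimal counterexample whose order
is divisible by another prime, cannot be everything. -/
lemma eq_bot_of_normalizer_eq_top [Finite G] (hm : KWMin G) (hk : KWPair A B) {U : Subgroup G}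
    (hU : Subgroup.normalizer (U : Set G) = ⊤) (hne : U ≠ ⊤) : U = ⊥ := by
  have hn : U.Normal := Subgroup.normalizer_eq_top_iff.mp hU
  rcases hm.eq_bot_or_eq_top hk U hn with h | h
  · exact h
  · exact absurd h hne

end KWMin

end Cfsg.Agent.Lib.Helper13
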