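import Mathlib
import Cfsg.Agent.Lib.Helper13.KWSimple
import Cfsg.Agent.S0561
import Cfsg.Agent.S0562
import Cfsg.Agent.S0566
import Cfsg.Agent.S0143
import Cfsg.Agent.S0144

set_option autoImplicit false

namespace Cfsg.Agent.Lib.Helper13

open Pointwise

universe u

variable {G : Type u} [Group G]

/-- `S0561` transported to a solvable factorized subgroup `L`. -/
lemma exists_subgroup_mul_of_factorized [Finite G] (L H K P Q : Subgroup G)
    (hsolv : Group.IsSolvable L) (hH : H ≤ L) (hK : K ≤ L)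
    (hf : ∀ x ∈ L, ∃ h ∈ H, ∃ k ∈ K, x = h * k)
    (hPH : P ≤ H) (hPn : H ≤ Subgroup.normalizer (P : Set G))
    (hQK : Q ≤ K) (hQn : K ≤ Subgroup.normalizer (Q : Set G))
    (hPh : (Nat.card P).Coprime (P.relIndex L)) (hQh : (Nat.card Q).Coprime (Q.relIndex L)) :
    ∃ S : Subgroup G, (S : Set G) = (P : Set G) * (Q : Set G) := by
  have hPL : P ≤ L := hPH.trans hH
  have hQL : Q ≤ L := hQK.trans hK
  have key : ∀ (X Y : Subgroup G), X ≤ Y → Y ≤ Subgroup.normalizer (X : Set G) →
      ((X.subgroupOf L).subgroupOf (Y.subgroupOf L)).Normal := by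
    intro X Y hXY hn
    have hle : X.subgroupOf L ≤ Y.subgroupOf L := Subgroup.comap_mono hXY
    rw [Subgroup.normal_subgroupOf_iff_le_normalizer hle]
    intro x hx
    rw [Subgroup.mem_subgroupOf] at hx
    rw [Subgroup.mem_normalizer_iff]
    intro y
    have := (Subgroup.mem_normalizer_iff.mp (hn hx)) y
    simpa [Subgroup.mem_subgroupOf] using this
  obtain ⟨S', hS'⟩ := Cfsg.Agent.S0561.result (G := L) (H.subgroupOf L) (K.subgroupOf L)
    (P.subgroupOf L) (Q.subgroupOf L)
    (by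
      intro g
      obtain ⟨h, hh, k, hk, hg⟩ := hf g g.2
      exact ⟨⟨h, hH hh⟩, Subgroup.mem_subgroupOf.mpr hh, ⟨k, hK hk⟩,
        Subgroup.mem_subgroupOf.mpr hk, Subtype.ext hg⟩)
    (Subgroup.comap_mono hPH) (key P H hPH hPn) (Subgroup.comap_mono hQK) (key Q K hQK hQn)
    (by rw [Nat.card_congr (Subgroup.subgroupOfEquivOfLe hPL).toEquiv]; exact hPh)
    (by rw [Nat.card_congr (Subgroup.subgroupOfEquivOfLe hQL).toEquiv]; exact hQh) 1 1
  simp only [map_one, one_smul] at hS'
  refine ⟨S'.map L.subtype, ?_⟩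
  ext x
  constructor
  · rintro ⟨y, hy, rfl⟩
    have hy' : y ∈ (S' : Set L) := hy
    rw [hS'] at hy'
    obtain ⟨a, ha, b, hb, rfl⟩ := hy'
    exact ⟨a, Subgroup.mem_subgroupOf.mp ha, b, Subgroup.mem_subgroupOf.mp hb, rfl⟩
  · rintro ⟨a, ha, b, hb, rfl⟩
    refine ⟨⟨a, hPL ha⟩ * ⟨b, hQL hb⟩, ?_, rfl⟩
    show _ ∈ (S' : Set L)
    rw [hS']
    exact ⟨_, Subgroup.mem_subgroupOf.mpr ha, _, Subgroup.mem_subgroupOf.mpr hb, rfl⟩

lemma sy_normal' [Finite G] {A : Subgroup G} (hA : Group.IsNilpotent A) (p : ℕ) [Fact p.Prime] :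
    ((sy A p).subgroupOf A).Normal :=
  (Subgroup.normal_subgroupOf_iff_le_normalizer (sy_le A p)).mpr (sy_normal hA p)

lemma conj_smul_sy_of_mem [Finite G] {A : Subgroup G} (hA : Group.IsNilpotent A) (p : ℕ)
    [Fact p.Prime] {a : G} (ha : a ∈ A) : MulAut.conj a • sy A p = sy A p :=
  (mem_normalizer_iff_conj_smul _ _).mp (sy_normal hA p ha)

lemma coprime_card_relIndex_of_isPGroup [Finite G] {p : ℕ} [hp : Fact p.Prime] {P L : Subgroup G}
    (hP : IsPGroup p P) (hPL : P ≤ L) (hidx : ¬ p ∣ P.index) :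
    (Nat.card P).Coprime (P.relIndex L) := by
  obtain ⟨n, hn⟩ := IsPGroup.iff_card.mp hP
  rw [hn]
  apply Nat.Coprime.pow_left
  rw [Nat.Prime.coprime_iff_not_dvd hp.out]
  exact fun h => hidx (h.trans (Subgroup.relIndex_dvd_index_of_le hPL))

namespace KWMin

variable {A B : Subgroup G}

lemma ne_of_dvd [Finite G] (hk : KWPair A B) {p q : ℕ} (hp : p.Prime)
    (hpA : p ∣ Nat.card A) (hqB : q ∣ Nat.card B) : p ≠ q := by
  rintro rfl
  exact hk.not_dvd_card_right hp hpA hqB

/-- Any Sylow subgroup of `A` and any Sylow subgroup of `B` generate a minimal counterexample. -/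
lemma sy_sup_sy_eq_top [Finite G] (hm : KWMin G) (hk : KWPair A B) (p q : ℕ)
    [hp : Fact p.Prime] [hq : Fact q.Prime]
    (hpA : p ∣ Nat.card A) (hqB : q ∣ Nat.card B) : sy A p ⊔ sy B q = ⊤ := by
  by_contra hJ
  have hPne : sy A p ≠ ⊥ := sy_ne_bot A p hpA
  have hQne : sy B q ≠ ⊥ := sy_ne_bot B q hqB
  have hJne : sy A p ⊔ sy B q ≠ ⊥ := fun h => hPne (le_bot_iff.mp (h ▸ le_sup_left))
  have hLne : Subgroup.normalizer ((sy A p ⊔ sy B q : Subgroup G) : Set G) ≠ ⊤ := by
    intro h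
    exact hJne (hm.eq_bot_of_normalizer_eq_top hk h hJ)
  have hJL : sy A p ⊔ sy B q ≤ Subgroup.normalizer ((sy A p ⊔ sy B q : Subgroup G) : Set G) :=
    Subgroup.le_normalizer
  have hfact := Cfsg.Agent.S0562.result A B (sy A p) (sy B q) hk.fact (sy_le A p)
    (sy_normal' hk.nilA p) (sy_le B q) (sy_normal' hk.nilB q)
  set L := Subgroup.normalizer ((sy A p ⊔ sy B q : Subgroup G) : Set G) with hL
  have hsolv : Group.IsSolvable L :=
    hm.solvable_of_factorized L (L ⊓ A) (L ⊓ B) inf_le_left inf_le_left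
      (isNilpotent_of_le hk.nilA inf_le_right) (isNilpotent_of_le hk.nilB inf_le_right)
      (Nat.Coprime.of_dvd (Subgroup.card_dvd_of_le inf_le_right)
        (Subgroup.card_dvd_of_le inf_le_right) hk.cop) hfact hLne
  have hPL : sy A p ≤ L := le_sup_left.trans hJL
  have hQL : sy B q ≤ L := le_sup_right.trans hJL
  obtain ⟨S0, hS0⟩ := exists_subgroup_mul_of_factorized L (L ⊓ A) (L ⊓ B) (sy A p) (sy B q) hsolv
    inf_le_left inf_le_left hfact (le_inf hPL (sy_le A p))
    (inf_le_right.trans (sy_normal hk.nilA p)) (le_inf hQL (sy_le B q))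
    (inf_le_right.trans (sy_normal hk.nilB q))
    (coprime_card_relIndex_of_isPGroup (sy_isPGroup A p) hPL (hk.not_dvd_index_sy p hpA))
    (coprime_card_relIndex_of_isPGroup (sy_isPGroup B q) hQL (hk.symm.not_dvd_index_sy q hqB))
  have hpq : p ≠ q := ne_of_dvd hk hp.out hpA hqB
  have hS0top : S0 ≠ ⊤ := by
    intro htop
    have h1 := card_mul_card_inf (sy A p) (sy B q)
    have h2 : sy A p ⊓ sy B q = ⊥ := by
      rw [← Subgroup.card_eq_one]
      have e1 : Nat.card (sy A p ⊓ sy B q : Subgroup G) ∣ Nat.card A :=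
        Subgroup.card_dvd_of_le (inf_le_left.trans (sy_le A p))
      have e2 : Nat.card (sy A p ⊓ sy B q : Subgroup G) ∣ Nat.card B :=
        Subgroup.card_dvd_of_le (inf_le_right.trans (sy_le B q))
      exact Nat.eq_one_of_dvd_coprimes hk.cop e1 e2
    have h3 : Nat.card (((sy A p : Set G) * (sy B q : Set G) : Set G)) = Nat.card G := by
      rw [← hS0, htop]
      exact Nat.card_congr (Equiv.Set.univ G)
    rw [h2, Subgroup.card_bot, mul_one, h3, card_sy, card_sy] at h1
    exact hm.ns (Cfsg.Agent.S0144.result p q _ _ hp.out hq.out h1)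
  obtain ⟨N, hNn, hNtop, hN⟩ := Cfsg.Agent.S0566.result (sy A p) (sy B q) hPne hQne (by
    intro x
    obtain ⟨a, ha, b, hb, rfl⟩ := hk.fact x
    refine ⟨MulAut.conj a • S0, ?_, ?_⟩
    · intro htop
      apply hS0top
      have : (MulAut.conj a)⁻¹ • (MulAut.conj a • S0) = (MulAut.conj a)⁻¹ • (⊤ : Subgroup G) := by
        rw [htop]
      rw [inv_smul_smul] at this
      rw [this, eq_top_iff]
      intro z _
      rw [Subgroup.mem_pointwise_smul_iff_inv_smul_mem]
      exact Subgroup.mem_top _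
    · have hQb : MulAut.conj (a * b) • sy B q = MulAut.conj a • sy B q := by
        rw [map_mul, mul_smul, conj_smul_sy_of_mem hk.nilB q hb]
      rw [hQb]
      ext z
      constructor
      · intro hz
        have hz' : z ∈ MulAut.conj a • S0 := hz
        rw [Subgroup.mem_pointwise_smul_iff_inv_smul_mem] at hz'
        have hz'' : (MulAut.conj a)⁻¹ • z ∈ (S0 : Set G) := hz'
        rw [hS0] at hz''
        obtain ⟨u, hu, v, hv, huv⟩ := hz''
        refine ⟨MulAut.conj a • u, ?_, MulAut.conj a • v, ?_, ?_⟩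
        · have : MulAut.conj a • u ∈ MulAut.conj a • sy A p :=
            Subgroup.smul_mem_pointwise_smul _ _ _ hu
          rwa [conj_smul_sy_of_mem hk.nilA p ha] at this
        · exact Subgroup.smul_mem_pointwise_smul _ _ _ hv
        · show MulAut.conj a • u * MulAut.conj a • v = z
          have huv' : u * v = (MulAut.conj a)⁻¹ • z := huv
          rw [← smul_mul', huv', smul_inv_smul]
      · rintro ⟨u, hu, w, hw, rfl⟩
        show u * w ∈ MulAut.conj a • S0
        rw [Subgroup.mem_pointwise_smul_iff_inv_smul_mem]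
        show (MulAut.conj a)⁻¹ • (u * w) ∈ (S0 : Set G)
        rw [hS0, smul_mul']
        refine ⟨_, ?_, _, ?_, rfl⟩
        · have : u ∈ MulAut.conj a • sy A p := by
            rw [conj_smul_sy_of_mem hk.nilA p ha]; exact hu
          exact Subgroup.mem_pointwise_smul_iff_inv_smul_mem.mp this
        · exact Subgroup.mem_pointwise_smul_iff_inv_smul_mem.mp hw)
  rcases hm.eq_bot_or_eq_top hk N hNn with h | h
  · rcases hN with h1 | h1
    · exact hPne (le_bot_iff.mp (h ▸ h1))
    · exact hQne (le_bot_iff.mp (h ▸ h1))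
  · exact hNtop h

end KWMin

end Cfsg.Agent.Lib.Helper13
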