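import Mathlib
import Cfsg.Agent.Lib.Helper13.KWGen

set_option autoImplicit false

namespace Cfsg.Agent.Lib.Helper13

open Pointwise

universe u

variable {G : Type u} [Group G]

lemma conj_smul_top (g : G) : MulAut.conj g • (⊤ : Subgroup G) = ⊤ := by
  rw [eq_top_iff]
  intro z _
  rw [Subgroup.mem_pointwise_smul_iff_inv_smul_mem]
  exact Subgroup.mem_top _

namespace KWPair

variable {A B : Subgroup G}

/-- An `s`-subgroup (for a prime `s` dividing `|B|`) is centralized by a Sylow `t`-subgroup of `G`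
for every other prime divisor `t` of `|B|`. -/
lemma exists_sylow_le_centralizer [Finite G] (hk : KWPair A B) {s t : ℕ} [Fact s.Prime]
    [Fact t.Prime] (hst : s ≠ t) (hs : s ∣ Nat.card B) (ht : t ∣ Nat.card B) {U : Subgroup G}
    (hU : IsPGroup s U) :
    ∃ T : Subgroup G, IsPGroup t T ∧ ¬ t ∣ T.index ∧ T ≤ Subgroup.centralizer (U : Set G) := by
  obtain ⟨g, -, hg⟩ := Cfsg.Agent.Lib.Helper14.exists_conj_le_of_not_dvd_relIndex
    (L := ⊤) (P := sy B s) (R := U) le_top (sy_isPGroup B s) hU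
    (by rw [Subgroup.relIndex_top_right]; exact hk.symm.not_dvd_index_sy s hs)
  refine ⟨MulAut.conj g • sy B t, (sy_isPGroup B t).map _, ?_, ?_⟩
  · rw [Cfsg.Agent.Lib.Helper14.index_conj_smul]
    exact hk.symm.not_dvd_index_sy t ht
  · intro x hx u hu
    have hx' := Subgroup.mem_pointwise_smul_iff_inv_smul_mem.mp hx
    have hu' := Subgroup.mem_pointwise_smul_iff_inv_smul_mem.mp (hg hu)
    have hc := commute_of_pgroups hk.nilB hst (sy_le B s) (sy_le B t) (sy_isPGroup B s)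
      (sy_isPGroup B t) hu' hx'
    have h2 : (MulAut.conj g)⁻¹ • (u * x) = (MulAut.conj g)⁻¹ • (x * u) := by
      rw [smul_mul', smul_mul']; exact hc
    exact smul_left_cancel _ h2

end KWPair

namespace KWMin

variable {A B : Subgroup G}

/-- No proper subgroup contains a Sylow `p`-subgroup (`p ∣ |A|`) and a Sylow `q`-subgroup
(`q ∣ |B|`) of a minimal counterexample. -/
lemma eq_top_of_sylows [Finite G] (hm : KWMin G) (hk : KWPair A B) {p q : ℕ}
    [Fact p.Prime] [Fact q.Prime] (hpA : p ∣ Nat.card A) (hqB : q ∣ Nat.card B)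
    {N P Q : Subgroup G} (hP : IsPGroup p P) (hPi : ¬ p ∣ P.index) (hPN : P ≤ N)
    (hQ : IsPGroup q Q) (hQi : ¬ q ∣ Q.index) (hQN : Q ≤ N) : N = ⊤ := by
  obtain ⟨x, -, hx⟩ := exists_conj_eq_of_not_dvd_relIndex (L := ⊤) (P := sy A p) (R := P)
    le_top le_top (sy_isPGroup A p) hP
    (by rw [Subgroup.relIndex_top_right]; exact hk.not_dvd_index_sy p hpA)
    (by rwa [Subgroup.relIndex_top_right])
  obtain ⟨y, -, hy⟩ := exists_conj_eq_of_not_dvd_relIndex (L := ⊤) (P := sy B q) (R := Q)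
    le_top le_top (sy_isPGroup B q) hQ
    (by rw [Subgroup.relIndex_top_right]; exact hk.symm.not_dvd_index_sy q hqB)
    (by rwa [Subgroup.relIndex_top_right])
  obtain ⟨a, ha, b, hb, hab⟩ := hk.fact (x⁻¹ * y)
  have hy' : y = x * a * b := by rw [mul_assoc, ← hab]; group
  have hP' : P = MulAut.conj (x * a) • sy A p := by
    rw [map_mul, mul_smul, conj_smul_sy_of_mem hk.nilA p ha, hx]
  have hQ' : Q = MulAut.conj (x * a) • sy B q := by
    rw [hy, hy', map_mul, mul_smul, conj_smul_sy_of_mem hk.nilB q hb]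
  have h1 : P ⊔ Q = ⊤ := by
    rw [hP', hQ', ← Subgroup.smul_sup, hm.sy_sup_sy_eq_top hk p q hpA hqB, conj_smul_top]
  rw [eq_top_iff, ← h1]
  exact sup_le hPN hQN

/-- A nontrivial `s`-subgroup (`s ∣ |B|`) is not normalized by a Sylow `p`-subgroup, `p ∣ |A|`. -/
lemma eq_bot_of_sylow_le_normalizer [Finite G] (hm : KWMin G) (hk : KWPair A B) {s t p : ℕ}
    [hs' : Fact s.Prime] [Fact t.Prime] [hp' : Fact p.Prime] (hst : s ≠ t) (hs : s ∣ Nat.card B)
    (ht : t ∣ Nat.card B)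
    (hpA : p ∣ Nat.card A) {U P : Subgroup G} (hU : IsPGroup s U) (hP : IsPGroup p P)
    (hPi : ¬ p ∣ P.index) (hPU : P ≤ Subgroup.normalizer (U : Set G)) : U = ⊥ := by
  obtain ⟨T, hT, hTi, hTU⟩ := hk.exists_sylow_le_centralizer hst hs ht hU
  have hN : Subgroup.normalizer (U : Set G) = ⊤ :=
    hm.eq_top_of_sylows hk hpA ht hP hPi hPU hT hTi
      (hTU.trans (Subgroup.centralizer_le_normalizer _))
  apply hm.eq_bot_of_normalizer_eq_top hk hN
  intro htop
  obtain ⟨n, hn⟩ := IsPGroup.iff_card.mp hU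
  rw [htop, Subgroup.card_top] at hn
  have h1 : p ∣ Nat.card G := by
    rw [hk.card_eq]; exact Dvd.dvd.mul_right hpA _
  rw [hn] at h1
  have h2 : p = s := (Nat.prime_dvd_prime_iff_eq hp'.out hs'.out).mp (hp'.out.dvd_of_dvd_pow h1)
  exact ne_of_dvd hk hp'.out hpA hs h2

end KWMin

end Cfsg.Agent.Lib.Helper13
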