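import Mathlib
import Cfsg.Agent.Lib.Helper13.KWS1

set_option autoImplicit false

namespace Cfsg.Agent.Lib.Helper13

open Pointwise

universe u

variable {G : Type u} [Group G]

namespace KWMin

variable {A B : Subgroup G}

/-- In a minimal counterexample the order of `B` is not a prime power: for every `s` there is
another prime dividing `|B|`. -/
lemma exists_prime_ne [Finite G] (hm : KWMin G) (hk : KWPair A B) (s : ℕ) :
    ∃ t : ℕ, t.Prime ∧ t ≠ s ∧ t ∣ Nat.card B := by
  by_contra hcon
  push Not at hcon
  -- `|B|` is a prime power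
  have hpow : ∃ (r k : ℕ), r.Prime ∧ Nat.card B = r ^ k := by
    by_cases hs : s.Prime
    · refine ⟨s, _, hs, Nat.eq_prime_pow_of_unique_prime_dvd Nat.card_pos.ne' ?_⟩
      intro d hd hdB
      by_contra hne
      exact hcon d hd hne hdB
    · refine ⟨2, 0, Nat.prime_two, ?_⟩
      rw [pow_zero]
      by_contra hne
      obtain ⟨d, hd, hdB⟩ := Nat.exists_prime_and_dvd hne
      have : d ≠ s := fun h => hs (h ▸ hd)
      exact hcon d hd this hdB
  obtain ⟨r, k, hr, hrk⟩ := hpow
  -- `A` is nontrivial
  have hAne : A ≠ ⊥ := by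
    intro hA
    apply hm.ns
    have hB : B = ⊤ := by
      rw [eq_top_iff]
      intro g _
      obtain ⟨a, ha, b, hb, rfl⟩ := hk.fact g
      rw [hA, Subgroup.mem_bot] at ha
      rw [ha, one_mul]; exact hb
    haveI : Group.IsNilpotent B := hk.nilB
    haveI : Group.IsSolvable B := inferInstance
    have e : B ≃* G := hB ▸ Subgroup.topEquiv
    exact Group.isSolvable_of_surjective (f := e.toMonoidHom) e.surjective
  haveI : Group.IsNilpotent A := hk.nilA
  haveI : Nontrivial A := (Subgroup.nontrivial_iff_ne_bot A).mpr hAne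
  have hZ : Subgroup.center A ≠ ⊥ := Group.IsNilpotent.center_ne_bot A
  obtain ⟨z, hz1⟩ := (Subgroup.ne_bot_iff_exists_ne_one).mp hZ
  have hzc : ∀ a ∈ A, a * (z : A) = (z : A) * a := by
    intro a ha
    have := Subgroup.mem_center_iff.mp z.2 ⟨a, ha⟩
    exact congrArg Subtype.val this
  have hzne : ((z : A) : G) ≠ 1 := by
    intro h
    apply hz1
    apply Subtype.ext
    apply Subtype.ext
    exact h
  have hAC : A ≤ Subgroup.centralizer ({((z : A) : G)} : Set G) := by
    intro a ha
    rw [Subgroup.mem_centralizer_singleton_iff]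
    exact hzc a ha
  have hidx : (Subgroup.centralizer ({((z : A) : G)} : Set G)).index ∣ r ^ k := by
    rw [← hrk, ← hk.index_eq]
    exact Subgroup.index_dvd_of_le hAC
  obtain ⟨j, -, hj⟩ := (Nat.dvd_prime_pow hr).mp hidx
  haveI := hm.isSimpleGroup hk
  have hprime := Cfsg.Agent.S0143.result r j hr ((z : A) : G) hzne hj
  haveI : Fact (Nat.card G).Prime := ⟨hprime⟩
  haveI : IsCyclic G := isCyclic_of_prime_card rfl
  apply hm.ns
  apply Group.isSolvable_of_comm
  intro a b
  exact (IsCyclic.isMulCommutative (α := G)).is_comm.comm a b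

end KWMin

end Cfsg.Agent.Lib.Helper13
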