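import Mathlib
import Cfsg.Agent.Lib.Helper13.KWTwoPrimes

set_option autoImplicit false

namespace Cfsg.Agent.Lib.Helper13

open Pointwise

universe u

variable {G : Type u} [Group G]

/-- A subgroup `N` normalized by `H` whose order is prime to `|H : A|` lies in `A`. -/
lemma le_of_coprime_card_relIndex_normalized [Finite G] (A N H : Subgroup G) (hAH : A ≤ H)
    (hNH : N ≤ H) (hn : H ≤ Subgroup.normalizer (N : Set G))
    (hcop : (Nat.card N).Coprime (A.relIndex H)) : N ≤ A := by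
  haveI : (N.subgroupOf H).Normal :=
    (Subgroup.normal_subgroupOf_iff_le_normalizer hNH).mpr hn
  have h1 := relIndex_normal_dvd_index (A.subgroupOf H) (N.subgroupOf H)
  have h2 : (A.subgroupOf H).relIndex (N.subgroupOf H) ∣ Nat.card (N.subgroupOf H) :=
    Subgroup.relIndex_dvd_card _ _
  rw [Nat.card_congr (Subgroup.subgroupOfEquivOfLe hNH).toEquiv] at h2
  have h3 : (A.subgroupOf H).relIndex (N.subgroupOf H) = 1 :=
    Nat.eq_one_of_dvd_coprimes hcop h2 h1
  rw [Subgroup.relIndex_eq_one] at h3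
  intro x hx
  have := h3 (show (⟨x, hNH hx⟩ : H) ∈ N.subgroupOf H from Subgroup.mem_subgroupOf.mpr hx)
  exact Subgroup.mem_subgroupOf.mp this

/-- An `r`-subgroup normalized by `L` lies in every Sylow `r`-subgroup of `L`. -/
lemma le_of_normalized_of_sylow [Finite G] {r : ℕ} [Fact r.Prime] {L U R : Subgroup G}
    (hUL : U ≤ L) (hn : L ≤ Subgroup.normalizer (U : Set G)) (hU : IsPGroup r U)
    (hR : IsPGroup r R) (hidx : ¬ r ∣ R.relIndex L) : U ≤ R := by
  obtain ⟨c, hc, hle⟩ :=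
    Cfsg.Agent.Lib.Helper14.exists_conj_le_of_not_dvd_relIndex hUL hR hU hidx
  have h1 : MulAut.conj c⁻¹ • U = U :=
    (mem_normalizer_iff_conj_smul U c⁻¹).mp (hn (L.inv_mem hc))
  calc U = MulAut.conj c⁻¹ • U := h1.symm
    _ ≤ MulAut.conj c⁻¹ • (MulAut.conj c • R) :=
        Subgroup.pointwise_smul_le_pointwise_smul_iff.mpr hle
    _ = R := by rw [map_inv, inv_smul_smul]

namespace KWPair

variable {A B : Subgroup G}

/-- Order of a subgroup containing `A`. -/
lemma card_of_le [Finite G] (hk : KWPair A B) {H : Subgroup G} (hAH : A ≤ H) :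
    Nat.card H = Nat.card A * Nat.card (H ⊓ B : Subgroup G) := by
  have h1 := card_mul_card_inf A (H ⊓ B)
  have h2 : ((A : Set G) * ((H ⊓ B : Subgroup G) : Set G) : Set G) = (H : Set G) := by
    ext x
    constructor
    · rintro ⟨a, ha, b, hb, rfl⟩
      exact H.mul_mem (hAH ha) hb.1
    · intro hx
      obtain ⟨a, ha, b, hb, rfl⟩ := hk.dedekind hAH x hx
      exact ⟨a, ha, b, hb, rfl⟩
  have h3 : A ⊓ (H ⊓ B) = ⊥ := by
    rw [eq_bot_iff, ← hk.inf_eq_bot]
    exact inf_le_inf_left A inf_le_right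
  rw [h2, h3, Subgroup.card_bot, mul_one] at h1
  exact h1

lemma relIndex_of_le [Finite G] (hk : KWPair A B) {H : Subgroup G} (hAH : A ≤ H) :
    A.relIndex H = Nat.card (H ⊓ B : Subgroup G) := by
  have h1 := Cfsg.Agent.Lib.Helper14.card_mul_relIndex_of_le hAH
  rw [hk.card_of_le hAH] at h1
  exact Nat.eq_of_mul_eq_mul_left Nat.card_pos h1

/-- `K ≠ ⊥` normal in `A` generates `G` together with `B` in a simple group. -/
lemma sup_eq_top_of_normalized [Finite G] (hk : KWPair A B)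
    (hsimple : ∀ N : Subgroup G, N.Normal → N = ⊥ ∨ N = ⊤) {K : Subgroup G}
    (hKA : A ≤ Subgroup.normalizer (K : Set G)) (hK : K ≠ ⊥) : K ⊔ B = ⊤ := by
  have h1 : Subgroup.normalClosure (K : Set G) ≤ K ⊔ B := by
    unfold Subgroup.normalClosure
    rw [Subgroup.closure_le]
    intro x hx
    rw [Group.mem_conjugatesOfSet_iff] at hx
    obtain ⟨k, hk', hc⟩ := hx
    rw [isConj_iff] at hc
    obtain ⟨c, hc⟩ := hc
    obtain ⟨b, hb, a, ha, rfl⟩ := hk.fact' c
    have h2 : a * k * a⁻¹ ∈ K := (Subgroup.mem_normalizer_iff.mp (hKA ha) k).mp hk'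
    have h3 : x = b * (a * k * a⁻¹) * b⁻¹ := by
      rw [← hc]; group
    rw [h3]
    exact (K ⊔ B).mul_mem ((K ⊔ B).mul_mem (Subgroup.mem_sup_right hb) (Subgroup.mem_sup_left h2))
      ((K ⊔ B).inv_mem (Subgroup.mem_sup_right hb))
  rcases hsimple _ (Subgroup.normalClosure_normal (s := (K : Set G))) with h | h
  · exfalso
    apply hK
    rw [eq_bot_iff, ← h]
    exact Subgroup.le_normalClosure
  · rw [eq_top_iff, ← h]; exact h1

/-- Factorization of the normalizer of a Sylow part of `S ⊓ B` when `A` normalizes `S`. -/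
lemma normalizer_factorized [Finite G] (hk : KWPair A B) (s : ℕ) [Fact s.Prime] (S : Subgroup G)
    (hAS : A ≤ Subgroup.normalizer (S : Set G)) :
    ∀ g ∈ Subgroup.normalizer ((sy (S ⊓ B) s : Subgroup G) : Set G),
      ∃ a ∈ Subgroup.normalizer ((sy (S ⊓ B) s : Subgroup G) : Set G) ⊓ A,
      ∃ b ∈ Subgroup.normalizer ((sy (S ⊓ B) s : Subgroup G) : Set G) ⊓ B, g = a * b := by
  intro g hg
  obtain ⟨a, ha, b, hb, rfl⟩ := hk.fact g
  have hnil : Group.IsNilpotent (S ⊓ B : Subgroup G) := isNilpotent_of_le hk.nilB inf_le_right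
  have hb' : b ∈ Subgroup.normalizer ((sy (S ⊓ B) s : Subgroup G) : Set G) := by
    rw [mem_normalizer_iff_conj_smul]
    apply conj_smul_eq_of_ge
    refine le_sy hnil s ?_ ((sy_isPGroup _ s).map _)
    have hg' := (mem_normalizer_iff_conj_smul _ _).mp hg
    rw [map_mul, mul_smul] at hg'
    have e : MulAut.conj b • sy (S ⊓ B) s = MulAut.conj a⁻¹ • sy (S ⊓ B) s := by
      rw [map_inv]; exact eq_inv_smul_iff.mpr hg'
    apply le_inf
    · rw [e]
      have h1 : MulAut.conj a⁻¹ • S = S :=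
        (mem_normalizer_iff_conj_smul S a⁻¹).mp (hAS (A.inv_mem ha))
      calc MulAut.conj a⁻¹ • sy (S ⊓ B) s ≤ MulAut.conj a⁻¹ • S :=
            Subgroup.pointwise_smul_le_pointwise_smul_iff.mpr ((sy_le _ s).trans inf_le_left)
        _ = S := h1
    · have h1 : MulAut.conj b • B = B :=
        (mem_normalizer_iff_conj_smul B b).mp (Subgroup.le_normalizer hb)
      calc MulAut.conj b • sy (S ⊓ B) s ≤ MulAut.conj b • B :=
            Subgroup.pointwise_smul_le_pointwise_smul_iff.mpr ((sy_le _ s).trans inf_le_right)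
        _ = B := h1
  have ha' : a ∈ Subgroup.normalizer ((sy (S ⊓ B) s : Subgroup G) : Set G) := by
    have : a = (a * b) * b⁻¹ := by group
    rw [this]
    exact Subgroup.mul_mem _ hg (Subgroup.inv_mem _ hb')
  exact ⟨a, ⟨ha', ha⟩, b, ⟨hb', hb⟩, rfl⟩

end KWPair

end Cfsg.Agent.Lib.Helper13
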