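import Mathlib
import Cfsg.Agent.Lib.Helper13.KWTools
import Cfsg.Agent.Lib.Helper13.KWFitting
import Cfsg.Agent.Lib.Helper76.Fitting

set_option autoImplicit false
set_option linter.style.haveILetI false

namespace Cfsg.Agent.Lib.Helper13

open Pointwise

universe u

variable {G : Type u} [Group G]

lemma fitOf_isNilpotent [Finite G] (L : Subgroup G) : Group.IsNilpotent (fitOf L) := by
  haveI : Group.IsNilpotent (Cfsg.fittingSubgroup L) :=
    Cfsg.Agent.Lib.Helper76.fittingSubgroup_isNilpotent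
  exact Group.nilpotent_of_mulEquiv
    (Subgroup.equivMapOfInjective (Cfsg.fittingSubgroup L) L.subtype L.subtype_injective)

/-- `|N : T ∩ N|` divides `|H : T ∩ H|` when `N ≤ H` is normalized by `H`. -/
lemma relIndex_dvd_relIndex_of_normalized [Finite G] (T N H : Subgroup G) (hNH : N ≤ H)
    (hn : H ≤ Subgroup.normalizer (N : Set G)) : T.relIndex N ∣ T.relIndex H := by
  haveI : (N.subgroupOf H).Normal :=
    (Subgroup.normal_subgroupOf_iff_le_normalizer hNH).mpr hn
  have h1 := relIndex_normal_dvd_index (T.subgroupOf H) (N.subgroupOf H)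
  rw [Subgroup.relIndex_subgroupOf hNH] at h1
  exact h1

/-- The centralizer (inside `H`) of a subgroup normalized by `H` is normalized by `H`. -/
lemma le_normalizer_centralizer_inf (K H : Subgroup G)
    (hn : H ≤ Subgroup.normalizer (K : Set G)) :
    H ≤ Subgroup.normalizer ((Subgroup.centralizer (K : Set G) ⊓ H : Subgroup G) : Set G) := by
  have key : ∀ h ∈ H, ∀ x ∈ Subgroup.centralizer (K : Set G) ⊓ H,
      h * x * h⁻¹ ∈ Subgroup.centralizer (K : Set G) ⊓ H := by
    intro h hh x hx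
    refine ⟨?_, H.mul_mem (H.mul_mem hh hx.2) (H.inv_mem hh)⟩
    intro k hk
    have h1 : h⁻¹ * k * h⁻¹⁻¹ ∈ K :=
      (Subgroup.mem_normalizer_iff.mp (hn (H.inv_mem hh)) k).mp hk
    rw [inv_inv] at h1
    have h2 := hx.1 (h⁻¹ * k * h) h1
    calc k * (h * x * h⁻¹) = h * ((h⁻¹ * k * h) * x) * h⁻¹ := by group
      _ = h * (x * (h⁻¹ * k * h)) * h⁻¹ := by rw [h2]
      _ = h * x * h⁻¹ * k := by group
  intro h hh
  rw [Subgroup.mem_normalizer_iff]
  intro x
  constructor
  · exact key h hh x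
  · intro hx
    have := key h⁻¹ (H.inv_mem hh) _ hx
    have e : h⁻¹ * (h * x * h⁻¹) * h⁻¹⁻¹ = x := by group
    rwa [e] at this

/-- A subgroup normalizing all Sylow parts of `A` normalizes `A`. -/
lemma le_normalizer_of_forall_sy [Finite G] (A H : Subgroup G)
    (h : ∀ (r : ℕ) [Fact r.Prime], r ∣ Nat.card A →
      H ≤ Subgroup.normalizer ((sy A r : Subgroup G) : Set G)) :
    H ≤ Subgroup.normalizer (A : Set G) := by
  intro x hx
  rw [mem_normalizer_iff_conj_smul]
  apply conj_smul_eq_of_le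
  apply le_of_forall_sy_le
  intro r _ hr
  have h1 := (mem_normalizer_iff_conj_smul _ _).mp (h r hr hx)
  rw [← h1]
  exact Subgroup.pointwise_smul_le_pointwise_smul_iff.mpr (sy_le A r)

lemma not_dvd_relIndex_of_card [Finite G] {s : ℕ} [hs : Fact s.Prime] {R L : Subgroup G}
    (hRL : R ≤ L) (hcard : Nat.card R = s ^ (Nat.card L).factorization s) :
    ¬ s ∣ R.relIndex L := by
  intro hd
  have h1 := Cfsg.Agent.Lib.Helper14.card_mul_relIndex_of_le hRL
  have h2 : s ^ ((Nat.card L).factorization s + 1) ∣ Nat.card L := by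
    obtain ⟨c, hc⟩ := hd
    refine ⟨c, ?_⟩
    generalize (Nat.card L).factorization s = k at hcard ⊢
    rw [← h1, hcard, hc, pow_succ, mul_assoc]
  exact Nat.pow_succ_factorization_not_dvd Nat.card_pos.ne' hs.out h2

/-- The factorization predicate used throughout. -/
def Factd (A B L : Subgroup G) : Prop :=
  ∀ g ∈ L, ∃ a ∈ L ⊓ A, ∃ b ∈ L ⊓ B, g = a * b

lemma Factd.symm {A B L : Subgroup G} (h : Factd A B L) : Factd B A L := by
  intro g hg
  obtain ⟨a, ha, b, hb, hab⟩ := h g⁻¹ (L.inv_mem hg)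
  refine ⟨b⁻¹, Subgroup.inv_mem _ hb, a⁻¹, Subgroup.inv_mem _ ha, ?_⟩
  rw [← mul_inv_rev, ← hab, inv_inv]

namespace KWPair

variable {A B : Subgroup G}

lemma factd_of_le (hk : KWPair A B) {H : Subgroup G} (hAH : A ≤ H) : Factd A B H := by
  intro x hx
  obtain ⟨a, ha, b, hb, rfl⟩ := hk.dedekind hAH x hx
  exact ⟨a, ⟨hAH ha, ha⟩, b, hb, rfl⟩

lemma card_of_factd [Finite G] (hk : KWPair A B) {L : Subgroup G} (hf : Factd A B L) :
    Nat.card L = Nat.card (L ⊓ A : Subgroup G) * Nat.card (L ⊓ B : Subgroup G) := by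
  have h1 := card_mul_card_inf (L ⊓ A) (L ⊓ B)
  have h2 : (((L ⊓ A : Subgroup G) : Set G) * ((L ⊓ B : Subgroup G) : Set G) : Set G)
      = (L : Set G) := by
    ext x
    constructor
    · rintro ⟨a, ha, b, hb, rfl⟩
      exact L.mul_mem ha.1 hb.1
    · intro hx
      obtain ⟨a, ha, b, hb, rfl⟩ := hf x hx
      exact ⟨a, ha, b, hb, rfl⟩
  have h3 : (L ⊓ A) ⊓ (L ⊓ B) = ⊥ := by
    rw [eq_bot_iff, ← hk.inf_eq_bot]
    exact inf_le_inf inf_le_right inf_le_right
  rw [h2, h3, Subgroup.card_bot, mul_one] at h1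
  exact h1

/-- For factorized `L`, the Sylow `s`-part of `L ⊓ B` is a Sylow `s`-subgroup of `L`
(`s` prime to `|A|`). -/
lemma not_dvd_relIndex_sy_of_factd [Finite G] (hk : KWPair A B) {L : Subgroup G}
    (hf : Factd A B L) (s : ℕ) [hs : Fact s.Prime] (hsA : ¬ s ∣ Nat.card A) :
    ¬ s ∣ (sy (L ⊓ B) s).relIndex L := by
  have h0 : (L ⊓ B).relIndex L = Nat.card (L ⊓ A : Subgroup G) := by
    have h1 := Cfsg.Agent.Lib.Helper14.card_mul_relIndex_of_le (inf_le_left : L ⊓ B ≤ L)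
    rw [hk.card_of_factd hf, mul_comm] at h1
    exact Nat.eq_of_mul_eq_mul_right Nat.card_pos h1
  rw [← Subgroup.relIndex_mul_relIndex _ _ _ (sy_le (L ⊓ B) s) inf_le_left, h0]
  intro hd
  rcases (Nat.Prime.dvd_mul hs.out).mp hd with h1 | h1
  · exact not_dvd_relIndex_sy _ s h1
  · exact hsA (h1.trans (Subgroup.card_dvd_of_le inf_le_right))

lemma relIndex_right_of_le [Finite G] (hk : KWPair A B) {H : Subgroup G} (hAH : A ≤ H) :
    B.relIndex H = Nat.card A := by
  rw [← Subgroup.inf_relIndex_left]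
  have h1 := Cfsg.Agent.Lib.Helper14.card_mul_relIndex_of_le (inf_le_left : H ⊓ B ≤ H)
  rw [hk.card_of_le hAH, mul_comm] at h1
  exact Nat.eq_of_mul_eq_mul_right Nat.card_pos h1

lemma dvd_right_of_dvd_card [Finite G] (hk : KWPair A B) {r : ℕ} (hr : r.Prime) {N : Subgroup G}
    (hrN : r ∣ Nat.card N) (hrA : ¬ r ∣ Nat.card A) : r ∣ Nat.card B := by
  have h1 : r ∣ Nat.card G := hrN.trans (Subgroup.card_subgroup_dvd_card N)
  rw [hk.card_eq] at h1
  rcases (Nat.Prime.dvd_mul hr).mp h1 with h | h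
  · exact absurd h hrA
  · exact h

end KWPair

namespace KWMin

variable {A B : Subgroup G}

lemma eq_bot_of_sy_le_normalizer [Finite G] (hm : KWMin G) (hk : KWPair A B) {s p : ℕ}
    [Fact s.Prime] [Fact p.Prime] (hs : s ∣ Nat.card B) (hpA : p ∣ Nat.card A) {U : Subgroup G}
    (hU : IsPGroup s U) (h : sy A p ≤ Subgroup.normalizer (U : Set G)) : U = ⊥ := by
  obtain ⟨t, htp, hts, htB⟩ := hm.exists_prime_ne hk s
  haveI : Fact t.Prime := ⟨htp⟩
  exact hm.eq_bot_of_sylow_le_normalizer hk hts.symm hs htB hpA hU (sy_isPGroup A p)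
    (hk.not_dvd_index_sy p hpA) h

lemma exists_prime_dvd_left [Finite G] (hm : KWMin G) (hk : KWPair A B) :
    ∃ p : ℕ, p.Prime ∧ p ∣ Nat.card A := by
  obtain ⟨p, hp, -, hpA⟩ := hm.exists_prime_ne hk.symm 0
  exact ⟨p, hp, hpA⟩

lemma eq_bot_of_le_normalizer [Finite G] (hm : KWMin G) (hk : KWPair A B) {s : ℕ}
    [Fact s.Prime] (hs : s ∣ Nat.card B) {U : Subgroup G}
    (hU : IsPGroup s U) (h : A ≤ Subgroup.normalizer (U : Set G)) : U = ⊥ := by
  obtain ⟨p, hp, hpA⟩ := hm.exists_prime_dvd_left hk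
  haveI : Fact p.Prime := ⟨hp⟩
  exact hm.eq_bot_of_sy_le_normalizer hk hs hpA hU ((sy_le A p).trans h)

lemma left_ne_top [Finite G] (hm : KWMin G) (hk : KWPair A B) : A ≠ ⊤ := by
  intro h
  apply hm.ns
  haveI : Group.IsNilpotent A := hk.nilA
  haveI : Group.IsSolvable A := inferInstance
  have e : A ≃* G := h ▸ Subgroup.topEquiv
  exact Group.isSolvable_of_surjective (f := e.toMonoidHom) e.surjective

lemma normalizer_ne_top_of_le [Finite G] (hm : KWMin G) (hk : KWPair A B) {U : Subgroup G}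
    (hU : U ≠ ⊥) (hUA : U ≤ A) : Subgroup.normalizer (U : Set G) ≠ ⊤ := by
  intro h
  apply hU
  apply hm.eq_bot_of_normalizer_eq_top hk h
  intro htop
  apply hm.left_ne_top hk
  rw [eq_top_iff, ← htop]
  exact hUA

/-- Normal nilpotent subgroups of a subgroup containing `A` lie in `A`. -/
lemma le_of_nilpotent_normalized [Finite G] (hm : KWMin G) (hk : KWPair A B) {H N : Subgroup G}
    (hAH : A ≤ H) (hNH : N ≤ H) (hn : H ≤ Subgroup.normalizer (N : Set G))
    (hnil : Group.IsNilpotent N) : N ≤ A := by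
  apply le_of_coprime_card_relIndex_normalized A N H hAH hNH hn
  rw [hk.relIndex_of_le hAH]
  apply Nat.coprime_of_dvd
  intro s hs hsN hsB
  haveI : Fact s.Prime := ⟨hs⟩
  apply sy_ne_bot N s hsN
  exact hm.eq_bot_of_le_normalizer hk (hsB.trans (Subgroup.card_dvd_of_le inf_le_right))
    (sy_isPGroup N s) (hAH.trans (hn.trans (normalizer_le_normalizer_sy hnil s)))

end KWMin

end Cfsg.Agent.Lib.Helper13
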