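import Mathlib
import Cfsg.Agent.Lib.Helper13.KWUniqueA

set_option autoImplicit false
set_option linter.style.haveILetI false

namespace Cfsg.Agent.Lib.Helper13

open Pointwise

universe u

variable {G : Type u} [Group G]

/-- The centre of the Sylow `p`-part of `A`, as a subgroup of the ambient group. -/
noncomputable def zy (A : Subgroup G) (p : ℕ) [Fact p.Prime] : Subgroup G :=
  (Subgroup.center (sy A p)).map (sy A p).subtype

lemma zy_le (A : Subgroup G) (p : ℕ) [Fact p.Prime] : zy A p ≤ sy A p :=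
  Subgroup.map_subtype_le _

lemma mem_zy_iff (A : Subgroup G) (p : ℕ) [Fact p.Prime] (z : G) :
    z ∈ zy A p ↔ z ∈ sy A p ∧ ∀ x ∈ sy A p, x * z = z * x := by
  constructor
  · rintro ⟨y, hy, rfl⟩
    refine ⟨y.2, fun x hx => ?_⟩
    have := Subgroup.mem_center_iff.mp hy ⟨x, hx⟩
    exact congrArg Subtype.val this
  · rintro ⟨hz, hc⟩
    refine ⟨⟨z, hz⟩, ?_, rfl⟩
    show (⟨z, hz⟩ : sy A p) ∈ Subgroup.center (sy A p)
    rw [Subgroup.mem_center_iff]
    intro x
    exact Subtype.ext (hc x.1 x.2)

lemma zy_ne_bot [Finite G] (A : Subgroup G) (p : ℕ) [hp : Fact p.Prime] (h : p ∣ Nat.card A) :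
    zy A p ≠ ⊥ := by
  have h1 : sy A p ≠ ⊥ := sy_ne_bot A p h
  haveI : Nontrivial (sy A p) := (Subgroup.nontrivial_iff_ne_bot _).mpr h1
  have h2 : Subgroup.center (sy A p) ≠ ⊥ := by
    have := (sy_isPGroup A p).bot_lt_center
    exact this.ne'
  intro h3
  apply h2
  unfold zy at h3
  rwa [Subgroup.map_eq_bot_iff_of_injective _ (sy A p).subtype_injective] at h3

lemma le_centralizer_zy {A : Subgroup G} (hA : Group.IsNilpotent A) (p : ℕ) [Fact p.Prime]
    [Finite G] : A ≤ Subgroup.centralizer ((zy A p : Subgroup G) : Set G) := by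
  apply le_of_forall_sy_le
  intro r _ hr
  by_cases hrp : r = p
  · subst hrp
    intro x hx z hz
    exact (((mem_zy_iff A r z).mp hz).2 x hx).symm
  · exact le_centralizer_of_pgroups hA hrp (sy_le A r) ((zy_le A p).trans (sy_le A p))
      (sy_isPGroup A r) ((sy_isPGroup A p).to_le (zy_le A p))

lemma normalizer_sy_le_normalizer_zy (A : Subgroup G) (p : ℕ) [Fact p.Prime] :
    Subgroup.normalizer ((sy A p : Subgroup G) : Set G)
      ≤ Subgroup.normalizer ((zy A p : Subgroup G) : Set G) := by
  have key : ∀ g ∈ Subgroup.normalizer ((sy A p : Subgroup G) : Set G), ∀ z ∈ zy A p,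
      g * z * g⁻¹ ∈ zy A p := by
    intro g hg z hz
    rw [mem_zy_iff] at hz ⊢
    refine ⟨(Subgroup.mem_normalizer_iff.mp hg z).mp hz.1, fun x hx => ?_⟩
    have h1 : g⁻¹ * x * g⁻¹⁻¹ ∈ sy A p :=
      (Subgroup.mem_normalizer_iff.mp (Subgroup.inv_mem _ hg) x).mp hx
    rw [inv_inv] at h1
    have h2 := hz.2 _ h1
    calc x * (g * z * g⁻¹) = g * ((g⁻¹ * x * g) * z) * g⁻¹ := by group
      _ = g * (z * (g⁻¹ * x * g)) * g⁻¹ := by rw [h2]
      _ = g * z * g⁻¹ * x := by group
  intro g hg
  rw [Subgroup.mem_normalizer_iff]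
  intro z
  constructor
  · exact key g hg z
  · intro hz
    have := key g⁻¹ (Subgroup.inv_mem _ hg) _ hz
    have e : g⁻¹ * (g * z * g⁻¹) * g⁻¹⁻¹ = z := by group
    rwa [e] at this

namespace KWMin

variable {A B : Subgroup G}

/-- The centralizer in `H ⊇ A` (proper) of a nontrivial subgroup normalized by `H` has order
prime to `|B|`. -/
lemma coprime_card_centralizer_inf [Finite G] (hm : KWMin G) (hk : KWPair A B)
    {H K : Subgroup G} (hAH : A ≤ H) (hH : H ≠ ⊤) (hK : K ≠ ⊥)
    (hKn : H ≤ Subgroup.normalizer (K : Set G)) :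
    (Nat.card (Subgroup.centralizer (K : Set G) ⊓ H : Subgroup G)).Coprime (Nat.card B) := by
  apply Nat.coprime_of_dvd
  intro s hs hsC hsB
  haveI : Fact s.Prime := ⟨hs⟩
  have hsA : ¬ s ∣ Nat.card A := fun h => hk.not_dvd_card_right hs h hsB
  set C := Subgroup.centralizer (K : Set G) ⊓ H with hC
  have hCn : H ≤ Subgroup.normalizer (C : Set G) := le_normalizer_centralizer_inf K H hKn
  have hCH : C ≤ H := inf_le_right
  -- `s` divides `|C ⊓ B|`
  have hsCB : s ∣ Nat.card (C ⊓ B : Subgroup G) := by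
    have h1 := Cfsg.Agent.Lib.Helper14.card_mul_relIndex_of_le (inf_le_left : C ⊓ B ≤ C)
    rw [Subgroup.inf_relIndex_left] at h1
    have h2 : B.relIndex C ∣ Nat.card A := by
      rw [← hk.relIndex_right_of_le hAH]
      exact relIndex_dvd_relIndex_of_normalized B C H hCH hCn
    rw [← h1] at hsC
    rcases (Nat.Prime.dvd_mul hs).mp hsC with h | h
    · exact h
    · exact absurd (h.trans h2) hsA
  set Y := sy (C ⊓ B) s with hY
  have hYne : Y ≠ ⊥ := sy_ne_bot _ s hsCB
  have hAC : A ≤ Subgroup.normalizer (C : Set G) := hAH.trans hCn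
  set L := Subgroup.normalizer (Y : Set G) with hL
  have hfact : Factd A B L := hk.normalizer_factorized s C hAC
  have hYC : Y ≤ C := (sy_le _ s).trans inf_le_left
  have hYB : Y ≤ B := (sy_le _ s).trans inf_le_right
  have hYs : IsPGroup s Y := sy_isPGroup _ s
  have hLne : L ≠ ⊤ := by
    intro h
    apply hYne
    apply hm.eq_bot_of_normalizer_eq_top hk h
    intro htop
    apply hH
    rw [eq_top_iff, ← htop]
    exact hYC.trans hCH
  have hLsolv : Group.IsSolvable L :=
    hm.solvable_of_factorized L (L ⊓ A) (L ⊓ B) inf_le_left inf_le_left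
      (isNilpotent_of_le hk.nilA inf_le_right) (isNilpotent_of_le hk.nilB inf_le_right)
      (Nat.Coprime.of_dvd (Subgroup.card_dvd_of_le inf_le_right)
        (Subgroup.card_dvd_of_le inf_le_right) hk.cop) hfact hLne
  have hKL : K ≤ L := by
    refine le_trans ?_ (Subgroup.centralizer_le_normalizer _)
    intro k hk' y hy
    have h1 : y ∈ Subgroup.centralizer (K : Set G) := (hYC hy).1
    exact (h1 k hk').symm
  have hTL : ∀ (t : ℕ) [Fact t.Prime], t ≠ s → sy B t ≤ L := fun t _ hts =>
    (le_centralizer_of_pgroups hk.nilB hts (sy_le B t) hYB (sy_isPGroup B t) hYs).trans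
      (Subgroup.centralizer_le_normalizer _)
  obtain ⟨t, htp, hts, htB⟩ := hm.exists_prime_ne hk s
  haveI : Fact t.Prime := ⟨htp⟩
  have hKB : K ⊔ B = ⊤ :=
    hk.sup_eq_top_of_normalized (fun N hN => hm.eq_bot_or_eq_top hk N hN) (hAH.trans hKn) hK
  have hfit : fitOf L ≤ sy B s := by
    apply fitOf_le_of_forall
    intro N hNL hNn hNnil
    apply le_of_forall_sy_le
    intro r hrF hrN
    have hUn : L ≤ Subgroup.normalizer ((sy N r : Subgroup G) : Set G) :=
      hNn.trans (normalizer_le_normalizer_sy hNnil r)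
    have hUL : sy N r ≤ L := (sy_le N r).trans hNL
    by_cases hrA : r ∣ Nat.card A
    · have h1 : sy N r = ⊥ :=
        hm.eq_bot_of_sy_le_normalizer hk.symm hrA htB (sy_isPGroup N r) ((hTL t hts).trans hUn)
      rw [h1]; exact bot_le
    · have hrB : r ∣ Nat.card B := hk.dvd_right_of_dvd_card hrF.out hrN hrA
      by_cases hrs : r = s
      · subst hrs
        have h1 : sy N r ≤ sy (L ⊓ B) r :=
          le_of_normalized_of_sylow hUL hUn (sy_isPGroup N r) (sy_isPGroup _ r)
            (hk.not_dvd_relIndex_sy_of_factd hfact r hrA)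
        exact h1.trans (le_sy hk.nilB r ((sy_le _ r).trans inf_le_right) (sy_isPGroup _ r))
      · have hrL : sy B r ≤ L := hTL r hrs
        have h1 : sy N r ≤ sy B r :=
          le_of_normalized_of_sylow hUL hUn (sy_isPGroup N r) (sy_isPGroup B r)
            (fun h => hk.symm.not_dvd_index_sy r hrB
              (h.trans (Subgroup.relIndex_dvd_index_of_le hrL)))
        have hBn : B ≤ Subgroup.normalizer ((sy N r : Subgroup G) : Set G) := by
          apply le_of_forall_sy_le
          intro t' _ _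
          by_cases h : t' = r
          · subst h; exact hrL.trans hUn
          · exact (le_centralizer_of_pgroups hk.nilB h (sy_le B t') (h1.trans (sy_le B r))
              (sy_isPGroup B t') (sy_isPGroup N r)).trans (Subgroup.centralizer_le_normalizer _)
        have hN : Subgroup.normalizer ((sy N r : Subgroup G) : Set G) = ⊤ := by
          rw [eq_top_iff, ← hKB]
          exact sup_le (hKL.trans hUn) hBn
        have h2 : sy N r = ⊥ := by
          apply hm.eq_bot_of_normalizer_eq_top hk hN
          intro htop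
          apply hLne
          rw [eq_top_iff, ← htop]
          exact hUL
        rw [h2]; exact bot_le
  have h1 : sy B t ≤ fitOf L := by
    intro x hx
    apply mem_fitOf_of_centralizes L hLsolv (hTL t hts hx)
    intro f hf
    exact commute_of_pgroups hk.nilB hts (sy_le B t) (sy_le B s) (sy_isPGroup B t)
      (sy_isPGroup B s) hx (hfit hf)
  have h2 : sy B t ≤ sy B s := h1.trans hfit
  have h3 : Disjoint (sy B t) (sy B s) :=
    IsPGroup.disjoint_of_ne t s hts _ _ (sy_isPGroup B t) (sy_isPGroup B s)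
  exact sy_ne_bot B t htB (h3.eq_bot_of_le h2)

end KWMin

end Cfsg.Agent.Lib.Helper13
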