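import Mathlib
import Cfsg.Agent.Lib.Helper13.KWUniqueB

set_option autoImplicit false
set_option linter.style.haveILetI false

namespace Cfsg.Agent.Lib.Helper13

open Pointwise

universe u

variable {G : Type u} [Group G]

namespace KWMin

variable {A B : Subgroup G}

/-- Every proper subgroup containing `A` normalizes each Sylow part of `A`. -/
lemma le_normalizer_sy_of_le [Finite G] (hm : KWMin G) (hk : KWPair A B) {H : Subgroup G}
    (hAH : A ≤ H) (hH : H ≠ ⊤) (r : ℕ) [Fact r.Prime] (hrA : r ∣ Nat.card A) :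
    H ≤ Subgroup.normalizer ((sy A r : Subgroup G) : Set G) := by
  have hsolv : Group.IsSolvable H := hm.solvable_of_le hk hAH hH
  have hF : fitOf H ≤ A :=
    fitOf_le_of_forall H A (fun N hNH hn hnil => hm.le_of_nilpotent_normalized hk hAH hNH hn hnil)
  have hFnil : Group.IsNilpotent (fitOf H) := fitOf_isNilpotent H
  obtain ⟨p, hp, hpr, hpA⟩ := hm.exists_prime_ne hk.symm r
  haveI : Fact p.Prime := ⟨hp⟩
  set K := sy (fitOf H) p with hK
  have hzF : zy A p ≤ fitOf H := by
    intro z hz
    have hzA : z ∈ A := (sy_le A p) ((zy_le A p) hz)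
    apply mem_fitOf_of_centralizes H hsolv (hAH hzA)
    intro f hf
    have := le_centralizer_zy hk.nilA p (hF hf)
    exact this z hz
  have hzK : zy A p ≤ K :=
    le_sy hFnil p hzF ((sy_isPGroup A p).to_le (zy_le A p))
  have hKne : K ≠ ⊥ := by
    intro h
    apply zy_ne_bot A p hpA
    rw [eq_bot_iff, ← h]
    exact hzK
  have hKA : K ≤ sy A p := le_sy hk.nilA p ((sy_le _ p).trans hF) (sy_isPGroup _ p)
  have hKn : H ≤ Subgroup.normalizer (K : Set G) :=
    (fitOf_normalized H).trans (normalizer_le_normalizer_sy hFnil p)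
  set C := Subgroup.centralizer (K : Set G) ⊓ H with hC
  have hCn : H ≤ Subgroup.normalizer (C : Set G) := le_normalizer_centralizer_inf K H hKn
  have hCA : C ≤ A := by
    apply le_of_coprime_card_relIndex_normalized A C H hAH inf_le_right hCn
    rw [hk.relIndex_of_le hAH]
    exact Nat.Coprime.of_dvd_right (Subgroup.card_dvd_of_le inf_le_right)
      (hm.coprime_card_centralizer_inf hk hAH hH hKne hKn)
  have hCnil : Group.IsNilpotent C := isNilpotent_of_le hk.nilA hCA
  have hrC : sy A r ≤ C := by
    refine le_inf ?_ ((sy_le A r).trans hAH)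
    exact le_centralizer_of_pgroups hk.nilA hpr.symm (sy_le A r) (hKA.trans (sy_le A p))
      (sy_isPGroup A r) ((sy_isPGroup A p).to_le hKA)
  have h1 : sy C r = sy A r := by
    rw [sy_eq_inf hk.nilA hCnil hCA r]
    exact inf_eq_right.mpr hrC
  rw [← h1]
  exact hCn.trans (normalizer_le_normalizer_sy hCnil r)

/-- **Uniqueness**: every proper subgroup containing `A` normalizes `A`. -/
theorem le_normalizer_of_le [Finite G] (hm : KWMin G) (hk : KWPair A B) {H : Subgroup G}
    (hAH : A ≤ H) (hH : H ≠ ⊤) : H ≤ Subgroup.normalizer (A : Set G) :=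
  le_normalizer_of_forall_sy A H (fun r _ hr => hm.le_normalizer_sy_of_le hk hAH hH r hr)

lemma normalizer_le_of_le [Finite G] (hm : KWMin G) (hk : KWPair A B) {U : Subgroup G}
    (hU : U ≠ ⊥) (hUA : U ≤ A) (hAU : A ≤ Subgroup.normalizer (U : Set G)) :
    Subgroup.normalizer (U : Set G) ≤ Subgroup.normalizer (A : Set G) :=
  hm.le_normalizer_of_le hk hAU (hm.normalizer_ne_top_of_le hk hU hUA)

lemma normalizer_sy_le [Finite G] (hm : KWMin G) (hk : KWPair A B) (r : ℕ) [Fact r.Prime]
    (hrA : r ∣ Nat.card A) :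
    Subgroup.normalizer ((sy A r : Subgroup G) : Set G) ≤ Subgroup.normalizer (A : Set G) :=
  hm.normalizer_le_of_le hk (sy_ne_bot A r hrA) (sy_le A r) (sy_normal hk.nilA r)

lemma normalizer_zy_le [Finite G] (hm : KWMin G) (hk : KWPair A B) (p : ℕ) [Fact p.Prime]
    (hpA : p ∣ Nat.card A) :
    Subgroup.normalizer ((zy A p : Subgroup G) : Set G) ≤ Subgroup.normalizer (A : Set G) :=
  hm.normalizer_le_of_le hk (zy_ne_bot A p hpA) ((zy_le A p).trans (sy_le A p))
    ((le_centralizer_zy hk.nilA p).trans (Subgroup.centralizer_le_normalizer _))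

/-- A proper factorized subgroup containing a full Sylow part of `A` normalizes `A`. -/
theorem le_normalizer_of_factd [Finite G] (hm : KWMin G) (hk : KWPair A B) {L : Subgroup G}
    (hf : Factd A B L) (hL : L ≠ ⊤) {r : ℕ} [Fact r.Prime] (hrA : r ∣ Nat.card A)
    (hrL : sy A r ≤ L) : L ≤ Subgroup.normalizer (A : Set G) := by
  have hLsolv : Group.IsSolvable L :=
    hm.solvable_of_factorized L (L ⊓ A) (L ⊓ B) inf_le_left inf_le_left
      (isNilpotent_of_le hk.nilA inf_le_right) (isNilpotent_of_le hk.nilB inf_le_right)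
      (Nat.Coprime.of_dvd (Subgroup.card_dvd_of_le inf_le_right)
        (Subgroup.card_dvd_of_le inf_le_right) hk.cop) hf hL
  have hFnil : Group.IsNilpotent (fitOf L) := fitOf_isNilpotent L
  have hFn : ∀ q : ℕ, [Fact q.Prime] →
      L ≤ Subgroup.normalizer ((sy (fitOf L) q : Subgroup G) : Set G) := fun q _ =>
    (fitOf_normalized L).trans (normalizer_le_normalizer_sy hFnil q)
  have hFL : ∀ q : ℕ, [Fact q.Prime] → sy (fitOf L) q ≤ L := fun q _ =>
    (sy_le _ q).trans (fitOf_le L)
  have hridx : ¬ r ∣ (sy A r).relIndex L := fun h =>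
    hk.not_dvd_index_sy r hrA (h.trans (Subgroup.relIndex_dvd_index_of_le hrL))
  set O := sy (fitOf L) r with hO
  have hOr : O ≤ sy A r :=
    le_of_normalized_of_sylow (hFL r) (hFn r) (sy_isPGroup _ r) (sy_isPGroup A r) hridx
  by_cases hObot : O = ⊥
  · exfalso
    -- `sy A r` centralizes the Fitting subgroup of `L`
    have hcent : fitOf L ≤ Subgroup.centralizer ((sy A r : Subgroup G) : Set G) := by
      apply le_of_forall_sy_le
      intro q hqF hqd
      by_cases hqr : q = r
      · subst hqr
        rw [← hO, hObot]; exact bot_le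
      · by_cases hqA : q ∣ Nat.card A
        · have hqB : ¬ q ∣ Nat.card B := hk.not_dvd_card_right hqF.out hqA
          have h1 : sy (fitOf L) q ≤ sy (L ⊓ A) q :=
            le_of_normalized_of_sylow (hFL q) (hFn q) (sy_isPGroup _ q) (sy_isPGroup _ q)
              (hk.symm.not_dvd_relIndex_sy_of_factd hf.symm q hqB)
          have h2 : sy (fitOf L) q ≤ A := h1.trans ((sy_le _ q).trans inf_le_right)
          exact le_centralizer_of_pgroups hk.nilA hqr h2 (sy_le A r) (sy_isPGroup _ q)
            (sy_isPGroup A r)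
        · have hqB : q ∣ Nat.card B := hk.dvd_right_of_dvd_card hqF.out hqd hqA
          have h1 : sy (fitOf L) q = ⊥ :=
            hm.eq_bot_of_sy_le_normalizer hk hqB hrA (sy_isPGroup _ q) (hrL.trans (hFn q))
          rw [h1]; exact bot_le
    have h1 : sy A r ≤ fitOf L := by
      intro x hx
      apply mem_fitOf_of_centralizes L hLsolv (hrL hx)
      intro f hf'
      exact (hcent hf' x hx)
    have h2 : sy A r ≤ O := le_sy hFnil r h1 (sy_isPGroup A r)
    apply sy_ne_bot A r hrA
    rw [eq_bot_iff, ← hObot]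
    exact h2
  · have hOA : O ≤ A := hOr.trans (sy_le A r)
    have hAN : A ≤ Subgroup.normalizer (O : Set G) := by
      apply le_of_forall_sy_le
      intro q _ _
      by_cases hqr : q = r
      · subst hqr
        exact hrL.trans (hFn q)
      · exact (le_centralizer_of_pgroups hk.nilA hqr (sy_le A q) hOA (sy_isPGroup A q)
          (sy_isPGroup _ r)).trans (Subgroup.centralizer_le_normalizer _)
    exact (hFn r).trans (hm.normalizer_le_of_le hk hObot hOA hAN)

end KWMin

end Cfsg.Agent.Lib.Helper13
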