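import Mathlib
import Cfsg.Agent.Lib.Helper13.KWUniqueC

set_option autoImplicit false
set_option linter.style.haveILetI false

namespace Cfsg.Agent.Lib.Helper13

open Pointwise

universe u

variable {G : Type u} [Group G]

lemma conj_mem_centralizer_conj_smul (X : Subgroup G) (g y : G)
    (hy : y ∈ Subgroup.centralizer (X : Set G)) :
    g * y * g⁻¹ ∈ Subgroup.centralizer ((MulAut.conj g • X : Subgroup G) : Set G) := by
  intro x' hx'
  obtain ⟨x, hx, rfl⟩ := (Subgroup.mem_smul_pointwise_iff_exists _ _ _).mp hx'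
  have h1 : x * y = y * x := hy x hx
  show (g * x * g⁻¹) * (g * y * g⁻¹) = (g * y * g⁻¹) * (g * x * g⁻¹)
  calc (g * x * g⁻¹) * (g * y * g⁻¹) = g * (x * y) * g⁻¹ := by group
    _ = g * (y * x) * g⁻¹ := by rw [h1]
    _ = (g * y * g⁻¹) * (g * x * g⁻¹) := by group

lemma conj_smul_le_centralizer_conj_smul (X Y : Subgroup G) (g : G)
    (h : Y ≤ Subgroup.centralizer (X : Set G)) :
    MulAut.conj g • Y ≤ Subgroup.centralizer ((MulAut.conj g • X : Subgroup G) : Set G) := by
  intro y' hy'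
  obtain ⟨y, hy, rfl⟩ := (Subgroup.mem_smul_pointwise_iff_exists _ _ _).mp hy'
  exact conj_mem_centralizer_conj_smul X g y (h hy)

lemma conj_smul_ne_bot {X : Subgroup G} (hX : X ≠ ⊥) (g : G) : MulAut.conj g • X ≠ ⊥ := by
  intro h
  apply hX
  have : X = (MulAut.conj g)⁻¹ • (MulAut.conj g • X) := (inv_smul_smul _ _).symm
  rw [this, h, Subgroup.smul_bot]

namespace KWPair

variable {A B : Subgroup G}

/-- If `Y ≤ B` normalizes `A` then `(A ⊔ Y) ⊓ B = Y`. -/
lemma sup_inf_eq [Finite G] (hk : KWPair A B) {Y : Subgroup G} (hYB : Y ≤ B)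
    (hYn : Y ≤ Subgroup.normalizer (A : Set G)) : (A ⊔ Y) ⊓ B = Y := by
  apply le_antisymm
  · intro x hx
    have h1 : x ∈ ((A ⊔ Y : Subgroup G) : Set G) := hx.1
    rw [Subgroup.coe_mul_of_right_le_normalizer_left A Y hYn] at h1
    obtain ⟨a, ha, y, hy, hxy⟩ := h1
    have hxy' : a * y = x := hxy
    subst hxy'
    have h2 : a ∈ A ⊓ B := by
      refine ⟨ha, ?_⟩
      have := B.mul_mem hx.2 (B.inv_mem (hYB hy))
      simpa using this
    rw [hk.inf_eq_bot, Subgroup.mem_bot] at h2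
    rw [h2, one_mul]; exact hy
  · exact le_inf le_sup_right hYB

/-- The normalizer of a subgroup of `B` normalizing `A` is factorized. -/
lemma normalizer_factd_of_le [Finite G] (hk : KWPair A B) {Y : Subgroup G} (hYB : Y ≤ B)
    (hYn : Y ≤ Subgroup.normalizer (A : Set G)) :
    Factd A B (Subgroup.normalizer (Y : Set G)) := by
  intro g hg
  obtain ⟨a, ha, b, hb, rfl⟩ := hk.fact g
  have hb' : b ∈ Subgroup.normalizer (Y : Set G) := by
    rw [mem_normalizer_iff_conj_smul]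
    apply conj_smul_eq_of_ge
    refine le_trans ?_ (hk.sup_inf_eq hYB hYn).le
    have hg' := (mem_normalizer_iff_conj_smul _ _).mp hg
    rw [map_mul, mul_smul] at hg'
    have e : MulAut.conj b • Y = MulAut.conj a⁻¹ • Y := by
      rw [map_inv]; exact eq_inv_smul_iff.mpr hg'
    apply le_inf
    · rw [e]
      have h1 : MulAut.conj a⁻¹ • (A ⊔ Y) = A ⊔ Y :=
        (mem_normalizer_iff_conj_smul _ a⁻¹).mp
          (Subgroup.le_normalizer (Subgroup.mem_sup_left (A.inv_mem ha)))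
      calc MulAut.conj a⁻¹ • Y ≤ MulAut.conj a⁻¹ • (A ⊔ Y) :=
            Subgroup.pointwise_smul_le_pointwise_smul_iff.mpr le_sup_right
        _ = A ⊔ Y := h1
    · have h1 : MulAut.conj b • B = B :=
        (mem_normalizer_iff_conj_smul B b).mp (Subgroup.le_normalizer hb)
      calc MulAut.conj b • Y ≤ MulAut.conj b • B :=
            Subgroup.pointwise_smul_le_pointwise_smul_iff.mpr hYB
        _ = B := h1
  have ha' : a ∈ Subgroup.normalizer (Y : Set G) := by
    have : a = (a * b) * b⁻¹ := by group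
    rw [this]
    exact Subgroup.mul_mem _ hg (Subgroup.inv_mem _ hb')
  exact ⟨a, ⟨ha', ha⟩, b, ⟨hb', hb⟩, rfl⟩

end KWPair

namespace KWMin

variable {A B : Subgroup G}

/-- Fusion in a Sylow part of `A` is controlled by the normalizer of `A`. -/
lemma exists_mem_normalizer_conj_eq [Finite G] (hm : KWMin G) (hk : KWPair A B) {p : ℕ}
    [Fact p.Prime] {X : Subgroup G} (hX : X ≤ sy A p) {g : G}
    (hg : MulAut.conj g • X ≤ sy A p) :
    ∃ m ∈ Subgroup.normalizer (A : Set G), ∀ x ∈ X, m * x * m⁻¹ = g * x * g⁻¹ := by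
  obtain ⟨r, hr, hrp, hrA⟩ := hm.exists_prime_ne hk.symm p
  haveI : Fact r.Prime := ⟨hr⟩
  set R := sy A r with hR
  set C := Subgroup.centralizer (X : Set G) with hC
  have hRC : R ≤ C :=
    le_centralizer_of_pgroups hk.nilA hrp (sy_le A r) (hX.trans (sy_le A p)) (sy_isPGroup A r)
      ((sy_isPGroup A p).to_le hX)
  have hR2C : MulAut.conj g⁻¹ • R ≤ C := by
    intro y' hy' x hx
    obtain ⟨y, hy, rfl⟩ := (Subgroup.mem_smul_pointwise_iff_exists _ _ _).mp hy'
    have hx' : g * x * g⁻¹ ∈ sy A p :=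
      hg ((Subgroup.mem_smul_pointwise_iff_exists _ _ _).mpr ⟨x, hx, rfl⟩)
    have hc := commute_of_pgroups hk.nilA hrp (sy_le A r) (sy_le A p) (sy_isPGroup A r)
      (sy_isPGroup A p) hy hx'
    show x * (g⁻¹ * y * g⁻¹⁻¹) = (g⁻¹ * y * g⁻¹⁻¹) * x
    calc x * (g⁻¹ * y * g⁻¹⁻¹) = g⁻¹ * ((g * x * g⁻¹) * y) * g := by group
      _ = g⁻¹ * (y * (g * x * g⁻¹)) * g := by rw [hc]
      _ = (g⁻¹ * y * g⁻¹⁻¹) * x := by group
  have hidxP : ¬ r ∣ R.relIndex C := fun h =>
    hk.not_dvd_index_sy r hrA (h.trans (Subgroup.relIndex_dvd_index_of_le hRC))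
  have hidxR : ¬ r ∣ (MulAut.conj g⁻¹ • R).relIndex C := by
    intro h
    have h1 := h.trans (Subgroup.relIndex_dvd_index_of_le hR2C)
    rw [Cfsg.Agent.Lib.Helper14.index_conj_smul] at h1
    exact hk.not_dvd_index_sy r hrA h1
  obtain ⟨c, hcC, hc⟩ := exists_conj_eq_of_not_dvd_relIndex hRC hR2C (sy_isPGroup A r)
    ((sy_isPGroup A r).map _) hidxP hidxR
  have hmN : g * c ∈ Subgroup.normalizer (R : Set G) := by
    rw [mem_normalizer_iff_conj_smul, map_mul, mul_smul, ← hc, map_inv, smul_inv_smul]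
  refine ⟨g * c, hm.normalizer_sy_le hk r hrA hmN, fun x hx => ?_⟩
  have h1 : x * c = c * x := hcC x hx
  calc g * c * x * (g * c)⁻¹ = g * (c * x) * c⁻¹ * g⁻¹ := by group
    _ = g * (x * c) * c⁻¹ * g⁻¹ := by rw [h1]
    _ = g * x * g⁻¹ := by group

/-- The centre of a Sylow part of `A` is weakly closed. -/
lemma mem_normalizer_of_conj_zy_le [Finite G] (hm : KWMin G) (hk : KWPair A B) {p : ℕ}
    [Fact p.Prime] (hpA : p ∣ Nat.card A) {c : G} (h : MulAut.conj c • zy A p ≤ sy A p) :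
    c ∈ Subgroup.normalizer (A : Set G) := by
  obtain ⟨m, hmM, hmx⟩ := hm.exists_mem_normalizer_conj_eq hk (zy_le A p) h
  have h1 : m⁻¹ * c ∈ Subgroup.centralizer ((zy A p : Subgroup G) : Set G) := by
    intro z hz
    have := hmx z hz
    calc z * (m⁻¹ * c) = m⁻¹ * (m * z * m⁻¹) * c := by group
      _ = m⁻¹ * (c * z * c⁻¹) * c := by rw [this]
      _ = m⁻¹ * c * z := by group
  have h2 : m⁻¹ * c ∈ Subgroup.normalizer (A : Set G) :=
    hm.normalizer_zy_le hk p hpA (Subgroup.centralizer_le_normalizer _ h1)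
  have e : c = m * (m⁻¹ * c) := by group
  rw [e]
  exact Subgroup.mul_mem _ hmM h2

/-- If a nontrivial subgroup of `B` normalizing `A` centralizes `X ≤ sy A p`, then the
centralizer of `X` normalizes `A`. -/
lemma centralizer_le_of_commuting [Finite G] (hm : KWMin G) (hk : KWPair A B) {p : ℕ}
    [Fact p.Prime] {X : Subgroup G} (hXne : X ≠ ⊥) (hX : X ≤ sy A p)
    {s : ℕ} [Fact s.Prime] {Y : Subgroup G} (hYne : Y ≠ ⊥) (hYs : IsPGroup s Y) (hYB : Y ≤ B)
    (hYM : Y ≤ Subgroup.normalizer (A : Set G))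
    (hYX : Y ≤ Subgroup.centralizer (X : Set G)) :
    Subgroup.centralizer (X : Set G) ≤ Subgroup.normalizer (A : Set G) := by
  have hf1 : Factd A B (Subgroup.normalizer (Y : Set G)) := hk.normalizer_factd_of_le hYB hYM
  have hL1 : Subgroup.normalizer (Y : Set G) ≠ ⊤ := hm.normalizer_ne_top_of_le hk.symm hYne hYB
  obtain ⟨t, ht, hts, htB⟩ := hm.exists_prime_ne hk s
  haveI : Fact t.Prime := ⟨ht⟩
  have htL : sy B t ≤ Subgroup.normalizer (Y : Set G) :=
    (le_centralizer_of_pgroups hk.nilB hts (sy_le B t) hYB (sy_isPGroup B t) hYs).trans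
      (Subgroup.centralizer_le_normalizer _)
  have h1 : Subgroup.normalizer (Y : Set G) ≤ Subgroup.normalizer (B : Set G) :=
    hm.le_normalizer_of_factd hk.symm hf1.symm hL1 htB htL
  have hXB : X ≤ Subgroup.normalizer (B : Set G) := by
    refine le_trans ?_ h1
    refine le_trans ?_ (Subgroup.centralizer_le_normalizer _)
    intro x hx y hy
    exact (hYX hy x hx).symm
  have hXA : X ≤ A := hX.trans (sy_le A p)
  have hf2 : Factd A B (Subgroup.normalizer (X : Set G)) :=
    (hk.symm.normalizer_factd_of_le hXA hXB).symm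
  have hL2 : Subgroup.normalizer (X : Set G) ≠ ⊤ := hm.normalizer_ne_top_of_le hk hXne hXA
  obtain ⟨r, hr, hrp, hrA⟩ := hm.exists_prime_ne hk.symm p
  haveI : Fact r.Prime := ⟨hr⟩
  have hrL : sy A r ≤ Subgroup.normalizer (X : Set G) :=
    (le_centralizer_of_pgroups hk.nilA hrp (sy_le A r) hXA (sy_isPGroup A r)
      ((sy_isPGroup A p).to_le hX)).trans (Subgroup.centralizer_le_normalizer _)
  exact (Subgroup.centralizer_le_normalizer _).trans
    (hm.le_normalizer_of_factd hk hf2 hL2 hrA hrL)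

/-- If the centralizer of `X ≤ sy A p` does not normalize `A`, it meets the normalizer of `A`
inside `A`. -/
lemma centralizer_inf_normalizer_le [Finite G] (hm : KWMin G) (hk : KWPair A B) {p : ℕ}
    [Fact p.Prime] {X : Subgroup G} (hXne : X ≠ ⊥) (hX : X ≤ sy A p) {c : G}
    (hc : c ∈ Subgroup.centralizer (X : Set G)) (hcM : c ∉ Subgroup.normalizer (A : Set G)) :
    Subgroup.centralizer (X : Set G) ⊓ Subgroup.normalizer (A : Set G) ≤ A := by
  set M := Subgroup.normalizer (A : Set G) with hM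
  set C := Subgroup.centralizer (X : Set G) with hC
  apply le_of_forall_sy_le
  intro q hqF hq
  have hQM : sy (C ⊓ M) q ≤ M := (sy_le _ q).trans inf_le_right
  have hAM : A ≤ M := Subgroup.le_normalizer
  by_cases hqA : q ∣ Nat.card A
  · obtain ⟨m, hmM, hle⟩ := Cfsg.Agent.Lib.Helper14.exists_conj_le_of_not_dvd_relIndex
      (L := M) (P := sy A q) (R := sy (C ⊓ M) q) hQM (sy_isPGroup A q) (sy_isPGroup _ q)
      (fun h => hk.not_dvd_index_sy q hqA
        (h.trans (Subgroup.relIndex_dvd_index_of_le ((sy_le A q).trans hAM))))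
    have h1 : MulAut.conj m • sy A q = sy A q :=
      (mem_normalizer_iff_conj_smul _ _).mp (normalizer_le_normalizer_sy hk.nilA q hmM)
    rw [h1] at hle
    exact hle.trans (sy_le A q)
  · exfalso
    have hY1ne : sy (C ⊓ M) q ≠ ⊥ := sy_ne_bot _ q hq
    have hfM : Factd A B M := hk.factd_of_le hAM
    obtain ⟨m, hmM, hle⟩ := Cfsg.Agent.Lib.Helper14.exists_conj_le_of_not_dvd_relIndex
      (L := M) (P := sy (M ⊓ B) q) (R := sy (C ⊓ M) q) hQM (sy_isPGroup _ q) (sy_isPGroup _ q)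
      (hk.not_dvd_relIndex_sy_of_factd hfM q hqA)
    obtain ⟨a, ha, b, hb, rfl⟩ := hfM m hmM
    have hnilMB : Group.IsNilpotent (M ⊓ B : Subgroup G) := isNilpotent_of_le hk.nilB inf_le_right
    have hb' : MulAut.conj b • sy (M ⊓ B) q = sy (M ⊓ B) q := conj_smul_sy_of_mem hnilMB q hb
    rw [map_mul, mul_smul, hb'] at hle
    set Y := MulAut.conj a⁻¹ • sy (C ⊓ M) q with hY
    have hYle : Y ≤ sy (M ⊓ B) q := by
      calc Y ≤ MulAut.conj a⁻¹ • (MulAut.conj a • sy (M ⊓ B) q) :=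
            Subgroup.pointwise_smul_le_pointwise_smul_iff.mpr hle
        _ = sy (M ⊓ B) q := by rw [map_inv, inv_smul_smul]
    set X' := MulAut.conj a⁻¹ • X with hX'def
    have hX' : X' ≤ sy A p := by
      calc X' ≤ MulAut.conj a⁻¹ • sy A p :=
            Subgroup.pointwise_smul_le_pointwise_smul_iff.mpr hX
        _ = sy A p := conj_smul_sy_of_mem hk.nilA p (A.inv_mem ha.2)
    have hX'ne : X' ≠ ⊥ := conj_smul_ne_bot hXne _
    have hYne : Y ≠ ⊥ := conj_smul_ne_bot hY1ne _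
    have hYs : IsPGroup q Y := (sy_isPGroup _ q).map _
    have hYX' : Y ≤ Subgroup.centralizer (X' : Set G) :=
      conj_smul_le_centralizer_conj_smul X _ a⁻¹ ((sy_le _ q).trans inf_le_left)
    have h := hm.centralizer_le_of_commuting hk hX'ne hX' hYne hYs
      (hYle.trans ((sy_le _ q).trans inf_le_right)) (hYle.trans ((sy_le _ q).trans inf_le_left))
      hYX'
    have hc' : a⁻¹ * c * a⁻¹⁻¹ ∈ Subgroup.centralizer (X' : Set G) :=
      conj_mem_centralizer_conj_smul X a⁻¹ c hc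
    have h2 := h hc'
    apply hcM
    have e : c = a * (a⁻¹ * c * a⁻¹⁻¹) * a⁻¹ := by group
    rw [e]
    exact M.mul_mem (M.mul_mem ha.1 h2) (M.inv_mem ha.1)

end KWMin

end Cfsg.Agent.Lib.Helper13
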