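import Mathlib
import Cfsg.Agent.Lib.Helper03.FusionControl
import Cfsg.Agent.Lib.Helper13.RelSubnormal
import Cfsg.Agent.Lib.Helper13.ProdCard
import Cfsg.Agent.Lib.Helper13.Basic

set_option autoImplicit false

namespace Cfsg.Agent.Lib.Helper13

open Pointwise

universe u

variable {G : Type u} [Group G]

/-- Sylow conjugacy inside a subgroup containing both Sylow subgroups. -/
lemma exists_conj_sylow_of_le [Finite G] {q : ℕ} [Fact q.Prime] (C : Subgroup G)
    (R1 R2 : Sylow q G) (h1 : (R1 : Subgroup G) ≤ C) (h2 : (R2 : Subgroup G) ≤ C) :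
    ∃ c ∈ C, MulAut.conj c • (R1 : Subgroup G) = R2 := by
  obtain ⟨c, hc⟩ := MulAction.exists_smul_eq C (R1.subtype h1) (R2.subtype h2)
  refine ⟨c, c.2, ?_⟩
  have h3 : ((c • R1.subtype h1 : Sylow q C) : Subgroup C) = ((R2.subtype h2 : Sylow q C) :
      Subgroup C) := by rw [hc]
  rw [Sylow.coe_subgroup_smul, Sylow.coe_subtype, Sylow.coe_subtype] at h3
  have h4 := congrArg (Subgroup.map C.subtype) h3
  rw [map_subtype_conj_smul, map_subtype_subgroupOf_of_le h1,
    map_subtype_subgroupOf_of_le h2] at h4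
  exact h4

section
variable [Finite G] (H : Subgroup G)
  (hnorm : ∀ p : ℕ, p.Prime → p ∣ Nat.card H → ∀ P : Sylow p H,
    Subgroup.normalizer (((P : Subgroup H).map H.subtype : Subgroup G) : Set G) = H)
include hnorm

lemma wc_sylow_normal (r : ℕ) [hr : Fact r.Prime] (hrd : r ∣ Nat.card H) (S : Sylow r H) :
    (S : Subgroup H).Normal := by
  have h1 := hnorm r hr.out hrd S
  have h2 : (S : Subgroup H).map H.subtype ≤ H := Subgroup.map_subtype_le _
  have h3 := (Subgroup.normal_subgroupOf_iff_le_normalizer h2).mpr h1.ge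
  rwa [subgroupOf_map_subtype_self] at h3

lemma wc_sylow_is_sylow (r : ℕ) [hr : Fact r.Prime] (hrd : r ∣ Nat.card H) (S : Sylow r H) :
    ∃ P : Sylow r G, (P : Subgroup G) = (S : Subgroup H).map H.subtype := by
  set T := (S : Subgroup H).map H.subtype with hT
  have hTN := hnorm r hr.out hrd S
  have hTH : T ≤ H := Subgroup.map_subtype_le _
  have hTp : IsPGroup r T := S.2.map _
  obtain ⟨P, hTP⟩ := hTp.exists_le_sylow
  refine ⟨P, ?_⟩
  by_contra hne
  have hnil : Group.IsNilpotent (P : Subgroup G) := P.2.isNilpotent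
  have hT'top : T.subgroupOf P ≠ ⊤ := by
    intro h
    apply hne
    apply le_antisymm _ hTP
    exact Subgroup.subgroupOf_eq_top.mp h
  have hcond := Group.normalizerCondition_of_isNilpotent (G := (P : Subgroup G))
    (T.subgroupOf P) (lt_top_iff_ne_top.mpr hT'top)
  obtain ⟨x', hx'N, hx'T⟩ := SetLike.exists_of_lt hcond
  have hxN : (x' : G) ∈ Subgroup.normalizer (T : Set G) := by
    rw [mem_normalizer_iff_conj_smul]
    apply conj_smul_eq_of_ge
    rintro _ ⟨t, ht, rfl⟩
    have ht' : (⟨t, hTP ht⟩ : (P : Subgroup G)) ∈ T.subgroupOf P := ht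
    have := (Subgroup.mem_normalizer_iff.mp hx'N ⟨t, hTP ht⟩).mp ht'
    exact this
  rw [hTN] at hxN
  set Q := T ⊔ Subgroup.zpowers (x' : G) with hQ
  have hQP : Q ≤ P := sup_le hTP (by rw [Subgroup.zpowers_le]; exact x'.2)
  have hQp : IsPGroup r (Q.subgroupOf H) := (P.2.to_le hQP).comap_subtype
  have hSQ : (S : Subgroup H) ≤ Q.subgroupOf H := by
    intro s hs
    exact (le_sup_left : T ≤ Q) ⟨s, hs, rfl⟩
  have hQS := S.is_maximal' hQp hSQ
  have hxQ : (⟨(x' : G), hxN⟩ : H) ∈ Q.subgroupOf H :=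
    (le_sup_right : Subgroup.zpowers (x' : G) ≤ Q) (Subgroup.mem_zpowers _)
  rw [hQS] at hxQ
  apply hx'T
  show (x' : G) ∈ T
  exact ⟨⟨(x' : G), hxN⟩, hxQ, rfl⟩

lemma wc_commute (p q : ℕ) [hp : Fact p.Prime] [hq : Fact q.Prime] (hpq : p ≠ q)
    (hpd : p ∣ Nat.card H) (hqd : q ∣ Nat.card H) (S : Sylow p H) (S' : Sylow q H) :
    (S' : Subgroup H).map H.subtype ≤
      Subgroup.centralizer (((S : Subgroup H).map H.subtype : Subgroup G) : Set G) := by
  have h1 := wc_sylow_normal H hnorm p hpd S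
  have h2 := wc_sylow_normal H hnorm q hqd S'
  have h3 : Disjoint (S : Subgroup H) (S' : Subgroup H) := IsPGroup.disjoint_of_ne p q hpq _ _ S.2 S'.2
  rintro _ ⟨b, hb, rfl⟩ _ ⟨a, ha, rfl⟩
  have := Subgroup.commute_of_normal_of_disjoint _ _ h1 h2 h3 a b ha hb
  have h4 : a * b = b * a := this
  exact congrArg Subtype.val h4

lemma wc_decomp (p : ℕ) [hp : Fact p.Prime] (hpd : p ∣ Nat.card H) (S : Sylow p H) :
    ∀ h ∈ H, ∃ v ∈ Subgroup.centralizer (((S : Subgroup H).map H.subtype : Subgroup G) : Set G),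
      ∃ u ∈ (S : Subgroup H).map H.subtype, h = v * u := by
  have hSn := wc_sylow_normal H hnorm p hpd S
  have hL : Subgroup.centralizer ((S : Subgroup H) : Set H) ⊔ (S : Subgroup H) = ⊤ := by
    rw [← Subgroup.index_eq_one, Nat.eq_one_iff_not_exists_prime_dvd]
    intro r hr hdvd
    have hrF : Fact r.Prime := ⟨hr⟩
    have key : ∃ P : Sylow r H, (P : Subgroup H) ≤
        Subgroup.centralizer ((S : Subgroup H) : Set H) ⊔ (S : Subgroup H) := by
      by_cases hrp : r = p
      · subst hrp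
        exact ⟨S, le_sup_right⟩
      · obtain ⟨P⟩ : Nonempty (Sylow r H) := inferInstance
        refine ⟨P, le_trans ?_ le_sup_left⟩
        by_cases hrd : r ∣ Nat.card H
        · have h1 := wc_commute H hnorm p r (Ne.symm hrp) hpd hrd S P
          intro b hb a ha
          have h2 := h1 ⟨b, hb, rfl⟩ (a : G) ⟨a, ha, rfl⟩
          exact Subtype.ext h2
        · have h1 : Nat.card (P : Subgroup H) = 1 := by
            rw [P.card_eq_multiplicity, Nat.factorization_eq_zero_of_not_dvd hrd, pow_zero]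
          rw [Subgroup.card_eq_one.mp h1]
          exact bot_le
    obtain ⟨P, hP⟩ := key
    exact P.not_dvd_index (hdvd.trans (Subgroup.index_dvd_of_le hP))
  intro h hh
  have h1 : (⟨h, hh⟩ : H) ∈ Subgroup.centralizer ((S : Subgroup H) : Set H) ⊔ (S : Subgroup H) := by
    rw [hL]; exact Subgroup.mem_top _
  rw [← SetLike.mem_coe, Subgroup.mul_normal, Set.mem_mul] at h1
  obtain ⟨v, hv, u, hu, hvu⟩ := h1
  refine ⟨(v : G), ?_, (u : G), ⟨u, hu, rfl⟩, ?_⟩
  · rintro _ ⟨a, ha, rfl⟩
    exact congrArg Subtype.val (hv a ha)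
  · exact (congrArg Subtype.val hvu).symm

end

/-- For each prime dividing `|H|` there is a normal `p`-complement. -/
theorem wc_exists_normal_p_complement [Finite G] (H : Subgroup G)
    (hnot : ∀ p : ℕ, p.Prime → ∀ P : Sylow p G, (P : Subgroup G) ≠ H)
    (hnorm : ∀ p : ℕ, p.Prime → p ∣ Nat.card H → ∀ P : Sylow p H,
      Subgroup.normalizer (((P : Subgroup H).map H.subtype : Subgroup G) : Set G) = H)
    (p : ℕ) (hp : p.Prime) (hpd : p ∣ Nat.card H) :
    ∃ N : Subgroup G, N.Normal ∧ ¬ p ∣ Nat.card N ∧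
      N.index = p ^ (Nat.card H).factorization p := by
  have hpF : Fact p.Prime := ⟨hp⟩
  obtain ⟨S⟩ : Nonempty (Sylow p H) := inferInstance
  set T := (S : Subgroup H).map H.subtype with hT
  obtain ⟨P, hPT⟩ := wc_sylow_is_sylow H hnorm p hpd S
  -- another prime
  have hex : ∃ q : ℕ, q.Prime ∧ q ∣ Nat.card H ∧ p ≠ q := by
    by_contra hcon
    push Not at hcon
    have hcard := Nat.eq_prime_pow_of_unique_prime_dvd (n := Nat.card H) (p := p)
      Nat.card_pos.ne' (fun {d} hd hdd => (hcon d hd hdd).symm)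
    have hHp : IsPGroup p H := IsPGroup.of_card hcard
    have hStop : (S : Subgroup H) = ⊤ := by
      have h1 : IsPGroup p (⊤ : Subgroup H) := by
        intro x
        obtain ⟨k, hk⟩ := hHp (x : H)
        exact ⟨k, Subtype.ext hk⟩
      exact (S.is_maximal' h1 le_top).symm
    apply hnot p hp P
    rw [hPT, hStop, ← MonoidHom.range_eq_map, Subgroup.range_subtype]
  obtain ⟨q, hq, hqd, hpq⟩ := hex
  have hqF : Fact q.Prime := ⟨hq⟩
  obtain ⟨S'⟩ : Nonempty (Sylow q H) := inferInstance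
  set T' := (S' : Subgroup H).map H.subtype with hT'
  obtain ⟨R, hRT⟩ := wc_sylow_is_sylow H hnorm q hqd S'
  have hcomm := wc_commute H hnorm p q hpq hpd hqd S S'
  have hT'N := hnorm q hq hqd S'
  have hdec := wc_decomp H hnorm p hpd S
  have hfus : Cfsg.Agent.Lib.Helper03.ControlsOwnFusion (P : Subgroup G) := by
    intro x hx y hy ⟨g, hg⟩
    rw [hPT] at hx hy
    have hRy : (R : Subgroup G) ≤ Subgroup.centralizer {y} := by
      rw [hRT]
      intro r hr
      rw [Subgroup.mem_centralizer_singleton_iff]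
      exact (hcomm hr y hy).symm
    have hgRy : ((g • R : Sylow q G) : Subgroup G) ≤ Subgroup.centralizer {y} := by
      rw [Sylow.coe_subgroup_smul, hRT]
      rintro _ ⟨r, hr, rfl⟩
      rw [Subgroup.mem_centralizer_singleton_iff]
      have h1 : x * r = r * x := hcomm hr x hx
      show (g * r * g⁻¹) * y = y * (g * r * g⁻¹)
      rw [← hg]
      calc g * r * g⁻¹ * (g * x * g⁻¹) = g * (r * x) * g⁻¹ := by group
        _ = g * (x * r) * g⁻¹ := by rw [h1]
        _ = g * x * g⁻¹ * (g * r * g⁻¹) := by group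
    obtain ⟨c, hcC, hc⟩ := exists_conj_sylow_of_le _ (g • R) R hgRy hRy
    rw [Sylow.coe_subgroup_smul, ← mul_smul, ← map_mul] at hc
    have hcgH : c * g ∈ H := by
      rw [← hT'N, ← hRT, mem_normalizer_iff_conj_smul]
      exact hc
    have hcy : c * y * c⁻¹ = y := by
      rw [Subgroup.mem_centralizer_singleton_iff] at hcC
      rw [hcC, mul_assoc, mul_inv_cancel, mul_one]
    obtain ⟨v, hv, u, hu, hvu⟩ := hdec (c * g) hcgH
    refine ⟨u, hPT ▸ hu, ?_⟩
    have hSn := wc_sylow_normal H hnorm p hpd S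
    have huxT : u * x * u⁻¹ ∈ T := by
      obtain ⟨u', hu', rfl⟩ := hu
      obtain ⟨x', hx', rfl⟩ := hx
      exact ⟨u' * x' * u'⁻¹, hSn.conj_mem x' hx' u', by simp⟩
    have h2 : (c * g) * x * (c * g)⁻¹ = y := by
      calc (c * g) * x * (c * g)⁻¹ = c * (g * x * g⁻¹) * c⁻¹ := by group
        _ = y := by rw [hg, hcy]
    rw [hvu] at h2
    have h3 : v * (u * x * u⁻¹) * v⁻¹ = y := by
      rw [← h2]; group
    have h4 := hv _ huxT
    rw [← h3, ← h4]; group
  obtain ⟨N, hNn, hNc⟩ := Cfsg.Agent.Lib.Helper03.exists_normal_complement_of_controlsOwnFusion P hfus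
  have hcardmul := hNc.card_mul_card
  have hPcard : Nat.card (P : Subgroup G) = p ^ (Nat.card H).factorization p := by
    rw [hPT, Subgroup.card_map_of_injective H.subtype_injective, S.card_eq_multiplicity]
  have hPcard' := P.card_eq_multiplicity
  refine ⟨N, hNn, ?_, ?_⟩
  · intro hdvd
    have h1 : p * p ^ (Nat.card G).factorization p ∣
        Nat.card N * Nat.card (P : Subgroup G) := by
      rw [hPcard']
      exact Nat.mul_dvd_mul_right hdvd _
    rw [hcardmul, mul_comm, ← pow_succ] at h1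
    exact Nat.pow_succ_factorization_not_dvd Nat.card_pos.ne' hp h1
  · have h1 := N.card_mul_index
    rw [← hcardmul] at h1
    rw [← hPcard]
    exact Nat.eq_of_mul_eq_mul_left Nat.card_pos h1

/-- Wielandt: a nilpotent Hall subgroup that is not a Sylow subgroup and is the normalizer of each
of its Sylow subgroups has a normal complement. -/
theorem wielandt_normal_complement [Finite G] (H : Subgroup G)
    (hnot : ∀ p : ℕ, p.Prime → ∀ P : Sylow p G, (P : Subgroup G) ≠ H)
    (hnorm : ∀ p : ℕ, p.Prime → p ∣ Nat.card H → ∀ P : Sylow p H,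
      Subgroup.normalizer (((P : Subgroup H).map H.subtype : Subgroup G) : Set G) = H) :
    ∃ N : Subgroup G, N.Normal ∧ Subgroup.IsComplement' N H := by
  classical
  have hall : ∀ i : {p // p ∈ (Nat.card H).primeFactors}, ∃ N : Subgroup G, N.Normal ∧
      ¬ (i : ℕ) ∣ Nat.card N ∧ N.index = (i : ℕ) ^ (Nat.card H).factorization i := by
    intro i
    have hi := Nat.mem_primeFactors.mp i.2
    exact wc_exists_normal_p_complement H hnot hnorm i hi.1 hi.2.1
  choose NN hNNn hNNnd hNNidx using hall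
  refine ⟨⨅ i, NN i, Subgroup.normal_iInf_normal hNNn, ?_⟩
  have hNn : (⨅ i, NN i).Normal := Subgroup.normal_iInf_normal hNNn
  have hidx : (⨅ i, NN i).index ≤ Nat.card H := by
    refine (Subgroup.index_iInf_le NN).trans (le_of_eq ?_)
    simp_rw [hNNidx]
    rw [Finset.prod_coe_sort (Nat.card H).primeFactors
      (fun p => p ^ (Nat.card H).factorization p),
      Nat.prod_primeFactors_prod_factorization (fun p => p ^ (Nat.card H).factorization p)]
    exact Nat.prod_factorization_pow_eq_self Nat.card_pos.ne'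
  have hdisj : (⨅ i, NN i) ⊓ H = ⊥ := by
    rw [eq_bot_iff]
    intro x hx
    rw [Subgroup.mem_bot]
    by_contra hx1
    have ho : orderOf x ≠ 1 := fun h => hx1 (orderOf_eq_one_iff.mp h)
    obtain ⟨p, hp, hpd⟩ := Nat.exists_prime_and_dvd ho
    have hoH : orderOf x ∣ Nat.card H := by
      have := orderOf_dvd_natCard (⟨x, hx.2⟩ : H)
      rwa [Subgroup.orderOf_mk] at this
    have hpm : p ∈ (Nat.card H).primeFactors :=
      Nat.mem_primeFactors.mpr ⟨hp, hpd.trans hoH, Nat.card_pos.ne'⟩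
    have hxN : x ∈ NN ⟨p, hpm⟩ := (Subgroup.mem_iInf.mp hx.1) ⟨p, hpm⟩
    have hoN : orderOf x ∣ Nat.card (NN ⟨p, hpm⟩) := by
      have := orderOf_dvd_natCard (⟨x, hxN⟩ : NN ⟨p, hpm⟩)
      rwa [Subgroup.orderOf_mk] at this
    exact hNNnd ⟨p, hpm⟩ (hpd.trans hoN)
  apply Subgroup.isComplement'_of_card_mul_and_disjoint _ (disjoint_iff.mpr hdisj)
  apply le_antisymm
  · have h1 := card_mul_card_inf (⨅ i, NN i) H
    rw [hdisj, Subgroup.card_bot, mul_one] at h1
    rw [← h1]
    exact Nat.card_le_card_of_injective Subtype.val Subtype.val_injective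
  · have h1 := (⨅ i, NN i).card_mul_index
    rw [← h1]
    exact Nat.mul_le_mul_left _ hidx

end Cfsg.Agent.Lib.Helper13
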