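import Mathlib
import Cfsg.Agent.Lib.Helper13.WielandtComplement
import Cfsg.Agent.Lib.Helper13.KWUniqueA

set_option autoImplicit false
set_option linter.style.haveILetI false

namespace Cfsg.Agent.Lib.Helper13

open Pointwise

universe u

variable {G : Type u} [Group G]

lemma le_normalizer_map_subtype_of_normal (C : Subgroup G) (N : Subgroup C) (hN : N.Normal) :
    C ≤ Subgroup.normalizer ((N.map C.subtype : Subgroup G) : Set G) := by
  intro l hl
  rw [Subgroup.mem_normalizer_iff]
  intro x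
  constructor
  · rintro ⟨y, hy, rfl⟩
    refine ⟨⟨l, hl⟩ * y * ⟨l, hl⟩⁻¹, ?_, rfl⟩
    exact hN.conj_mem y hy ⟨l, hl⟩
  · rintro ⟨y, hy, hxy⟩
    refine ⟨⟨l, hl⟩⁻¹ * y * ⟨l, hl⟩, ?_, ?_⟩
    · have := hN.conj_mem y hy ⟨l, hl⟩⁻¹
      simpa using this
    · have : (y : G) = l * x * l⁻¹ := hxy
      simp only [Subgroup.subtype_apply, Subgroup.coe_mul, Subgroup.coe_inv, this]
      group

/-- Wielandt's normal complement theorem, for a nilpotent subgroup `H` of a subgroup `C`. -/
theorem wielandt_internal [Finite G] (C H : Subgroup G) (hHC : H ≤ C)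
    (hnil : Group.IsNilpotent H) {p r : ℕ} (hp : p.Prime) (hr : r.Prime) (hpr : p ≠ r)
    (hpH : p ∣ Nat.card H) (hrH : r ∣ Nat.card H)
    (hnorm : ∀ (q : ℕ) [Fact q.Prime], q ∣ Nat.card H →
      Subgroup.normalizer ((sy H q : Subgroup G) : Set G) ⊓ C ≤ H) :
    ∃ K : Subgroup G, K ≤ C ∧ C ≤ Subgroup.normalizer (K : Set G) ∧ K ⊓ H = ⊥ ∧
      Nat.card K * Nat.card H = Nat.card C ∧ (Nat.card K).Coprime (Nat.card H) := by
  set H' : Subgroup C := H.subgroupOf C with hH'
  have hcardH' : Nat.card H' = Nat.card H :=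
    Nat.card_congr (Subgroup.subgroupOfEquivOfLe hHC).toEquiv
  have hnilH' : Group.IsNilpotent H' :=
    Group.nilpotent_of_mulEquiv (Subgroup.subgroupOfEquivOfLe hHC).symm
  have hnot : ∀ q : ℕ, q.Prime → ∀ P : Sylow q C, (P : Subgroup C) ≠ H' := by
    intro q hq P hP
    haveI : Fact q.Prime := ⟨hq⟩
    obtain ⟨n, hn⟩ := IsPGroup.iff_card.mp P.2
    rw [hP, hcardH'] at hn
    have h1 : p = q := (Nat.prime_dvd_prime_iff_eq hp hq).mp (hp.dvd_of_dvd_pow (hn ▸ hpH))
    have h2 : r = q := (Nat.prime_dvd_prime_iff_eq hr hq).mp (hr.dvd_of_dvd_pow (hn ▸ hrH))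
    exact hpr (h1.trans h2.symm)
  have hnorm' : ∀ q : ℕ, q.Prime → q ∣ Nat.card H' → ∀ P : Sylow q H',
      Subgroup.normalizer (((P : Subgroup H').map H'.subtype : Subgroup C) : Set C) = H' := by
    intro q hq hqd P
    haveI : Fact q.Prime := ⟨hq⟩
    rw [hcardH'] at hqd
    have e1 : (P : Subgroup H').map H'.subtype = sy H' q := by
      apply Subgroup.eq_of_le_of_card_ge
      · exact le_sy hnilH' q (Subgroup.map_subtype_le _) (P.2.map _)
      · rw [card_sy, Nat.card_congr (Subgroup.equivMapOfInjective _ H'.subtype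
          H'.subtype_injective).toEquiv.symm, Sylow.card_eq_multiplicity]
    have e2 : (sy H q).subgroupOf C = sy H' q := by
      apply Subgroup.eq_of_le_of_card_ge
      · exact le_sy hnilH' q (Subgroup.comap_mono (sy_le H q)) ((sy_isPGroup H q).comap_subtype)
      · rw [card_sy, hcardH',
          Nat.card_congr (Subgroup.subgroupOfEquivOfLe ((sy_le H q).trans hHC)).toEquiv, card_sy]
    rw [e1, ← e2, ← Subgroup.subgroupOf_normalizer_eq ((sy_le H q).trans hHC)]
    ext x
    rw [Subgroup.mem_subgroupOf, Subgroup.mem_subgroupOf]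
    constructor
    · intro hx; exact hnorm q hqd ⟨hx, x.2⟩
    · intro hx; exact sy_normal hnil q hx
  obtain ⟨N, hNn, hNc⟩ := wielandt_normal_complement H' hnot hnorm'
  have hcardK : Nat.card (N.map C.subtype : Subgroup G) = Nat.card N :=
    (Nat.card_congr (Subgroup.equivMapOfInjective _ C.subtype C.subtype_injective).toEquiv).symm
  have hmul : Nat.card (N.map C.subtype : Subgroup G) * Nat.card H = Nat.card C := by
    rw [hcardK, ← hcardH']
    exact hNc.card_mul_card
  refine ⟨N.map C.subtype, Subgroup.map_subtype_le _, le_normalizer_map_subtype_of_normal C N hNn,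
    ?_, hmul, ?_⟩
  · rw [eq_bot_iff]
    rintro x ⟨⟨n, hn, rfl⟩, hxH⟩
    have h1 : n ∈ N ⊓ H' := ⟨hn, Subgroup.mem_subgroupOf.mpr hxH⟩
    rw [hNc.disjoint.eq_bot, Subgroup.mem_bot] at h1
    rw [h1]
    exact Subgroup.one_mem _
  · apply Nat.coprime_of_dvd
    intro q hq hqK hqH
    haveI : Fact q.Prime := ⟨hq⟩
    obtain ⟨S⟩ : Nonempty (Sylow q H') := inferInstance
    obtain ⟨P, hP⟩ := wc_sylow_is_sylow H' hnorm' q (hcardH' ▸ hqH) S
    have h1 : Nat.card (P : Subgroup C) = q ^ (Nat.card C).factorization q :=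
      Sylow.card_eq_multiplicity P
    have h2 : Nat.card (P : Subgroup C) = q ^ (Nat.card H).factorization q := by
      rw [hP, Nat.card_congr (Subgroup.equivMapOfInjective _ H'.subtype
          H'.subtype_injective).toEquiv.symm, Sylow.card_eq_multiplicity, hcardH']
    have h3 : (Nat.card C).factorization q = (Nat.card H).factorization q :=
      Nat.pow_right_injective hq.two_le (h1.symm.trans h2)
    rw [← hmul, Nat.factorization_mul Nat.card_pos.ne' Nat.card_pos.ne', Finsupp.add_apply] at h3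
    have h4 : 0 < (Nat.card (N.map C.subtype : Subgroup G)).factorization q :=
      hq.factorization_pos_of_dvd Nat.card_pos.ne' hqK
    omega

/-- Frattini argument in index form. -/
lemma frattini_relIndex_dvd [Finite G] (C K : Subgroup G) (hKC : K ≤ C)
    (hn : C ≤ Subgroup.normalizer (K : Set G)) (s : ℕ) [Fact s.Prime] :
    (Subgroup.normalizer ((sy K s : Subgroup G) : Set G) ⊓ C).relIndex C ∣ Nat.card K := by
  set S := sy K s with hS
  set Nm := Subgroup.normalizer (S : Set G) ⊓ C with hNm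
  have hset : ((K : Set G) * (Nm : Set G) : Set G) = (C : Set G) := by
    ext x
    constructor
    · rintro ⟨k, hk, n, hn', rfl⟩
      exact C.mul_mem (hKC hk) hn'.2
    · intro hx
      have h1 : MulAut.conj x • S ≤ K := by
        calc MulAut.conj x • S ≤ MulAut.conj x • K :=
              Subgroup.pointwise_smul_le_pointwise_smul_iff.mpr (sy_le K s)
          _ = K := (mem_normalizer_iff_conj_smul K x).mp (hn hx)
      obtain ⟨k, hkK, hk⟩ := exists_conj_eq_of_not_dvd_relIndex (L := K) (P := S)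
        (R := MulAut.conj x • S) (sy_le K s) h1 (sy_isPGroup K s) ((sy_isPGroup K s).map _)
        (not_dvd_relIndex_sy K s) (not_dvd_relIndex_of_card h1 (by rw [card_conj_smul, card_sy]))
      refine ⟨k, hkK, k⁻¹ * x, ⟨?_, C.mul_mem (C.inv_mem (hKC hkK)) hx⟩, by group⟩
      show k⁻¹ * x ∈ Subgroup.normalizer (S : Set G)
      rw [mem_normalizer_iff_conj_smul, map_mul, mul_smul, hk, map_inv, inv_smul_smul]
  have h1 := card_mul_card_inf K Nm
  rw [hset] at h1
  have h2 := Cfsg.Agent.Lib.Helper14.card_mul_relIndex_of_le (inf_le_right : Nm ≤ C)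
  refine ⟨Nat.card (K ⊓ Nm : Subgroup G), ?_⟩
  have hpos : 0 < Nat.card Nm := Nat.card_pos
  have h3 : Nat.card Nm * (Nm.relIndex C * Nat.card (K ⊓ Nm : Subgroup G))
      = Nat.card Nm * Nat.card K := by
    rw [← mul_assoc, h2]
    have : Nat.card (C : Set G) = Nat.card C := rfl
    rw [this] at h1
    rw [h1, mul_comm]
  exact (Nat.eq_of_mul_eq_mul_left hpos h3).symm

end Cfsg.Agent.Lib.Helper13
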