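import Mathlib
import Cfsg.Agent.Lib.Helper13.KWFusion
import Cfsg.Agent.Lib.Helper13.KWWielandt

set_option autoImplicit false
set_option linter.style.haveILetI false

namespace Cfsg.Agent.Lib.Helper13

open Pointwise

universe u

variable {G : Type u} [Group G]

lemma dvd_card_of_isPGroup_of_ne_bot [Finite G] {p : ℕ} [Fact p.Prime] {Q : Subgroup G}
    (hQ : IsPGroup p Q) (hne : Q ≠ ⊥) : p ∣ Nat.card Q := by
  obtain ⟨n, hn⟩ := IsPGroup.iff_card.mp hQ
  rw [hn]
  rcases n with _ | n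
  · exfalso
    apply hne
    rw [← Subgroup.card_eq_one]
    simpa using hn
  · exact dvd_pow_self p (Nat.succ_ne_zero n)

namespace KWMin

variable {A B : Subgroup G}

/-- Centralizers of nontrivial subgroups of Sylow parts of `A` normalize `A`. -/
theorem centralizer_le_normalizer [Finite G] (hm : KWMin G) (hk : KWPair A B) {p : ℕ}
    [hpF : Fact p.Prime] (hpA : p ∣ Nat.card A) {X : Subgroup G} (hXne : X ≠ ⊥)
    (hX : X ≤ sy A p) :
    Subgroup.centralizer (X : Set G) ≤ Subgroup.normalizer (A : Set G) := by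
  by_contra hcon
  obtain ⟨c, hcC, hcM⟩ := SetLike.not_le_iff_exists.mp hcon
  set M := Subgroup.normalizer (A : Set G) with hM
  set C := Subgroup.centralizer (X : Set G) with hC
  have hCM : C ⊓ M ≤ A := hm.centralizer_inf_normalizer_le hk hXne hX hcC hcM
  set H := C ⊓ A with hH
  have hHC : H ≤ C := inf_le_left
  have hHA : H ≤ A := inf_le_right
  have hnilH : Group.IsNilpotent H := isNilpotent_of_le hk.nilA hHA
  obtain ⟨r, hr, hrp, hrA⟩ := hm.exists_prime_ne hk.symm p
  haveI : Fact r.Prime := ⟨hr⟩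
  have hqH : ∀ (q : ℕ) [Fact q.Prime], q ≠ p → sy A q ≤ H := fun q _ hqp =>
    le_inf (le_centralizer_of_pgroups hk.nilA hqp (sy_le A q) (hX.trans (sy_le A p))
      (sy_isPGroup A q) ((sy_isPGroup A p).to_le hX)) (sy_le A q)
  have hzH : zy A p ≤ H :=
    le_inf (fun z hz x hx => ((mem_zy_iff A p z).mp hz).2 x (hX hx))
      ((zy_le A p).trans (sy_le A p))
  have hzp : IsPGroup p (zy A p) := (sy_isPGroup A p).to_le (zy_le A p)
  have hpH : p ∣ Nat.card H :=
    (dvd_card_of_isPGroup_of_ne_bot hzp (zy_ne_bot A p hpA)).trans (Subgroup.card_dvd_of_le hzH)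
  have hrH : r ∣ Nat.card H :=
    (dvd_card_of_isPGroup_of_ne_bot (sy_isPGroup A r) (sy_ne_bot A r hrA)).trans
      (Subgroup.card_dvd_of_le (hqH r hrp))
  have hnorm : ∀ (q : ℕ) [Fact q.Prime], q ∣ Nat.card H →
      Subgroup.normalizer ((sy H q : Subgroup G) : Set G) ⊓ C ≤ H := by
    intro q _ hq x hx
    have hx1 : x ∈ Subgroup.normalizer ((sy H q : Subgroup G) : Set G) := hx.1
    have hx2 : x ∈ C := hx.2
    suffices hxM : x ∈ M from ⟨hx2, hCM ⟨hx2, hxM⟩⟩
    have hqA : q ∣ Nat.card A := hq.trans (Subgroup.card_dvd_of_le hHA)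
    by_cases hqp : q = p
    · subst hqp
      apply hm.mem_normalizer_of_conj_zy_le hk hqA
      have h1 : zy A q ≤ sy H q := le_sy hnilH q hzH hzp
      calc MulAut.conj x • zy A q ≤ MulAut.conj x • sy H q :=
            Subgroup.pointwise_smul_le_pointwise_smul_iff.mpr h1
        _ = sy H q := (mem_normalizer_iff_conj_smul _ _).mp hx1
        _ ≤ sy A q := le_sy hk.nilA q ((sy_le H q).trans hHA) (sy_isPGroup H q)
    · have h1 : sy H q = sy A q := by
        rw [sy_eq_inf hk.nilA hnilH hHA q]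
        exact inf_eq_right.mpr (hqH q hqp)
      rw [h1] at hx1
      exact hm.normalizer_sy_le hk q hqA hx1
  obtain ⟨K, hKC, hKn, hKH, hcard, hcop⟩ :=
    wielandt_internal C H hHC hnilH hpF.out hr hrp.symm hpH hrH hnorm
  have hKne : K ≠ ⊥ := by
    intro h
    rw [h, Subgroup.card_bot, one_mul] at hcard
    have h1 : H = C := Subgroup.eq_of_le_of_card_ge hHC hcard.ge
    apply hcM
    have h2 : c ∈ H := h1 ▸ hcC
    exact Subgroup.le_normalizer h2.2
  have hK1 : Nat.card K ≠ 1 := fun h => hKne (Subgroup.card_eq_one.mp h)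
  obtain ⟨s, hs, hsK⟩ := Nat.exists_prime_and_dvd hK1
  haveI : Fact s.Prime := ⟨hs⟩
  have hsH : ¬ s ∣ Nat.card H := fun h =>
    Nat.Prime.not_coprime_iff_dvd.mpr ⟨s, hs, hsK, h⟩ hcop
  have hsA : ¬ s ∣ Nat.card A := by
    intro hsA
    apply hsH
    by_cases hsp : s = p
    · subst hsp
      exact (dvd_card_of_isPGroup_of_ne_bot ((sy_isPGroup A s).to_le (zy_le A s))
        (zy_ne_bot A s hsA)).trans (Subgroup.card_dvd_of_le hzH)
    · exact (dvd_card_of_isPGroup_of_ne_bot (sy_isPGroup A s) (sy_ne_bot A s hsA)).trans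
        (Subgroup.card_dvd_of_le (hqH s hsp))
  have hsB : s ∣ Nat.card B := hk.dvd_right_of_dvd_card hs hsK hsA
  have hSKne : sy K s ≠ ⊥ := sy_ne_bot K s hsK
  set Nm := Subgroup.normalizer ((sy K s : Subgroup G) : Set G) ⊓ C with hNm
  have hfr : Nm.relIndex C ∣ Nat.card K := frattini_relIndex_dvd C K hKC hKn s
  have hrK : ¬ r ∣ Nat.card K := fun h =>
    Nat.Prime.not_coprime_iff_dvd.mpr ⟨r, hr, h, hrH⟩ hcop
  have hRidx : ¬ r ∣ (sy Nm r).index := by
    rw [← Subgroup.relIndex_mul_index (sy_le Nm r),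
      ← Subgroup.relIndex_mul_index (inf_le_right : Nm ≤ C)]
    intro h
    rcases (Nat.Prime.dvd_mul hr).mp h with h1 | h1
    · exact not_dvd_relIndex_sy Nm r h1
    · rcases (Nat.Prime.dvd_mul hr).mp h1 with h2 | h2
      · exact hrK (h2.trans hfr)
      · exact hk.not_dvd_index_sy r hrA
          (h2.trans (Subgroup.index_dvd_of_le ((hqH r hrp).trans hHC)))
  apply hSKne
  obtain ⟨t, ht, hts, htB⟩ := hm.exists_prime_ne hk s
  haveI : Fact t.Prime := ⟨ht⟩
  exact hm.eq_bot_of_sylow_le_normalizer hk hts.symm hsB htB hrA (sy_isPGroup K s)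
    (sy_isPGroup Nm r) hRidx ((sy_le Nm r).trans inf_le_left)

/-- The Sylow parts of `A` are TI-subgroups relative to the normalizer of `A`. -/
theorem sy_inf_conj_eq_bot [Finite G] (hm : KWMin G) (hk : KWPair A B) {p : ℕ}
    [Fact p.Prime] (hpA : p ∣ Nat.card A) {g : G} (hg : g ∉ Subgroup.normalizer (A : Set G)) :
    sy A p ⊓ MulAut.conj g • sy A p = ⊥ := by
  by_contra hD
  set D := sy A p ⊓ MulAut.conj g • sy A p with hDdef
  set X := MulAut.conj g⁻¹ • D with hXdef
  have hX : X ≤ sy A p := by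
    calc X ≤ MulAut.conj g⁻¹ • (MulAut.conj g • sy A p) :=
          Subgroup.pointwise_smul_le_pointwise_smul_iff.mpr inf_le_right
      _ = sy A p := by rw [map_inv, inv_smul_smul]
  have hgX : MulAut.conj g • X ≤ sy A p := by
    have : MulAut.conj g • X = D := by rw [hXdef, map_inv, smul_inv_smul]
    rw [this]; exact inf_le_left
  have hXne : X ≠ ⊥ := conj_smul_ne_bot hD _
  obtain ⟨m, hmM, hmx⟩ := hm.exists_mem_normalizer_conj_eq hk hX hgX
  have hc : m⁻¹ * g ∈ Subgroup.centralizer (X : Set G) := by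
    intro x hx
    have := hmx x hx
    calc x * (m⁻¹ * g) = m⁻¹ * (m * x * m⁻¹) * g := by group
      _ = m⁻¹ * (g * x * g⁻¹) * g := by rw [this]
      _ = m⁻¹ * g * x := by group
  have h1 := hm.centralizer_le_normalizer hk hpA hXne hX hc
  apply hg
  have e : g = m * (m⁻¹ * g) := by group
  rw [e]
  exact Subgroup.mul_mem _ hmM h1

/-- `A` meets the conjugates of its normalizer by outside elements trivially. -/
theorem inf_conj_normalizer_eq_bot [Finite G] (hm : KWMin G) (hk : KWPair A B) {g : G}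
    (hg : g ∉ Subgroup.normalizer (A : Set G)) :
    A ⊓ MulAut.conj g • Subgroup.normalizer (A : Set G) = ⊥ := by
  set M := Subgroup.normalizer (A : Set G) with hM
  by_contra hne
  set I := A ⊓ MulAut.conj g • M with hI
  have hcard : Nat.card I ≠ 1 := fun h => hne (Subgroup.card_eq_one.mp h)
  obtain ⟨p, hp, hpI⟩ := Nat.exists_prime_and_dvd hcard
  haveI : Fact p.Prime := ⟨hp⟩
  have hQne : sy I p ≠ ⊥ := sy_ne_bot I p hpI
  have hpA : p ∣ Nat.card A := hpI.trans (Subgroup.card_dvd_of_le inf_le_left)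
  have hQ1 : sy I p ≤ sy A p :=
    le_sy hk.nilA p ((sy_le I p).trans inf_le_left) (sy_isPGroup I p)
  have hQM : MulAut.conj g⁻¹ • sy I p ≤ M := by
    calc MulAut.conj g⁻¹ • sy I p ≤ MulAut.conj g⁻¹ • (MulAut.conj g • M) :=
          Subgroup.pointwise_smul_le_pointwise_smul_iff.mpr ((sy_le I p).trans inf_le_right)
      _ = M := by rw [map_inv, inv_smul_smul]
  have hAM : A ≤ M := Subgroup.le_normalizer
  obtain ⟨m, hmM, hle⟩ := Cfsg.Agent.Lib.Helper14.exists_conj_le_of_not_dvd_relIndex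
    (L := M) (P := sy A p) (R := MulAut.conj g⁻¹ • sy I p) hQM (sy_isPGroup A p)
    ((sy_isPGroup I p).map _)
    (fun h => hk.not_dvd_index_sy p hpA
      (h.trans (Subgroup.relIndex_dvd_index_of_le ((sy_le A p).trans hAM))))
  have h1 : MulAut.conj m • sy A p = sy A p :=
    (mem_normalizer_iff_conj_smul _ _).mp (normalizer_le_normalizer_sy hk.nilA p hmM)
  rw [h1] at hle
  have hQ2 : sy I p ≤ MulAut.conj g • sy A p := by
    calc sy I p = MulAut.conj g • (MulAut.conj g⁻¹ • sy I p) := by rw [map_inv, smul_inv_smul]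
      _ ≤ MulAut.conj g • sy A p := Subgroup.pointwise_smul_le_pointwise_smul_iff.mpr hle
  have h2 := hm.sy_inf_conj_eq_bot hk hpA hg
  apply hQne
  rw [eq_bot_iff, ← h2]
  exact le_inf hQ1 hQ2

/-- The counting argument. -/
theorem card_left_le [Finite G] (hm : KWMin G) (hk : KWPair A B) :
    Nat.card A ≤ Nat.card B := by
  set M := Subgroup.normalizer (A : Set G) with hM
  have hAne : A ≠ ⊥ := hk.one_lt_card_left_of_ne (hm.left_ne_top hk.symm)
  have hMne : M ≠ ⊤ := hm.normalizer_ne_top_of_le hk hAne le_rfl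
  obtain ⟨g, hg⟩ : ∃ g, g ∉ M := by
    by_contra h
    push Not at h
    exact hMne (eq_top_iff.mpr fun x _ => h x)
  have hI := hm.inf_conj_normalizer_eq_bot hk hg
  have hinj : Function.Injective (fun x : A × M => (x.1 : G) * g * (x.2 : G)) := by
    rintro ⟨a, m⟩ ⟨a', m'⟩ h
    have h0 : (a : G) * g * (m : G) = (a' : G) * g * (m' : G) := h
    have h1 : (a' : G)⁻¹ * a = g * ((m' : G) * (m : G)⁻¹) * g⁻¹ := by
      calc (a' : G)⁻¹ * a = (a' : G)⁻¹ * ((a : G) * g * (m : G)) * (m : G)⁻¹ * g⁻¹ := by group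
        _ = (a' : G)⁻¹ * ((a' : G) * g * (m' : G)) * (m : G)⁻¹ * g⁻¹ := by rw [h0]
        _ = g * ((m' : G) * (m : G)⁻¹) * g⁻¹ := by group
    have h2 : (a' : G)⁻¹ * a ∈ A ⊓ MulAut.conj g • M := by
      refine ⟨A.mul_mem (A.inv_mem a'.2) a.2, ?_⟩
      rw [h1]
      exact (Subgroup.mem_smul_pointwise_iff_exists _ _ _).mpr
        ⟨(m' : G) * (m : G)⁻¹, M.mul_mem m'.2 (M.inv_mem m.2), rfl⟩
    rw [hI, Subgroup.mem_bot] at h2
    have ha : (a' : G) = a := inv_mul_eq_one.mp h2
    have ha' : a = a' := Subtype.ext ha.symm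
    subst ha'
    have hm' : (m : G) = m' := mul_left_cancel h0
    exact Prod.ext rfl (Subtype.ext hm')
  have h1 := Nat.card_le_card_of_injective _ hinj
  rw [Nat.card_prod, hk.card_eq] at h1
  have h2 : Nat.card M ≤ Nat.card B := Nat.le_of_mul_le_mul_left h1 Nat.card_pos
  exact (Subgroup.card_le_of_le (Subgroup.le_normalizer : A ≤ M)).trans h2

end KWMin

theorem kw_coprime_solvable_aux (n : ℕ) : ∀ (G : Type u) [Group G] [Finite G]
    (A B : Subgroup G), KWPair A B → Nat.card G = n → Group.IsSolvable G := by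
  induction n using Nat.strong_induction_on with
  | _ n ih =>
    intro G _ _ A B hk hn
    by_contra hns
    have hm : KWMin G :=
      ⟨fun G' _ _ A' B' hk' hlt => ih (Nat.card G') (hn ▸ hlt) G' A' B' hk' rfl, hns⟩
    have h1 := hm.card_left_le hk
    have h2 := hm.card_left_le hk.symm
    have h3 : Nat.card A = Nat.card B := le_antisymm h1 h2
    have h4 := hk.cop
    rw [h3, Nat.coprime_self] at h4
    obtain ⟨p, hp, hpB⟩ := hm.exists_prime_dvd_left hk.symm
    rw [h4] at hpB
    exact hp.one_lt.ne' (Nat.dvd_one.mp hpB)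

/-- **Wielandt's theorem** (coprime Kegel–Wielandt): a finite group which is the product of two
nilpotent subgroups of coprime orders is solvable. -/
theorem kw_coprime_solvable {G : Type u} [Group G] [Finite G] (A B : Subgroup G)
    (hk : KWPair A B) : Group.IsSolvable G :=
  kw_coprime_solvable_aux _ G A B hk rfl

end Cfsg.Agent.Lib.Helper13
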