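import Mathlib
import Cfsg.Agent.Lib.Helper13.KWTI

set_option autoImplicit false
set_option linter.style.haveILetI false

namespace Cfsg.Agent.Lib.Helper13

open Pointwise

universe u

variable {G : Type u} [Group G]

/-- In a nilpotent subgroup `A`, any Sylow `p`-subgroup is the Sylow part `sy A p`. -/
lemma sylow_map_eq_sy [Finite G] {A : Subgroup G} (hA : Group.IsNilpotent A) {p : ℕ}
    [Fact p.Prime] (P : Sylow p A) : (P : Subgroup A).map A.subtype = sy A p := by
  apply Subgroup.eq_of_le_of_card_ge
  · exact le_sy hA p (Subgroup.map_subtype_le _) (P.2.map _)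
  · rw [card_sy, Nat.card_congr (Subgroup.equivMapOfInjective _ A.subtype
      A.subtype_injective).toEquiv.symm, Sylow.card_eq_multiplicity]

lemma coprime_card_index_sy [Finite G] {A B : Subgroup G} (hk : KWPair A B) (p : ℕ)
    [hp : Fact p.Prime] : (Nat.card (sy A p)).Coprime (sy A p).index := by
  by_cases hpA : p ∣ Nat.card A
  · have := coprime_card_relIndex_of_isPGroup (sy_isPGroup A p) (le_top : sy A p ≤ ⊤)
      (hk.not_dvd_index_sy p hpA)
    rwa [Subgroup.relIndex_top_right] at this
  · rw [card_sy, Nat.factorization_eq_zero_of_not_dvd hpA, pow_zero]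
    exact Nat.coprime_one_left _

/-- Second half of `S0563`. -/
theorem kw_sylow_prod [Finite G] {A B : Subgroup G} (hk : KWPair A B) {p q : ℕ}
    [Fact p.Prime] [Fact q.Prime] (P : Sylow p A) (Q : Sylow q B) :
    ∃ S : Subgroup G, (S : Set G) = (((P : Subgroup A).map A.subtype : Subgroup G) : Set G) *
      (((Q : Subgroup B).map B.subtype : Subgroup G) : Set G) := by
  haveI : Group.IsSolvable G := kw_coprime_solvable A B hk
  rw [sylow_map_eq_sy hk.nilA P, sylow_map_eq_sy hk.nilB Q]
  obtain ⟨S, hS⟩ := Cfsg.Agent.S0561.result A B (sy A p) (sy B q) hk.fact (sy_le A p)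
    (sy_normal' hk.nilA p) (sy_le B q) (sy_normal' hk.nilB q) (coprime_card_index_sy hk p)
    (coprime_card_index_sy hk.symm q) 1 1
  simp only [map_one, one_smul] at hS
  exact ⟨S, hS⟩

end Cfsg.Agent.Lib.Helper13
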