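import Mathlib
import Cfsg.Agent.Lib.Helper13.KWFinal
import Cfsg.Agent.S0560

set_option autoImplicit false
set_option linter.style.haveILetI false

namespace Cfsg.Agent.Lib.Helper13

open Pointwise

universe u

variable {G : Type u} [Group G]

/-- A factorization of a group by two nilpotent subgroups. -/
structure NPair (A B : Subgroup G) : Prop where
  nilA : Group.IsNilpotent A
  nilB : Group.IsNilpotent B
  fact : ∀ g : G, ∃ a ∈ A, ∃ b ∈ B, g = a * b

namespace NPair

variable {A B : Subgroup G}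

lemma fact' (h : NPair A B) : ∀ g : G, ∃ b ∈ B, ∃ a ∈ A, g = b * a := by
  intro g
  obtain ⟨a, ha, b, hb, hg⟩ := h.fact g⁻¹
  refine ⟨b⁻¹, B.inv_mem hb, a⁻¹, A.inv_mem ha, ?_⟩
  rw [← mul_inv_rev, ← hg, inv_inv]

lemma symm (h : NPair A B) : NPair B A := ⟨h.nilB, h.nilA, h.fact'⟩

lemma dedekind (h : NPair A B) {H : Subgroup G} (hAH : A ≤ H) :
    ∀ x ∈ H, ∃ a ∈ A, ∃ b ∈ H ⊓ B, x = a * b := by
  intro x hx
  obtain ⟨a, ha, b, hb, rfl⟩ := h.fact x
  refine ⟨a, ha, b, ⟨?_, hb⟩, rfl⟩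
  have : b = a⁻¹ * (a * b) := by group
  rw [this]
  exact H.mul_mem (H.inv_mem (hAH ha)) hx

lemma map_mk' (h : NPair A B) (N : Subgroup G) [N.Normal] :
    NPair (A.map (QuotientGroup.mk' N)) (B.map (QuotientGroup.mk' N)) := by
  refine ⟨?_, ?_, ?_⟩
  · haveI := h.nilA
    exact Group.nilpotent_of_surjective ((QuotientGroup.mk' N).subgroupMap A)
      ((QuotientGroup.mk' N).subgroupMap_surjective A)
  · haveI := h.nilB
    exact Group.nilpotent_of_surjective ((QuotientGroup.mk' N).subgroupMap B)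
      ((QuotientGroup.mk' N).subgroupMap_surjective B)
  · intro g
    obtain ⟨g, rfl⟩ := QuotientGroup.mk'_surjective N g
    obtain ⟨a, ha, b, hb, rfl⟩ := h.fact g
    exact ⟨_, Subgroup.mem_map_of_mem _ ha, _, Subgroup.mem_map_of_mem _ hb, map_mul _ _ _⟩

end NPair

/-- A minimal counterexample to the Kegel–Wielandt theorem. -/
structure NMin (G : Type u) [Group G] : Prop where
  ih : ∀ (G' : Type u) [Group G'] [Finite G'] (A' B' : Subgroup G'), NPair A' B' →
    Nat.card G' < Nat.card G → Group.IsSolvable G'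
  ns : ¬ Group.IsSolvable G

namespace NMin

variable {A B : Subgroup G}

lemma solvable_of_le [Finite G] (hm : NMin G) (hk : NPair A B) {H : Subgroup G} (hAH : A ≤ H)
    (hH : H ≠ ⊤) : Group.IsSolvable H := by
  apply hm.ih H (A.subgroupOf H) ((H ⊓ B).subgroupOf H)
  · refine ⟨?_, ?_, ?_⟩
    · haveI := hk.nilA
      exact Group.nilpotent_of_mulEquiv (Subgroup.subgroupOfEquivOfLe hAH).symm
    · haveI : Group.IsNilpotent (H ⊓ B : Subgroup G) := isNilpotent_of_le hk.nilB inf_le_right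
      exact Group.nilpotent_of_mulEquiv
        (Subgroup.subgroupOfEquivOfLe (inf_le_left : H ⊓ B ≤ H)).symm
    · intro x
      obtain ⟨a, ha, b, hb, hx⟩ := hk.dedekind hAH x x.2
      exact ⟨⟨a, hAH ha⟩, Subgroup.mem_subgroupOf.mpr ha, ⟨b, hb.1⟩,
        Subgroup.mem_subgroupOf.mpr hb, Subtype.ext hx⟩
  · apply lt_of_le_of_ne (Subgroup.card_le_card_group H)
    intro h
    exact hH (Subgroup.eq_top_of_card_eq H h)

lemma quotient_solvable [Finite G] (hm : NMin G) (hk : NPair A B) (N : Subgroup G) [N.Normal]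
    (hN : N ≠ ⊥) : Group.IsSolvable (G ⧸ N) := by
  apply hm.ih (G ⧸ N) _ _ (hk.map_mk' N)
  rw [← Subgroup.index_eq_card]
  have h1 : 1 < Nat.card N := by
    rw [Finite.one_lt_card_iff_nontrivial]
    exact (Subgroup.nontrivial_iff_ne_bot N).mpr hN
  have h2 := Subgroup.card_mul_index N
  have hpos : 0 < N.index := Nat.pos_of_ne_zero Subgroup.index_ne_zero_of_finite
  nlinarith

lemma not_solvable_of_normal [Finite G] (hm : NMin G) (hk : NPair A B) (N : Subgroup G)
    [N.Normal] (hN : N ≠ ⊥) : ¬ Group.IsSolvable N := by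
  intro hNs
  have hq := hm.quotient_solvable hk N hN
  apply hm.ns
  exact Group.isSolvable_of_ker_le_range N.subtype (QuotientGroup.mk' N)
    (by rw [QuotientGroup.ker_mk', Subgroup.range_subtype])

lemma sup_eq_top [Finite G] (hm : NMin G) (hk : NPair A B) (N : Subgroup G) [N.Normal]
    (hN : N ≠ ⊥) : A ⊔ N = ⊤ := by
  by_contra hAN
  haveI := hm.solvable_of_le hk (le_sup_left : A ≤ A ⊔ N) hAN
  apply hm.not_solvable_of_normal hk N hN
  exact Group.isSolvable_of_isSolvable_injective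
    (Subgroup.inclusion_injective (le_sup_right : N ≤ A ⊔ N))

lemma ne_top_of_isPGroup [Finite G] (hm : NMin G) {p : ℕ} [Fact p.Prime] {S : Subgroup G}
    (hS : IsPGroup p S) : S ≠ ⊤ := by
  intro h
  apply hm.ns
  have h1 : IsPGroup p (⊤ : Subgroup G) := h ▸ hS
  have h2 : IsPGroup p G := h1.of_equiv Subgroup.topEquiv
  haveI : Group.IsNilpotent G := h2.isNilpotent
  infer_instance

/-- If a normal subgroup contains the Sylow `p`-part of `A` then it contains that of `B`. -/
lemma sy_le_of_normal [Finite G] (hm : NMin G) (hk : NPair A B) (p : ℕ) [hp : Fact p.Prime]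
    (hpA : p ∣ Nat.card A) {N : Subgroup G} [N.Normal] (hPN : sy A p ≤ N) : sy B p ≤ N := by
  have hNne : N ≠ ⊥ := by
    intro h
    apply sy_ne_bot A p hpA
    rw [eq_bot_iff, ← h]
    exact hPN
  have hAN : A ⊔ N = ⊤ := hm.sup_eq_top hk N hNne
  have hidx : ¬ p ∣ N.index := by
    rw [← Subgroup.relIndex_top_right, ← hAN, Subgroup.relIndex_sup_right,
      ← Subgroup.inf_relIndex_left]
    intro h
    apply not_dvd_relIndex_sy A p
    rw [← Subgroup.relIndex_mul_relIndex _ _ _ (le_inf (sy_le A p) hPN) inf_le_left]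
    exact Dvd.dvd.mul_left h _
  have h1 : N.relIndex (sy B p) ∣ N.index := Subgroup.relIndex_dvd_index_of_normal _ _
  have h2 : N.relIndex (sy B p) ∣ Nat.card (sy B p) := Subgroup.relIndex_dvd_card _ _
  have h3 : N.relIndex (sy B p) = 1 := by
    by_contra hne
    obtain ⟨q, hq, hqd⟩ := Nat.exists_prime_and_dvd hne
    rw [card_sy] at h2
    have hqp : q = p := (Nat.prime_dvd_prime_iff_eq hq hp.out).mp
      (hq.dvd_of_dvd_pow (hqd.trans h2))
    subst hqp
    exact hidx (hqd.trans h1)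
  exact Subgroup.relIndex_eq_one.mp h3

end NMin

/-- Conjugates of a product subgroup. -/
lemma coe_conj_smul_eq_mul {P Q S0 : Subgroup G} (hS0 : (S0 : Set G) = (P : Set G) * (Q : Set G))
    (a : G) : ((MulAut.conj a • S0 : Subgroup G) : Set G)
      = ((MulAut.conj a • P : Subgroup G) : Set G) * ((MulAut.conj a • Q : Subgroup G) : Set G) := by
  rw [Subgroup.coe_pointwise_smul, Subgroup.coe_pointwise_smul, Subgroup.coe_pointwise_smul, hS0,
    smul_mul']

/-- A normal closure is contained in a subgroup normalized by `K` when `G = K A` and `A`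
normalizes the generating subgroup. -/
lemma normalClosure_le_of_sup_eq_top {A K P N₁ : Subgroup G} [K.Normal] (hAK : K ⊔ A = ⊤)
    (hPn : A ≤ Subgroup.normalizer (P : Set G)) (hPN : P ≤ N₁)
    (hN₁ : K ≤ Subgroup.normalizer (N₁ : Set G)) :
    Subgroup.normalClosure (P : Set G) ≤ N₁ := by
  unfold Subgroup.normalClosure
  rw [Subgroup.closure_le]
  intro x hx
  rw [Group.mem_conjugatesOfSet_iff] at hx
  obtain ⟨y, hy, hc⟩ := hx
  rw [isConj_iff] at hc
  obtain ⟨c, hc⟩ := hc
  have hc' : c ∈ ((K ⊔ A : Subgroup G) : Set G) := by rw [hAK]; trivial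
  rw [Subgroup.normal_mul] at hc'
  obtain ⟨k, hk, a, ha, hka⟩ := hc'
  have hka' : k * a = c := hka
  have h1 : a * y * a⁻¹ ∈ P := (Subgroup.mem_normalizer_iff.mp (hPn ha) y).mp hy
  have h2 : k * (a * y * a⁻¹) * k⁻¹ ∈ N₁ :=
    (Subgroup.mem_normalizer_iff.mp (hN₁ hk) _).mp (hPN h1)
  have e : x = k * (a * y * a⁻¹) * k⁻¹ := by rw [← hc, ← hka']; group
  rw [e]
  exact h2

end Cfsg.Agent.Lib.Helper13
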