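import Mathlib
import Cfsg.Agent.Lib.Helper13.KWGeneralA

set_option autoImplicit false
set_option linter.style.haveILetI false

namespace Cfsg.Agent.Lib.Helper13

open Pointwise

universe u

variable {G : Type u} [Group G]

namespace NMin

variable {A B : Subgroup G}

/-- In a minimal counterexample to Kegel–Wielandt the factors have no common prime divisor. -/
theorem false_of_common_prime [Finite G] (hm : NMin G) (hk : NPair A B) {p : ℕ}
    [hp : Fact p.Prime] (hpA : p ∣ Nat.card A) (hpB : p ∣ Nat.card B) : False := by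
  set P := sy A p with hP
  set Q := sy B p with hQ
  have hPne : P ≠ ⊥ := sy_ne_bot A p hpA
  have hQne : Q ≠ ⊥ := sy_ne_bot B p hpB
  obtain ⟨P', Q', R, hR⟩ := Cfsg.Agent.S0560.result A B hk.fact p
  rw [sylow_map_eq_sy hk.nilA P', sylow_map_eq_sy hk.nilB Q'] at hR
  -- products with conjugates are `p`-subgroups
  have hconj : ∀ x : G, ∃ S : Subgroup G, IsPGroup p S ∧
      (S : Set G) = (P : Set G) * ((MulAut.conj x • Q : Subgroup G) : Set G) := by
    intro x
    obtain ⟨a, ha, b, hb, rfl⟩ := hk.fact x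
    refine ⟨MulAut.conj a • (R : Subgroup G), R.2.map _, ?_⟩
    have hQb : MulAut.conj (a * b) • Q = MulAut.conj a • Q := by
      rw [map_mul, mul_smul, conj_smul_sy_of_mem hk.nilB p hb]
    rw [hQb, coe_conj_smul_eq_mul hR a, conj_smul_sy_of_mem hk.nilA p ha]
  -- Kegel's lemma in `G`
  obtain ⟨N, hNn, hNtop, hN⟩ := Cfsg.Agent.S0566.result P Q hPne hQne (fun x => by
    obtain ⟨S, hSp, hS⟩ := hconj x
    exact ⟨S, hm.ne_top_of_isPGroup hSp, hS⟩)
  haveI := hNn
  have hPN : P ≤ N := by
    rcases hN with h | h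
    · exact h
    · exact hm.sy_le_of_normal hk.symm p hpB h
  set K := Subgroup.normalClosure (P : Set G) with hK
  haveI hKn : K.Normal := Subgroup.normalClosure_normal
  have hPK : P ≤ K := Subgroup.le_normalClosure
  have hKN : K ≤ N := Subgroup.normalClosure_le_normal hPN
  have hKtop : K ≠ ⊤ := fun h => hNtop (eq_top_iff.mpr (h ▸ hKN))
  have hKne : K ≠ ⊥ := fun h => hPne (eq_bot_iff.mpr (h ▸ hPK))
  have hQK : Q ≤ K := hm.sy_le_of_normal hk p hpA hPK
  have hKQ : K ≤ Subgroup.normalClosure (Q : Set G) := by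
    haveI : (Subgroup.normalClosure (Q : Set G)).Normal := Subgroup.normalClosure_normal
    exact Subgroup.normalClosure_le_normal
      (hm.sy_le_of_normal hk.symm p hpB Subgroup.le_normalClosure)
  have hAK : K ⊔ A = ⊤ := by rw [sup_comm]; exact hm.sup_eq_top hk K hKne
  have hBK : K ⊔ B = ⊤ := by rw [sup_comm]; exact hm.sup_eq_top hk.symm K hKne
  have hKns : ¬ Group.IsSolvable K := hm.not_solvable_of_normal hk K hKne
  -- Kegel's lemma in `K`
  have hA'ne : P.subgroupOf K ≠ ⊥ := by
    intro h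
    rw [Subgroup.subgroupOf_eq_bot] at h
    exact hPne (h.eq_bot_of_le hPK)
  have hB'ne : Q.subgroupOf K ≠ ⊥ := by
    intro h
    rw [Subgroup.subgroupOf_eq_bot] at h
    exact hQne (h.eq_bot_of_le hQK)
  have hconj' : ∀ x : K, ∃ S' : Subgroup K, S' ≠ ⊤ ∧ (S' : Set K)
      = ((P.subgroupOf K : Subgroup K) : Set K)
        * ((MulAut.conj x • Q.subgroupOf K : Subgroup K) : Set K) := by
    intro x
    obtain ⟨S, hSp, hS⟩ := hconj (x : G)
    have hxQK : MulAut.conj (x : G) • Q ≤ K := by
      calc MulAut.conj (x : G) • Q ≤ MulAut.conj (x : G) • K :=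
            Subgroup.pointwise_smul_le_pointwise_smul_iff.mpr hQK
        _ = K := (mem_normalizer_iff_conj_smul K _).mp (Subgroup.le_normalizer x.2)
    have hmemQ : ∀ v : K, v ∈ MulAut.conj x • Q.subgroupOf K ↔
        (v : G) ∈ MulAut.conj (x : G) • Q := by
      intro v
      simp only [Subgroup.mem_pointwise_smul_iff_inv_smul_mem, MulAut.smul_def,
        MulAut.conj_inv_apply, Subgroup.mem_subgroupOf, Subgroup.coe_mul, Subgroup.coe_inv]
    refine ⟨S.subgroupOf K, ?_, ?_⟩
    · intro h
      rw [Subgroup.subgroupOf_eq_top] at h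
      apply hKns
      haveI : Group.IsNilpotent K := (hSp.to_le h).isNilpotent
      infer_instance
    · ext z
      constructor
      · intro hz
        have hz' : (z : G) ∈ (S : Set G) := Subgroup.mem_subgroupOf.mp hz
        rw [hS] at hz'
        obtain ⟨u, hu, v, hv, huv⟩ := hz'
        have huv' : u * v = (z : G) := huv
        refine ⟨⟨u, hPK hu⟩, Subgroup.mem_subgroupOf.mpr hu, ⟨v, hxQK hv⟩,
          (hmemQ _).mpr hv, Subtype.ext huv'⟩
      · rintro ⟨u, hu, v, hv, huv⟩
        have huv' : u * v = z := huv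
        show z ∈ S.subgroupOf K
        rw [Subgroup.mem_subgroupOf]
        show (z : G) ∈ (S : Set G)
        rw [hS, ← huv']
        exact ⟨(u : G), Subgroup.mem_subgroupOf.mp hu, (v : G), (hmemQ v).mp hv, rfl⟩
  obtain ⟨N1, hN1n, hN1top, hN1⟩ :=
    Cfsg.Agent.S0566.result (P.subgroupOf K) (Q.subgroupOf K) hA'ne hB'ne hconj'
  have hN1K : K ≤ Subgroup.normalizer ((N1.map K.subtype : Subgroup G) : Set G) :=
    le_normalizer_map_subtype_of_normal K N1 hN1n
  have hfin : K ≤ N1.map K.subtype → False := by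
    intro h
    apply hN1top
    rw [eq_top_iff]
    intro z _
    obtain ⟨n, hn, hnz⟩ := h z.2
    have : n = z := Subtype.ext hnz
    exact this ▸ hn
  rcases hN1 with h | h
  · apply hfin
    have hPN1 : P ≤ N1.map K.subtype := by
      intro x hx
      exact ⟨⟨x, hPK hx⟩, h (Subgroup.mem_subgroupOf.mpr hx), rfl⟩
    exact normalClosure_le_of_sup_eq_top hAK (sy_normal hk.nilA p) hPN1 hN1K
  · apply hfin
    have hQN1 : Q ≤ N1.map K.subtype := by
      intro x hx
      exact ⟨⟨x, hQK hx⟩, h (Subgroup.mem_subgroupOf.mpr hx), rfl⟩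
    exact hKQ.trans (normalClosure_le_of_sup_eq_top hBK (sy_normal hk.nilB p) hQN1 hN1K)

theorem coprime [Finite G] (hm : NMin G) (hk : NPair A B) :
    (Nat.card A).Coprime (Nat.card B) := by
  apply Nat.coprime_of_dvd
  intro p hp hpA hpB
  haveI : Fact p.Prime := ⟨hp⟩
  exact hm.false_of_common_prime hk hpA hpB

end NMin

theorem kw_solvable_aux (n : ℕ) : ∀ (G : Type u) [Group G] [Finite G]
    (A B : Subgroup G), NPair A B → Nat.card G = n → Group.IsSolvable G := by
  induction n using Nat.strong_induction_on with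
  | _ n ih =>
    intro G _ _ A B hk hn
    by_contra hns
    have hm : NMin G :=
      ⟨fun G' _ _ A' B' hk' hlt => ih (Nat.card G') (hn ▸ hlt) G' A' B' hk' rfl, hns⟩
    exact hns (kw_coprime_solvable A B ⟨hk.nilA, hk.nilB, hm.coprime hk, hk.fact⟩)

/-- **Kegel–Wielandt theorem**: a finite group which is the product of two nilpotent subgroups
is solvable. -/
theorem kw_solvable {G : Type u} [Group G] [Finite G] (A B : Subgroup G)
    (hk : NPair A B) : Group.IsSolvable G :=
  kw_solvable_aux _ G A B hk rfl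

end Cfsg.Agent.Lib.Helper13
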