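import Mathlib
import Cfsg.Agent.Lib.Helper13.KWGeneralB
import Cfsg.Agent.Lib.Helper13.MinNormalSolvable
import Cfsg.Agent.Lib.Helper38.PGroup

set_option autoImplicit false
set_option linter.style.haveILetI false

namespace Cfsg.Agent.Lib.Helper13

open Pointwise

universe u

variable {G : Type u} [Group G]

/-- In a finite nilpotent group every proper subgroup lies in a proper normal subgroup. -/
lemma exists_normal_of_nilpotent [Finite G] (hG : Group.IsNilpotent G) {B : Subgroup G}
    (hB : B ≠ ⊤) : ∃ N : Subgroup G, N.Normal ∧ N ≠ ⊤ ∧ B ≤ N := by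
  obtain ⟨M, hM, hBM⟩ := (eq_top_or_exists_le_coatom B).resolve_left hB
  have h := ((Group.isNilpotent_of_finite_tfae (G := G)).out 0 2 rfl rfl).mp hG
  exact ⟨M, h M hM, hM.1, hBM⟩

lemma card_eq_of_sup_eq_top_of_inf_eq_bot [Finite G] {A N : Subgroup G} [N.Normal]
    (hAN : A ⊔ N = ⊤) (hA : A ⊓ N = ⊥) : Nat.card G = Nat.card A * Nat.card N := by
  have h1 := card_mul_card_inf A N
  have h2 : ((A : Set G) * (N : Set G) : Set G) = Set.univ := by
    rw [← Subgroup.mul_normal, hAN]; rfl
  rw [h2, hA, Subgroup.card_bot, mul_one, Nat.card_coe_set_eq, Set.ncard_univ] at h1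
  exact h1

namespace NPair

variable {A B : Subgroup G}

/-- If both factors complement an (abelian) minimal normal subgroup, it is central. -/
lemma minNormal_le_center [Finite G] (hk : NPair A B) [Group.IsSolvable G] {N : Subgroup G}
    (hN : IsMinNormal N) (hAN : A ⊔ N = ⊤) (hBN : B ⊔ N = ⊤) (hA : A ⊓ N = ⊥)
    (hB : B ⊓ N = ⊥) : N ≤ Subgroup.center G := by
  obtain ⟨p, hp, hpN, -, hNp⟩ := hN.exists_prime
  haveI : Fact p.Prime := ⟨hp⟩
  haveI hNn : N.Normal := hN.1
  have hcardA : Nat.card G = Nat.card A * Nat.card N := card_eq_of_sup_eq_top_of_inf_eq_bot hAN hA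
  have hcardB : Nat.card G = Nat.card B * Nat.card N := card_eq_of_sup_eq_top_of_inf_eq_bot hBN hB
  obtain ⟨P', Q', R, hR⟩ := Cfsg.Agent.S0560.result A B hk.fact p
  rw [sylow_map_eq_sy hk.nilA P', sylow_map_eq_sy hk.nilB Q'] at hR
  have hNR : N ≤ R :=
    le_of_normalized_of_sylow (L := ⊤) le_top (Subgroup.normalizer_eq_top_iff.mpr hNn).ge hNp R.2
      (by rw [Subgroup.relIndex_top_right]; exact R.not_dvd_index)
  -- the `q`-parts of `A` and `B` agree for `q ≠ p`
  have hq : ∀ (q : ℕ) [Fact q.Prime], q ≠ p → sy A q = sy B q := by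
    intro q hqF hqp
    obtain ⟨P1, Q1, R1, hR1⟩ := Cfsg.Agent.S0560.result A B hk.fact q
    rw [sylow_map_eq_sy hk.nilA P1, sylow_map_eq_sy hk.nilB Q1] at hR1
    have hfac : ∀ C : Subgroup G, Nat.card G = Nat.card C * Nat.card N →
        (Nat.card G).factorization q = (Nat.card C).factorization q := by
      intro C hC
      obtain ⟨k, hk'⟩ := IsPGroup.iff_card.mp hNp
      have h0 : (Nat.card N).factorization q = 0 := by
        apply Nat.factorization_eq_zero_of_not_dvd
        rw [hk']
        intro hd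
        exact hqp ((Nat.prime_dvd_prime_iff_eq hqF.out hp).mp (hqF.out.dvd_of_dvd_pow hd))
      rw [hC, Nat.factorization_mul Nat.card_pos.ne' Nat.card_pos.ne', Finsupp.add_apply, h0,
        add_zero]
    have hA1 : sy A q ≤ R1 := by
      intro x hx
      show x ∈ ((R1 : Subgroup G) : Set G)
      rw [hR1]
      exact ⟨x, hx, 1, Subgroup.one_mem _, mul_one x⟩
    have hB1 : sy B q ≤ R1 := by
      intro x hx
      show x ∈ ((R1 : Subgroup G) : Set G)
      rw [hR1]
      exact ⟨1, Subgroup.one_mem _, x, hx, one_mul x⟩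
    have eA : sy A q = R1 := Subgroup.eq_of_le_of_card_ge hA1
      (by rw [card_sy, Sylow.card_eq_multiplicity, hfac A hcardA])
    have eB : sy B q = R1 := Subgroup.eq_of_le_of_card_ge hB1
      (by rw [card_sy, Sylow.card_eq_multiplicity, hfac B hcardB])
    rw [eA, eB]
  -- a nontrivial element of `N` central in `R`
  have hNR' : N.subgroupOf (R : Subgroup G) ≠ ⊥ := by
    intro h
    rw [Subgroup.subgroupOf_eq_bot] at h
    exact hN.2.1 (h.eq_bot_of_le hNR)
  obtain ⟨x, hxN, hxZ, hx1⟩ := Cfsg.Agent.Lib.Helper38.normal_inf_center_ne_bot p R.isPGroup'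
    (N.subgroupOf (R : Subgroup G)) hNR'
  have hzN : (x : G) ∈ N := Subgroup.mem_subgroupOf.mp hxN
  have hzR : ∀ y ∈ (R : Subgroup G), y * (x : G) = (x : G) * y := fun y hy =>
    congrArg Subtype.val (Subgroup.mem_center_iff.mp hxZ ⟨y, hy⟩)
  have hAp : sy A p ≤ R := by
    intro y hy
    show y ∈ ((R : Subgroup G) : Set G)
    rw [hR]
    exact ⟨y, hy, 1, Subgroup.one_mem _, mul_one y⟩
  have hzdec : ∃ u ∈ sy A p, ∃ v ∈ sy B p, u * v = (x : G) := by
    have h1 : (x : G) ∈ ((R : Subgroup G) : Set G) := x.2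
    rw [hR] at h1
    obtain ⟨u, hu, v, hv, huv⟩ := h1
    exact ⟨u, hu, v, hv, huv⟩
  have hAz : A ≤ Subgroup.centralizer ({(x : G)} : Set G) := by
    apply le_of_forall_sy_le
    intro q _ _
    by_cases hqp : q = p
    · subst hqp
      intro y hy
      rw [Subgroup.mem_centralizer_singleton_iff]
      exact hzR y (hAp hy)
    · intro y hy
      rw [Subgroup.mem_centralizer_singleton_iff]
      obtain ⟨u, hu, v, hv, huv⟩ := hzdec
      have h1 : y * u = u * y := commute_of_pgroups hk.nilA hqp (sy_le A q) (sy_le A p)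
        (sy_isPGroup A q) (sy_isPGroup A p) hy hu
      have hy' : y ∈ sy B q := hq q hqp ▸ hy
      have h2 : y * v = v * y := commute_of_pgroups hk.nilB hqp (sy_le B q) (sy_le B p)
        (sy_isPGroup B q) (sy_isPGroup B p) hy' hv
      rw [← huv]
      calc y * (u * v) = (y * u) * v := by group
        _ = u * (y * v) := by rw [h1]; group
        _ = u * v * y := by rw [h2]; group
  have hNz : N ≤ Subgroup.centralizer ({(x : G)} : Set G) := by
    intro n hn
    rw [Subgroup.mem_centralizer_singleton_iff]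
    exact hN.mul_comm_of_mem hn hzN
  have hz : (x : G) ∈ Subgroup.center G := by
    rw [Subgroup.mem_center_iff]
    intro g
    have h1 : g ∈ A ⊔ N := hAN ▸ Subgroup.mem_top g
    exact Subgroup.mem_centralizer_singleton_iff.mp ((sup_le hAz hNz) h1)
  have hI : N ⊓ Subgroup.center G = N := by
    rcases hN.2.2 (N ⊓ Subgroup.center G) inferInstance inf_le_left with h | h
    · exfalso
      have h1 : (x : G) ∈ N ⊓ Subgroup.center G := ⟨hzN, hz⟩
      rw [h, Subgroup.mem_bot] at h1
      exact hx1 (Subtype.ext h1)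
    · exact h
  exact inf_eq_left.mp hI

end NPair

theorem exists_normal_aux (n : ℕ) : ∀ (G : Type u) [Group G] [Finite G] (A B : Subgroup G),
    NPair A B → (A ≠ ⊤ ∨ B ≠ ⊤) → Nat.card G = n →
    ∃ N : Subgroup G, N.Normal ∧ N ≠ ⊤ ∧ (A ≤ N ∨ B ≤ N) := by
  induction n using Nat.strong_induction_on with
  | _ n ih =>
    intro G _ _ A B hk hpr hn
    haveI hsolv : Group.IsSolvable G := kw_solvable A B hk
    haveI : Nontrivial G := by
      by_contra h
      rw [not_nontrivial_iff_subsingleton] at h
      rcases hpr with h1 | h1 <;> exact h1 (Subsingleton.elim _ _)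
    obtain ⟨N, hN⟩ := exists_isMinNormal (G := G)
    haveI hNn : N.Normal := hN.1
    by_cases hq : A ⊔ N ≠ ⊤ ∨ B ⊔ N ≠ ⊤
    · have hcard : Nat.card (G ⧸ N) < n := by
        rw [← hn, ← Subgroup.index_eq_card]
        have h1 : 1 < Nat.card N := by
          rw [Finite.one_lt_card_iff_nontrivial]
          exact (Subgroup.nontrivial_iff_ne_bot N).mpr hN.2.1
        have h2 := Subgroup.card_mul_index N
        have hpos : 0 < N.index := Nat.pos_of_ne_zero Subgroup.index_ne_zero_of_finite
        nlinarith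
      have htop : ∀ C : Subgroup G, C ⊔ N ≠ ⊤ → C.map (QuotientGroup.mk' N) ≠ ⊤ := by
        intro C h h'
        apply h
        have := congrArg (Subgroup.comap (QuotientGroup.mk' N)) h'
        rw [Subgroup.comap_map_eq, QuotientGroup.ker_mk', Subgroup.comap_top] at this
        exact this
      have hpr' : A.map (QuotientGroup.mk' N) ≠ ⊤ ∨ B.map (QuotientGroup.mk' N) ≠ ⊤ := by
        rcases hq with h | h
        · exact Or.inl (htop A h)
        · exact Or.inr (htop B h)
      obtain ⟨M, hMn, hMtop, hM⟩ := ih _ hcard (G ⧸ N) _ _ (hk.map_mk' N) hpr' rfl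
      refine ⟨M.comap (QuotientGroup.mk' N), hMn.comap _, ?_, ?_⟩
      · intro h
        apply hMtop
        rw [← Subgroup.map_comap_eq_self_of_surjective (QuotientGroup.mk'_surjective N) M, h,
          Subgroup.map_top_of_surjective _ (QuotientGroup.mk'_surjective N)]
      · rcases hM with h | h
        · exact Or.inl ((Subgroup.le_comap_map _ _).trans (Subgroup.comap_mono h))
        · exact Or.inr ((Subgroup.le_comap_map _ _).trans (Subgroup.comap_mono h))
    · push Not at hq
      obtain ⟨hAN, hBN⟩ := hq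
      have hnorm : ∀ (C : Subgroup G), C ⊔ N = ⊤ → (C ⊓ N).Normal := by
        intro C hC
        have key : ∀ g : G, (∀ x ∈ C ⊓ N, g * x * g⁻¹ ∈ C ⊓ N) →
            g ∈ Subgroup.normalizer ((C ⊓ N : Subgroup G) : Set G) := by
          intro g hg
          rw [mem_normalizer_iff_conj_smul]
          apply conj_smul_eq_of_ge
          intro y hy
          obtain ⟨x, hx, rfl⟩ := (Subgroup.mem_smul_pointwise_iff_exists _ _ _).mp hy
          exact hg x hx
        rw [← Subgroup.normalizer_eq_top_iff, eq_top_iff, ← hC]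
        apply sup_le
        · intro c hc
          apply key
          rintro x ⟨hx1, hx2⟩
          exact ⟨C.mul_mem (C.mul_mem hc hx1) (C.inv_mem hc), hNn.conj_mem x hx2 c⟩
        · intro m hm
          apply key
          rintro x ⟨hx1, hx2⟩
          have e : m * x * m⁻¹ = x := by rw [hN.mul_comm_of_mem hm hx2]; group
          rw [e]
          exact ⟨hx1, hx2⟩
      have htopcase : ∀ (C D : Subgroup G), Group.IsNilpotent C → C ⊔ N = ⊤ → C ⊓ N = N →
          D ≠ ⊤ → ∃ M : Subgroup G, M.Normal ∧ M ≠ ⊤ ∧ D ≤ M := by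
        intro C D hCnil hCN hC0 hD
        have hC : C = ⊤ := by rw [← hCN]; exact (sup_eq_left.mpr (inf_eq_right.mp hC0)).symm
        have e : C ≃* G := hC ▸ Subgroup.topEquiv
        haveI := hCnil
        have hG : Group.IsNilpotent G := Group.nilpotent_of_mulEquiv e
        exact exists_normal_of_nilpotent hG hD
      rcases hN.2.2 (A ⊓ N) (hnorm A hAN) inf_le_right with hA0 | hA0
      · rcases hN.2.2 (B ⊓ N) (hnorm B hBN) inf_le_right with hB0 | hB0
        · have hZ := hk.minNormal_le_center hN hAN hBN hA0 hB0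
          refine ⟨A, ?_, ?_, Or.inl le_rfl⟩
          · rw [← Subgroup.normalizer_eq_top_iff, eq_top_iff, ← hAN]
            exact sup_le Subgroup.le_normalizer
              (fun m hm => (Subgroup.center_le_normalizer (A : Set G)) (hZ hm))
          · intro h
            rw [h, top_inf_eq] at hA0
            exact hN.2.1 hA0
        · -- `B = ⊤`
          have hB : B = ⊤ := by
            rw [← hBN]; exact (sup_eq_left.mpr (inf_eq_right.mp hB0)).symm
          have hA' : A ≠ ⊤ := by
            rcases hpr with h | h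
            · exact h
            · exact absurd hB h
          obtain ⟨M, hMn, hMtop, hM⟩ := htopcase B A hk.nilB hBN hB0 hA'
          exact ⟨M, hMn, hMtop, Or.inl hM⟩
      · have hA : A = ⊤ := by
          rw [← hAN]; exact (sup_eq_left.mpr (inf_eq_right.mp hA0)).symm
        have hB' : B ≠ ⊤ := by
          rcases hpr with h | h
          · exact absurd hA h
          · exact h
        obtain ⟨M, hMn, hMtop, hM⟩ := htopcase A B hk.nilA hAN hA0 hB'
        exact ⟨M, hMn, hMtop, Or.inr hM⟩

/-- `S0565`: a product of two nilpotent subgroups, not both the whole group, has a proper normal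
subgroup containing one of the factors. -/
theorem exists_normal_of_npair {G : Type u} [Group G] [Finite G] (A B : Subgroup G)
    (hk : NPair A B) (hpr : A ≠ ⊤ ∨ B ≠ ⊤) :
    ∃ N : Subgroup G, N.Normal ∧ N ≠ ⊤ ∧ (A ≤ N ∨ B ≤ N) :=
  exists_normal_aux _ G A B hk hpr rfl

end Cfsg.Agent.Lib.Helper13
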