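import Cfsg.Agent.Lib.Helper69.OPbDefs
import Cfsg.Agent.Lib.Helper50.StdForms
import Cfsg.Prelude.Def_GeometricClasses
import Cfsg.Prelude.Def_Classical

/-!
# K-OPb-15 (keystone 598915, pack S5989/S5991, architect helper69)

Bridge between `Cfsg.Geo` and the abstract vocabulary (`NonDeg`, `IsoCls`, `Inv`, `Iso`) for `polarBilin Q`,
scalar isometries, and the standard totally singular subspace of `QPlus`.
-/

set_option autoImplicit false

namespace Cfsg.Agent.Lib.Helper13.OPb

open Module Cfsg.Agent.Lib.Helper98.Elus Cfsg.Agent.Lib.Helper98.Sy Cfsg.Agent.Lib.Helper98.Oh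
  Cfsg.Agent.Lib.Helper69.OPb
open scoped MatrixGroups

universe u
variable {F : Type u} [Field F]

section bridge

variable {ι : Type} [Fintype ι] [DecidableEq ι]

theorem polarBilin_symm (Q : QuadraticForm F (ι → F)) :
    ∀ a b, QuadraticMap.polarBilin Q a b = QuadraticMap.polarBilin Q b a := by
  intro a b
  rw [QuadraticMap.polarBilin_apply_apply, QuadraticMap.polarBilin_apply_apply]
  exact QuadraticMap.polar_comm _ _ _

theorem nonDeg_top_of_nondegenerate (Q : QuadraticForm F (ι → F))
    (hQ : (QuadraticMap.polarBilin Q).Nondegenerate) : NonDeg (QuadraticMap.polarBilin Q) ⊤ := by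
  intro u _ h
  exact hQ.1 u (fun v => h v Submodule.mem_top)

theorem nonDeg_polarBilin_iff (Q : QuadraticForm F (ι → F)) (W : Submodule F (ι → F)) :
    NonDeg (QuadraticMap.polarBilin Q) W ↔ Cfsg.Geo.IsNondegenerateOn (QuadraticMap.polar ⇑Q) W := by
  constructor
  · intro h w hw hw0
    have key : ∃ x ∈ W, QuadraticMap.polar (⇑Q) w x ≠ 0 := by
      by_contra hcon
      push Not at hcon
      apply hw0
      apply h w hw
      intro v hv
      rw [QuadraticMap.polarBilin_apply_apply]
      exact hcon v hv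
    obtain ⟨x, hx, hxw⟩ := key
    refine ⟨⟨x, hx, ?_⟩, ⟨x, hx, hxw⟩⟩
    rw [QuadraticMap.polar_comm]
    exact hxw
  · intro h u hu hu0
    by_contra hne
    obtain ⟨-, x, hx, hxu⟩ := h u hu hne
    apply hxu
    have := hu0 x hx
    rwa [QuadraticMap.polarBilin_apply_apply] at this

theorem isoCls_polarBilin_iff (h2 : (2 : F) ≠ 0) (Q : QuadraticForm F (ι → F)) (W W' : Submodule F (ι → F)) :
    IsoCls (QuadraticMap.polarBilin Q) W W' ↔ Cfsg.Geo.AreIsometricFor ⇑Q W W' := by
  have key : ∀ a b : ι → F, QuadraticMap.polarBilin Q a a = QuadraticMap.polarBilin Q b b ↔ Q a = Q b := by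
    intro a b
    rw [QuadraticMap.polarBilin_apply_apply, QuadraticMap.polarBilin_apply_apply,
      QuadraticMap.polar_self, QuadraticMap.polar_self]
    constructor
    · intro h
      have h' : (2 : F) * Q a = 2 * Q b := by simpa using h
      exact mul_left_cancel₀ h2 h'
    · intro h
      rw [h]
  constructor
  · rintro ⟨e, he⟩
    exact ⟨e, fun w => (key _ _).mp (he w)⟩
  · rintro ⟨e, he⟩
    exact ⟨e, fun w => (key _ _).mpr (he w)⟩

theorem inv_toLin'_iff (A : Matrix ι ι F) (W : Submodule F (ι → F)) :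
    Inv (Matrix.toLin' A) W ↔ W.map (Matrix.toLin' A) ≤ W := by
  rw [Submodule.map_le_iff_le_comap]
  rfl

theorem iso_toLin'_of_mem (Q : QuadraticForm F (ι → F)) (x : GL ι F) (hx : x ∈ Cfsg.isometryGroup F ⇑Q) :
    Iso (QuadraticMap.polarBilin Q) (Matrix.toLin' (x : Matrix ι ι F)) := by
  have hQ : ∀ u : ι → F, Q ((x : Matrix ι ι F).mulVec u) = Q u := fun u => hx u u
  intro u v
  rw [QuadraticMap.polarBilin_apply_apply, QuadraticMap.polarBilin_apply_apply, QuadraticMap.polar,
    QuadraticMap.polar, ← map_add, Matrix.toLin'_apply, Matrix.toLin'_apply, Matrix.toLin'_apply, hQ, hQ, hQ]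

/-- a scalar isometry is `± 1` -/
theorem scalar_eq_of_mem (Q : QuadraticForm F (ι → F)) (hQ : ∃ v, Q v ≠ 0) (x : GL ι F)
    (hx : x ∈ Cfsg.isometryGroup F ⇑Q) (z : F)
    (h : (x : Matrix ι ι F) = z • (1 : Matrix ι ι F)) : z = 1 ∨ z = -1 := by
  obtain ⟨v, hv⟩ := hQ
  have h1 : Q ((x : Matrix ι ι F).mulVec v) = Q v := hx v v
  rw [h, Matrix.smul_mulVec, Matrix.one_mulVec, QuadraticMap.map_smul, smul_eq_mul] at h1
  have h2 : z * z = 1 := by
    have : (z * z - 1) * Q v = 0 := by rw [sub_mul, one_mul, h1, sub_self]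
    rcases mul_eq_zero.mp this with h3 | h3
    · exact sub_eq_zero.mp h3
    · exact absurd h3 hv
  exact mul_self_eq_one_iff.mp h2

/-- the standard maximal totally singular subspace `{v | v ∘ inr = 0}` of the plus form -/
theorem exists_ts_QPlus (d : ℕ) :
    ∃ X : Submodule F (Fin d ⊕ Fin d → F),
      (∀ x ∈ X, QuadraticMap.polarBilin (Cfsg.Agent.Lib.Helper50.QPlus d F) x x = 0) ∧ finrank F X = d := by
  classical
  let L : (Fin d → F) →ₗ[F] (Fin d ⊕ Fin d → F) :=
    { toFun := fun a => Sum.elim a 0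
      map_add' := by
        intro a b
        funext i
        rcases i with i | i <;> simp
      map_smul' := by
        intro c a
        funext i
        rcases i with i | i <;> simp }
  have hL : Function.Injective L := by
    intro a b hab
    funext i
    have := congrFun hab (Sum.inl i)
    simpa [L] using this
  refine ⟨LinearMap.range L, ?_, ?_⟩
  · rintro x ⟨a, rfl⟩
    rw [QuadraticMap.polarBilin_apply_apply, QuadraticMap.polar_self]
    have : (Cfsg.Agent.Lib.Helper50.QPlus d F) (L a) = Cfsg.quadFormPlus d F (L a) := rfl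
    rw [this]
    unfold Cfsg.quadFormPlus
    simp [L]
  · rw [LinearMap.finrank_range_of_inj hL]
    simp

end bridge

end Cfsg.Agent.Lib.Helper13.OPb
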