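import Mathlib
import Cfsg.Prelude.Def_Solvable
import Cfsg.Agent.Lib.Helper77.HallSylow
import Cfsg.Agent.Lib.Helper77.SylowFiber

/-!
Pack K-OTF (S3999, architect helper53), leaf 399911 HALL `hall_card_sylow_of_solvable`:
P. Hall: in a solvable group the number of Sylow `p`-subgroups is a product of prime powers each `≡ 1 mod p`.
Clone of `Cfsg.Agent.S4303.main` (helper77) carrying solvability through the induction.
-/

set_option autoImplicit false
open Cfsg

namespace Cfsg.Agent.Lib.Helper13.OTF

open Cfsg.Agent.Lib.Helper77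

universe u

/-- a product of prime powers each `≡ 1 mod p`. -/
def SGoodProd (p n : ℕ) : Prop := ∃ l : List ℕ, l.prod = n ∧ ∀ m ∈ l, IsPrimePow m ∧ m % p = 1

theorem sGoodProd_one (p : ℕ) : SGoodProd p 1 := ⟨[], rfl, by simp⟩

theorem sGoodProd_mul {p a b : ℕ} (ha : SGoodProd p a) (hb : SGoodProd p b) :
    SGoodProd p (a * b) := by
  obtain ⟨l₁, h₁, g₁⟩ := ha
  obtain ⟨l₂, h₂, g₂⟩ := hb
  refine ⟨l₁ ++ l₂, by rw [List.prod_append, h₁, h₂], ?_⟩
  intro m hm
  rcases List.mem_append.mp hm with h | h
  · exact g₁ m h
  · exact g₂ m h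

theorem sGoodProd_of_qparts {p n : ℕ} (hn : 0 < n)
    (h : ∀ q : ℕ, q.Prime → q ^ (n.factorization q) % p = 1) : SGoodProd p n := by
  refine ⟨n.primeFactors.toList.map (fun q => q ^ n.factorization q), ?_, ?_⟩
  · rw [Finset.prod_map_toList]
    have := Nat.prod_factorization_pow_eq_self hn.ne'
    rw [Finsupp.prod, Nat.support_factorization] at this
    exact this
  · intro m hm
    obtain ⟨q, hq, rfl⟩ := List.mem_map.mp hm
    rw [Finset.mem_toList] at hq
    have hqp : q.Prime := Nat.prime_of_mem_primeFactors hq
    refine ⟨?_, h q hqp⟩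
    have hpos : n.factorization q ≠ 0 := by
      have := (Nat.Prime.factorization_pos_of_dvd hqp hn.ne' (Nat.dvd_of_mem_primeFactors hq))
      omega
    exact hqp.isPrimePow.pow hpos

theorem hall_main (p : ℕ) [Fact p.Prime] : ∀ (n : ℕ) (G : Type u) [Group G] [Finite G]
    [Group.IsSolvable G], Nat.card G = n → SGoodProd p (Nat.card (Sylow p G)) := by
  intro n
  induction n using Nat.strong_induction_on with
  | _ n ih =>
    intro G _ _ _ hcard
    let P : Sylow p G := default
    by_cases hsub : Subsingleton G
    · have h1 : Nat.card G = 1 := Nat.card_eq_one_iff_unique.mpr ⟨hsub, ⟨1⟩⟩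
      have h2 : Nat.card (Sylow p G) ∣ 1 := by
        rw [← h1]
        exact (Sylow.card_dvd_index P).trans (Subgroup.index_dvd_card _)
      rw [Nat.dvd_one.mp h2]
      exact sGoodProd_one p
    haveI : Nontrivial G := not_subsingleton_iff_nontrivial.mp hsub
    by_cases hsimple : IsSimpleGroup G
    · -- a solvable simple group is commutative: its Sylow subgroup is normal
      have hcomm : ∀ a b : G, a * b = b * a :=
        (IsSimpleGroup.comm_iff_isSolvable).mpr inferInstance
      have hPn : (P : Subgroup G).Normal :=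
        ⟨fun x hx g => by rw [hcomm g x, mul_inv_cancel_right]; exact hx⟩
      haveI : Unique (Sylow p G) := Sylow.unique_of_normal P hPn
      rw [Nat.card_unique]
      exact sGoodProd_one p
    obtain ⟨K, hKn, hKbot, hKtop⟩ : ∃ K : Subgroup G, K.Normal ∧ K ≠ ⊥ ∧ K ≠ ⊤ := by
      by_contra hcon
      push Not at hcon
      apply hsimple
      refine ⟨fun H hH => ?_⟩
      by_cases hb : H = ⊥
      · exact Or.inl hb
      · exact Or.inr (hcon H hH hb)
    haveI := hKn
    have hlt_sub : ∀ L : Subgroup G, L ≠ ⊤ → Nat.card L < n := by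
      intro L hL
      rw [← hcard]
      exact lt_of_le_of_ne (Subgroup.card_le_card_group L) (fun h => hL (L.eq_top_of_card_eq h))
    have hlt_quot : ∀ (R : Subgroup G) [R.Normal], R ≠ ⊥ → Nat.card (G ⧸ R) < n := by
      intro R _ hR
      rw [← hcard, Subgroup.card_eq_card_quotient_mul_card_subgroup R]
      have h1 : 1 < Nat.card R := (Subgroup.one_lt_card_iff_ne_bot R).mpr hR
      have h2 : 0 < Nat.card (G ⧸ R) := Nat.card_pos
      nlinarith
    have h1 := card_sylow_eq_quotient_mul K P
    have ihQ : SGoodProd p (Nat.card (Sylow p (G ⧸ K))) := ih _ (hlt_quot K hKbot) (G ⧸ K) rfl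
    by_cases hPK : (P : Subgroup G) ⊔ K = ⊤
    · have h2 := card_sylow_eq_normal_mul K P
      have ihK : SGoodProd p (Nat.card (Sylow p K)) := ih _ (hlt_sub K hKtop) K rfl
      by_cases hN : Subgroup.normalizer (((P : Subgroup G) ⊓ K : Subgroup G) : Set G) = ⊤
      · by_cases hR : (P : Subgroup G) ⊓ K = ⊥
        · have hpK : ¬ p ∣ Nat.card K := by
            obtain ⟨S, hS⟩ := exists_sylow_map_eq_inf K P
            rw [hR] at hS
            have hSbot : (S : Subgroup K) = ⊥ := by
              rw [eq_bot_iff]
              intro x hx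
              have : K.subtype x ∈ (S : Subgroup K).map K.subtype := Subgroup.mem_map_of_mem _ hx
              rw [hS, Subgroup.mem_bot] at this
              rw [Subgroup.mem_bot]
              exact Subtype.ext this
            have hcS := S.card_eq_multiplicity
            rw [hSbot, Subgroup.card_bot] at hcS
            intro hdvd
            have hpos : 0 < (Nat.card K).factorization p :=
              Nat.Prime.factorization_pos_of_dvd (Fact.out) Nat.card_pos.ne' hdvd
            have h3 : 1 < p ^ (Nat.card K).factorization p :=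
              Nat.one_lt_pow hpos.ne' (Fact.out : p.Prime).one_lt
            omega
          exact sGoodProd_of_qparts Nat.card_pos
            (fun q hq => qpart_card_sylow_mod K P hPK hpK q hq)
        · haveI hRn : ((P : Subgroup G) ⊓ K).Normal := Subgroup.normalizer_eq_top_iff.mp hN
          rw [← card_sylow_quotient_pgroup ((P : Subgroup G) ⊓ K) (P.isPGroup'.to_le inf_le_left)]
          exact ih _ (hlt_quot _ hR) (G ⧸ ((P : Subgroup G) ⊓ K)) rfl
      · rw [h2]
        exact sGoodProd_mul ihK (ih _ (hlt_sub _ hN) _ rfl)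
    · rw [h1]
      exact sGoodProd_mul ihQ (ih _ (hlt_sub _ hPK) _ rfl)

/-- LEAF HALL (399911). P. Hall: in a solvable group the number of Sylow `p`-subgroups is
a product of prime powers each `≡ 1 mod p`. -/
theorem hall_card_sylow_of_solvable {G : Type*} [Group G] [Finite G] (hs : Group.IsSolvable G)
    (p : ℕ) [Fact p.Prime] :
    ∃ l : List ℕ, l.prod = Nat.card (Sylow p G) ∧ ∀ m ∈ l, IsPrimePow m ∧ m % p = 1 := by
  haveI := hs
  exact hall_main p (Nat.card G) G rfl

end Cfsg.Agent.Lib.Helper13.OTF
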