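import Cfsg.Agent.Lib.Helper38.OhP.Defs

/-!
# K-OhP-E1 (keystone 597428, architect helper38): a piece of an involution in characteristic two

`g` an isometry of the quadratic form `Q` with `g² = 1`, characteristic two, `U ≠ 0` invariant nondegenerate: `U` contains an
invariant nondegenerate plane, or an invariant nondegenerate plus type `4`-space.
-/

set_option autoImplicit false
set_option linter.unusedSectionVars false
set_option linter.unusedVariables false

namespace Cfsg.Agent.Lib.Helper13.OhP

open Module Cfsg.Agent.Lib.Helper98.Elus Cfsg.Agent.Lib.Helper98.Sy Cfsg.Agent.Lib.Helper38.OhP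

universe u
variable {F : Type u} [Field F] {V : Type u} [AddCommGroup V] [Module F V]

/-- the span of a set mapped into the span is invariant -/
theorem inv_span (g : V →ₗ[F] V) (s : Set V) (h : ∀ x ∈ s, g x ∈ Submodule.span F s) :
    Inv g (Submodule.span F s) := by
  intro x hx
  induction hx using Submodule.span_induction with
  | mem x hx => exact h x hx
  | zero => rw [map_zero]; exact Submodule.zero_mem _
  | add x y _ _ hx hy => rw [map_add]; exact Submodule.add_mem _ hx hy
  | smul a x _ hx => rw [map_smul]; exact Submodule.smul_mem _ a hx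

/-- a pair with nonzero product spans a nondegenerate plane (alternating form) -/
theorem pair_props {B : LinearMap.BilinForm F V} (hA : B.IsAlt) (u v : V) (huv : B u v ≠ 0) :
    NonDeg B (Submodule.span F {u, v}) ∧ finrank F (Submodule.span F ({u, v} : Set V)) = 2 := by
  have huu : B u u = 0 := hA u
  have hvv : B v v = 0 := hA v
  have hvu : B v u ≠ 0 := by
    rw [alt_swap hA]
    exact neg_ne_zero.mpr huv
  have hli : LinearIndependent F ![u, v] := by
    rw [LinearIndependent.pair_iff]
    intro s t hst
    have h1 := congrArg (fun w => B u w) hst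
    simp only [map_add, map_smul, huu, smul_eq_mul, mul_zero, zero_add, map_zero] at h1
    have ht : t = 0 := by
      rcases mul_eq_zero.mp h1 with h | h
      · exact h
      · exact absurd h huv
    have h2 := congrArg (fun w => B v w) hst
    simp only [map_add, map_smul, hvv, smul_eq_mul, mul_zero, add_zero, map_zero] at h2
    have hs : s = 0 := by
      rcases mul_eq_zero.mp h2 with h | h
      · exact h
      · exact absurd h hvu
    exact ⟨hs, ht⟩
  have hrange : Set.range ![u, v] = {u, v} := by
    ext x
    simp only [Matrix.range_cons, Matrix.range_empty, Set.union_empty, Set.mem_union,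
      Set.mem_singleton_iff, Set.mem_insert_iff]
  refine ⟨?_, ?_⟩
  · intro w hw hw'
    obtain ⟨a, b, rfl⟩ := Submodule.mem_span_pair.mp hw
    have h1 := hw' u (Submodule.subset_span (by simp))
    have h2 := hw' v (Submodule.subset_span (by simp))
    simp only [LinearMap.add_apply, LinearMap.smul_apply, map_add, map_smul, huu, hvv, smul_eq_mul,
      mul_zero, zero_add, add_zero] at h1 h2
    have hb : b = 0 := by
      rcases mul_eq_zero.mp h1 with h | h
      · exact h
      · exact absurd h hvu
    have ha : a = 0 := by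
      rcases mul_eq_zero.mp h2 with h | h
      · exact h
      · exact absurd h huv
    rw [ha, hb, zero_smul, zero_smul, add_zero]
  · rw [← hrange, finrank_span_eq_card hli]
    simp

/-- the four vectors `u, v, w, w'` with Gram matrix `[[0,γ,0,β],[γ,0,β,0],[0,β,0,0],[β,0,0,0]]` -/
theorem four_key {B : LinearMap.BilinForm F V} (hS : ∀ a b, B a b = B b a) (hA : B.IsAlt)
    (u v w w' : V) (β : F) (hβ : β ≠ 0) (h_uw : B u w = 0) (h_uw' : B u w' = β)
    (h_vw : B v w = β) (h_vw' : B v w' = 0) (h_ww' : B w w' = 0) (a b c d : F)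
    (h1 : B (a • u + b • v + c • w + d • w') w' = 0)
    (h2 : B (a • u + b • v + c • w + d • w') w = 0)
    (h3 : B (a • u + b • v + c • w + d • w') v = 0)
    (h4 : B (a • u + b • v + c • w + d • w') u = 0) :
    a = 0 ∧ b = 0 ∧ c = 0 ∧ d = 0 := by
  have e1 : B w' w' = 0 := hA w'
  have e2 : B w w = 0 := hA w
  have e3 : B v v = 0 := hA v
  have e4 : B u u = 0 := hA u
  have e5 : B w' w = 0 := by rw [hS, h_ww']
  have e6 : B w v = β := by rw [hS, h_vw]
  have e7 : B w' v = 0 := by rw [hS, h_vw']
  have e8 : B w u = 0 := by rw [hS, h_uw]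
  have e9 : B w' u = β := by rw [hS, h_uw']
  have e10 : B v u = B u v := hS v u
  simp only [LinearMap.add_apply, LinearMap.smul_apply, map_add, map_smul, smul_eq_mul, h_uw, h_uw',
    h_vw, h_vw', h_ww', e1, e2, e3, e4, e5, e6, e7, e8, e9, e10, mul_zero, add_zero, zero_add]
    at h1 h2 h3 h4
  have ha : a = 0 := by
    rcases mul_eq_zero.mp h1 with h | h
    · exact h
    · exact absurd h hβ
  have hb : b = 0 := by
    rcases mul_eq_zero.mp h2 with h | h
    · exact h
    · exact absurd h hβ
  rw [ha, zero_mul, zero_add] at h3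
  rw [hb, zero_mul, zero_add] at h4
  have hc : c = 0 := by
    rcases mul_eq_zero.mp h3 with h | h
    · exact h
    · exact absurd h hβ
  have hd : d = 0 := by
    rcases mul_eq_zero.mp h4 with h | h
    · exact h
    · exact absurd h hβ
  exact ⟨ha, hb, hc, hd⟩

theorem four_props {B : LinearMap.BilinForm F V} (hS : ∀ a b, B a b = B b a) (hA : B.IsAlt)
    (u v w w' : V) (β : F) (hβ : β ≠ 0) (h_uw : B u w = 0) (h_uw' : B u w' = β)
    (h_vw : B v w = β) (h_vw' : B v w' = 0) (h_ww' : B w w' = 0) :
    NonDeg B (Submodule.span F (Set.range ![u, v, w, w'])) ∧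
      finrank F (Submodule.span F (Set.range ![u, v, w, w'])) = 4 ∧
      finrank F (Submodule.span F ({w, w'} : Set V)) = 2 := by
  have hmem : ∀ i : Fin 4, ![u, v, w, w'] i ∈ Submodule.span F (Set.range ![u, v, w, w']) :=
    fun i => Submodule.subset_span ⟨i, rfl⟩
  have hli : LinearIndependent F ![u, v, w, w'] := by
    rw [Fintype.linearIndependent_iff]
    intro c hc
    rw [Fin.sum_univ_four] at hc
    simp only [Matrix.cons_val_zero, Matrix.cons_val_one, Matrix.cons_val_two,
      Matrix.cons_val_three, Matrix.head_cons, Matrix.tail_cons] at hc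
    have hk := four_key hS hA u v w w' β hβ h_uw h_uw' h_vw h_vw' h_ww' (c 0) (c 1) (c 2) (c 3)
      (by rw [hc]; simp) (by rw [hc]; simp) (by rw [hc]; simp) (by rw [hc]; simp)
    intro i
    fin_cases i
    · exact hk.1
    · exact hk.2.1
    · exact hk.2.2.1
    · exact hk.2.2.2
  refine ⟨?_, ?_, ?_⟩
  · intro x hx hx'
    obtain ⟨c, rfl⟩ := (Submodule.mem_span_range_iff_exists_fun F).mp hx
    rw [Fin.sum_univ_four] at hx' ⊢
    simp only [Matrix.cons_val_zero, Matrix.cons_val_one, Matrix.cons_val_two,
      Matrix.cons_val_three, Matrix.head_cons, Matrix.tail_cons] at hx' ⊢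
    have hk := four_key hS hA u v w w' β hβ h_uw h_uw' h_vw h_vw' h_ww' (c 0) (c 1) (c 2) (c 3)
      (hx' w' (hmem 3)) (hx' w (hmem 2)) (hx' v (hmem 1)) (hx' u (hmem 0))
    rw [hk.1, hk.2.1, hk.2.2.1, hk.2.2.2]
    simp
  · rw [finrank_span_eq_card hli]
    simp
  · have hli2 : LinearIndependent F ![w, w'] := by
      rw [LinearIndependent.pair_iff]
      intro s t hst
      have hk := four_key hS hA u v w w' β hβ h_uw h_uw' h_vw h_vw' h_ww' 0 0 s t
        (by rw [zero_smul, zero_smul, zero_add, zero_add, hst]; simp)
        (by rw [zero_smul, zero_smul, zero_add, zero_add, hst]; simp)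
        (by rw [zero_smul, zero_smul, zero_add, zero_add, hst]; simp)
        (by rw [zero_smul, zero_smul, zero_add, zero_add, hst]; simp)
      exact ⟨hk.2.2.1, hk.2.2.2⟩
    have hrange : Set.range ![w, w'] = {w, w'} := by
      ext x
      simp only [Matrix.range_cons, Matrix.range_empty, Set.union_empty, Set.mem_union,
        Set.mem_singleton_iff, Set.mem_insert_iff]
    rw [← hrange, finrank_span_eq_card hli2]
    simp

/-- LEAF E1 (597428) -/
theorem exists_piece_char2 [CharP F 2] [FiniteDimensional F V] (Q : QuadraticForm F V)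
    (g : V →ₗ[F] V) (hg : g * g = 1) (hiso : QIso Q g)
    (U : Submodule F V) (hU : Inv g U) (hUnd : NonDeg (pB Q) U) (hUne : U ≠ ⊥) :
    ∃ P : Submodule F V, P ≤ U ∧ Inv g P ∧ NonDeg (pB Q) P ∧
      (finrank F P = 2 ∨ (finrank F P = 4 ∧ PlusQ Q P)) := by
  classical
  have h2 : (2 : F) = 0 := CharTwo.two_eq_zero
  have hFF : ∀ x : F, x + x = 0 := fun x => CharTwo.add_self_eq_zero x
  have hVV : ∀ x : V, x + x = 0 := fun x => by rw [← two_smul F x, h2, zero_smul]
  have hA : (pB Q).IsAlt := fun a => by rw [pB_self, h2, zero_mul]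
  have hS : ∀ a b, pB Q a b = pB Q b a := pB_symm Q
  have hI : ∀ a b, pB Q (g a) (g b) = pB Q a b := hiso.iso
  have hgg : ∀ x, g (g x) = x := fun x => by
    have := LinearMap.congr_fun hg x
    simpa using this
  have hQadd : ∀ a b, Q (a + b) = Q a + Q b + pB Q a b := fun a b => by rw [pB_apply]; ring
  by_cases hB : ∃ u ∈ U, pB Q u (g u) ≠ 0
  · -- case (ii)
    obtain ⟨u, hu, hne⟩ := hB
    obtain ⟨hnd, hfr⟩ := pair_props hA u (g u) hne
    refine ⟨Submodule.span F {u, g u}, ?_, ?_, hnd, Or.inl hfr⟩
    · apply Submodule.span_le.mpr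
      rintro x (rfl | rfl)
      · exact hu
      · exact hU _ hu
    · apply inv_span
      rintro x (rfl | rfl)
      · exact Submodule.subset_span (by simp)
      · rw [hgg]; exact Submodule.subset_span (by simp)
  · push Not at hB
    by_cases hC : ∀ u ∈ U, g u = u
    · -- case (i)
      obtain ⟨H, hHU, hHnd, hHd⟩ := exists_plane hA U hUnd hUne
      refine ⟨H, hHU, ?_, hHnd, Or.inl hHd⟩
      intro x hx
      rw [hC x (hHU hx)]
      exact hx
    · -- case (iii)
      push Not at hC
      obtain ⟨u, hu, hgu⟩ := hC
      set w : V := g u + u with hw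
      have hwU : w ∈ U := Submodule.add_mem _ (hU _ hu) hu
      have hw0 : w ≠ 0 := by
        intro h0
        apply hgu
        have : g u = (g u + u) + u := by rw [add_assoc, hVV, add_zero]
        rw [this, ← hw, h0, zero_add]
      have : ∃ v ∈ U, pB Q w v ≠ 0 := by
        by_contra h
        push Not at h
        exact hw0 (hUnd w hwU h)
      obtain ⟨v, hv, hβ⟩ := this
      set β : F := pB Q w v with hβdef
      set w' : V := g v + v with hw'
      have hw'U : w' ∈ U := Submodule.add_mem _ (hU _ hv) hv
      have h_vw : pB Q v w = β := by rw [hS]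
      have h_uw : pB Q u w = 0 := by
        rw [hw, map_add, hB u hu, hA u, add_zero]
      have h_vw' : pB Q v w' = 0 := by
        rw [hw', map_add, hB v hv, hA v, add_zero]
      have h_ugv : pB Q u (g v) = pB Q (g u) v := by
        rw [← hI u (g v), hgg]
      have h_uw' : pB Q u w' = β := by
        rw [hw', map_add, h_ugv, hβdef, hw, map_add, LinearMap.add_apply]
      have h_ww' : pB Q w w' = 0 := by
        rw [hw, hw']
        simp only [map_add, LinearMap.add_apply]
        rw [hI, h_ugv]
        linear_combination (hFF (pB Q u v)) + (hFF (pB Q (g u) v))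
      have hQw : Q w = 0 := by
        rw [hw, hQadd, hiso u, hFF, zero_add, hS, hB u hu]
      have hQw' : Q w' = 0 := by
        rw [hw', hQadd, hiso v, hFF, zero_add, hS, hB v hv]
      have hgw : g w = w := by
        rw [hw, map_add, hgg, add_comm]
      have hgw' : g w' = w' := by
        rw [hw', map_add, hgg, add_comm]
      have hgu' : g u = w + u := by
        rw [hw, add_assoc, hVV, add_zero]
      have hgv' : g v = w' + v := by
        rw [hw', add_assoc, hVV, add_zero]
      obtain ⟨hnd, hfr4, hfr2⟩ := four_props hS hA u v w w' β hβ h_uw h_uw' h_vw h_vw' h_ww'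
      have hmem : ∀ i : Fin 4, ![u, v, w, w'] i ∈ Submodule.span F (Set.range ![u, v, w, w']) :=
        fun i => Submodule.subset_span ⟨i, rfl⟩
      refine ⟨Submodule.span F (Set.range ![u, v, w, w']), ?_, ?_, hnd, Or.inr ⟨hfr4, ?_⟩⟩
      · apply Submodule.span_le.mpr
        rintro x ⟨i, rfl⟩
        fin_cases i
        · exact hu
        · exact hv
        · exact hwU
        · exact hw'U
      · apply inv_span
        rintro x ⟨i, rfl⟩
        fin_cases i
        · show g u ∈ _
          rw [hgu']
          exact Submodule.add_mem _ (hmem 2) (hmem 0)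
        · show g v ∈ _
          rw [hgv']
          exact Submodule.add_mem _ (hmem 3) (hmem 1)
        · show g w ∈ _
          rw [hgw]
          exact hmem 2
        · show g w' ∈ _
          rw [hgw']
          exact hmem 3
      · refine ⟨Submodule.span F {w, w'}, ?_, ?_, ?_⟩
        · apply Submodule.span_le.mpr
          rintro x (rfl | rfl)
          · exact hmem 2
          · exact hmem 3
        · intro x hx
          obtain ⟨s, t, rfl⟩ := Submodule.mem_span_pair.mp hx
          rw [hQadd, QuadraticMap.map_smul, QuadraticMap.map_smul, hQw, hQw']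
          simp only [map_smul, LinearMap.smul_apply, smul_eq_mul, h_ww', mul_zero, add_zero]
        · rw [hfr2, hfr4]

end Cfsg.Agent.Lib.Helper13.OhP
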