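import Cfsg.Agent.Lib.Helper38.OhP.Defs
import Cfsg.Agent.Lib.Helper13.OhPE1

/-!
# K-OhP-I2 (keystone 597425, architect helper38): `x² = -1`, `-1 = ω²`

An isometry `x` of a nondegenerate quadratic space (`2 ≠ 0`) with `x² = -1`, where `-1` is a square in `F`, fixes a
nondegenerate plus type subspace of every even dimension `m ≤ dim V`.  Proof: split off invariant hyperbolic planes
`⟨e, f⟩`, `x e = ω' e`, `x f = -ω' f` (`ω' = ± ω`) one at a time.
-/

set_option autoImplicit false
set_option linter.unusedSectionVars false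
set_option linter.unusedVariables false

namespace Cfsg.Agent.Lib.Helper13.OhP

open Module Cfsg.Agent.Lib.Helper98.Elus Cfsg.Agent.Lib.Helper98.Sy Cfsg.Agent.Lib.Helper38.OhP

universe u
variable {F : Type u} [Field F] {V : Type u} [AddCommGroup V] [Module F V]

/-- a pair of isotropic vectors with nonzero product spans a nondegenerate plane (symmetric form) -/
theorem pair_props' {B : LinearMap.BilinForm F V} (hS : ∀ a b, B a b = B b a) (u v : V)
    (huu : B u u = 0) (hvv : B v v = 0) (huv : B u v ≠ 0) :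
    NonDeg B (Submodule.span F {u, v}) ∧ finrank F (Submodule.span F ({u, v} : Set V)) = 2 := by
  have hvu : B v u ≠ 0 := by rw [hS]; exact huv
  have hli : LinearIndependent F ![u, v] := by
    rw [LinearIndependent.pair_iff]
    intro s t hst
    have h1 := congrArg (fun w => B u w) hst
    simp only [map_add, map_smul, huu, smul_eq_mul, mul_zero, zero_add, map_zero] at h1
    have ht : t = 0 := by
      rcases mul_eq_zero.mp h1 with h | h
      · exact h
      · exact absurd h huv
    have h2 := congrArg (fun w => B v w) hst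
    simp only [map_add, map_smul, hvv, smul_eq_mul, mul_zero, add_zero, map_zero] at h2
    have hs : s = 0 := by
      rcases mul_eq_zero.mp h2 with h | h
      · exact h
      · exact absurd h hvu
    exact ⟨hs, ht⟩
  have hrange : Set.range ![u, v] = {u, v} := by
    ext x
    simp only [Matrix.range_cons, Matrix.range_empty, Set.union_empty, Set.mem_union,
      Set.mem_singleton_iff, Set.mem_insert_iff]
  refine ⟨?_, ?_⟩
  · intro w hw hw'
    obtain ⟨a, b, rfl⟩ := Submodule.mem_span_pair.mp hw
    have h1 := hw' u (Submodule.subset_span (by simp))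
    have h2 := hw' v (Submodule.subset_span (by simp))
    simp only [LinearMap.add_apply, LinearMap.smul_apply, map_add, map_smul, huu, hvv, smul_eq_mul,
      mul_zero, zero_add, add_zero] at h1 h2
    have hb : b = 0 := by
      rcases mul_eq_zero.mp h1 with h | h
      · exact h
      · exact absurd h hvu
    have ha : a = 0 := by
      rcases mul_eq_zero.mp h2 with h | h
      · exact h
      · exact absurd h huv
    rw [ha, hb, zero_smul, zero_smul, add_zero]
  · rw [← hrange, finrank_span_eq_card hli]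
    simp

/-- `x c + ω c` is an eigenvector for `ω` when `x² = -1 = ω²` -/
theorem eig_of_sq (x : V →ₗ[F] V) (hxx : ∀ v, x (x v) = -v) (ω : F) (hω : ω * ω = -1) (c : V) :
    x (x c + ω • c) = ω • (x c + ω • c) := by
  rw [map_add, map_smul, hxx, smul_add, smul_smul, hω, neg_one_smul, add_comm]

/-- eigenvectors of an isometry for an eigenvalue `ω`, `ω² = -1`, are singular -/
theorem sing_of_eig (h2 : (2 : F) ≠ 0) (Q : QuadraticForm F V) (x : V →ₗ[F] V) (hiso : QIso Q x)
    (ω : F) (hω : ω * ω = -1) (e : V) (he : x e = ω • e) : Q e = 0 := by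
  have h := hiso e
  rw [he, QuadraticMap.map_smul, hω, smul_eq_mul] at h
  have h3 : 2 * Q e = 0 := by linear_combination -h
  rcases mul_eq_zero.mp h3 with h4 | h4
  · exact absurd h4 h2
  · exact h4

/-- two eigenvectors for the same eigenvalue `ω`, `ω² = -1`, are orthogonal -/
theorem ortho_of_eig (h2 : (2 : F) ≠ 0) (Q : QuadraticForm F V) (x : V →ₗ[F] V) (hiso : QIso Q x)
    (ω : F) (hω : ω * ω = -1) (a b : V) (ha : x a = ω • a) (hb : x b = ω • b) : pB Q a b = 0 := by
  have h := hiso.iso a b
  rw [ha, hb] at h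
  simp only [map_smul, LinearMap.smul_apply, smul_eq_mul] at h
  rw [← mul_assoc, hω] at h
  have h3 : 2 * pB Q a b = 0 := by linear_combination -h
  rcases mul_eq_zero.mp h3 with h4 | h4
  · exact absurd h4 h2
  · exact h4

theorem split_aux (h2 : (2 : F) ≠ 0) [FiniteDimensional F V]
    (Q : QuadraticForm F V) (hV : NonDeg (pB Q) ⊤) (x : V →ₗ[F] V) (hx : x * x = -1)
    (hiso : QIso Q x) (ω : F) (hω : ω * ω = -1) :
    ∀ k : ℕ, 2 * k ≤ finrank F V → ∃ W T : Submodule F V, Inv x W ∧ NonDeg (pB Q) W ∧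
      finrank F W = 2 * k ∧ T ≤ W ∧ (∀ t ∈ T, Q t = 0) ∧ finrank F T = k := by
  classical
  have hS : ∀ a b, pB Q a b = pB Q b a := pB_symm Q
  have hR := Cfsg.Agent.Lib.Helper98.Os.isRefl_of_symm hS
  have hxx : ∀ v, x (x v) = -v := fun v => by
    have := LinearMap.congr_fun hx v
    simpa using this
  have hBx : ∀ a b, pB Q (x a) (x b) = pB Q a b := hiso.iso
  have hQadd : ∀ a b, Q (a + b) = Q a + Q b + pB Q a b := fun a b => by rw [pB_apply]; ring
  have hω0 : ω ≠ 0 := by
    intro h
    rw [h, mul_zero] at hω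
    exact one_ne_zero (neg_eq_zero.mp hω.symm)
  have hωn : (-ω) * (-ω) = -1 := by rw [neg_mul_neg, hω]
  intro k
  induction k with
  | zero =>
    intro _
    refine ⟨⊥, ⊥, ?_, Cfsg.Agent.Lib.Helper98.Os.nonDeg_bot, by simp, le_rfl, ?_, by simp⟩
    · intro v hv
      rw [(Submodule.mem_bot F).mp hv, map_zero]
      exact Submodule.zero_mem _
    · intro t ht
      rw [(Submodule.mem_bot F).mp ht, map_zero]
  | succ k ih =>
    intro hk
    obtain ⟨W, T, hWinv, hWnd, hWd, hTW, hTQ, hTd⟩ := ih (by omega)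
    obtain ⟨c1, c2, c3, c4⟩ := Cfsg.Agent.Lib.Helper98.Os.compl_props hR W ⊤ hWnd le_top hV
    rw [inf_top_eq] at c1 c2 c3 c4
    have hCd : finrank F ↥((pB Q).orthogonal W) = finrank F V - 2 * k := by
      rw [finrank_top] at c4; omega
    have hCne : (pB Q).orthogonal W ≠ ⊥ := by
      intro h
      rw [h, finrank_bot] at hCd
      omega
    have hCmem : ∀ c, c ∈ (pB Q).orthogonal W ↔ ∀ n ∈ W, pB Q n c = 0 := fun c =>
      LinearMap.BilinForm.mem_orthogonal_iff
    have hCinv : Inv x ((pB Q).orthogonal W) := by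
      intro c hc
      rw [hCmem] at hc ⊢
      intro n hn
      have h1 : pB Q n (x c) = pB Q (x (-(x n))) (x c) := by rw [map_neg, hxx, neg_neg]
      rw [h1, hBx]
      exact hc _ (Submodule.neg_mem _ (hWinv _ hn))
    -- an eigenvector in the complement
    have hex : ∃ ω' : F, ω' * ω' = -1 ∧ ∃ e ∈ (pB Q).orthogonal W, e ≠ 0 ∧ x e = ω' • e := by
      obtain ⟨c, hc, hc0⟩ := Submodule.exists_mem_ne_zero_of_ne_bot hCne
      by_cases hp : x c + ω • c = 0
      · refine ⟨-ω, hωn, x c + (-ω) • c, ?_, ?_, eig_of_sq x hxx (-ω) hωn c⟩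
        · exact Submodule.add_mem _ (hCinv c hc) (Submodule.smul_mem _ _ hc)
        · intro hm
          apply hc0
          have h3 : (2 * ω) • c = 0 := by
            have : (2 * ω) • c = (x c + ω • c) - (x c + (-ω) • c) := by
              rw [two_mul, add_smul, neg_smul]; abel
            rw [this, hp, hm, sub_zero]
          rcases smul_eq_zero.mp h3 with h4 | h4
          · exact absurd h4 (mul_ne_zero h2 hω0)
          · exact h4
      · exact ⟨ω, hω, x c + ω • c, Submodule.add_mem _ (hCinv c hc) (Submodule.smul_mem _ _ hc),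
          hp, eig_of_sq x hxx ω hω c⟩
    obtain ⟨ω', hω', e, heC, he0, hxe⟩ := hex
    have hω'0 : ω' ≠ 0 := by
      intro h
      rw [h, mul_zero] at hω'
      exact one_ne_zero (neg_eq_zero.mp hω'.symm)
    have hω'n : (-ω') * (-ω') = -1 := by rw [neg_mul_neg, hω']
    have hQe : Q e = 0 := sing_of_eig h2 Q x hiso ω' hω' e hxe
    have hexf : ∃ f₀ ∈ (pB Q).orthogonal W, pB Q e f₀ ≠ 0 := by
      by_contra h
      push Not at h
      exact he0 (c3 e heC h)
    obtain ⟨f₀, hf₀C, hef₀⟩ := hexf
    have hfp : x (x f₀ + ω' • f₀) = ω' • (x f₀ + ω' • f₀) := eig_of_sq x hxx ω' hω' f₀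
    have hxf : x (x f₀ + (-ω') • f₀) = (-ω') • (x f₀ + (-ω') • f₀) := eig_of_sq x hxx (-ω') hω'n f₀
    have hfC : x f₀ + (-ω') • f₀ ∈ (pB Q).orthogonal W :=
      Submodule.add_mem _ (hCinv f₀ hf₀C) (Submodule.smul_mem _ _ hf₀C)
    have e1 : pB Q e (x f₀) + ω' * pB Q e f₀ = 0 := by
      have := ortho_of_eig h2 Q x hiso ω' hω' e (x f₀ + ω' • f₀) hxe hfp
      simpa [map_add, map_smul] using this
    have e2 : pB Q e (x f₀ + (-ω') • f₀) = pB Q e (x f₀) + (-ω') * pB Q e f₀ := by
      simp [map_add, map_smul]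
    have hef : pB Q e (x f₀ + (-ω') • f₀) ≠ 0 := by
      rw [e2]
      intro h
      have h3 : (2 * ω') * pB Q e f₀ = 0 := by linear_combination e1 - h
      rcases mul_eq_zero.mp h3 with h4 | h4
      · exact absurd h4 (mul_ne_zero h2 hω'0)
      · exact hef₀ h4
    set f : V := x f₀ + (-ω') • f₀ with hf
    have hQf : Q f = 0 := sing_of_eig h2 Q x hiso (-ω') hω'n f hxf
    have hee : pB Q e e = 0 := by rw [pB_self, hQe, mul_zero]
    have hff : pB Q f f = 0 := by rw [pB_self, hQf, mul_zero]
    obtain ⟨hPnd, hPd⟩ := pair_props' hS e f hee hff hef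
    have hPC : Submodule.span F {e, f} ≤ (pB Q).orthogonal W := by
      apply Submodule.span_le.mpr
      rintro y (rfl | rfl)
      · exact heC
      · exact hfC
    have hPinv : Inv x (Submodule.span F {e, f}) := by
      apply inv_span
      rintro y (rfl | rfl)
      · rw [hxe]
        exact Submodule.smul_mem _ _ (Submodule.subset_span (by simp))
      · rw [hxf]
        exact Submodule.smul_mem _ _ (Submodule.subset_span (by simp))
    have hort : Ort (pB Q) W (Submodule.span F {e, f}) := by
      intro a ha b hb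
      exact (hCmem b).mp (hPC hb) a ha
    refine ⟨W ⊔ Submodule.span F {e, f}, T ⊔ Submodule.span F {e}, ?_, ?_, ?_, ?_, ?_, ?_⟩
    · intro v hv
      obtain ⟨a, ha, b, hb, rfl⟩ := Submodule.mem_sup.mp hv
      rw [map_add]
      exact Submodule.add_mem _ (Submodule.mem_sup_left (hWinv a ha))
        (Submodule.mem_sup_right (hPinv b hb))
    · exact (Cfsg.Agent.Lib.Helper98.Os.nonDeg_sup hR W _ hWnd hPnd hort).1
    · rw [Cfsg.Agent.Lib.Helper98.Os.finrank_sup_of_ort hR W _ hWnd hPnd hort, hWd, hPd]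
      ring
    · apply sup_le_sup hTW
      apply Submodule.span_le.mpr
      rintro y rfl
      exact Submodule.subset_span (by simp)
    · intro t ht
      obtain ⟨a, ha, b, hb, rfl⟩ := Submodule.mem_sup.mp ht
      obtain ⟨s, rfl⟩ := Submodule.mem_span_singleton.mp hb
      have hae : pB Q a e = 0 := (hCmem e).mp heC a (hTW ha)
      rw [hQadd, hTQ a ha, QuadraticMap.map_smul, hQe, map_smul, hae]
      simp
    · have h := Submodule.finrank_sup_add_finrank_inf_eq T (Submodule.span F {e})
      have hbot : T ⊓ Submodule.span F {e} = ⊥ := by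
        rw [eq_bot_iff, ← c2]
        apply inf_le_inf hTW
        apply Submodule.span_le.mpr
        rintro y rfl
        exact heC
      rw [hbot, finrank_bot, finrank_span_singleton he0, hTd] at h
      omega

/-- LEAF I2 (597425) -/
theorem exists_fixed_sq_neg_one_split [Fintype F] (h2 : (2 : F) ≠ 0) [FiniteDimensional F V]
    (Q : QuadraticForm F V) (hV : NonDeg (pB Q) ⊤) (x : V →ₗ[F] V) (hx : x * x = -1)
    (hiso : QIso Q x) (ω : F) (hω : ω * ω = -1) (m : ℕ) (hme : Even m) (hm : m ≤ finrank F V) :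
    ∃ W : Submodule F V, Inv x W ∧ NonDeg (pB Q) W ∧ finrank F W = m ∧ PlusQ Q W := by
  obtain ⟨k, hk⟩ := hme
  obtain ⟨W, T, hWinv, hWnd, hWd, hTW, hTQ, hTd⟩ :=
    split_aux h2 Q hV x hx hiso ω hω k (by omega)
  exact ⟨W, hWinv, hWnd, by omega, T, hTW, hTQ, by omega⟩

end Cfsg.Agent.Lib.Helper13.OhP
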