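import Mathlib
import Cfsg.Agent.Lib.Helper48.RSpDefs

/-!
# K-RSp leaf P3 (keystone 228112, row S2281, architect helper48): the base of the induction in
characteristic `2`, `n ≥ 3` (pure linear algebra).
-/

set_option autoImplicit false

namespace Cfsg.Agent.Lib.Helper13.RSp

open Matrix Cfsg.Agent.Lib.Helper48.RSp

section basics

variable {m : ℕ} {F : Type*} [Field F]

/-- the basis vector `e_a` -/
def p3e (a : Fin (m + 2)) : Fin (m + 2) → F := Pi.single a 1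

/-- the matrix unit `E_ab` -/
def p3E (a b : Fin (m + 2)) : SM m F := vecMulVec (p3e a) (p3e b)

/-- `B_ab = E_ab + E_ba` -/
def p3B (a b : Fin (m + 2)) : SM m F := p3E a b + p3E b a

/-- `S ↦ U S Uᵀ - S` -/
def p3DU (S : SM m F) : SM m F := Uup m F * S * (Uup m F)ᵀ - S

/-- `S ↦ L S Lᵀ - S` -/
def p3DL (δ : Fin (m + 2) → F) (S : SM m F) : SM m F := Lbi m δ * S * (Lbi m δ)ᵀ - S

theorem p3E_apply (a b i j : Fin (m + 2)) :
    (p3E a b : SM m F) i j = if i = a ∧ j = b then 1 else 0 := by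
  simp only [p3E, p3e, vecMulVec_apply, Pi.single_apply]
  split_ifs <;> simp_all

theorem p3E_transpose (a b : Fin (m + 2)) : (p3E a b : SM m F)ᵀ = p3E b a := by
  ext i j
  simp only [Matrix.transpose_apply, p3E_apply]
  simp only [and_comm]

theorem p3B_transpose (a b : Fin (m + 2)) : (p3B a b : SM m F)ᵀ = p3B a b := by
  simp only [p3B, Matrix.transpose_add, p3E_transpose, add_comm]

theorem p3_conj (M : SM m F) (v w : Fin (m + 2) → F) :
    M * vecMulVec v w * Mᵀ = vecMulVec (M *ᵥ v) (M *ᵥ w) := by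
  rw [Matrix.mul_vecMulVec, Matrix.vecMulVec_mul, Matrix.vecMul_transpose]

theorem p3DU_add (S T : SM m F) : p3DU (S + T) = p3DU S + p3DU T := by
  simp only [p3DU, Matrix.mul_add, Matrix.add_mul]
  abel

theorem p3DU_smul (c : F) (S : SM m F) : p3DU (c • S) = c • p3DU S := by
  simp only [p3DU, Matrix.mul_smul, Matrix.smul_mul, smul_sub]

theorem p3DL_add (δ : Fin (m + 2) → F) (S T : SM m F) : p3DL δ (S + T) = p3DL δ S + p3DL δ T := by
  simp only [p3DL, Matrix.mul_add, Matrix.add_mul]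
  abel

theorem p3DL_smul (δ : Fin (m + 2) → F) (c : F) (S : SM m F) : p3DL δ (c • S) = c • p3DL δ S := by
  simp only [p3DL, Matrix.mul_smul, Matrix.smul_mul, smul_sub]

theorem p3DU_E (a b : Fin (m + 2)) :
    p3DU (p3E a b : SM m F) = vecMulVec (Uup m F *ᵥ p3e a) (Uup m F *ᵥ p3e b) - p3E a b := by
  rw [p3DU, p3E, p3_conj]

theorem p3DL_E (δ : Fin (m + 2) → F) (a b : Fin (m + 2)) :
    p3DL δ (p3E a b : SM m F) = vecMulVec (Lbi m δ *ᵥ p3e a) (Lbi m δ *ᵥ p3e b) - p3E a b := by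
  rw [p3DL, p3E, p3_conj]

theorem p3_U_zero : Uup m F *ᵥ p3e (0 : Fin (m + 2)) = p3e 0 := by
  funext i
  rw [p3e, Matrix.mulVec_single_one]
  simp only [Matrix.col_apply, Uup, Nup, Matrix.add_apply, Matrix.one_apply, Pi.single_apply]
  simp

theorem p3_U_succ (a : Fin (m + 2)) (h : a.val + 1 < m + 2) :
    Uup m F *ᵥ p3e ⟨a.val + 1, h⟩ = p3e ⟨a.val + 1, h⟩ + p3e a := by
  funext i
  rw [p3e, Matrix.mulVec_single_one]
  simp only [Matrix.col_apply, Uup, Nup, Matrix.add_apply, Matrix.one_apply, Pi.add_apply, p3e,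
    Pi.single_apply]
  congr 1
  simp [Fin.ext_iff]

theorem p3_L_succ (δ : Fin (m + 2) → F) (a : Fin (m + 2)) (h : a.val + 1 < m + 2) :
    Lbi m δ *ᵥ p3e a = p3e a + δ a • p3e ⟨a.val + 1, h⟩ := by
  funext i
  rw [p3e, Matrix.mulVec_single_one]
  simp only [Matrix.col_apply, Lbi, Pi.add_apply, Pi.smul_apply, p3e, Pi.single_apply, smul_eq_mul]
  by_cases h1 : i = a
  · subst h1
    simp [Fin.ext_iff]
  · by_cases h2 : a.val + 1 = i.val
    · have e : i = ⟨a.val + 1, h⟩ := Fin.ext h2.symm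
      subst e
      simp [Fin.ext_iff]
    · have e : i ≠ ⟨a.val + 1, h⟩ := fun e => h2 (by rw [e])
      simp [h1, h2, e]

end basics


section comp

variable {m : ℕ} {F : Type*} [Field F]

/-- the index `2` (needs `n ≥ 3`) -/
def p3two (hm : 1 ≤ m) : Fin (m + 2) := ⟨2, by omega⟩

theorem p3_U1 : Uup m F *ᵥ p3e (1 : Fin (m + 2)) = p3e 1 + p3e 0 := by
  have h : (0 : Fin (m + 2)).val + 1 < m + 2 := by simp
  have e : (⟨(0 : Fin (m + 2)).val + 1, h⟩ : Fin (m + 2)) = 1 := Fin.ext (by simp)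
  have := p3_U_succ (F := F) (0 : Fin (m + 2)) h
  rwa [e] at this

theorem p3_U2 (hm : 1 ≤ m) : Uup m F *ᵥ p3e (p3two hm) = p3e (p3two hm) + p3e 1 := by
  have h : (1 : Fin (m + 2)).val + 1 < m + 2 := by rw [Fin.val_one]; omega
  have e : (⟨(1 : Fin (m + 2)).val + 1, h⟩ : Fin (m + 2)) = p3two hm :=
    Fin.ext (by simp [p3two, Fin.val_one])
  have := p3_U_succ (F := F) (1 : Fin (m + 2)) h
  rwa [e] at this

theorem p3_L0 (δ : Fin (m + 2) → F) : Lbi m δ *ᵥ p3e (0 : Fin (m + 2)) = p3e 0 + δ 0 • p3e 1 := by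
  have h : (0 : Fin (m + 2)).val + 1 < m + 2 := by simp
  have e : (⟨(0 : Fin (m + 2)).val + 1, h⟩ : Fin (m + 2)) = 1 := Fin.ext (by simp)
  have := p3_L_succ δ (0 : Fin (m + 2)) h
  rwa [e] at this

theorem p3_L1 (δ : Fin (m + 2) → F) (hm : 1 ≤ m) :
    Lbi m δ *ᵥ p3e (1 : Fin (m + 2)) = p3e 1 + δ 1 • p3e (p3two hm) := by
  have h : (1 : Fin (m + 2)).val + 1 < m + 2 := by rw [Fin.val_one]; omega
  have e : (⟨(1 : Fin (m + 2)).val + 1, h⟩ : Fin (m + 2)) = p3two hm :=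
    Fin.ext (by simp [p3two, Fin.val_one])
  have := p3_L_succ δ (1 : Fin (m + 2)) h
  rwa [e] at this

theorem p3_mod2 (h2 : (2 : F) = 0) {A B : SM m F} (C : SM m F) (h : A = B + (C + C)) : A = B := by
  rw [h, ← two_smul F C, h2, zero_smul, add_zero]

theorem p3DU_E00 : p3DU (p3E 0 0 : SM m F) = 0 := by
  rw [p3DU_E, p3_U_zero]
  exact sub_self _

theorem p3DU_B01 (h2 : (2 : F) = 0) : p3DU (p3B 0 1 : SM m F) = 0 := by
  refine p3_mod2 h2 (p3E 0 0) ?_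
  rw [p3B, p3DU_add, p3DU_E, p3DU_E, p3_U_zero, p3_U1]
  simp only [add_vecMulVec, vecMulVec_add, p3E]
  abel

theorem p3DU_E11 : p3DU (p3E 1 1 : SM m F) = p3B 0 1 + p3E 0 0 := by
  rw [p3DU_E, p3_U1]
  simp only [add_vecMulVec, vecMulVec_add, p3E, p3B]
  abel

theorem p3DU_B02 (hm : 1 ≤ m) : p3DU (p3B 0 (p3two hm) : SM m F) = p3B 0 1 := by
  rw [p3B, p3DU_add, p3DU_E, p3DU_E, p3_U_zero, p3_U2]
  simp only [add_vecMulVec, vecMulVec_add, p3E, p3B]
  abel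

theorem p3DU_B12 (hm : 1 ≤ m) (h2 : (2 : F) = 0) :
    p3DU (p3B 1 (p3two hm) : SM m F) = p3B 0 (p3two hm) + p3B 0 1 := by
  refine p3_mod2 h2 (p3E 1 1) ?_
  rw [p3B, p3DU_add, p3DU_E, p3DU_E, p3_U1, p3_U2]
  simp only [add_vecMulVec, vecMulVec_add, p3E, p3B]
  abel

theorem p3DL_E00 (δ : Fin (m + 2) → F) :
    p3DL δ (p3E 0 0 : SM m F) = δ 0 • p3B 0 1 + δ 0 ^ 2 • p3E 1 1 := by
  rw [p3DL_E, p3_L0]
  simp only [add_vecMulVec, vecMulVec_add, smul_vecMulVec, vecMulVec_smul, p3E, p3B]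
  module

theorem p3DL_B01 (δ : Fin (m + 2) → F) (hm : 1 ≤ m) (h2 : (2 : F) = 0) :
    p3DL δ (p3B 0 1 : SM m F) = δ 1 • p3B 0 (p3two hm) + (δ 0 * δ 1) • p3B 1 (p3two hm) := by
  refine p3_mod2 h2 (δ 0 • p3E 1 1) ?_
  rw [p3B, p3DL_add, p3DL_E, p3DL_E, p3_L0, p3_L1 δ hm]
  simp only [add_vecMulVec, vecMulVec_add, smul_vecMulVec, vecMulVec_smul, p3E, p3B]
  module

/-- `M` is closed under multiplication by `δ₀ δ₁` -/
theorem p3_CM (δ : Fin (m + 2) → F) (hm : 1 ≤ m) (h2 : (2 : F) = 0) (μ : F) :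
    p3DU (p3DU (p3DL δ (μ • (p3B 0 1 : SM m F)))) = (μ * (δ 0 * δ 1)) • p3B 0 1 := by
  simp only [p3DL_smul, p3DU_smul, p3DU_add, p3DL_B01 δ hm h2, p3DU_B02 hm, p3DU_B12 hm h2,
    p3DU_B01 h2, smul_zero, add_zero, zero_add]
  module

theorem p3_C1 (δ : Fin (m + 2) → F) (h2 : (2 : F) = 0) (c : F) :
    p3DU (p3DL δ (c • (p3E 0 0 : SM m F))) = (c * δ 0 ^ 2) • (p3B 0 1 + p3E 0 0) := by
  simp only [p3DL_smul, p3DU_smul, p3DU_add, p3DL_E00, p3DU_E11, p3DU_B01 h2, smul_zero, add_zero,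
    zero_add]
  module

theorem p3_C2 (δ : Fin (m + 2) → F) (hm : 1 ≤ m) (h2 : (2 : F) = 0) (c : F) :
    p3DU (p3DU (p3DL δ (c • (p3B 0 1 + p3E 0 0 : SM m F)))) = (c * (δ 0 * δ 1)) • p3B 0 1 := by
  simp only [p3DL_smul, p3DL_add, p3DU_smul, p3DU_add, p3DL_B01 δ hm h2, p3DL_E00, p3DU_B02 hm,
    p3DU_B12 hm h2, p3DU_B01 h2, p3DU_E11, p3DU_E00, smul_zero, add_zero, zero_add]
  module

theorem p3_E00 : E00 m F = p3E 0 0 := by
  ext i j
  rw [p3E_apply, E00, Matrix.single_apply]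
  simp only [eq_comm]

end comp


/-- **LEAF P3**: the base of the induction, characteristic `2`, `n ≥ 3`. -/
theorem sym_base_even {m : ℕ} (hm : 1 ≤ m) {F : Type*} [Field F] (X : AddSubgroup (SM m F))
    (δ : Fin (m + 2) → F) (hδ : ∀ j, δ j ≠ 0)
    (hU : ∀ S ∈ X, Uup m F * S * (Uup m F)ᵀ ∈ X)
    (hL : ∀ S ∈ X, Sᵀ = S → (∀ j, S (Fin.last (m + 1)) j = 0) → Lbi m δ * S * (Lbi m δ)ᵀ ∈ X)
    (h2 : (2 : F) = 0) (l : F) (hl0 : l ≠ 0) (hl : l • E00 m F ∈ X)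
    (hgenM : ∀ x : F, x ≠ 0 → ∃ k : ℕ, x = (δ 0 * δ 1) ^ k)
    (hgenL : ∀ x : F, x ≠ 0 → ∃ k : ℕ, x = (δ 0 ^ 2) ^ k) :
    SymLE m 1 ⊆ (X : Set (SM m F)) := by
  have hDU : ∀ S ∈ X, p3DU S ∈ X := fun S hS => X.sub_mem (hU S hS) hS
  have hDL : ∀ S ∈ X, Sᵀ = S → (∀ j, S (Fin.last (m + 1)) j = 0) → p3DL δ S ∈ X :=
    fun S hS h1 h2' => X.sub_mem (hL S hS h1 h2') hS
  have hlast0 : Fin.last (m + 1) ≠ (0 : Fin (m + 2)) := by
    intro e
    have := congrArg Fin.val e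
    simp at this
  have hlast1 : Fin.last (m + 1) ≠ (1 : Fin (m + 2)) := by
    intro e
    have := congrArg Fin.val e
    rw [Fin.val_one] at this
    simp at this
    omega
  -- symmetric with last row zero
  have hT : ∀ α β : F, (α • p3E 0 0 + β • p3B 0 1 : SM m F)ᵀ = α • p3E 0 0 + β • p3B 0 1 := by
    intro α β
    rw [Matrix.transpose_add, Matrix.transpose_smul, Matrix.transpose_smul, p3E_transpose,
      p3B_transpose]
  have hTl : ∀ (α β : F) (j : Fin (m + 2)),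
      (α • p3E 0 0 + β • p3B 0 1 : SM m F) (Fin.last (m + 1)) j = 0 := by
    intro α β j
    simp only [Matrix.add_apply, Matrix.smul_apply, p3B, p3E_apply, hlast0, hlast1, false_and,
      if_false, smul_eq_mul, mul_zero, add_zero]
  have hE0 : ∀ c : F, (c • p3E 0 0 : SM m F) = c • p3E 0 0 + (0 : F) • p3B 0 1 := by
    intro c; rw [zero_smul, add_zero]
  have hB0 : ∀ c : F, (c • p3B 0 1 : SM m F) = (0 : F) • p3E 0 0 + c • p3B 0 1 := by
    intro c; rw [zero_smul, zero_add]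
  have hBE : ∀ c : F, (c • (p3B 0 1 + p3E 0 0) : SM m F) = c • p3E 0 0 + c • p3B 0 1 := by
    intro c; rw [smul_add, add_comm]
  -- Step 1
  have hMstep : ∀ μ : F, (μ • p3B 0 1 : SM m F) ∈ X → ((μ * (δ 0 * δ 1)) • p3B 0 1 : SM m F) ∈ X := by
    intro μ hμ
    have h1 := hDL _ hμ (by rw [hB0]; exact hT _ _) (by rw [hB0]; exact hTl _ _)
    have h3 := hDU _ (hDU _ h1)
    rwa [p3_CM δ hm h2] at h3
  -- Step 2
  have hy3 : ∀ c : F, (c • p3E 0 0 : SM m F) ∈ X →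
      ((c * δ 0 ^ 2) • (p3B 0 1 + p3E 0 0) : SM m F) ∈ X := by
    intro c hc
    have h1 := hDL _ hc (by rw [hE0]; exact hT _ _) (by rw [hE0]; exact hTl _ _)
    have h3 := hDU _ h1
    rwa [p3_C1 δ h2] at h3
  have hy4 : ∀ c : F, (c • (p3B 0 1 + p3E 0 0) : SM m F) ∈ X →
      ((c * (δ 0 * δ 1)) • p3B 0 1 : SM m F) ∈ X := by
    intro c hc
    have h1 := hDL _ hc (by rw [hBE]; exact hT _ _) (by rw [hBE]; exact hTl _ _)
    have h3 := hDU _ (hDU _ h1)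
    rwa [p3_C2 δ hm h2] at h3
  have hl' : (l • p3E 0 0 : SM m F) ∈ X := by rw [← p3_E00]; exact hl
  -- Step 3: `M = F`
  have hd : δ 0 * δ 1 ≠ 0 := mul_ne_zero (hδ 0) (hδ 1)
  have hd0 : δ 0 ^ 2 ≠ 0 := pow_ne_zero 2 (hδ 0)
  have hμ0ne : l * δ 0 ^ 2 * (δ 0 * δ 1) ≠ 0 := mul_ne_zero (mul_ne_zero hl0 hd0) hd
  have hμ0 : ((l * δ 0 ^ 2 * (δ 0 * δ 1)) • p3B 0 1 : SM m F) ∈ X := hy4 _ (hy3 _ hl')
  have hpowM : ∀ k : ℕ, ((l * δ 0 ^ 2 * (δ 0 * δ 1) * (δ 0 * δ 1) ^ k) • p3B 0 1 : SM m F) ∈ X := by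
    intro k
    induction k with
    | zero => rwa [pow_zero, mul_one]
    | succ k ih =>
      have := hMstep _ ih
      rwa [mul_assoc _ ((δ 0 * δ 1) ^ k), ← pow_succ] at this
  have hM : ∀ x : F, (x • p3B 0 1 : SM m F) ∈ X := by
    intro x
    by_cases hx : x = 0
    · rw [hx, zero_smul]; exact X.zero_mem
    · obtain ⟨k, hk⟩ := hgenM (x / (l * δ 0 ^ 2 * (δ 0 * δ 1))) (div_ne_zero hx hμ0ne)
      have := hpowM k
      rw [← hk, mul_div_cancel₀ x hμ0ne] at this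
      exact this
  -- Step 4: `Λ = F`
  have hΛstep : ∀ c : F, (c • p3E 0 0 : SM m F) ∈ X → ((c * δ 0 ^ 2) • p3E 0 0 : SM m F) ∈ X := by
    intro c hc
    have h1 := X.sub_mem (hy3 c hc) (hM (c * δ 0 ^ 2))
    have e : ((c * δ 0 ^ 2) • (p3B 0 1 + p3E 0 0) - (c * δ 0 ^ 2) • p3B 0 1 : SM m F)
        = (c * δ 0 ^ 2) • p3E 0 0 := by
      rw [smul_add]; abel
    rwa [e] at h1
  have hpowL : ∀ k : ℕ, ((l * (δ 0 ^ 2) ^ k) • p3E 0 0 : SM m F) ∈ X := by
    intro k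
    induction k with
    | zero => rwa [pow_zero, mul_one]
    | succ k ih =>
      have := hΛstep _ ih
      rwa [mul_assoc, ← pow_succ] at this
  have hΛ : ∀ x : F, (x • p3E 0 0 : SM m F) ∈ X := by
    intro x
    by_cases hx : x = 0
    · rw [hx, zero_smul]; exact X.zero_mem
    · obtain ⟨k, hk⟩ := hgenL (x / l) (div_ne_zero hx hl0)
      have := hpowL k
      rw [← hk, mul_div_cancel₀ x hl0] at this
      exact this
  -- Step 5: `F E₁₁ ⊆ X`
  have hE11 : ∀ x : F, (x • p3E 1 1 : SM m F) ∈ X := by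
    intro x
    have hc := hΛ (x / δ 0 ^ 2)
    have h1 := hDL _ hc (by rw [hE0]; exact hT _ _) (by rw [hE0]; exact hTl _ _)
    rw [p3DL_smul, p3DL_E00] at h1
    have h3 := X.sub_mem h1 (hM (x / δ 0 ^ 2 * δ 0))
    have e : ((x / δ 0 ^ 2) • (δ 0 • p3B 0 1 + δ 0 ^ 2 • p3E 1 1) - (x / δ 0 ^ 2 * δ 0) • p3B 0 1 : SM m F)
        = x • p3E 1 1 := by
      have e1 : x / δ 0 ^ 2 * δ 0 ^ 2 = x := div_mul_cancel₀ x hd0
      rw [smul_add, smul_smul, smul_smul, e1]; abel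
    rwa [e] at h3
  -- Step 6: decomposition
  intro S hS
  obtain ⟨hsym, hsupp⟩ := hS
  have hdec : S = S 0 0 • p3E 0 0 + S 0 1 • p3B 0 1 + S 1 1 • p3E 1 1 := by
    ext i j
    simp only [Matrix.add_apply, Matrix.smul_apply, p3B, p3E_apply, smul_eq_mul]
    have h10 : S 1 0 = S 0 1 := by
      have := congrFun (congrFun hsym 0) 1
      rwa [Matrix.transpose_apply] at this
    have hi : i = 0 ∨ i = 1 ∨ 1 < i.val := by
      rcases Nat.lt_or_ge 1 i.val with h | h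
      · exact Or.inr (Or.inr h)
      · rcases Nat.eq_zero_or_pos i.val with h0 | h0
        · exact Or.inl (Fin.ext h0)
        · refine Or.inr (Or.inl (Fin.ext ?_))
          rw [Fin.val_one]; omega
    have hj : j = 0 ∨ j = 1 ∨ 1 < j.val := by
      rcases Nat.lt_or_ge 1 j.val with h | h
      · exact Or.inr (Or.inr h)
      · rcases Nat.eq_zero_or_pos j.val with h0 | h0
        · exact Or.inl (Fin.ext h0)
        · refine Or.inr (Or.inl (Fin.ext ?_))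
          rw [Fin.val_one]; omega
    have h01 : (0 : Fin (m + 2)) ≠ 1 := by
      intro e
      have := congrArg Fin.val e
      rw [Fin.val_one] at this
      simp at this
    rcases hi with rfl | rfl | hi
    · rcases hj with rfl | rfl | hj
      · simp [h01]
      · simp [h01, h01.symm]
      · have hj0 : j ≠ 0 := by rintro rfl; simp at hj
        have hj1 : j ≠ 1 := by rintro rfl; rw [Fin.val_one] at hj; omega
        rw [hsupp 0 j (Or.inr hj)]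
        simp [hj0, hj1]
    · rcases hj with rfl | rfl | hj
      · simp [h01, h01.symm, h10]
      · simp [h01, h01.symm]
      · have hj0 : j ≠ 0 := by rintro rfl; simp at hj
        have hj1 : j ≠ 1 := by rintro rfl; rw [Fin.val_one] at hj; omega
        rw [hsupp 1 j (Or.inr hj)]
        simp [hj0, hj1]
    · have hi0 : i ≠ 0 := by rintro rfl; simp at hi
      have hi1 : i ≠ 1 := by rintro rfl; rw [Fin.val_one] at hi; omega
      rw [hsupp i j (Or.inl hi)]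
      simp [hi0, hi1]
  rw [hdec]
  exact X.add_mem (X.add_mem (hΛ _) (hM _)) (hE11 _)

end Cfsg.Agent.Lib.Helper13.RSp
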