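import Mathlib

/-!
# Avoidance lemmas over a field with at least `n` elements (helper13)

Sharp versions (`n ≤ #K`) of "a vector space is not a union of `n` proper subspaces",
its dual form for functionals, and a lemma producing a non-eigenvector outside two proper subspaces.
-/

set_option autoImplicit false

namespace Cfsg.Agent.Lib.Helper13

open Module Cardinal

section Avoid

variable {K : Type*} [Field K]

omit [Field K] in
theorem ru_exists_notMem_finset (F : Finset K) (h : (F.card : Cardinal) < #K) : ∃ t, t ∉ F := by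
  by_contra hcon
  push Not at hcon
  have h2 : (Set.univ : Set K) ⊆ (↑F : Set K) := fun t _ => hcon t
  have h3 : #K ≤ (F.card : Cardinal) := by
    calc #K = #(Set.univ : Set K) := (Cardinal.mk_univ).symm
      _ ≤ #(↑F : Set K) := Cardinal.mk_le_mk_of_subset h2
      _ = F.card := Cardinal.mk_coe_finset
  exact absurd h (not_lt.mpr h3)

omit [Field K] in
theorem ru_exists_ne3 (hK : 4 ≤ #K) (a b c : K) : ∃ t, t ≠ a ∧ t ≠ b ∧ t ≠ c := by
  classical
  obtain ⟨t, ht⟩ := ru_exists_notMem_finset ({a, b, c} : Finset K) (by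
    have h1 : ({a, b, c} : Finset K).card ≤ 3 := Finset.card_le_three
    calc ((({a, b, c} : Finset K).card : ℕ) : Cardinal) ≤ (3 : ℕ) := by exact_mod_cast h1
      _ < 4 := by norm_num
      _ ≤ #K := hK)
  simp only [Finset.mem_insert, Finset.mem_singleton, not_or] at ht
  exact ⟨t, ht.1, ht.2.1, ht.2.2⟩

/-- sharp avoidance of finitely many proper subspaces -/
theorem ru_exists_avoid {ι M : Type*} [AddCommGroup M] [Module K M]
    (s : Finset ι) (p : ι → Submodule K M) (h₁ : ∀ i ∈ s, p i ≠ ⊤)
    (h₂ : (s.card : Cardinal) ≤ #K) : ∃ x, ∀ i ∈ s, x ∉ p i := by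
  classical
  induction s using Finset.induction_on with
  | empty => exact ⟨0, by simp⟩
  | insert j s hj ih =>
    have hcard : (insert j s).card = s.card + 1 := Finset.card_insert_of_notMem hj
    have hs_lt : (s.card : Cardinal) < #K := by
      rw [hcard] at h₂
      refine lt_of_lt_of_le ?_ h₂
      exact_mod_cast Nat.lt_succ_self _
    obtain ⟨x, hx⟩ := ih (fun i hi => h₁ i (Finset.mem_insert_of_mem hi)) hs_lt.le
    by_cases hxj : x ∈ p j
    swap
    · refine ⟨x, fun i hi => ?_⟩
      rcases Finset.mem_insert.1 hi with h | h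
      · rw [h]; exact hxj
      · exact hx i h
    obtain ⟨y, hy⟩ : ∃ y, y ∉ p j := by
      by_contra hcon
      push Not at hcon
      exact h₁ j (Finset.mem_insert_self _ _) (eq_top_iff.2 fun z _ => hcon z)
    by_cases hyall : ∀ i ∈ s, y ∉ p i
    · refine ⟨y, fun i hi => ?_⟩
      rcases Finset.mem_insert.1 hi with h | h
      · rw [h]; exact hy
      · exact hyall i h
    push Not at hyall
    obtain ⟨i0, hi0s, hyi0⟩ := hyall
    let tf : ι → K := fun i => if h : ∃ t : K, x + t • y ∈ p i then h.choose else 0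
    have htf : ∀ i, (∃ t : K, x + t • y ∈ p i) → x + tf i • y ∈ p i := by
      intro i h
      simp only [tf, dif_pos h]
      exact h.choose_spec
    let F : Finset K := insert 0 ((s.erase i0).image tf)
    have hFcard : (F.card : Cardinal) < #K := by
      have h1 : F.card ≤ ((s.erase i0).image tf).card + 1 := Finset.card_insert_le _ _
      have h2 : ((s.erase i0).image tf).card ≤ (s.erase i0).card := Finset.card_image_le
      have h3 : (s.erase i0).card = s.card - 1 := Finset.card_erase_of_mem hi0s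
      have h4 : 0 < s.card := Finset.card_pos.2 ⟨i0, hi0s⟩
      have h5 : F.card ≤ s.card := by omega
      calc (F.card : Cardinal) ≤ s.card := by exact_mod_cast h5
        _ < #K := hs_lt
    obtain ⟨t, ht⟩ := ru_exists_notMem_finset F hFcard
    have ht0 : t ≠ 0 := fun h => ht (by rw [h]; exact Finset.mem_insert_self _ _)
    refine ⟨x + t • y, fun i hi => ?_⟩
    rcases Finset.mem_insert.1 hi with h | h
    · rw [h]
      intro hmem
      have h1 : t • y ∈ p j := by
        have := (p j).sub_mem hmem hxj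
        simpa using this
      exact hy (((p j).smul_mem_iff ht0).1 h1)
    · by_cases hii0 : i = i0
      · rw [hii0]
        intro hmem
        have h1 : x ∈ p i0 := by
          have := (p i0).sub_mem hmem ((p i0).smul_mem t hyi0)
          simpa using this
        exact hx i0 hi0s h1
      · intro hmem
        have hmem' := htf i ⟨t, hmem⟩
        have htne : t ≠ tf i := by
          intro heq
          apply ht
          rw [heq]
          exact Finset.mem_insert_of_mem
            (Finset.mem_image_of_mem tf (Finset.mem_erase.2 ⟨hii0, h⟩))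
        have h1 : (t - tf i) • y ∈ p i := by
          have := (p i).sub_mem hmem hmem'
          rw [sub_smul]
          convert this using 1
          abel
        have h2 : y ∈ p i := ((p i).smul_mem_iff (sub_ne_zero.2 htne)).1 h1
        have h3 : x ∈ p i := by
          have := (p i).sub_mem hmem ((p i).smul_mem t h2)
          simpa using this
        exact hx i h h3

/-- a functional non-vanishing on finitely many nonzero vectors -/
theorem ru_exists_dual_ne_zero {ι Q : Type*} [AddCommGroup Q] [Module K Q]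
    (s : Finset ι) (v : ι → Q) (hv : ∀ i ∈ s, v i ≠ 0) (h₂ : (s.card : Cardinal) ≤ #K) :
    ∃ ψ : Module.Dual K Q, ∀ i ∈ s, ψ (v i) ≠ 0 := by
  have hprop : ∀ i ∈ s, LinearMap.ker (Module.Dual.eval K Q (v i)) ≠ ⊤ := by
    intro i hi htop
    apply hv i hi
    rw [← Module.forall_dual_apply_eq_zero_iff K]
    intro φ
    have : φ ∈ LinearMap.ker (Module.Dual.eval K Q (v i)) := by rw [htop]; trivial
    simpa [LinearMap.mem_ker] using this
  obtain ⟨ψ, hψ⟩ := ru_exists_avoid (M := Module.Dual K Q) s
    (fun i => LinearMap.ker (Module.Dual.eval K Q (v i))) hprop h₂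
  exact ⟨ψ, fun i hi h => hψ i hi (by simpa [LinearMap.mem_ker] using h)⟩

end Avoid


section Lin

variable {K : Type*} [Field K] {V : Type*} [AddCommGroup V] [Module K V]

theorem ru_pair_dep {v w : V} (hv : v ≠ 0) (h : ¬ LinearIndependent K ![v, w]) :
    ∃ a : K, w = a • v := by
  rw [LinearIndependent.pair_iff] at h
  push Not at h
  obtain ⟨s, t, hst, hne⟩ := h
  have ht : t ≠ 0 := by
    intro ht
    rw [ht, zero_smul, add_zero] at hst
    rcases smul_eq_zero.1 hst with h0 | h0
    · exact hne h0 ht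
    · exact hv h0
  refine ⟨-(t⁻¹ * s), ?_⟩
  have h1 : t • w = -(s • v) := by
    rw [eq_neg_iff_add_eq_zero, add_comm]; exact hst
  calc w = t⁻¹ • (t • w) := by rw [smul_smul, inv_mul_cancel₀ ht, one_smul]
    _ = -(t⁻¹ * s) • v := by rw [h1, smul_neg, smul_smul, neg_smul]

/-- a functional with prescribed values on an independent pair and nonzero on three vectors -/
theorem ru_exists_dual3 (hK : 4 ≤ #K) (x u z1 z2 z3 : V) (hxu : LinearIndependent K ![x, u])
    (h1 : z1 ∉ Submodule.span K {u}) (h2 : z2 ∉ Submodule.span K {u})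
    (h3 : z3 ∉ Submodule.span K {u}) :
    ∃ φ : Module.Dual K V, φ x = 1 ∧ φ u = 0 ∧ φ z1 ≠ 0 ∧ φ z2 ≠ 0 ∧ φ z3 ≠ 0 := by
  classical
  have hx : x ∉ Submodule.span K {u} := by
    intro hx
    obtain ⟨a, ha⟩ := Submodule.mem_span_singleton.1 hx
    rw [LinearIndependent.pair_iff] at hxu
    have := hxu 1 (-a) (by rw [← ha]; simp)
    exact one_ne_zero this.1
  set S := Submodule.span K ({u} : Set V) with hS
  let w : Fin 4 → V ⧸ S := ![S.mkQ x, S.mkQ z1, S.mkQ z2, S.mkQ z3]
  have hw : ∀ i ∈ (Finset.univ : Finset (Fin 4)), w i ≠ 0 := by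
    intro i _
    fin_cases i
    · show S.mkQ x ≠ 0
      rw [Submodule.mkQ_apply, Ne, Submodule.Quotient.mk_eq_zero]; exact hx
    · show S.mkQ z1 ≠ 0
      rw [Submodule.mkQ_apply, Ne, Submodule.Quotient.mk_eq_zero]; exact h1
    · show S.mkQ z2 ≠ 0
      rw [Submodule.mkQ_apply, Ne, Submodule.Quotient.mk_eq_zero]; exact h2
    · show S.mkQ z3 ≠ 0
      rw [Submodule.mkQ_apply, Ne, Submodule.Quotient.mk_eq_zero]; exact h3
  obtain ⟨ψ, hψ⟩ := ru_exists_dual_ne_zero (K := K) Finset.univ w hw (by
    simpa using hK)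
  have hψx : ψ (S.mkQ x) ≠ 0 := hψ 0 (Finset.mem_univ _)
  have hψ1 : ψ (S.mkQ z1) ≠ 0 := hψ 1 (Finset.mem_univ _)
  have hψ2 : ψ (S.mkQ z2) ≠ 0 := hψ 2 (Finset.mem_univ _)
  have hψ3 : ψ (S.mkQ z3) ≠ 0 := hψ 3 (Finset.mem_univ _)
  refine ⟨(ψ (S.mkQ x))⁻¹ • (ψ ∘ₗ S.mkQ), ?_, ?_, ?_, ?_, ?_⟩
  · simp only [LinearMap.smul_apply, LinearMap.comp_apply, smul_eq_mul]
    exact inv_mul_cancel₀ hψx
  · have : S.mkQ u = 0 := by
      rw [Submodule.mkQ_apply, Submodule.Quotient.mk_eq_zero]
      exact Submodule.mem_span_singleton_self u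
    simp [this]
  · simpa using ⟨hψx, hψ1⟩
  · simpa using ⟨hψx, hψ2⟩
  · simpa using ⟨hψx, hψ3⟩

/-- a vector in a subspace outside a smaller subspace -/
theorem ru_exists_mem_notMem [FiniteDimensional K V] (S T : Submodule K V)
    (h : finrank K T < finrank K S) : ∃ z ∈ S, z ∉ T := by
  by_contra hcon
  push Not at hcon
  have hle : S ≤ T := fun z hz => hcon z hz
  exact absurd (Submodule.finrank_mono hle) (not_le.mpr h)

/-- non-eigenvector outside two proper subspaces -/
theorem ru_exists_noneigen (hK : 4 ≤ #K) (A : Module.End K V) (hA : ¬ ∃ a : K, A = a • 1)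
    (S1 S2 : Submodule K V) (h1 : S1 ≠ ⊤) (h2 : S2 ≠ ⊤) :
    ∃ x, x ∉ S1 ∧ x ∉ S2 ∧ LinearIndependent K ![x, A x] := by
  classical
  obtain ⟨x0, hx0⟩ : ∃ x0, LinearIndependent K ![x0, A x0] := by
    by_contra hcon
    push Not at hcon
    exact hA (LinearMap.exists_eq_smul_id_of_forall_notLinearIndependent hcon)
  have hx0eig : ∀ μ : K, A x0 ≠ μ • x0 := by
    intro μ hμ
    rw [LinearIndependent.pair_iff] at hx0
    have := hx0 μ (-1) (by rw [hμ]; simp)
    exact one_ne_zero (neg_eq_zero.1 this.2)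
  obtain ⟨v, hv⟩ := ru_exists_avoid (K := K) (Finset.univ : Finset (Fin 2)) ![S1, S2] (by
      intro i _; fin_cases i
      · exact h1
      · exact h2) (by
      have : ((2 : ℕ) : Cardinal) ≤ #K := le_trans (by norm_num) hK
      simpa using this)
  have hv1 : v ∉ S1 := hv 0 (Finset.mem_univ _)
  have hv2 : v ∉ S2 := hv 1 (Finset.mem_univ _)
  by_cases hvli : LinearIndependent K ![v, A v]
  · exact ⟨v, hv1, hv2, hvli⟩
  have hv0 : v ≠ 0 := fun h => hv1 (h ▸ S1.zero_mem)
  obtain ⟨lam, hlam⟩ := ru_pair_dep hv0 hvli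
  -- the three bad parameters
  let t1 : K := if h : ∃ t : K, x0 + t • v ∈ S1 then h.choose else 0
  let t2 : K := if h : ∃ t : K, x0 + t • v ∈ S2 then h.choose else 0
  let t3 : K := if h : ∃ t : K, ¬ LinearIndependent K ![x0 + t • v, A (x0 + t • v)]
    then h.choose else 0
  have ht1 : (∃ t : K, x0 + t • v ∈ S1) → x0 + t1 • v ∈ S1 := by
    intro h; simp only [t1, dif_pos h]; exact h.choose_spec
  have ht2 : (∃ t : K, x0 + t • v ∈ S2) → x0 + t2 • v ∈ S2 := by
    intro h; simp only [t2, dif_pos h]; exact h.choose_spec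
  have ht3 : (∃ t : K, ¬ LinearIndependent K ![x0 + t • v, A (x0 + t • v)]) →
      ¬ LinearIndependent K ![x0 + t3 • v, A (x0 + t3 • v)] := by
    intro h; simp only [t3, dif_pos h]; exact h.choose_spec
  obtain ⟨t, hta, htb, htc⟩ := ru_exists_ne3 hK t1 t2 t3
  have key : ∀ (S : Submodule K V) (s : K), v ∉ S → x0 + s • v ∈ S → x0 + t • v ∈ S →
      t = s := by
    intro S s hvS hs ht
    by_contra hne
    have h3 : (t - s) • v ∈ S := by
      have := S.sub_mem ht hs
      rw [sub_smul]; convert this using 1; abel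
    exact hvS ((S.smul_mem_iff (sub_ne_zero.2 hne)).1 h3)
  have eig : ∀ s : K, ¬ LinearIndependent K ![x0 + s • v, A (x0 + s • v)] →
      ∃ μ : K, A (x0 + s • v) = μ • (x0 + s • v) := by
    intro s hs
    have hne : x0 + s • v ≠ 0 := by
      intro h0
      have hx0' : x0 = (-s) • v := by rw [neg_smul]; exact eq_neg_of_add_eq_zero_left h0
      apply hx0eig lam
      rw [hx0', map_smul, hlam, smul_comm]
    exact ru_pair_dep hne hs
  refine ⟨x0 + t • v, ?_, ?_, ?_⟩
  · intro hmem
    exact hta (key S1 t1 hv1 (ht1 ⟨t, hmem⟩) hmem)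
  · intro hmem
    exact htb (key S2 t2 hv2 (ht2 ⟨t, hmem⟩) hmem)
  · by_contra hdep
    obtain ⟨μ, hμ⟩ := eig t hdep
    obtain ⟨μ', hμ'⟩ := eig t3 (ht3 ⟨t, hdep⟩)
    rw [map_add, map_smul, hlam] at hμ hμ'
    -- A x0 = μ x0 + t (μ - lam) v
    have e1 : A x0 = μ • x0 + (t * (μ - lam)) • v := by
      have : A x0 = μ • (x0 + t • v) - t • lam • v := by rw [← hμ]; abel
      rw [this]; module
    have e2 : A x0 = μ' • x0 + (t3 * (μ' - lam)) • v := by
      have : A x0 = μ' • (x0 + t3 • v) - t3 • lam • v := by rw [← hμ']; abel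
      rw [this]; module
    by_cases hμμ : μ = μ'
    · subst hμμ
      have h5 : ((t - t3) * (μ - lam)) • v = 0 := by
        have : (t * (μ - lam)) • v = (t3 * (μ - lam)) • v := by
          have := e1.symm.trans e2
          exact add_left_cancel this
        rw [sub_mul, sub_smul, this, sub_self]
      rcases smul_eq_zero.1 h5 with h6 | h6
      · rcases mul_eq_zero.1 h6 with h7 | h7
        · exact htc (sub_eq_zero.1 h7)
        · apply hx0eig lam
          rw [e1, sub_eq_zero.1 h7]; simp
      · exact hv0 h6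
    · have h5 : (μ - μ') • x0 = (t3 * (μ' - lam) - t * (μ - lam)) • v := by
        have := e1.symm.trans e2
        linear_combination (norm := module) this
      have h6 : x0 = ((μ - μ')⁻¹ * (t3 * (μ' - lam) - t * (μ - lam))) • v := by
        rw [mul_smul, ← h5, smul_smul, inv_mul_cancel₀ (sub_ne_zero.2 hμμ), one_smul]
      apply hx0eig lam
      rw [h6, map_smul, hlam, smul_comm]

end Lin

end Cfsg.Agent.Lib.Helper13
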