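import Mathlib

/-!
# Schur-complement step for factorizations into two regular unipotents (helper13)

`RUGood m A b c`: `A = B * C` with `B`, `C` unipotent of index `m`, `b` cyclic for `B`
and `c` cyclic for the transpose of `C`.
`ru_typeI`: the Schur-complement (LU-type) induction step.
-/

set_option autoImplicit false

namespace Cfsg.Agent.Lib.Helper13

open Module

section Step

variable {K : Type*} [Field K] {V : Type*} [AddCommGroup V] [Module K V]

/-- `A` is a product of two regular unipotents adapted to `b` and `c`. -/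
def RUGood (m : ℕ) (A : Module.End K V) (b : V) (c : Module.Dual K V) : Prop :=
  ∃ B C : Module.End K V, A = B * C ∧ (B - 1) ^ m = 0 ∧ (C - 1) ^ m = 0 ∧
    ((B - 1) ^ (m - 1)) b ≠ 0 ∧ ∃ w, c (((C - 1) ^ (m - 1)) w) ≠ 0

/-- projection onto `ker φ` along `x` -/
noncomputable def ruProj (x : V) (φ : Module.Dual K V) (h1 : φ x = 1) :
    V →ₗ[K] LinearMap.ker φ :=
  LinearMap.codRestrict (LinearMap.ker φ)
    (LinearMap.id - (LinearMap.toSpanSingleton K V x) ∘ₗ φ) (by
      intro v
      simp [LinearMap.mem_ker, h1])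

@[simp] theorem ruProj_coe (x : V) (φ : Module.Dual K V) (h1 : φ x = 1) (v : V) :
    ((ruProj x φ h1 v : LinearMap.ker φ) : V) = v - φ v • x := by
  simp [ruProj]

theorem ruProj_self (x : V) (φ : Module.Dual K V) (h1 : φ x = 1) : ruProj x φ h1 x = 0 := by
  apply Subtype.ext
  simp [h1]

theorem ruProj_mem (x : V) (φ : Module.Dual K V) (h1 : φ x = 1) (w : LinearMap.ker φ) :
    ruProj x φ h1 (w : V) = w := by
  apply Subtype.ext
  have : φ (w : V) = 0 := w.2
  simp [this]

theorem ruProj_decomp (x : V) (φ : Module.Dual K V) (h1 : φ x = 1) (v : V) :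
    v = φ v • x + (ruProj x φ h1 v : V) := by
  simp

/-- the Schur complement of `A` with respect to `(x, φ)`, an endomorphism of `ker φ` -/
noncomputable def ruSchur (A : Module.End K V) (x : V) (φ : Module.Dual K V)
    (h2 : φ (A x) = 1) : Module.End K (LinearMap.ker φ) :=
  LinearMap.codRestrict (LinearMap.ker φ)
    ((A - (LinearMap.toSpanSingleton K V (A x)) ∘ₗ φ ∘ₗ A) ∘ₗ (LinearMap.ker φ).subtype) (by
      intro w
      simp [LinearMap.mem_ker, h2])

@[simp] theorem ruSchur_coe (A : Module.End K V) (x : V) (φ : Module.Dual K V)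
    (h2 : φ (A x) = 1) (w : LinearMap.ker φ) :
    ((ruSchur A x φ h2 w : LinearMap.ker φ) : V) = A w - φ (A w) • A x := by
  simp [ruSchur]

/-- the vector `A x - x` as an element of `ker φ` -/
def ruVec (A : Module.End K V) (x : V) (φ : Module.Dual K V) (h1 : φ x = 1)
    (h2 : φ (A x) = 1) : LinearMap.ker φ :=
  ⟨A x - x, by simp [LinearMap.mem_ker, h1, h2]⟩

/-- the functional `φ ∘ A` restricted to `ker φ` -/
def ruCov (A : Module.End K V) (φ : Module.Dual K V) : Module.Dual K (LinearMap.ker φ) :=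
  (φ ∘ₗ A).domRestrict (LinearMap.ker φ)

@[simp] theorem ruCov_apply (A : Module.End K V) (φ : Module.Dual K V) (w : LinearMap.ker φ) :
    ruCov A φ w = φ (A w) := rfl

/-- The Schur complement induction step. -/
theorem ru_typeI (A : Module.End K V) (x : V) (φ : Module.Dual K V) (h1 : φ x = 1)
    (h2 : φ (A x) = 1) (m : ℕ) (hm : 1 ≤ m) (b : V) (c : Module.Dual K V)
    (hb : φ b ≠ 0) (hc : c x ≠ 0)
    (hgood : RUGood m (ruSchur A x φ h2) (ruVec A x φ h1 h2) (ruCov A φ)) :
    RUGood (m + 1) A b c := by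
  obtain ⟨B', C', hA', hB', hC', hb', w', hw'⟩ := hgood
  set P := ruProj x φ h1 with hP
  set b' := ruVec A x φ h1 h2 with hb'def
  set c' := ruCov A φ with hc'def
  let B : Module.End K V :=
    (LinearMap.toSpanSingleton K V (A x)) ∘ₗ φ + (LinearMap.ker φ).subtype ∘ₗ B' ∘ₗ P
  let C : Module.End K V :=
    (LinearMap.toSpanSingleton K V x) ∘ₗ (φ + c' ∘ₗ P) + (LinearMap.ker φ).subtype ∘ₗ C' ∘ₗ P
  have hBv : ∀ v, B v = φ v • A x + ((B' (P v) : LinearMap.ker φ) : V) := by
    intro v; simp [B]
  have hCv : ∀ v, C v = (φ v + c' (P v)) • x + ((C' (P v) : LinearMap.ker φ) : V) := by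
    intro v; simp [C]
  have hφW : ∀ w : LinearMap.ker φ, φ (w : V) = 0 := fun w => w.2
  have hφC : ∀ v, φ (C v) = φ v + c' (P v) := by
    intro v
    rw [hCv, map_add, map_smul, h1, hφW]; simp
  have hPC : ∀ v, P (C v) = C' (P v) := by
    intro v
    rw [hCv, map_add, map_smul, ruProj_self, smul_zero, zero_add, ruProj_mem]
  have hPW : ∀ w : LinearMap.ker φ, P (w : V) = w := fun w => ruProj_mem x φ h1 w
  have hdec : ∀ v, v = φ v • x + ((P v : LinearMap.ker φ) : V) := fun v => ruProj_decomp x φ h1 v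
  have hBC : A = B * C := by
    ext v
    rw [Module.End.mul_apply, hBv, hφC, hPC]
    have e1 : B' (C' (P v)) = ruSchur A x φ h2 (P v) := by
      rw [hA']; rfl
    rw [e1, ruSchur_coe]
    have e2 : c' (P v) = φ (A (P v : LinearMap.ker φ)) := rfl
    rw [e2]
    conv_lhs => rw [hdec v, map_add, map_smul]
    module
  -- powers of B - 1
  let nb : V →ₗ[K] LinearMap.ker φ := (LinearMap.toSpanSingleton K (LinearMap.ker φ) b') ∘ₗ φ + (B' - 1) ∘ₗ P
  have hnbv : ∀ v, nb v = φ v • b' + (B' - 1) (P v) := by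
    intro v; simp [nb]
  have hB1 : ∀ v : V, (B - 1) v = ((nb v : LinearMap.ker φ) : V) := by
    intro v
    have e := hdec v
    have e2 : (B - 1) v = B v - (φ v • x + ((P v : LinearMap.ker φ) : V)) := by
      rw [LinearMap.sub_apply, Module.End.one_apply]
      exact congrArg (fun z => B v - z) e
    have : ((φ v • b' + (B' - 1) (P v) : LinearMap.ker φ) : V)
        = φ v • (A x - x) + (((B' (P v) : LinearMap.ker φ) : V) - ((P v : LinearMap.ker φ) : V)) := by
      simp [b', ruVec]
    rw [e2, hBv, hnbv, this]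
    module
  have hnbW : ∀ w : LinearMap.ker φ, nb (w : V) = (B' - 1) w := by
    intro w
    rw [hnbv, hφW, zero_smul, zero_add, hPW]
  have hBpow : ∀ (k : ℕ) (v : V), ((B - 1) ^ (k + 1)) v = (((B' - 1) ^ k) (nb v) : LinearMap.ker φ) := by
    intro k
    induction k with
    | zero => intro v; simp [hB1]
    | succ k ih =>
      intro v
      rw [pow_succ, Module.End.mul_apply, ih, hB1, hnbW, pow_succ, Module.End.mul_apply]
  -- powers of C - 1
  have hC1 : ∀ v : V, (C - 1) v
      = c' (P v) • x + (((C' - 1) (P v) : LinearMap.ker φ) : V) := by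
    intro v
    have e := hdec v
    have e2 : (C - 1) v = C v - (φ v • x + ((P v : LinearMap.ker φ) : V)) := by
      rw [LinearMap.sub_apply, Module.End.one_apply]
      exact congrArg (fun z => C v - z) e
    have : (((C' - 1) (P v) : LinearMap.ker φ) : V)
        = ((C' (P v) : LinearMap.ker φ) : V) - ((P v : LinearMap.ker φ) : V) := by simp
    rw [e2, hCv, this]
    module
  have hPC1 : ∀ v : V, P ((C - 1) v) = (C' - 1) (P v) := by
    intro v
    rw [hC1, map_add, map_smul, ruProj_self, smul_zero, zero_add, hPW]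
  have hPCpow : ∀ (k : ℕ) (v : V), P (((C - 1) ^ k) v) = ((C' - 1) ^ k) (P v) := by
    intro k
    induction k with
    | zero => intro v; simp
    | succ k ih =>
      intro v
      rw [pow_succ', Module.End.mul_apply, hPC1, ih, pow_succ', Module.End.mul_apply]
  have hCpow : ∀ (k : ℕ) (v : V), ((C - 1) ^ (k + 1)) v
      = c' (((C' - 1) ^ k) (P v)) • x + ((((C' - 1) ^ (k + 1)) (P v) : LinearMap.ker φ) : V) := by
    intro k v
    rw [pow_succ', Module.End.mul_apply, hC1, hPCpow, pow_succ', Module.End.mul_apply]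
  refine ⟨B, C, hBC, ?_, ?_, ?_, ?_⟩
  · ext v
    rw [hBpow, hB']; simp
  · ext v
    rw [hCpow, hC', pow_succ, hC']; simp
  · have hm1 : m + 1 - 1 = (m - 1) + 1 := by omega
    rw [hm1, hBpow, hnbv, map_add, map_smul]
    have e1 : ((B' - 1) ^ (m - 1)) ((B' - 1) (P b)) = 0 := by
      rw [← Module.End.mul_apply, ← pow_succ, Nat.sub_add_cancel hm, hB']; simp
    rw [e1, add_zero]
    intro h0
    have h3 : φ b • ((B' - 1) ^ (m - 1)) b' = 0 := by
      apply Subtype.ext
      simpa using h0
    rcases smul_eq_zero.1 h3 with h4 | h4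
    · exact hb h4
    · exact hb' h4
  · refine ⟨(w' : V), ?_⟩
    have hm1 : m + 1 - 1 = (m - 1) + 1 := by omega
    rw [hm1, hCpow, hPW, Nat.sub_add_cancel hm, hC']
    simp only [LinearMap.zero_apply, ZeroMemClass.coe_zero, add_zero, map_smul, smul_eq_mul]
    exact mul_ne_zero hw' hc

end Step

end Cfsg.Agent.Lib.Helper13
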