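import Mathlib
import Cfsg.Agent.Lib.Helper13.RUStep

/-!
# Determinant of the Schur complement; the one-dimensional base case (helper13)
-/

set_option autoImplicit false

namespace Cfsg.Agent.Lib.Helper13

open Module

section Det

variable {K : Type*} [Field K] {V : Type*} [AddCommGroup V] [Module K V]

theorem ru_eq_smul_of_finrank_one [FiniteDimensional K V] (h : finrank K V = 1)
    (f : Module.End K V) : ∃ a : K, f = a • 1 := by
  apply LinearMap.exists_eq_smul_id_of_forall_notLinearIndependent
  intro v hli
  have := hli.fintype_card_le_finrank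
  simp at this
  omega

theorem ru_eq_one_of_finrank_one [FiniteDimensional K V] (h : finrank K V = 1)
    (f : Module.End K V) (hdet : LinearMap.det f = 1) : f = 1 := by
  obtain ⟨a, ha⟩ := ru_eq_smul_of_finrank_one h f
  rw [ha, LinearMap.det_smul, h, pow_one] at hdet
  have h1 : LinearMap.det (1 : Module.End K V) = 1 := by
    exact LinearMap.det_id
  rw [h1, mul_one] at hdet
  rw [ha, hdet, one_smul]

theorem ru_base [FiniteDimensional K V] (h : finrank K V = 1) (A : Module.End K V)
    (hdet : LinearMap.det A = 1) (b : V) (c : Module.Dual K V) (hb : b ≠ 0) (hc : c ≠ 0) :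
    RUGood 1 A b c := by
  have hA : A = 1 := ru_eq_one_of_finrank_one h A hdet
  obtain ⟨w, hw⟩ : ∃ w, c w ≠ 0 := by
    by_contra hcon
    push Not at hcon
    exact hc (LinearMap.ext hcon)
  refine ⟨1, 1, by rw [hA, one_mul], by simp, by simp, by simpa using hb, w, by simpa using hw⟩

/-- the isomorphism `V ≃ K × ker φ` attached to `(x, φ)` -/
noncomputable def ruSplit (x : V) (φ : Module.Dual K V) (h1 : φ x = 1) :
    V ≃ₗ[K] (K × LinearMap.ker φ) :=
  LinearEquiv.ofLinear (φ.prod (ruProj x φ h1))
    ((LinearMap.toSpanSingleton K V x).coprod (LinearMap.ker φ).subtype)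
    (by
      apply LinearMap.ext
      rintro ⟨a, w⟩
      have hw : φ (w : V) = 0 := w.2
      apply Prod.ext
      · simp [h1, hw]
      · apply Subtype.ext
        simp [h1, hw])
    (by
      apply LinearMap.ext
      intro v
      simp)

theorem ru_schur_det [FiniteDimensional K V] (A : Module.End K V) (x : V)
    (φ : Module.Dual K V) (h1 : φ x = 1) (h2 : φ (A x) = 1) :
    LinearMap.det (ruSchur A x φ h2) = LinearMap.det A := by
  set P := ruProj x φ h1 with hP
  set A' := ruSchur A x φ h2 with hA'
  set c' := ruCov A φ with hc'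
  let E : Module.End K V := LinearMap.transvection φ (A x - x)
  let T1 : Module.End K V := LinearMap.transvection (c' ∘ₗ P) x
  let T2 : Module.End K V :=
    (LinearMap.toSpanSingleton K V x) ∘ₗ φ + (LinearMap.ker φ).subtype ∘ₗ A' ∘ₗ P
  have hφW : ∀ w : LinearMap.ker φ, φ (w : V) = 0 := fun w => w.2
  have hdec : ∀ v, v = φ v • x + ((P v : LinearMap.ker φ) : V) :=
    fun v => ruProj_decomp x φ h1 v
  have hT1v : ∀ v, T1 v = v + c' (P v) • x := by
    intro v; simp [T1, LinearMap.transvection.apply]
  have hT2v : ∀ v, T2 v = φ v • x + ((A' (P v) : LinearMap.ker φ) : V) := by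
    intro v; simp [T2]
  have hEv : ∀ v, E v = v + φ v • (A x - x) := by
    intro v; simp [E, LinearMap.transvection.apply]
  have hfac : A = E * T2 * T1 := by
    ext v
    rw [Module.End.mul_apply, Module.End.mul_apply, hT1v, hT2v, hEv]
    have e1 : φ (v + c' (P v) • x) = φ v + c' (P v) := by
      rw [map_add, map_smul, h1]; simp
    have e2 : P (v + c' (P v) • x) = P v := by
      rw [map_add, map_smul, ruProj_self, smul_zero, add_zero]
    rw [e1, e2]
    have e3 : φ ((φ v + c' (P v)) • x + ((A' (P v) : LinearMap.ker φ) : V))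
        = φ v + c' (P v) := by
      rw [map_add, map_smul, h1, hφW]; simp
    rw [e3, ruSchur_coe]
    have e4 : c' (P v) = φ (A (P v : LinearMap.ker φ)) := rfl
    rw [e4]
    have e5 : A v = φ v • A x + A ((P v : LinearMap.ker φ) : V) := by
      conv_lhs => rw [hdec v, map_add, map_smul]
    rw [e5]
    module
  have hE : LinearMap.det E = 1 := by
    simp only [E]
    rw [LinearMap.transvection.det, map_sub, h1, h2, sub_self, add_zero]
  have hT1 : LinearMap.det T1 = 1 := by
    simp only [T1]
    rw [LinearMap.transvection.det, LinearMap.comp_apply, ruProj_self, map_zero, add_zero]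
  have hT2 : LinearMap.det T2 = LinearMap.det A' := by
    set e := ruSplit x φ h1 with he
    have hconj : ((e : V →ₗ[K] (K × LinearMap.ker φ)) ∘ₗ T2 ∘ₗ
        (e.symm : (K × LinearMap.ker φ) →ₗ[K] V))
        = LinearMap.prodMap (LinearMap.id : K →ₗ[K] K) A' := by
      apply LinearMap.ext
      rintro ⟨a, w⟩
      have hsymm : e.symm (a, w) = a • x + (w : V) := by
        simp [e, ruSplit]
      have he_apply : ∀ v, e v = (φ v, P v) := by
        intro v; simp [e, ruSplit, P]
      simp only [LinearMap.comp_apply, LinearEquiv.coe_coe, hsymm, hT2v, he_apply,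
        LinearMap.prodMap_apply, LinearMap.id_apply]
      have e1 : φ (a • x + (w : V)) = a := by
        rw [map_add, map_smul, h1, hφW]; simp
      have e2 : P (a • x + (w : V)) = w := by
        rw [map_add, map_smul, ruProj_self, smul_zero, zero_add, ruProj_mem]
      rw [e1, e2]
      apply Prod.ext
      · simp only
        rw [map_add, map_smul, h1, hφW]; simp
      · simp only
        rw [map_add, map_smul, ruProj_self, smul_zero, zero_add, ruProj_mem]
    rw [← LinearMap.det_conj T2 e, hconj, LinearMap.det_prodMap, LinearMap.det_id, one_mul]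
  rw [hfac, map_mul, map_mul, hE, hT1, hT2, one_mul, mul_one]

end Det

end Cfsg.Agent.Lib.Helper13
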