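import Mathlib
import Cfsg.Agent.Lib.Helper13.RUAvoid
import Cfsg.Agent.Lib.Helper13.RUDet

/-!
# The key lemma: choosing `(x, φ)` for the Schur-complement step (helper13)
-/

set_option autoImplicit false

namespace Cfsg.Agent.Lib.Helper13

open Module Cardinal

section Key

variable {K : Type*} [Field K] {V : Type*} [AddCommGroup V] [Module K V]

/-- the conclusion of the key lemma -/
def RUKeyConcl (m : ℕ) (A : Module.End K V) (b : V) (c : Module.Dual K V) : Prop :=
  ∃ (x : V) (φ : Module.Dual K V), φ x = 1 ∧ φ (A x) = 1 ∧ φ b ≠ 0 ∧ c x ≠ 0 ∧ A x ≠ x ∧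
    (∃ t, φ t = 0 ∧ φ (A t) ≠ 0) ∧
    (2 ≤ m →
      (∃ u v, φ u = 0 ∧ φ v = 0 ∧ LinearIndependent K ![(A - 1) u, (A - 1) v, A x]) ∧
      ¬ ∃ ζ : K, ∀ w, φ w = 0 → A w - φ (A w) • A x = ζ • w)

theorem ru_finrank_span_singleton_le (v : V) :
    finrank K (Submodule.span K ({v} : Set V)) ≤ 1 := by
  have := finrank_span_le_card (R := K) ({v} : Set V)
  simpa using this

theorem ru_A_apply (A : Module.End K V) (v : V) : A v = v + (A - 1) v := by
  simp

theorem ru_key_assemble (m : ℕ) (A : Module.End K V) (b : V) (c : Module.Dual K V)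
    (x : V) (φ : Module.Dual K V) (hx1 : φ x = 1) (hM : φ ((A - 1) x) = 0) (hb : φ b ≠ 0)
    (hc : c x ≠ 0) (hMx : (A - 1) x ≠ 0) (ht : ∃ t, φ ((A - 1) t) ≠ 0)
    (h2 : 2 ≤ m →
      (∃ u v, φ u = 0 ∧ φ v = 0 ∧ LinearIndependent K ![(A - 1) u, (A - 1) v, A x]) ∧
      ¬ ∃ ζ : K, ∀ w, φ w = 0 → A w - φ (A w) • A x = ζ • w) :
    RUKeyConcl m A b c := by
  have hAx : φ (A x) = 1 := by rw [ru_A_apply A x, map_add, hx1, hM, add_zero]
  refine ⟨x, φ, hx1, hAx, hb, hc, ?_, ?_, h2⟩
  · intro h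
    apply hMx
    rw [LinearMap.sub_apply, h]; simp
  · obtain ⟨t, ht⟩ := ht
    refine ⟨t - φ t • x, by simp [hx1], ?_⟩
    have e : φ (A (t - φ t • x)) = φ ((A - 1) t) := by
      rw [ru_A_apply A (t - φ t • x)]
      simp only [map_add, map_sub, map_smul, hx1, hM, smul_eq_mul, mul_one, sub_self,
        mul_zero, sub_zero, zero_add]
    rw [e]; exact ht

theorem ru_li_M_of_li_A (A : Module.End K V) (x : V) (h : LinearIndependent K ![x, A x]) :
    LinearIndependent K ![x, (A - 1) x] := by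
  rw [LinearIndependent.pair_iff] at h ⊢
  intro s t hst
  have h1 : (s - t) • x + t • A x = 0 := by
    rw [← hst, LinearMap.sub_apply, Module.End.one_apply]; module
  obtain ⟨h2, h3⟩ := h _ _ h1
  rw [h3, sub_zero] at h2
  exact ⟨h2, h3⟩

theorem ru_li3_of_range (M : Module.End K V) (u v y : V)
    (h : LinearIndependent K ![M u, M v]) (hy : y ∉ LinearMap.range M) :
    LinearIndependent K ![M u, M v, y] := by
  rw [Fintype.linearIndependent_iff]
  intro g hg
  rw [Fin.sum_univ_three] at hg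
  simp only [Matrix.cons_val_zero, Matrix.cons_val_one, Matrix.cons_val_two] at hg
  have hg2 : g 2 = 0 := by
    by_contra hne
    apply hy
    refine ⟨-((g 2)⁻¹ • (g 0 • u + g 1 • v)), ?_⟩
    have h1 : g 2 • y = -(g 0 • M u + g 1 • M v) := by
      rw [eq_neg_iff_add_eq_zero, add_comm]; exact hg
    have h2 : y = (g 2)⁻¹ • (g 2 • y) := by
      rw [smul_smul, inv_mul_cancel₀ hne, one_smul]
    rw [h2, h1]
    simp only [map_neg, map_smul, map_add, smul_neg]
  rw [hg2, zero_smul, add_zero] at hg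
  rw [LinearIndependent.pair_iff] at h
  obtain ⟨h0, h1⟩ := h _ _ hg
  intro i
  fin_cases i
  · exact h0
  · exact h1
  · exact hg2


/-- for fixed `x`, at most one admissible `φ` has a scalar Schur complement -/
theorem ru_one_bad [FiniteDimensional K V] (hV : 3 ≤ finrank K V) (A : Module.End K V)
    (hinj : Function.Injective A) (x : V) (hx : LinearIndependent K ![x, A x])
    (φ1 φ2 : Module.Dual K V) (h11 : φ1 x = 1) (h12 : φ1 (A x) = 1) (h21 : φ2 x = 1)
    (h22 : φ2 (A x) = 1)
    (hs1 : ∃ ζ : K, ∀ w, φ1 w = 0 → A w - φ1 (A w) • A x = ζ • w)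
    (hs2 : ∃ ζ : K, ∀ w, φ2 w = 0 → A w - φ2 (A w) • A x = ζ • w) : φ1 = φ2 := by
  obtain ⟨ζ1, hζ1⟩ := hs1
  obtain ⟨ζ2, hζ2⟩ := hs2
  -- a common kernel vector
  obtain ⟨w, hw0, hw1, hw2⟩ : ∃ w : V, w ≠ 0 ∧ φ1 w = 0 ∧ φ2 w = 0 := by
    have hker : LinearMap.ker (φ1.prod φ2) ≠ ⊥ := by
      apply LinearMap.ker_ne_bot_of_finrank_lt
      rw [Module.finrank_prod, Module.finrank_self]
      omega
    obtain ⟨w, hw, hw0⟩ := (Submodule.ne_bot_iff _).1 hker
    rw [LinearMap.mem_ker, LinearMap.prod_apply] at hw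
    have hw' : (φ1 w, φ2 w) = (0 : K × K) := hw
    rw [Prod.mk_eq_zero] at hw'
    exact ⟨w, hw0, hw'.1, hw'.2⟩
  have hζ : ζ1 = ζ2 := by
    have e1 := hζ1 w hw1
    have e2 := hζ2 w hw2
    have e3 : (φ2 (A w) - φ1 (A w)) • A x = (ζ1 - ζ2) • w := by
      rw [sub_smul, sub_smul, ← e1, ← e2]; abel
    have e4 : φ2 (A w) - φ1 (A w) = 0 := by
      have := congrArg φ1 e3
      rw [map_smul, map_smul, h12, hw1] at this
      simpa using this
    rw [e4, zero_smul] at e3
    rcases smul_eq_zero.1 e3.symm with h | h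
    · exact sub_eq_zero.1 h
    · exact absurd h hw0
  subst hζ
  by_contra hne
  -- a vector of ker φ1 outside ker φ2
  obtain ⟨v0, hv0⟩ : ∃ v0, φ1 v0 ≠ φ2 v0 := by
    by_contra hcon
    push Not at hcon
    exact hne (LinearMap.ext hcon)
  set w1 := v0 - φ1 v0 • x with hw1def
  have hw1a : φ1 w1 = 0 := by simp [hw1def, h11]
  have hw1b : φ2 w1 ≠ 0 := by
    simp only [hw1def, map_sub, map_smul, h21, smul_eq_mul, mul_one]
    exact sub_ne_zero.2 (Ne.symm hv0)
  set x' := x - (φ2 w1)⁻¹ • w1 with hx'def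
  have hx'b : φ2 x' = 0 := by
    simp [hx'def, h21, inv_mul_cancel₀ hw1b]
  have e1 := hζ1 w1 hw1a
  have e2 := hζ2 x' hx'b
  -- (A - ζ) x ∈ K (A x)
  obtain ⟨α, h6⟩ : ∃ α : K, A x' = ζ1 • x' + α • A x := ⟨φ2 (A x'), by rw [← e2]; abel⟩
  obtain ⟨β, h7⟩ : ∃ β : K, A w1 = ζ1 • w1 + β • A x := ⟨φ1 (A w1), by rw [← e1]; abel⟩
  have e3 : A x - ζ1 • x = (α + (φ2 w1)⁻¹ * β) • A x := by
    have hx : x = x' + (φ2 w1)⁻¹ • w1 := by rw [hx'def]; abel
    have h5 : A x = A x' + (φ2 w1)⁻¹ • A w1 := by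
      conv_lhs => rw [hx, map_add, map_smul]
    have h8 : A x - ζ1 • x = (A x' + (φ2 w1)⁻¹ • A w1) - ζ1 • (x' + (φ2 w1)⁻¹ • w1) := by
      rw [← h5, ← hx]
    rw [h8, h6, h7]
    module
  rw [LinearIndependent.pair_iff] at hx
  have e4 := hx (-ζ1) (1 - (α + (φ2 w1)⁻¹ * β)) (by
    have : A x - ζ1 • x - (α + (φ2 w1)⁻¹ * β) • A x = 0 := by
      rw [e3, sub_self]
    rw [← this]; module)
  have hζ0 : ζ1 = 0 := neg_eq_zero.1 e4.1
  -- now A w ∈ K (A x) for the common kernel vector
  have e5 := hζ1 w hw1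
  rw [hζ0, zero_smul, sub_eq_zero] at e5
  have e6 : A (w - φ1 (A w) • x) = 0 := by rw [map_sub, map_smul, ← e5, sub_self]
  have e7 : w - φ1 (A w) • x = 0 := hinj (by rw [e6, map_zero])
  have e8 : φ1 (A w) = 0 := by
    have := congrArg φ1 e7
    rw [map_sub, map_smul, hw1, h11] at this
    simpa using this
  rw [e8, zero_smul, sub_zero] at e7
  exact hw0 e7

/-- a vector whose non-vanishing forces a non-scalar Schur complement -/
theorem ru_z3 [FiniteDimensional K V] (hV : 3 ≤ finrank K V) (A : Module.End K V)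
    (hinj : Function.Injective A) (x : V) (hx : LinearIndependent K ![x, A x]) (z0 : V)
    (hz0 : z0 ∉ Submodule.span K {(A - 1) x}) :
    ∃ z3 : V, z3 ∉ Submodule.span K {(A - 1) x} ∧
      ∀ φ : Module.Dual K V, φ x = 1 → φ (A x) = 1 → φ z3 ≠ 0 →
        ¬ ∃ ζ : K, ∀ w, φ w = 0 → A w - φ (A w) • A x = ζ • w := by
  by_cases hbad : ∃ φ0 : Module.Dual K V, φ0 x = 1 ∧ φ0 (A x) = 1 ∧
      ∃ ζ : K, ∀ w, φ0 w = 0 → A w - φ0 (A w) • A x = ζ • w
  · obtain ⟨φ0, h01, h02, h03⟩ := hbad
    have hφ0 : φ0 ≠ 0 := by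
      intro h; rw [h] at h01; simp at h01
    have hker : finrank K (LinearMap.ker φ0) + 1 = finrank K V :=
      Module.Dual.finrank_ker_add_one_of_ne_zero hφ0
    have hspan : finrank K (Submodule.span K {(A - 1) x}) ≤ 1 :=
      ru_finrank_span_singleton_le _
    obtain ⟨z3, hz3a, hz3b⟩ := ru_exists_mem_notMem (LinearMap.ker φ0)
      (Submodule.span K {(A - 1) x}) (by omega)
    refine ⟨z3, hz3b, ?_⟩
    intro φ h1 h2 h3 hs
    have := ru_one_bad hV A hinj x hx φ φ0 h1 h2 h01 h02 hs h03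
    rw [this] at h3
    exact h3 hz3a
  · refine ⟨z0, hz0, ?_⟩
    intro φ h1 h2 _ hs
    exact hbad ⟨φ, h1, h2, hs⟩


/-- two vectors of a subspace independent of a given vector -/
theorem ru_uv [FiniteDimensional K V] (W : Submodule K V) (z : V) (hz : z ≠ 0)
    (h : (z ∉ W ∧ 2 ≤ finrank K W) ∨ 3 ≤ finrank K W) :
    ∃ u v, u ∈ W ∧ v ∈ W ∧ LinearIndependent K ![u, v, z] := by
  classical
  have hW2 : 2 ≤ finrank K W := by
    rcases h with h | h
    · exact h.2
    · omega
  obtain ⟨u, huW, hu⟩ := ru_exists_mem_notMem W (Submodule.span K {z}) (by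
    have := ru_finrank_span_singleton_le (K := K) z
    omega)
  have hS2 : finrank K (Submodule.span K ({z, u} : Set V)) ≤ 2 := by
    have h1 := finrank_span_le_card (R := K) ({z, u} : Set V)
    have h2 : ({z, u} : Set V).toFinset.card ≤ 2 := by
      have : ({z, u} : Set V).toFinset = ({z, u} : Finset V) := by ext; simp
      rw [this]; exact Finset.card_le_two
    omega
  obtain ⟨v, hvW, hv⟩ : ∃ v ∈ W, v ∉ Submodule.span K ({z, u} : Set V) := by
    rcases h with h | h
    · by_contra hcon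
      push Not at hcon
      have hle : W ≤ Submodule.span K ({z, u} : Set V) := fun v hv => hcon v hv
      have heq := Submodule.eq_of_le_of_finrank_le hle (by omega)
      apply h.1
      rw [heq]
      exact Submodule.subset_span (by simp)
    · exact ru_exists_mem_notMem W _ (by omega)
  refine ⟨u, v, huW, hvW, ?_⟩
  rw [Fintype.linearIndependent_iff]
  intro g hg
  rw [Fin.sum_univ_three] at hg
  simp only [Matrix.cons_val_zero, Matrix.cons_val_one, Matrix.cons_val_two] at hg
  have hg1 : g 1 = 0 := by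
    by_contra hne
    apply hv
    have h1 : g 1 • v = -(g 0 • u + g 2 • z) := by
      rw [eq_neg_iff_add_eq_zero]; rw [← hg]; abel
    have h2 : v = (g 1)⁻¹ • (g 1 • v) := by
      rw [smul_smul, inv_mul_cancel₀ hne, one_smul]
    rw [h2, h1]
    apply Submodule.smul_mem
    apply Submodule.neg_mem
    apply Submodule.add_mem
    · exact Submodule.smul_mem _ _ (Submodule.subset_span (by simp))
    · exact Submodule.smul_mem _ _ (Submodule.subset_span (by simp))
  rw [hg1, zero_smul, add_zero] at hg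
  have hg0 : g 0 = 0 := by
    by_contra hne
    apply hu
    have h1 : g 0 • u = -(g 2 • z) := by
      rw [eq_neg_iff_add_eq_zero]; exact hg
    have h2 : u = (g 0)⁻¹ • (g 0 • u) := by
      rw [smul_smul, inv_mul_cancel₀ hne, one_smul]
    rw [h2, h1]
    apply Submodule.smul_mem
    apply Submodule.neg_mem
    exact Submodule.smul_mem _ _ (Submodule.mem_span_singleton_self z)
  rw [hg0, zero_smul, zero_add] at hg
  have hg2 : g 2 = 0 := by
    rcases smul_eq_zero.1 hg with h | h
    · exact h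
    · exact absurd h hz
  intro i
  fin_cases i
  · exact hg0
  · exact hg1
  · exact hg2

/-- determinant argument excluding a degenerate position in dimension three -/
theorem ru_detarg [FiniteDimensional K V] (hV : finrank K V = 3) (A : Module.End K V)
    (hdet : LinearMap.det A = 1) (hM : Function.Injective ((A - 1 : Module.End K V))) (x : V)
    (hx : LinearIndependent K ![x, (A - 1) x]) (s : K)
    (hs : s • (A - 1) ((A - 1) x) = A x) : False := by
  set M := A - 1 with hMdef
  have hA : ∀ v, A v = v + M v := fun v => ru_A_apply A v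
  have hxp := LinearIndependent.pair_iff.1 hx
  have hs0 : s ≠ 0 := by
    intro h0
    rw [h0, zero_smul, hA x] at hs
    have := hxp 1 1 (by rw [one_smul, one_smul]; exact hs.symm)
    exact one_ne_zero this.1
  have hMM : M (M x) = s⁻¹ • x + s⁻¹ • M x := by
    have : M (M x) = s⁻¹ • (s • M (M x)) := by
      rw [smul_smul, inv_mul_cancel₀ hs0, one_smul]
    rw [this, hs, hA x, smul_add]
  set U := Submodule.span K (Set.range ![x, M x]) with hUdef
  have hxU : x ∈ U := Submodule.subset_span ⟨0, rfl⟩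
  have hMxU : M x ∈ U := Submodule.subset_span ⟨1, rfl⟩
  have hU : U ≤ U.comap A := by
    rw [hUdef, Submodule.span_le]
    rintro _ ⟨i, rfl⟩
    fin_cases i
    · show A x ∈ U
      rw [hA x]; exact U.add_mem hxU hMxU
    · show A (M x) ∈ U
      rw [hA (M x), hMM]
      exact U.add_mem hMxU (U.add_mem (U.smul_mem _ hxU) (U.smul_mem _ hMxU))
  have hdetmul := LinearMap.det_eq_det_mul_det U A hU
  -- determinant of the restriction
  let bU : Basis (Fin 2) K U := Basis.span hx
  have hb0 : (bU 0 : V) = x := by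
    simp only [bU]; rw [Module.Basis.coe_span_apply]; rfl
  have hb1 : (bU 1 : V) = M x := by
    simp only [bU]; rw [Module.Basis.coe_span_apply]; rfl
  have hr0 : A.restrict hU (bU 0) = bU 0 + bU 1 := by
    apply Subtype.ext
    rw [LinearMap.coe_restrict_apply, Submodule.coe_add, hb0, hb1, hA x]
  have hr1 : A.restrict hU (bU 1) = s⁻¹ • bU 0 + (1 + s⁻¹) • bU 1 := by
    apply Subtype.ext
    rw [LinearMap.coe_restrict_apply, Submodule.coe_add, Submodule.coe_smul, Submodule.coe_smul,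
      hb0, hb1, hA (M x), hMM]
    module
  have hdetU : LinearMap.det (A.restrict hU) = 1 := by
    rw [← LinearMap.det_toMatrix bU, Matrix.det_fin_two]
    simp only [LinearMap.toMatrix_apply, hr0, hr1, map_add, map_smul, Basis.repr_self,
      Finsupp.coe_add, Finsupp.coe_smul, Pi.add_apply, Pi.smul_apply, Finsupp.single_apply,
      smul_eq_mul]
    simp
  rw [hdetU, one_mul, hdet] at hdetmul
  -- the quotient is one-dimensional
  have hfU : finrank K U = 2 := by
    rw [hUdef, finrank_span_eq_card hx]; simp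
  have hfQ : finrank K (V ⧸ U) = 1 := by
    have := Submodule.finrank_quotient_add_finrank U
    omega
  have hone := ru_eq_one_of_finrank_one hfQ (U.mapQ U A hU) hdetmul.symm
  have hrange : LinearMap.range M ≤ U := by
    rintro _ ⟨v, rfl⟩
    have h1 : U.mapQ U A hU (U.mkQ v) = U.mkQ v := by rw [hone]; rfl
    rw [Submodule.mkQ_apply, Submodule.mapQ_apply, Submodule.Quotient.eq] at h1
    have : M v = A v - v := by rw [hA v]; abel
    rw [this]; exact h1
  have h3 : finrank K (LinearMap.range M) = finrank K V := LinearMap.finrank_range_of_inj hM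
  have h4 := Submodule.finrank_mono hrange
  omega


theorem ru_inj_of_det [FiniteDimensional K V] (A : Module.End K V)
    (hdet : LinearMap.det A = 1) : Function.Injective A := by
  rw [← LinearMap.ker_eq_bot]
  by_contra h
  have := LinearMap.det_eq_zero_iff_ker_ne_bot.2 h
  rw [hdet] at this
  exact one_ne_zero this

theorem ru_notMem_span_swap {a b : V} (ha : a ≠ 0) (h : a ∉ Submodule.span K {b}) :
    b ∉ Submodule.span K {a} ∨ b = 0 := by
  by_cases hb : b = 0
  · exact Or.inr hb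
  left
  intro hmem
  obtain ⟨s, hs⟩ := Submodule.mem_span_singleton.1 hmem
  have hs0 : s ≠ 0 := by
    intro h0; rw [h0, zero_smul] at hs; exact hb hs.symm
  apply h
  rw [Submodule.mem_span_singleton]
  exact ⟨s⁻¹, by rw [← hs, smul_smul, inv_mul_cancel₀ hs0, one_smul]⟩

/-- key lemma, regime `A - 1` injective -/
theorem ru_key_inj (hK : 4 ≤ #K) [FiniteDimensional K V] (m : ℕ) (hm : 1 ≤ m)
    (hV : finrank K V = m + 1) (A : Module.End K V) (hdet : LinearMap.det A = 1)
    (hNS : ¬ ∃ a : K, A = a • 1)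
    (hMinj : Function.Injective ((A - 1 : Module.End K V)))
    (b : V) (c : Module.Dual K V) (hb : b ≠ 0) (hc : c ≠ 0) : RUKeyConcl m A b c := by
  set M := A - 1 with hMdef
  have hMsurj : Function.Surjective M := LinearMap.surjective_of_injective hMinj
  have hAinj : Function.Injective A := ru_inj_of_det A hdet
  -- the two subspaces to avoid
  have hkc : LinearMap.ker c ≠ ⊤ := by
    intro h
    apply hc
    apply LinearMap.ext
    intro v
    have : v ∈ LinearMap.ker c := by rw [h]; trivial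
    simpa using this
  have hSb : (Submodule.span K ({b} : Set V)).comap M ≠ ⊤ := by
    intro h
    have hle : (⊤ : Submodule K V) ≤ Submodule.span K ({b} : Set V) := by
      intro v _
      obtain ⟨t, rfl⟩ := hMsurj v
      have : t ∈ (Submodule.span K ({b} : Set V)).comap M := by rw [h]; trivial
      exact this
    have h1 := Submodule.finrank_mono hle
    rw [finrank_top, hV] at h1
    have := ru_finrank_span_singleton_le (K := K) b
    omega
  obtain ⟨x, hxc, hxb, hxA⟩ := ru_exists_noneigen hK A hNS _ _ hkc hSb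
  have hcx : c x ≠ 0 := by
    intro h; exact hxc (by simpa using h)
  have hMxb : M x ∉ Submodule.span K ({b} : Set V) := fun h => hxb h
  have hxM : LinearIndependent K ![x, M x] := ru_li_M_of_li_A A x hxA
  have hMx0 : M x ≠ 0 := by
    intro h; apply hMxb; rw [h]; exact Submodule.zero_mem _
  have hbMx : b ∉ Submodule.span K ({M x} : Set V) := by
    rcases ru_notMem_span_swap hMx0 hMxb with h | h
    · exact h
    · exact absurd h hb
  have hx0 : x ≠ 0 := by
    intro h
    rw [h] at hMx0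
    exact hMx0 (map_zero M)
  obtain ⟨z, hz⟩ := hMsurj (A x)
  have hz0 : z ≠ 0 := by
    intro h
    rw [h, map_zero] at hz
    exact hx0 (hAinj (by rw [← hz, map_zero]))
  obtain ⟨z2, hz2, hz2P⟩ : ∃ z2, z2 ∉ Submodule.span K ({M x} : Set V) ∧ (m = 2 → z2 = z) := by
    by_cases hm2 : m = 2
    · refine ⟨z, ?_, fun _ => rfl⟩
      intro hmem
      obtain ⟨s, hs⟩ := Submodule.mem_span_singleton.1 hmem
      apply ru_detarg (by omega) A hdet hMinj x hxM s
      show s • M (M x) = A x
      rw [← map_smul, hs, hz]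
    · exact ⟨b, hbMx, fun h => absurd h hm2⟩
  obtain ⟨z3, hz3, hz3P⟩ : ∃ z3, z3 ∉ Submodule.span K ({M x} : Set V) ∧ (2 ≤ m →
      ∀ φ : Module.Dual K V, φ x = 1 → φ (A x) = 1 → φ z3 ≠ 0 →
        ¬ ∃ ζ : K, ∀ w, φ w = 0 → A w - φ (A w) • A x = ζ • w) := by
    by_cases hm2 : 2 ≤ m
    · obtain ⟨z3, h1, h2⟩ := ru_z3 (by omega) A hAinj x hxA b hbMx
      exact ⟨z3, h1, fun _ => h2⟩
    · exact ⟨b, hbMx, fun h => absurd h hm2⟩
  obtain ⟨φ, hφx, hφM, hφb, hφ2, hφ3⟩ := ru_exists_dual3 hK x (M x) b z2 z3 hxM hbMx hz2 hz3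
  have hφ0 : φ ≠ 0 := by
    intro h; rw [h] at hφx; simp at hφx
  have hkerφ : finrank K (LinearMap.ker φ) + 1 = finrank K V :=
    Module.Dual.finrank_ker_add_one_of_ne_zero hφ0
  apply ru_key_assemble m A b c x φ hφx hφM hφb hcx hMx0
  · obtain ⟨t, ht⟩ := hMsurj x
    exact ⟨t, by rw [ht, hφx]; exact one_ne_zero⟩
  · intro h2m
    have hAx : φ (A x) = 1 := by rw [ru_A_apply A x, map_add, hφx, hφM, add_zero]
    refine ⟨?_, hz3P h2m φ hφx hAx hφ3⟩
    have hcond : (z ∉ LinearMap.ker φ ∧ 2 ≤ finrank K (LinearMap.ker φ)) ∨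
        3 ≤ finrank K (LinearMap.ker φ) := by
      by_cases hm2 : m = 2
      · left
        refine ⟨?_, by omega⟩
        rw [← hz2P hm2]
        intro h
        exact hφ2 (by simpa using h)
      · right; omega
    obtain ⟨u, v, hu, hv, hli⟩ := ru_uv (LinearMap.ker φ) z hz0 hcond
    refine ⟨u, v, by simpa using hu, by simpa using hv, ?_⟩
    have h3 := hli.map' M (LinearMap.ker_eq_bot.2 hMinj)
    have h4 : (M ∘ ![u, v, z]) = ![M u, M v, A x] := by
      funext i
      fin_cases i
      · rfl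
      · rfl
      · exact hz
    rw [h4] at h3
    exact h3


theorem ru_li_A_of_li_M (A : Module.End K V) (x : V)
    (h : LinearIndependent K ![x, (A - 1) x]) : LinearIndependent K ![x, A x] := by
  rw [LinearIndependent.pair_iff] at h ⊢
  intro s t hst
  have h1 : (s + t) • x + t • (A - 1) x = 0 := by
    rw [← hst, LinearMap.sub_apply, Module.End.one_apply]; module
  obtain ⟨h2, h3⟩ := h _ _ h1
  rw [h3, add_zero] at h2
  exact ⟨h2, h3⟩

theorem ru_exists_notMem_span_of_li {a a' : V} (h : LinearIndependent K ![a, a']) (y : V) :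
    a ∉ Submodule.span K ({y} : Set V) ∨ a' ∉ Submodule.span K ({y} : Set V) := by
  by_contra hcon
  push Not at hcon
  obtain ⟨h1, h2⟩ := hcon
  obtain ⟨s, hs⟩ := Submodule.mem_span_singleton.1 h1
  obtain ⟨t, ht⟩ := Submodule.mem_span_singleton.1 h2
  rw [LinearIndependent.pair_iff] at h
  have e1 := h t (-s) (by rw [← hs, ← ht]; module)
  have hs0 : s = 0 := neg_eq_zero.1 e1.2
  have ha : a = 0 := by rw [← hs, hs0, zero_smul]
  have e2 := h 1 0 (by rw [ha]; simp)
  exact one_ne_zero e2.1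

/-- rank-two witnesses inside `ker φ`, obtained by projecting along a kernel vector -/
theorem ru_d_of_ker (M : Module.End K V) (φ : Module.Dual K V) (k : V) (hk : M k = 0)
    (hφk : φ k ≠ 0) (u0 v0 : V) (h : LinearIndependent K ![M u0, M v0]) (y : V)
    (hy : y ∉ LinearMap.range M) :
    ∃ u v, φ u = 0 ∧ φ v = 0 ∧ LinearIndependent K ![M u, M v, y] := by
  refine ⟨u0 - (φ u0 * (φ k)⁻¹) • k, v0 - (φ v0 * (φ k)⁻¹) • k, ?_, ?_, ?_⟩
  · rw [map_sub, map_smul, smul_eq_mul, mul_assoc, inv_mul_cancel₀ hφk, mul_one, sub_self]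
  · rw [map_sub, map_smul, smul_eq_mul, mul_assoc, inv_mul_cancel₀ hφk, mul_one, sub_self]
  · have e1 : M (u0 - (φ u0 * (φ k)⁻¹) • k) = M u0 := by
      rw [map_sub, map_smul, hk, smul_zero, sub_zero]
    have e2 : M (v0 - (φ v0 * (φ k)⁻¹) • k) = M v0 := by
      rw [map_sub, map_smul, hk, smul_zero, sub_zero]
    have := ru_li3_of_range M u0 v0 y h hy
    rw [e1, e2]
    exact this

theorem ru_ker_c_ne_top (c : Module.Dual K V) (hc : c ≠ 0) : LinearMap.ker c ≠ ⊤ := by
  intro h
  apply hc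
  apply LinearMap.ext
  intro v
  have : v ∈ LinearMap.ker c := by rw [h]; trivial
  simpa using this

theorem ru_Sb_ne_top (M : Module.End K V) (b : V) (u0 v0 : V)
    (h : LinearIndependent K ![M u0, M v0]) :
    (Submodule.span K ({b} : Set V)).comap M ≠ ⊤ := by
  intro htop
  have h1 : M u0 ∈ Submodule.span K ({b} : Set V) := by
    have : u0 ∈ (Submodule.span K ({b} : Set V)).comap M := by rw [htop]; trivial
    exact this
  have h2 : M v0 ∈ Submodule.span K ({b} : Set V) := by
    have : v0 ∈ (Submodule.span K ({b} : Set V)).comap M := by rw [htop]; trivial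
    exact this
  rcases ru_exists_notMem_span_of_li h b with h3 | h3
  · exact h3 h1
  · exact h3 h2

/-- common facts about a vector outside `range M` with `M x ∉ span {b}` -/
theorem ru_sing_facts (A : Module.End K V) (b x : V) (hb : b ≠ 0)
    (hxr : x ∉ LinearMap.range (A - 1))
    (hxb : (A - 1) x ∉ Submodule.span K ({b} : Set V)) :
    (A - 1) x ≠ 0 ∧ b ∉ Submodule.span K ({(A - 1) x} : Set V) ∧
      LinearIndependent K ![x, (A - 1) x] ∧ A x ∉ LinearMap.range (A - 1) := by
  have hMx0 : (A - 1) x ≠ 0 := by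
    intro h; apply hxb; rw [h]; exact Submodule.zero_mem _
  refine ⟨hMx0, ?_, ?_, ?_⟩
  · rcases ru_notMem_span_swap hMx0 hxb with h | h
    · exact h
    · exact absurd h hb
  · rw [LinearIndependent.pair_iff]
    intro s t hst
    have hs : s = 0 := by
      by_contra hne
      apply hxr
      refine ⟨-(s⁻¹ * t) • x, ?_⟩
      have h1 : s • x = -(t • (A - 1) x) := by
        rw [eq_neg_iff_add_eq_zero]; exact hst
      have h2 : x = s⁻¹ • (s • x) := by rw [smul_smul, inv_mul_cancel₀ hne, one_smul]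
      conv_rhs => rw [h2, h1]
      rw [map_smul]; module
    rw [hs, zero_smul, zero_add] at hst
    rcases smul_eq_zero.1 hst with h | h
    · exact ⟨hs, h⟩
    · exact absurd h hMx0
  · intro h
    apply hxr
    obtain ⟨t, ht⟩ := h
    refine ⟨t - x, ?_⟩
    rw [map_sub, ht, ru_A_apply A x]; abel


theorem ru_li3_no_rel {a a' y : V} (h : LinearIndependent K ![a, a', y]) (s : K) :
    a ≠ s • y := by
  intro heq
  rw [Fintype.linearIndependent_iff] at h
  have h1 := h (fun i => if i = 0 then 1 else if i = 1 then 0 else -s) (by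
    rw [Fin.sum_univ_three]
    have e0 : (![a, a', y] : Fin 3 → V) 0 = a := rfl
    have e1 : (![a, a', y] : Fin 3 → V) 1 = a' := rfl
    have e2 : (![a, a', y] : Fin 3 → V) 2 = y := rfl
    rw [e0, e1, e2]
    have c0 : (if (0 : Fin 3) = 0 then (1 : K) else if (0 : Fin 3) = 1 then 0 else -s) = 1 := by
      simp
    have c1 : (if (1 : Fin 3) = 0 then (1 : K) else if (1 : Fin 3) = 1 then 0 else -s) = 0 := by
      simp
    have c2 : (if (2 : Fin 3) = 0 then (1 : K) else if (2 : Fin 3) = 1 then 0 else -s) = -s := by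
      simp
    rw [c0, c1, c2, heq]
    module) 0
  simp at h1

theorem ru_range_ne_top [FiniteDimensional K V] (M : Module.End K V) (k : V) (hk0 : k ≠ 0)
    (hk : M k = 0) : LinearMap.range M ≠ ⊤ := by
  intro h
  have hsurj : Function.Surjective M := LinearMap.range_eq_top.1 h
  have hinj : Function.Injective M := LinearMap.injective_iff_surjective.2 hsurj
  exact hk0 (hinj (by rw [hk, map_zero]))

/-- key lemma, regime `(A - 1)^2 = 0` -/
theorem ru_key_sq_zero (hK : 4 ≤ #K) [FiniteDimensional K V] (m : ℕ)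
    (A : Module.End K V)
    (hR2 : ∃ u v, LinearIndependent K ![(A - 1) u, (A - 1) v])
    (hsq : ∀ v, (A - 1) ((A - 1) v) = 0)
    (b : V) (c : Module.Dual K V) (hb : b ≠ 0) (hc : c ≠ 0) : RUKeyConcl m A b c := by
  classical
  set M := A - 1 with hMdef
  obtain ⟨u0, v0, huv⟩ := hR2
  have huvp := LinearIndependent.pair_iff.1 huv
  have hk10 : M u0 ≠ 0 := by
    intro h
    have := huvp 1 0 (by rw [h]; simp)
    exact one_ne_zero this.1
  -- x outside three proper subspaces
  obtain ⟨x, hx⟩ := ru_exists_avoid (K := K) (Finset.univ : Finset (Fin 3))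
    ![LinearMap.ker c, (Submodule.span K ({b} : Set V)).comap M, LinearMap.range M] (by
      intro i _
      fin_cases i
      · exact ru_ker_c_ne_top c hc
      · exact ru_Sb_ne_top M b u0 v0 huv
      · exact ru_range_ne_top M (M u0) hk10 (hsq u0)) (by
      have : ((3 : ℕ) : Cardinal) ≤ #K := le_trans (by norm_num) hK
      simpa using this)
  have hxc : x ∉ LinearMap.ker c := hx 0 (Finset.mem_univ _)
  have hxb : M x ∉ Submodule.span K ({b} : Set V) := hx 1 (Finset.mem_univ _)
  have hxr : x ∉ LinearMap.range M := hx 2 (Finset.mem_univ _)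
  have hcx : c x ≠ 0 := fun h => hxc (by simpa using h)
  obtain ⟨hMx0, hbMx, hxM, hAxr⟩ := ru_sing_facts A b x hb hxr hxb
  -- a kernel vector in the range, outside span {M x}
  obtain ⟨ta, htauv, hta⟩ : ∃ ta, (ta = u0 ∨ ta = v0) ∧
      M ta ∉ Submodule.span K ({M x} : Set V) := by
    rcases ru_exists_notMem_span_of_li huv (M x) with h | h
    · exact ⟨u0, Or.inl rfl, h⟩
    · exact ⟨v0, Or.inr rfl, h⟩
  obtain ⟨φ, hφx, hφM, hφb, hφ2, _⟩ :=
    ru_exists_dual3 hK x (M x) b (M ta) b hxM hbMx hta hbMx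
  apply ru_key_assemble m A b c x φ hφx hφM hφb hcx hMx0 ⟨ta, hφ2⟩
  intro _
  obtain ⟨u, v, hu, hv, hli⟩ := ru_d_of_ker M φ (M ta) (hsq ta) hφ2 u0 v0 huv (A x) hAxr
  refine ⟨⟨u, v, hu, hv, hli⟩, ?_⟩
  rintro ⟨ζ, hζ⟩
  -- a fixed vector inside ker φ
  set k := φ (M u0) • M v0 - φ (M v0) • M u0 with hkdef
  have hφk : φ k = 0 := by
    rw [hkdef, map_sub, map_smul, map_smul, smul_eq_mul, smul_eq_mul, mul_comm, sub_self]
  have hMk : M k = 0 := by
    rw [hkdef, map_sub, map_smul, map_smul, hsq, hsq, smul_zero, smul_zero, sub_zero]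
  have hk0 : k ≠ 0 := by
    intro h0
    have e := huvp (-φ (M v0)) (φ (M u0)) (by rw [← h0, hkdef]; module)
    have e1 : φ (M u0) = 0 := e.2
    have e2 : φ (M v0) = 0 := neg_eq_zero.1 e.1
    rcases htauv with h | h
    · rw [h] at hφ2; exact hφ2 e1
    · rw [h] at hφ2; exact hφ2 e2
  have hAk : A k = k := by rw [ru_A_apply A k, hMk, add_zero]
  have hζ1 : ζ = 1 := by
    have e := hζ k hφk
    rw [hAk, hφk, zero_smul, sub_zero] at e
    have e' : (1 - ζ) • k = 0 := by rw [sub_smul, one_smul, ← e, sub_self]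
    rcases smul_eq_zero.1 e' with h | h
    · exact (sub_eq_zero.1 h).symm
    · exact absurd h hk0
  have e := hζ u hu
  rw [hζ1, one_smul, ru_A_apply A u] at e
  have e' : M u - φ (u + M u) • A x = 0 := by
    rw [← sub_eq_zero] at e
    rw [← e]; abel
  exact ru_li3_no_rel hli (φ (u + M u)) (sub_eq_zero.1 e')


theorem ru_three_le_finrank [FiniteDimensional K V] (M : Module.End K V) (u0 v0 : V)
    (huv : LinearIndependent K ![M u0, M v0]) (k : V) (hk0 : k ≠ 0) (hk : M k = 0) :
    3 ≤ finrank K V := by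
  have h1 : 2 ≤ finrank K (LinearMap.range M) := by
    have hle : Submodule.span K (Set.range ![M u0, M v0]) ≤ LinearMap.range M := by
      rw [Submodule.span_le]
      rintro _ ⟨i, rfl⟩
      fin_cases i
      · exact ⟨u0, rfl⟩
      · exact ⟨v0, rfl⟩
    have h2 := Submodule.finrank_mono hle
    rw [finrank_span_eq_card huv] at h2
    simpa using h2
  have h3 : 1 ≤ finrank K (LinearMap.ker M) := by
    rw [Submodule.one_le_finrank_iff]
    exact (Submodule.ne_bot_iff _).2 ⟨k, by simpa using hk, hk0⟩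
  have := LinearMap.finrank_range_add_finrank_ker M
  omega

/-- key lemma, regime `A - 1` singular with nonzero square -/
theorem ru_key_sq_ne (hK : 4 ≤ #K) [FiniteDimensional K V] (m : ℕ)
    (A : Module.End K V) (hdet : LinearMap.det A = 1)
    (hR2 : ∃ u v, LinearIndependent K ![(A - 1) u, (A - 1) v])
    (k : V) (hk0 : k ≠ 0) (hk : (A - 1) k = 0)
    (hsq : ∃ v, (A - 1) ((A - 1) v) ≠ 0)
    (b : V) (c : Module.Dual K V) (hb : b ≠ 0) (hc : c ≠ 0) : RUKeyConcl m A b c := by
  classical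
  set M := A - 1 with hMdef
  obtain ⟨u0, v0, huv⟩ := hR2
  have hV3 : 3 ≤ finrank K V := ru_three_le_finrank M u0 v0 huv k hk0 hk
  have hAinj : Function.Injective A := ru_inj_of_det A hdet
  have hsqtop : LinearMap.ker (M * M) ≠ ⊤ := by
    intro h
    obtain ⟨v, hv⟩ := hsq
    apply hv
    have : v ∈ LinearMap.ker (M * M) := by rw [h]; trivial
    simpa using this
  obtain ⟨x, hx⟩ := ru_exists_avoid (K := K) (Finset.univ : Finset (Fin 4))
    ![LinearMap.ker c, (Submodule.span K ({b} : Set V)).comap M, LinearMap.range M,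
      LinearMap.ker (M * M)] (by
      intro i _
      fin_cases i
      · exact ru_ker_c_ne_top c hc
      · exact ru_Sb_ne_top M b u0 v0 huv
      · exact ru_range_ne_top M k hk0 hk
      · exact hsqtop) (by simpa using hK)
  have hxc : x ∉ LinearMap.ker c := hx 0 (Finset.mem_univ _)
  have hxb : M x ∉ Submodule.span K ({b} : Set V) := hx 1 (Finset.mem_univ _)
  have hxr : x ∉ LinearMap.range M := hx 2 (Finset.mem_univ _)
  have hx3 : x ∉ LinearMap.ker (M * M) := hx 3 (Finset.mem_univ _)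
  have hMMx : M (M x) ≠ 0 := fun h => hx3 (by simpa using h)
  have hcx : c x ≠ 0 := fun h => hxc (by simpa using h)
  obtain ⟨hMx0, hbMx, hxM, hAxr⟩ := ru_sing_facts A b x hb hxr hxb
  have hxA : LinearIndependent K ![x, A x] := ru_li_A_of_li_M A x hxM
  by_cases hinv : ∃ μ : K, M (M x) = μ • M x
  · -- invariant plane: use the kernel vector x - μ⁻¹ M x
    obtain ⟨μ, hμ⟩ := hinv
    have hμ0 : μ ≠ 0 := by
      intro h; rw [h, zero_smul] at hμ; exact hMMx hμ
    obtain ⟨t2, ht2⟩ : ∃ t2, M t2 ∉ Submodule.span K ({M x} : Set V) := by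
      rcases ru_exists_notMem_span_of_li huv (M x) with h | h
      · exact ⟨u0, h⟩
      · exact ⟨v0, h⟩
    obtain ⟨z3, hz3, hz3P⟩ := ru_z3 hV3 A hAinj x hxA b hbMx
    obtain ⟨φ, hφx, hφM, hφb, hφ2, hφ3⟩ :=
      ru_exists_dual3 hK x (M x) b (M t2) z3 hxM hbMx ht2 hz3
    have hAx : φ (A x) = 1 := by rw [ru_A_apply A x, map_add, hφx, hφM, add_zero]
    have hMk' : M (x - μ⁻¹ • M x) = 0 := by
      rw [map_sub, map_smul, hμ, smul_smul, inv_mul_cancel₀ hμ0, one_smul, sub_self]
    have hφk' : φ (x - μ⁻¹ • M x) ≠ 0 := by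
      rw [map_sub, map_smul, hφx, hφM, smul_zero, sub_zero]; exact one_ne_zero
    apply ru_key_assemble m A b c x φ hφx hφM hφb hcx hMx0 ⟨t2, hφ2⟩
    intro _
    exact ⟨ru_d_of_ker M φ _ hMk' hφk' u0 v0 huv (A x) hAxr, hz3P φ hφx hAx hφ3⟩
  · -- x, M x, M² x independent
    have hz2 : M (M x) ∉ Submodule.span K ({M x} : Set V) := by
      intro hmem
      obtain ⟨s, hs⟩ := Submodule.mem_span_singleton.1 hmem
      exact hinv ⟨s, hs.symm⟩
    have hz3 : k ∉ Submodule.span K ({M x} : Set V) := by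
      intro hmem
      obtain ⟨s, hs⟩ := Submodule.mem_span_singleton.1 hmem
      have h1 : s • M (M x) = 0 := by rw [← map_smul, hs, hk]
      rcases smul_eq_zero.1 h1 with h | h
      · rw [h, zero_smul] at hs; exact hk0 hs.symm
      · exact hMMx h
    obtain ⟨φ, hφx, hφM, hφb, hφ2, hφ3⟩ :=
      ru_exists_dual3 hK x (M x) b (M (M x)) k hxM hbMx hz2 hz3
    apply ru_key_assemble m A b c x φ hφx hφM hφb hcx hMx0 ⟨M x, hφ2⟩
    intro _
    refine ⟨ru_d_of_ker M φ k hk hφ3 u0 v0 huv (A x) hAxr, ?_⟩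
    rintro ⟨ζ, hζ⟩
    have e := hζ (M x) hφM
    obtain ⟨α, hα⟩ : ∃ α : K, α = φ (A (M x)) := ⟨_, rfl⟩
    rw [← hα, ru_A_apply A (M x), ru_A_apply A x] at e
    have e1 : M (M x) = α • x + (α + ζ - 1) • M x := by
      have : M (M x) = (M x + M (M x) - α • (x + M x)) - M x + α • (x + M x) := by abel
      rw [this, e]; module
    have hα0 : α = 0 := by
      by_contra hne
      apply hxr
      refine ⟨α⁻¹ • (M x - (α + ζ - 1) • x), ?_⟩
      rw [map_smul, map_sub, map_smul, e1]
      rw [smul_sub, smul_add, smul_smul, inv_mul_cancel₀ hne, one_smul]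
      abel
    rw [hα0, zero_smul, zero_add, zero_add] at e1
    exact hinv ⟨ζ - 1, e1⟩


/-- **Key lemma**: existence of `(x, φ)` for the Schur complement step. -/
theorem ru_key (hK : 4 ≤ #K) [FiniteDimensional K V] (m : ℕ) (hm : 1 ≤ m)
    (hV : finrank K V = m + 1) (A : Module.End K V) (hdet : LinearMap.det A = 1)
    (hNS : ¬ ∃ a : K, A = a • 1)
    (hR2 : ∃ u v, LinearIndependent K ![(A - 1) u, (A - 1) v])
    (b : V) (c : Module.Dual K V) (hb : b ≠ 0) (hc : c ≠ 0) : RUKeyConcl m A b c := by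
  by_cases hinj : Function.Injective ((A - 1 : Module.End K V))
  · exact ru_key_inj hK m hm hV A hdet hNS hinj b c hb hc
  · have hker : LinearMap.ker (A - 1 : Module.End K V) ≠ ⊥ := by
      intro h; exact hinj (LinearMap.ker_eq_bot.1 h)
    obtain ⟨k, hk, hk0⟩ := (Submodule.ne_bot_iff _).1 hker
    have hk' : (A - 1) k = 0 := by simpa using hk
    by_cases hsq : ∃ v, (A - 1) ((A - 1) v) ≠ 0
    · exact ru_key_sq_ne hK m A hdet hR2 k hk0 hk' hsq b c hb hc
    · push Not at hsq
      exact ru_key_sq_zero hK m A hR2 hsq b c hb hc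

end Key

end Cfsg.Agent.Lib.Helper13
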