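import Mathlib
import Cfsg.Agent.Lib.Helper13.RUKey

/-!
# Products of two regular unipotents: the main induction (helper13)
-/

set_option autoImplicit false

namespace Cfsg.Agent.Lib.Helper13

open Module Cardinal

universe u

section Induct

variable {K : Type*} [Field K]

theorem ru_li_sub {V : Type*} [AddCommGroup V] [Module K V] {a a' y : V}
    (h : LinearIndependent K ![a, a', y]) (s t : K) :
    LinearIndependent K ![a - s • y, a' - t • y] := by
  rw [LinearIndependent.pair_iff]
  intro p q hpq
  rw [Fintype.linearIndependent_iff] at h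
  have h1 := h (fun i => if i = 0 then p else if i = 1 then q else -(p * s + q * t)) (by
    rw [Fin.sum_univ_three]
    have e0 : (![a, a', y] : Fin 3 → V) 0 = a := rfl
    have e1 : (![a, a', y] : Fin 3 → V) 1 = a' := rfl
    have e2 : (![a, a', y] : Fin 3 → V) 2 = y := rfl
    rw [e0, e1, e2]
    have c0 : (if (0 : Fin 3) = 0 then p else if (0 : Fin 3) = 1 then q else -(p * s + q * t))
        = p := by simp
    have c1 : (if (1 : Fin 3) = 0 then p else if (1 : Fin 3) = 1 then q else -(p * s + q * t))
        = q := by simp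
    have c2 : (if (2 : Fin 3) = 0 then p else if (2 : Fin 3) = 1 then q else -(p * s + q * t))
        = -(p * s + q * t) := by simp
    rw [c0, c1, c2, ← hpq]
    module)
  have hp := h1 0
  have hq := h1 1
  simp at hp hq
  exact ⟨hp, hq⟩

/-- **Main induction**: nonscalar `A` of determinant one with `rank (A - 1) ≥ 2` is a product of
two regular unipotents, adapted to any nonzero `b` and `c`. -/
theorem ru_main (hK : 4 ≤ #K) (m : ℕ) (hm : 1 ≤ m) :
    ∀ (V : Type u) [AddCommGroup V] [Module K V] [FiniteDimensional K V], finrank K V = m →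
    ∀ A : Module.End K V, LinearMap.det A = 1 →
    (2 ≤ m → (¬ ∃ a : K, A = a • 1) ∧
      ∃ u v, LinearIndependent K ![(A - 1) u, (A - 1) v]) →
    ∀ (b : V) (c : Module.Dual K V), b ≠ 0 → c ≠ 0 → RUGood m A b c := by
  induction m, hm using Nat.le_induction with
  | base =>
    intro V _ _ _ hV A hdet _ b c hb hc
    exact ru_base hV A hdet b c hb hc
  | succ m hm ih =>
    intro V _ _ _ hV A hdet hyp b c hb hc
    obtain ⟨hNS, hR2⟩ := hyp (by omega)
    obtain ⟨x, φ, h1, h2, hφb, hcx, hAx, ⟨t, ht0, ht⟩, hrest⟩ :=
      ru_key hK m hm hV A hdet hNS hR2 b c hb hc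
    have hφ0 : φ ≠ 0 := by
      intro h; rw [h] at h1; simp at h1
    have hfW : finrank K (LinearMap.ker φ) = m := by
      have := Module.Dual.finrank_ker_add_one_of_ne_zero hφ0
      omega
    have hdet' : LinearMap.det (ruSchur A x φ h2) = 1 := by
      rw [ru_schur_det A x φ h1 h2, hdet]
    have hb' : ruVec A x φ h1 h2 ≠ 0 := by
      intro h
      apply hAx
      have := congrArg Subtype.val h
      simp only [ruVec, ZeroMemClass.coe_zero] at this
      exact sub_eq_zero.1 this
    have hc' : ruCov A φ ≠ 0 := by
      intro h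
      apply ht
      have := congrArg (fun f => f ⟨t, by simpa using ht0⟩) h
      simpa using this
    have hyp' : 2 ≤ m → (¬ ∃ a : K, ruSchur A x φ h2 = a • 1) ∧
        ∃ u v, LinearIndependent K ![(ruSchur A x φ h2 - 1) u, (ruSchur A x φ h2 - 1) v] := by
      intro h2m
      obtain ⟨⟨u, v, hu, hv, hli⟩, hns⟩ := hrest h2m
      refine ⟨?_, ?_⟩
      · rintro ⟨a, ha⟩
        apply hns
        refine ⟨a, fun w hw => ?_⟩
        have := congrArg (fun f => ((f ⟨w, by simpa using hw⟩ : LinearMap.ker φ) : V)) ha
        simpa using this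
      · refine ⟨⟨u, by simpa using hu⟩, ⟨v, by simpa using hv⟩, ?_⟩
        apply LinearIndependent.of_comp (LinearMap.ker φ).subtype
        have hsub := ru_li_sub hli (φ (A u)) (φ (A v))
        convert hsub using 1
        funext i
        fin_cases i
        · simp
          abel
        · simp
          abel
    have hgood := ih (LinearMap.ker φ) hfW (ruSchur A x φ h2) hdet' hyp'
      (ruVec A x φ h1 h2) (ruCov A φ) hb' hc'
    exact ru_typeI A x φ h1 h2 m hm b c hφb hcx hgood

end Induct

end Cfsg.Agent.Lib.Helper13
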