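import Mathlib
import Cfsg.Agent.Lib.Helper13.RUStep

/-!
# Transvections as products of two regular unipotents (helper13)
-/

set_option autoImplicit false

namespace Cfsg.Agent.Lib.Helper13

open Module

universe u

section Transv

variable {K : Type*} [Field K]

/-- extend a nilpotent operator on a hyperplane `ker θ` to the whole space -/
theorem ru_ext {V : Type*} [AddCommGroup V] [Module K V] (θ : Module.Dual K V) (e : V)
    (he : θ e = 1) (d : ℕ) (NH : Module.End K (LinearMap.ker θ)) (hNH : NH ^ (d + 1) = 0)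
    (h : LinearMap.ker θ) :
    ∃ N : Module.End K V, N ^ (d + 2) = 0 ∧ (N ^ (d + 1)) e = ((NH ^ d) h : LinearMap.ker θ) ∧
      (∀ v, θ (N v) = 0) ∧ (∀ w : LinearMap.ker θ, N (w : V) = ((NH w : LinearMap.ker θ) : V)) := by
  set P := ruProj e θ he with hP
  let n : V →ₗ[K] LinearMap.ker θ :=
    NH ∘ₗ P + (LinearMap.toSpanSingleton K (LinearMap.ker θ) h) ∘ₗ θ
  let N : Module.End K V := (LinearMap.ker θ).subtype ∘ₗ n
  have hnv : ∀ v, n v = NH (P v) + θ v • h := by
    intro v; simp [n]
  have hNv : ∀ v, N v = ((n v : LinearMap.ker θ) : V) := fun v => rfl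
  have hθW : ∀ w : LinearMap.ker θ, θ (w : V) = 0 := fun w => w.2
  have hnW : ∀ w : LinearMap.ker θ, n (w : V) = NH w := by
    intro w
    rw [hnv, hθW, zero_smul, add_zero, hP, ruProj_mem]
  have hpow : ∀ (k : ℕ) (v : V), (N ^ (k + 1)) v = (((NH ^ k) (n v) : LinearMap.ker θ) : V) := by
    intro k
    induction k with
    | zero => intro v; simp [hNv]
    | succ k ih =>
      intro v
      rw [pow_succ, Module.End.mul_apply, ih, hNv, hnW, pow_succ, Module.End.mul_apply]
  refine ⟨N, ?_, ?_, ?_, ?_⟩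
  · ext v
    rw [hpow, hNH]; simp
  · rw [hpow, hnv, he, one_smul, hP, ruProj_self, map_zero, zero_add]
  · intro v
    rw [hNv]; exact hθW _
  · intro w
    rw [hNv, hnW]

/-- a regular nilpotent operator whose top power hits a prescribed nonzero vector -/
theorem ru_nilp (d : ℕ) :
    ∀ (V : Type u) [AddCommGroup V] [Module K V] [FiniteDimensional K V],
      finrank K V = d + 1 → ∀ u : V, u ≠ 0 →
      ∃ N : Module.End K V, ∃ h : V, N ^ (d + 1) = 0 ∧ (N ^ d) h = u := by
  induction d with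
  | zero =>
    intro V _ _ _ _ u _
    exact ⟨0, u, by simp, by simp⟩
  | succ d ih =>
    intro V _ _ _ hV u hu
    obtain ⟨y, hy⟩ := exists_linearIndependent_pair_of_one_lt_finrank (R := K) (by omega) hu
    -- a functional killing u with value one at y
    set S := Submodule.span K ({u} : Set V) with hS
    have hyS : y ∉ S := by
      intro hmem
      obtain ⟨a, ha⟩ := Submodule.mem_span_singleton.1 hmem
      rw [LinearIndependent.pair_iff] at hy
      have := hy a (-1) (by rw [ha]; simp)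
      exact one_ne_zero (neg_eq_zero.1 this.2)
    have hmk : S.mkQ y ≠ 0 := by
      rw [Submodule.mkQ_apply, Ne, Submodule.Quotient.mk_eq_zero]; exact hyS
    obtain ⟨ψ, hψ⟩ : ∃ ψ : Module.Dual K (V ⧸ S), ψ (S.mkQ y) ≠ 0 := by
      by_contra hcon
      push Not at hcon
      exact hmk ((Module.forall_dual_apply_eq_zero_iff K _).1 hcon)
    set θ : Module.Dual K V := (ψ (S.mkQ y))⁻¹ • (ψ ∘ₗ S.mkQ) with hθ
    have hθy : θ y = 1 := by
      simp only [hθ, LinearMap.smul_apply, LinearMap.comp_apply, smul_eq_mul]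
      exact inv_mul_cancel₀ hψ
    have hθu : θ u = 0 := by
      have : S.mkQ u = 0 := by
        rw [Submodule.mkQ_apply, Submodule.Quotient.mk_eq_zero]
        exact Submodule.mem_span_singleton_self u
      simp [hθ, this]
    have hθ0 : θ ≠ 0 := by
      intro h; rw [h] at hθy; simp at hθy
    have hfH : finrank K (LinearMap.ker θ) = d + 1 := by
      have := Module.Dual.finrank_ker_add_one_of_ne_zero hθ0
      omega
    have hu' : (⟨u, by simpa using hθu⟩ : LinearMap.ker θ) ≠ 0 := by
      intro h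
      exact hu (congrArg Subtype.val h)
    obtain ⟨NH, hH, hNH, hNHu⟩ := ih (LinearMap.ker θ) hfH ⟨u, by simpa using hθu⟩ hu'
    obtain ⟨N, hN1, hN2, -, -⟩ := ru_ext θ y hθy d NH hNH hH
    refine ⟨N, y, hN1, ?_⟩
    rw [hN2, hNHu]

/-- A transvection on a space of dimension at least three is a product of two
regular unipotents. -/
theorem ru_transvection_case {V : Type u} [AddCommGroup V] [Module K V] [FiniteDimensional K V]
    (n : ℕ) (hn : 3 ≤ n) (hV : finrank K V = n) (A : Module.End K V) (u : V)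
    (θ : Module.Dual K V) (hu : u ≠ 0) (hθ : θ ≠ 0) (hθu : θ u = 0)
    (hA : ∀ v, A v = v + θ v • u) :
    ∃ B C : Module.End K V, A = B * C ∧ (B - 1) ^ n = 0 ∧ (C - 1) ^ n = 0 ∧
      (B - 1) ^ (n - 1) ≠ 0 ∧ (C - 1) ^ (n - 1) ≠ 0 := by
  obtain ⟨e0, he0⟩ : ∃ e0, θ e0 ≠ 0 := by
    by_contra hcon
    push Not at hcon
    exact hθ (LinearMap.ext hcon)
  set e := (θ e0)⁻¹ • e0 with hedef
  have he : θ e = 1 := by
    rw [hedef, map_smul, smul_eq_mul, inv_mul_cancel₀ he0]
  have hfH : finrank K (LinearMap.ker θ) = (n - 2) + 1 := by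
    have := Module.Dual.finrank_ker_add_one_of_ne_zero hθ
    omega
  have hu' : (⟨u, by simpa using hθu⟩ : LinearMap.ker θ) ≠ 0 := by
    intro h
    exact hu (congrArg Subtype.val h)
  obtain ⟨NH, hH, hNH, hNHu⟩ := ru_nilp (K := K) (n - 2) (LinearMap.ker θ) hfH
    ⟨u, by simpa using hθu⟩ hu'
  obtain ⟨N, hN1, hN2, hN3, hN4⟩ := ru_ext θ e he (n - 2) NH hNH hH
  have hn2 : n - 2 + 2 = n := by omega
  have hn1 : n - 2 + 1 = n - 1 := by omega
  rw [hn2] at hN1
  rw [hn1, hNHu] at hN2
  have hN2' : (N ^ (n - 1)) e = u := hN2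
  have hNu : N u = 0 := by
    have h1 := hN4 ⟨u, by simpa using hθu⟩
    have h2 : NH ⟨u, by simpa using hθu⟩ = 0 := by
      rw [← hNHu, ← Module.End.mul_apply, ← pow_succ', hNH]; simp
    rw [h2] at h1
    simpa using h1
  -- the rank one part
  let R : Module.End K V := θ.smulRight u
  have hRv : ∀ v, R v = θ v • u := fun v => rfl
  have hA' : A = 1 + R := by
    ext v; rw [hA v]; simp [hRv]
  have hRN : R * N = 0 := by
    ext v; rw [Module.End.mul_apply, hRv, hN3]; simp
  have hNR : N * R = 0 := by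
    ext v; rw [Module.End.mul_apply, hRv, map_smul, hNu]; simp
  have hRR : R * R = 0 := by
    ext v; rw [Module.End.mul_apply, hRv, hRv, map_smul, hθu]; simp
  have hpow : ∀ k : ℕ, 2 ≤ k → (N + R) ^ k = N ^ k := by
    intro k hk
    induction k, hk using Nat.le_induction with
    | base =>
      rw [pow_two, pow_two, mul_add, add_mul, add_mul, hRN, hNR, hRR]; simp
    | succ k hk ih =>
      rw [pow_succ, ih, mul_add, ← pow_succ]
      have : N ^ k * R = 0 := by
        obtain ⟨j, rfl⟩ : ∃ j, k = j + 1 := ⟨k - 1, by omega⟩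
        rw [pow_succ, mul_assoc, hNR, mul_zero]
      rw [this, add_zero]
  -- the inverse of 1 + N
  have hnil : IsNilpotent N := ⟨n, hN1⟩
  obtain ⟨Uu, hUu⟩ := hnil.isUnit_one_add
  set C : Module.End K V := ((Uu⁻¹ : (Module.End K V)ˣ) : Module.End K V) with hC
  have h1C : (1 + N) * C = 1 := by rw [← hUu, hC]; exact Uu.mul_inv
  have hC1 : C * (1 + N) = 1 := by rw [← hUu, hC]; exact Uu.inv_mul
  have hcomm : N * C = C * N := by
    have e1 : C + N * C = 1 := by rw [← h1C]; noncomm_ring
    have e2 : C + C * N = 1 := by rw [← hC1]; noncomm_ring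
    have := e1.trans e2.symm
    exact add_left_cancel this
  have hCm1 : C - 1 = -(N * C) := by
    have e1 : C + N * C = 1 := by rw [← h1C]; noncomm_ring
    rw [← e1]; abel
  have hCpow : ∀ k : ℕ, (C - 1) ^ k = (-1) ^ k * (N ^ k * C ^ k) := by
    intro k
    rw [hCm1, neg_pow, (show Commute N C from hcomm).mul_pow]
  set B : Module.End K V := A * (1 + N) with hB
  have hBm1 : B - 1 = N + R := by
    rw [hB, hA', add_mul, one_mul, mul_add, mul_one, hRN]; abel
  refine ⟨B, C, ?_, ?_, ?_, ?_, ?_⟩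
  · rw [hB, mul_assoc, h1C, mul_one]
  · rw [hBm1, hpow n (by omega), hN1]
  · rw [hCpow, hN1, zero_mul, mul_zero]
  · rw [hBm1, hpow (n - 1) (by omega)]
    intro h0
    apply hu
    rw [← hN2', h0]; simp
  · rw [hCpow]
    intro h0
    rw [neg_one_pow_mul_eq_zero_iff] at h0
    apply hu
    have e1 : C ^ (n - 1) * (1 + N) ^ (n - 1) = 1 := by
      rw [← (show Commute C (1 + N) from by
        show C * (1 + N) = (1 + N) * C
        rw [hC1, h1C]).mul_pow, hC1, one_pow]
    have e2 : N ^ (n - 1) = N ^ (n - 1) * C ^ (n - 1) * (1 + N) ^ (n - 1) := by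
      rw [mul_assoc, e1, mul_one]
    rw [← hN2', e2, h0]; simp

end Transv

end Cfsg.Agent.Lib.Helper13
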