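import Mathlib
import Cfsg.Agent.Lib.Helper13.RUInduct
import Cfsg.Agent.Lib.Helper13.RUTransv

/-!
# Nonscalar unimodular matrices are products of two regular unipotent conjugates (helper13)
-/

set_option autoImplicit false

namespace Cfsg.Agent.Lib.Helper13

open Module Cardinal

universe u

section Final

variable {K : Type*} [Field K]

/-- linear form of the theorem -/
theorem ru_linear (hK : 4 ≤ #K) {V : Type u} [AddCommGroup V] [Module K V]
    [FiniteDimensional K V] (n : ℕ) (hn : 3 ≤ n) (hV : finrank K V = n)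
    (A : Module.End K V) (hdet : LinearMap.det A = 1) (hNS : ¬ ∃ a : K, A = a • 1) :
    ∃ B C : Module.End K V, A = B * C ∧ (B - 1) ^ n = 0 ∧ (C - 1) ^ n = 0 ∧
      (B - 1) ^ (n - 1) ≠ 0 ∧ (C - 1) ^ (n - 1) ≠ 0 := by
  by_cases hR2 : ∃ u v, LinearIndependent K ![(A - 1) u, (A - 1) v]
  · obtain ⟨b, hb⟩ : ∃ b : V, b ≠ 0 := by
      have : 0 < finrank K V := by omega
      exact Module.finrank_pos_iff_exists_ne_zero.1 this
    obtain ⟨c, hcb⟩ : ∃ c : Module.Dual K V, c b ≠ 0 := by
      by_contra hcon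
      push Not at hcon
      exact hb ((Module.forall_dual_apply_eq_zero_iff K b).1 hcon)
    have hc : c ≠ 0 := by
      intro h; rw [h] at hcb; simp at hcb
    obtain ⟨B, C, hBC, hB, hC, hb', w, hw⟩ :=
      ru_main hK n (by omega) V hV A hdet (fun _ => ⟨hNS, hR2⟩) b c hb hc
    refine ⟨B, C, hBC, hB, hC, ?_, ?_⟩
    · intro h; rw [h] at hb'; simp at hb'
    · intro h; rw [h] at hw; simp at hw
  · -- rank one: a transvection
    have hM0 : (A - 1 : Module.End K V) ≠ 0 := by
      intro h
      apply hNS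
      exact ⟨1, by rw [one_smul]; exact sub_eq_zero.1 h⟩
    obtain ⟨v0, hv0⟩ : ∃ v0, (A - 1) v0 ≠ 0 := by
      by_contra hcon
      push Not at hcon
      exact hM0 (LinearMap.ext hcon)
    set u := (A - 1) v0 with hu
    have hdep : ∀ v, ∃ a : K, (A - 1) v = a • u := by
      intro v
      apply ru_pair_dep hv0
      intro hli
      exact hR2 ⟨v0, v, hli⟩
    obtain ⟨ψ, hψ⟩ : ∃ ψ : Module.Dual K V, ψ u ≠ 0 := by
      by_contra hcon
      push Not at hcon
      exact hv0 ((Module.forall_dual_apply_eq_zero_iff K u).1 hcon)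
    set θ : Module.Dual K V := ((ψ u)⁻¹ • ψ) ∘ₗ (A - 1) with hθ
    have hMv : ∀ v, (A - 1) v = θ v • u := by
      intro v
      obtain ⟨a, ha⟩ := hdep v
      have : θ v = a := by
        simp only [hθ, LinearMap.comp_apply, LinearMap.smul_apply, smul_eq_mul]
        rw [ha, map_smul, smul_eq_mul, mul_comm, mul_assoc, mul_inv_cancel₀ hψ, mul_one]
      rw [this, ha]
    have hA : ∀ v, A v = v + θ v • u := by
      intro v
      rw [← hMv v]; simp
    have hθ0 : θ ≠ 0 := by
      intro h
      have h1 := hMv v0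
      rw [h] at h1
      simp at h1
      exact hv0 h1
    have hθu : θ u = 0 := by
      have hAt : A = LinearMap.transvection θ u := by
        ext v; rw [hA v, LinearMap.transvection.apply]
      have := LinearMap.transvection.det θ u
      rw [← hAt, hdet] at this
      have h2 : θ u = (1 + θ u) - 1 := by ring
      rw [h2, ← this, sub_self]
    exact ru_transvection_case n hn hV A u θ hv0 hθ0 hθu hA

/-- independence of the chain `v, N v, N² v, …` -/
theorem ru_chain_li {V : Type*} [AddCommGroup V] [Module K V] (N : Module.End K V) (s : ℕ)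
    (hs : N ^ s = 0) (v : V) (hv : (N ^ (s - 1)) v ≠ 0) :
    LinearIndependent K (fun i : Fin s => (N ^ (i : ℕ)) v) := by
  rw [Fintype.linearIndependent_iff]
  intro g hg
  by_contra hcon
  push Not at hcon
  have hex : ∃ k : ℕ, ∃ h : k < s, g ⟨k, h⟩ ≠ 0 := by
    obtain ⟨i, hi⟩ := hcon
    exact ⟨i, i.2, hi⟩
  classical
  set k0 := Nat.find hex with hk0
  obtain ⟨hk0s, hgk0⟩ := Nat.find_spec hex
  have hlt : ∀ i : Fin s, (i : ℕ) < k0 → g i = 0 := by
    intro i hi
    by_contra hne
    exact Nat.find_min hex hi ⟨i.2, hne⟩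
  have h2 := congrArg (fun b => (N ^ (s - 1 - k0)) b) hg
  simp only [map_sum, map_smul, map_zero, ← Module.End.mul_apply, ← pow_add] at h2
  rw [Finset.sum_eq_single (⟨k0, hk0s⟩ : Fin s)] at h2
  · have h3 : s - 1 - k0 + k0 = s - 1 := by omega
    simp only [h3] at h2
    rcases smul_eq_zero.1 h2 with h | h
    · exact hgk0 h
    · exact hv h
  · intro i _ hine
    rcases lt_or_gt_of_ne (fun h => hine (Fin.ext h) : (i : ℕ) ≠ k0) with hi | hi
    · rw [hlt i hi, zero_smul]
    · have : s - 1 - k0 + (i : ℕ) = s + ((i : ℕ) - k0 - 1) := by omega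
      rw [this, pow_add, hs, zero_mul]; simp
  · intro h; exact absurd (Finset.mem_univ _) h

/-- the standard regular unipotent matrix -/
def ruJ (K : Type*) [Field K] (n : ℕ) : Matrix (Fin n) (Fin n) K :=
  fun i j => if i = j then 1 else if j.val = i.val + 1 then 1 else 0

/-- a regular unipotent endomorphism of `Kⁿ` is conjugate to the standard one -/
theorem ru_conj (n : ℕ) (B : Module.End K (Fin n → K)) (hB : (B - 1) ^ n = 0)
    (hB' : (B - 1) ^ (n - 1) ≠ 0) :
    ∃ P : Matrix (Fin n) (Fin n) K, IsUnit P ∧ LinearMap.toMatrix' B * P = P * ruJ K n := by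
  classical
  obtain ⟨v, hv⟩ : ∃ v, ((B - 1) ^ (n - 1)) v ≠ 0 := by
    by_contra hcon
    push Not at hcon
    exact hB' (LinearMap.ext hcon)
  set N := B - 1 with hN
  let f : Fin n → (Fin n → K) := fun j => (N ^ (n - 1 - (j : ℕ))) v
  have hli : LinearIndependent K f := by
    have h1 := ru_chain_li N n hB v hv
    have h2 := h1.comp Fin.rev Fin.rev_injective
    have h3 : f = (fun i : Fin n => (N ^ (i : ℕ)) v) ∘ Fin.rev := by
      funext j
      simp only [f, Function.comp_apply, Fin.val_rev]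
      have : n - 1 - (j : ℕ) = n - ((j : ℕ) + 1) := by omega
      rw [this]
    rw [h3]
    exact h2
  let P : Matrix (Fin n) (Fin n) K := Matrix.of (fun i j => f j i)
  have hPcol : P.col = f := by
    funext j i; rfl
  have hPunit : IsUnit P := by
    rw [← Matrix.linearIndependent_cols_iff_isUnit, hPcol]; exact hli
  refine ⟨P, hPunit, ?_⟩
  have hBf : ∀ j : Fin n, B (f j) = f j + N (f j) := by
    intro j; rw [hN]; simp
  have hNf0 : ∀ j : Fin n, (j : ℕ) = 0 → N (f j) = 0 := by
    intro j hj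
    simp only [f]
    rw [← Module.End.mul_apply, ← pow_succ', hj]
    have : n - 1 - 0 + 1 = n := by have := j.2; omega
    rw [this, hB]; simp
  have hNfs : ∀ (j : Fin n) (h : 0 < (j : ℕ)),
      N (f j) = f ⟨(j : ℕ) - 1, by have := j.2; omega⟩ := by
    intro j hj
    simp only [f]
    rw [← Module.End.mul_apply, ← pow_succ']
    congr 2
    have := j.2
    omega
  ext i j
  have hL : (LinearMap.toMatrix' B * P) i j = (B (f j)) i := by
    rw [← LinearMap.toMatrix'_mulVec B (f j)]
    rfl
  have hR : (P * ruJ K n) i j = f j i +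
      (if h : 0 < (j : ℕ) then f ⟨(j : ℕ) - 1, by have := j.2; omega⟩ i else 0) := by
    rw [Matrix.mul_apply]
    have hterm : ∀ k : Fin n, P i k * ruJ K n k j
        = (if k = j then f j i else 0) +
          (if (j : ℕ) = (k : ℕ) + 1 then f k i else 0) := by
      intro k
      simp only [ruJ, P, Matrix.of_apply]
      by_cases hkj : k = j
      · subst hkj
        simp
      · rw [if_neg hkj, if_neg hkj, zero_add]
        by_cases h2 : (j : ℕ) = (k : ℕ) + 1
        · rw [if_pos h2, if_pos h2, mul_one]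
        · rw [if_neg h2, if_neg h2, mul_zero]
    simp only [hterm]
    rw [Finset.sum_add_distrib, Finset.sum_ite_eq' Finset.univ j, if_pos (Finset.mem_univ _)]
    congr 1
    by_cases hj : 0 < (j : ℕ)
    · rw [dif_pos hj]
      rw [Finset.sum_eq_single (⟨(j : ℕ) - 1, by have := j.2; omega⟩ : Fin n)]
      · rw [if_pos (by simp; omega)]
      · intro k _ hk
        rw [if_neg]
        intro h
        apply hk
        apply Fin.ext
        simp; omega
      · intro h; exact absurd (Finset.mem_univ _) h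
    · rw [dif_neg hj]
      apply Finset.sum_eq_zero
      intro k _
      rw [if_neg]
      omega
  rw [hL, hR, hBf]
  by_cases hj : 0 < (j : ℕ)
  · rw [dif_pos hj, hNfs j hj]; rfl
  · rw [dif_neg hj, hNf0 j (by omega)]; simp

/-- **Theorem** (statement S2522). -/
theorem ru_theorem (hK : 4 ≤ #K) (n : ℕ) (hn : 3 ≤ n) (J g : GL (Fin n) K)
    (hJ : ∀ i j : Fin n, (J : Matrix (Fin n) (Fin n) K) i j =
      if i = j then 1 else if j.val = i.val + 1 then 1 else 0)
    (hg : ¬ ∃ c : K, (g : Matrix (Fin n) (Fin n) K) = c • (1 : Matrix (Fin n) (Fin n) K))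
    (hdet : (g : Matrix (Fin n) (Fin n) K).det = 1) :
    ∃ x y : GL (Fin n) K, g = (x * J * x⁻¹) * (y * J * y⁻¹) := by
  have hJ' : (J : Matrix (Fin n) (Fin n) K) = ruJ K n := by
    ext i j; rw [hJ]; rfl
  set A : Module.End K (Fin n → K) := Matrix.toLin' (g : Matrix (Fin n) (Fin n) K) with hA
  have hdetA : LinearMap.det A = 1 := by rw [hA, LinearMap.det_toLin', hdet]
  have hNS : ¬ ∃ a : K, A = a • 1 := by
    rintro ⟨a, ha⟩
    apply hg
    refine ⟨a, ?_⟩
    apply Matrix.toLin'.injective
    rw [← hA, ha, map_smul, Matrix.toLin'_one]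
    rfl
  have hV : finrank K (Fin n → K) = n := by simp
  obtain ⟨B, C, hBC, hB, hC, hB', hC'⟩ := ru_linear hK n hn hV A hdetA hNS
  obtain ⟨PB, hPB, hPBeq⟩ := ru_conj n B hB hB'
  obtain ⟨PC, hPC, hPCeq⟩ := ru_conj n C hC hC'
  refine ⟨hPB.unit, hPC.unit, ?_⟩
  apply Units.ext
  have hxB : LinearMap.toMatrix' B
      = PB * ruJ K n * ((hPB.unit⁻¹ : GL (Fin n) K) : Matrix (Fin n) (Fin n) K) := by
    have h1 : PB * ((hPB.unit⁻¹ : GL (Fin n) K) : Matrix (Fin n) (Fin n) K) = 1 := by
      have := hPB.unit.mul_inv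
      rw [IsUnit.unit_spec] at this
      exact this
    rw [← hPBeq, mul_assoc, h1, mul_one]
  have hxC : LinearMap.toMatrix' C
      = PC * ruJ K n * ((hPC.unit⁻¹ : GL (Fin n) K) : Matrix (Fin n) (Fin n) K) := by
    have h1 : PC * ((hPC.unit⁻¹ : GL (Fin n) K) : Matrix (Fin n) (Fin n) K) = 1 := by
      have := hPC.unit.mul_inv
      rw [IsUnit.unit_spec] at this
      exact this
    rw [← hPCeq, mul_assoc, h1, mul_one]
  have hgm : (g : Matrix (Fin n) (Fin n) K) = LinearMap.toMatrix' B * LinearMap.toMatrix' C := by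
    rw [← LinearMap.toMatrix'_mul, ← hBC, hA, LinearMap.toMatrix'_toLin']
  rw [hgm, hxB, hxC]
  simp only [Units.val_mul, IsUnit.unit_spec, hJ']

end Final

end Cfsg.Agent.Lib.Helper13
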