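import Mathlib
import Cfsg.Prelude.Def_Classical
import Cfsg.Prelude.Def_GeometricClasses
import Cfsg.Agent.Lib.Helper49.SLODefs

/-!
# K-SLO pack (S5981, architect helper49), keystone 598108 (K-SLO-8)

In odd characteristic `p` a transvection of `SL_n(q)` has no `GL`-conjugate in the similarity
group of a nondegenerate quadratic form.
-/

set_option autoImplicit false

namespace Cfsg.Agent.Lib.Helper13.SLO

open Matrix Polynomial Cfsg.Agent.Lib.Helper49 Cfsg.Agent.Lib.Helper49.SLO

/-- an isometry `φ` of a symmetric nondegenerate bilinear form in characteristic `≠ 2` with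
`(φ - 1) ^ 2 = 0` and `φ - 1` of rank one does not exist -/
theorem no_rank_one_unipotent_isometry {F V : Type*} [Field F] [AddCommGroup V] [Module F V]
    (h2 : (2 : F) ≠ 0) (B : LinearMap.BilinForm F V) (hsymm : ∀ u v, B u v = B v u)
    (hnd : ∀ w : V, w ≠ 0 → ∃ v, B w v ≠ 0) (φ : V →ₗ[F] V)
    (hiso : ∀ u v, B (φ u) (φ v) = B u v) (hsq : ∀ v, (φ - 1) ((φ - 1) v) = 0)
    (u₁ : V) (hw : (φ - 1) u₁ ≠ 0) (hrk : ∀ u, ∃ a : F, (φ - 1) u = a • (φ - 1) u₁) : False := by
  set N := φ - 1 with hN
  have hφ : ∀ u, φ u = u + N u := by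
    intro u
    rw [hN, LinearMap.sub_apply, Module.End.one_apply, add_sub_cancel]
  -- (I) `B(u, N v) + B(N u, v) + B(N u, N v) = 0`
  have hI : ∀ u v, B u (N v) + B (N u) v + B (N u) (N v) = 0 := by
    intro u v
    have h := hiso u v
    rw [hφ u, hφ v, map_add, map_add, LinearMap.add_apply, LinearMap.add_apply] at h
    linear_combination h
  -- (1) `B(N u, N v) = 0`
  have h1 : ∀ u v, B (N u) (N v) = 0 := by
    intro u v
    have h := hI u (N v)
    rw [hsq v, map_zero, map_zero] at h
    linear_combination h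
  -- (2) `B(N u, v) + B(u, N v) = 0`
  have h2' : ∀ u v, B (N u) v + B u (N v) = 0 := by
    intro u v
    have h := hI u v
    rw [h1 u v] at h
    linear_combination h
  -- (3) `B(N u, u) = 0`
  have h3 : ∀ u, B (N u) u = 0 := by
    intro u
    have h := h2' u u
    rw [hsymm u (N u)] at h
    have : (2 : F) * B (N u) u = 0 := by linear_combination h
    rcases mul_eq_zero.mp this with h | h
    · exact absurd h h2
    · exact h
  obtain ⟨v₀, hv₀⟩ := hnd (N u₁) hw
  obtain ⟨a, ha⟩ := hrk v₀
  have h4 := h3 v₀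
  rw [ha, map_smul, LinearMap.smul_apply, smul_eq_mul] at h4
  have ha0 : a = 0 := by
    rcases mul_eq_zero.mp h4 with h | h
    · exact h
    · exact absurd h hv₀
  have h5 := h2' u₁ v₀
  rw [ha, ha0, zero_smul, map_zero, add_zero] at h5
  exact hv₀ h5

variable {F : Type*} [Field F] [Fintype F]

/-- **K-SLO-8** (598108) -/
theorem derange_unip {p : ℕ} [Fact p.Prime] [CharP F p] (hp2 : p ≠ 2) (n : ℕ) (hn : 2 ≤ n)
    (Q : (Fin n → F) → F) (hQ : Cfsg.Geo.IsNondegenerateQuadraticForm Q) :
    ∃ x : GL (Fin n) F, x ∈ Cfsg.Geo.specialLinear (Fin n) F ∧ x ^ p = 1 ∧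
      (∀ z : F, (x : Matrix (Fin n) (Fin n) F) ≠ z • (1 : Matrix (Fin n) (Fin n) F)) ∧
      ∀ g : GL (Fin n) F, g⁻¹ * x * g ∉ Cfsg.Geo.quadSimilarityGroup Q := by
  classical
  have hpp : p.Prime := Fact.out
  have h2F : (2 : F) ≠ 0 := by
    intro h
    have h' : ((2 : ℕ) : F) = 0 := by exact_mod_cast h
    rw [CharP.cast_eq_zero_iff F p] at h'
    have := (Nat.prime_dvd_prime_iff_eq hpp Nat.prime_two).mp h'
    exact hp2 this
  let i0 : Fin n := ⟨0, by omega⟩
  let i1 : Fin n := ⟨1, by omega⟩
  have h01 : i0 ≠ i1 := by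
    intro h
    have := congrArg Fin.val h
    simp [i0, i1] at this
  have hTT : ∀ c d : F, transvection i0 i1 c * transvection i0 i1 d = transvection i0 i1 (c + d) :=
    transvection_mul_transvection_same i0 i1 h01
  let x : GL (Fin n) F :=
    ⟨transvection i0 i1 1, transvection i0 i1 (-1), by rw [hTT, add_neg_cancel, transvection_zero],
      by rw [hTT, neg_add_cancel, transvection_zero]⟩
  have hxval : (x : Matrix (Fin n) (Fin n) F) = transvection i0 i1 1 := rfl
  have hpow : ∀ k : ℕ, (transvection i0 i1 (1 : F)) ^ k = transvection i0 i1 (k : F) := by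
    intro k
    induction k with
    | zero => rw [pow_zero, Nat.cast_zero, transvection_zero]
    | succ k ih => rw [pow_succ, ih, hTT, Nat.cast_succ]
  have hxp : x ^ p = 1 := by
    apply Units.ext
    rw [Units.val_pow_eq_pow_val, hxval, hpow, CharP.cast_eq_zero, transvection_zero, Units.val_one]
  -- the nilpotent part of `x`
  have hE : ∀ v : Fin n → F, (Matrix.toLin' (x : Matrix (Fin n) (Fin n) F) - 1) v =
      v i1 • (Pi.single i0 (1 : F) : Fin n → F) := by
    intro v
    rw [LinearMap.sub_apply, Module.End.one_apply, Matrix.toLin'_apply, hxval, transvection,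
      Matrix.add_mulVec, Matrix.one_mulVec, add_sub_cancel_left, Matrix.single_mulVec_eq, one_mul]
  have he0 : (Pi.single i0 (1 : F) : Fin n → F) ≠ 0 := by
    intro h
    have := congrFun h i0
    simp at this
  have hk2 : kdim (Matrix.toLin' (x : Matrix (Fin n) (Fin n) F)) ((X - 1 : F[X]) ^ 2) = n := by
    rw [kdim_X_sub_one_pow]
    have : (Matrix.toLin' (x : Matrix (Fin n) (Fin n) F) - 1) ^ 2 = 0 := by
      apply LinearMap.ext
      intro v
      rw [pow_two, Module.End.mul_apply, hE, hE, LinearMap.zero_apply, Pi.smul_apply,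
        Pi.single_eq_of_ne (Ne.symm h01), smul_zero, zero_smul]
    rw [this, LinearMap.ker_zero, finrank_top, Module.finrank_fintype_fun_eq_card, Fintype.card_fin]
  have hk1 : kdim (Matrix.toLin' (x : Matrix (Fin n) (Fin n) F)) ((X - 1 : F[X]) ^ 1) = n - 1 := by
    rw [kdim_X_sub_one_pow, pow_one]
    have hker : LinearMap.ker (Matrix.toLin' (x : Matrix (Fin n) (Fin n) F) - 1) =
        LinearMap.ker (LinearMap.proj (R := F) (φ := fun _ : Fin n => F) i1) := by
      ext v
      rw [LinearMap.mem_ker, LinearMap.mem_ker, hE, LinearMap.proj_apply, smul_eq_zero]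
      constructor
      · rintro (h | h)
        · exact h
        · exact absurd h he0
      · intro h; exact Or.inl h
    rw [hker]
    have h5 := LinearMap.finrank_range_add_finrank_ker
      (LinearMap.proj (R := F) (φ := fun _ : Fin n => F) i1)
    rw [LinearMap.range_eq_top.mpr (LinearMap.proj_surjective i1), finrank_top,
      Module.finrank_self, Module.finrank_fintype_fun_eq_card, Fintype.card_fin] at h5
    omega
  refine ⟨x, ?_, hxp, ?_, ?_⟩
  · -- determinant one
    change x ∈ (Matrix.GeneralLinearGroup.det : GL (Fin n) F →* Fˣ).ker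
    rw [MonoidHom.mem_ker]
    apply Units.ext
    rw [Matrix.GeneralLinearGroup.val_det_apply, hxval, det_transvection_of_ne i0 i1 h01,
      Units.val_one]
  · intro z hz
    have := congrFun (congrFun hz i0) i1
    rw [hxval, transvection, Matrix.add_apply, Matrix.one_apply_ne h01, Matrix.single_apply_same,
      Matrix.smul_apply, Matrix.one_apply_ne h01, smul_zero, zero_add] at this
    exact one_ne_zero this
  · intro g hy
    obtain ⟨φ, ψ, c, hc0, -, hsim, -, -, hkd, hpw⟩ := sim_conj_data Q hQ x g hy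
    have hφp : φ ^ p = 1 := by
      have := hpw p 1 (by rw [hxp, Units.val_one, one_smul])
      rwa [one_smul] at this
    have hcp : c ^ p = 1 := mult_pow_eq_one (by omega) Q hQ φ c hsim p hφp
    have hc1 : c = 1 := by
      have h2 : (c - 1) ^ p = 0 := by rw [sub_pow_char, hcp, one_pow, sub_self]
      exact sub_eq_zero.mp ((pow_eq_zero_iff hpp.ne_zero).mp h2)
    have hiso : ∀ u v, polarB Q hQ (φ u) (φ v) = polarB Q hQ u v := by
      intro u v
      rw [hsim, hc1, one_mul]
    -- `(φ - 1)^2 = 0`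
    have hsq : (φ - 1) ^ 2 = 0 := by
      have h6 := hkd ((X - 1 : F[X]) ^ 2)
      rw [hk2, kdim_X_sub_one_pow] at h6
      have h7 : LinearMap.ker ((φ - 1) ^ 2) = ⊤ := by
        apply Submodule.eq_top_of_finrank_eq
        rw [h6, Module.finrank_fintype_fun_eq_card, Fintype.card_fin]
      exact LinearMap.ker_eq_top.mp h7
    -- `φ - 1` has rank one
    have hrk : Module.finrank F (LinearMap.range (φ - 1)) = 1 := by
      have h6 := hkd ((X - 1 : F[X]) ^ 1)
      rw [hk1, kdim_X_sub_one_pow, pow_one] at h6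
      have h9 := LinearMap.finrank_range_add_finrank_ker (φ - 1)
      rw [h6, Module.finrank_fintype_fun_eq_card, Fintype.card_fin] at h9
      omega
    obtain ⟨⟨w, hwr⟩, hw0, hwspan⟩ := finrank_eq_one_iff'.mp hrk
    obtain ⟨u₁, hu₁⟩ := hwr
    have hw0' : (φ - 1) u₁ ≠ 0 := fun h => hw0 (Subtype.ext (hu₁.symm.trans h))
    refine no_rank_one_unipotent_isometry h2F (polarB Q hQ) (polarB_comm Q hQ) ?_ φ hiso ?_ u₁ hw0'
      ?_
    · intro w' hw'
      exact (hQ.nondegenerate w' hw').2
    · intro v
      have := congrArg (fun f => f v) hsq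
      simpa [pow_two, Module.End.mul_apply] using this
    · intro u
      obtain ⟨a, ha⟩ := hwspan ⟨(φ - 1) u, ⟨u, rfl⟩⟩
      refine ⟨a, ?_⟩
      have h' : a • w = (φ - 1) u := congrArg Subtype.val ha
      rw [hu₁]
      exact h'.symm

end Cfsg.Agent.Lib.Helper13.SLO
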