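import Mathlib
import Cfsg.Prelude.Def_GeometricClasses
import Cfsg.Agent.Lib.Helper69.SLTDefs

/-!
# K-SLT pack (S5979, architect helper69), keystone 597906 (K-SLT-T2)

`A ∈ GL_m(q)`, `A ^ r` scalar, `m < ord_r(q)` (so `r ∤ |GL_m(q)|`): `A` is scalar.
-/

set_option autoImplicit false

namespace Cfsg.Agent.Lib.Helper13.SLT

open Matrix Cfsg.Agent.Lib.Helper69.SLT
open scoped Kronecker

variable {F : Type*} [Field F]

/-- `r ∤ |GL_m(q)|` when `r ∤ q` and `m < ord_r(q)` -/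
theorem not_dvd_card_GL [Fintype F] (r : ℕ) [Fact r.Prime] (hrq : ¬ r ∣ Fintype.card F) (m : ℕ)
    (hm : m < orderOf ((Fintype.card F : ℕ) : ZMod r)) : ¬ r ∣ Nat.card (GL (Fin m) F) := by
  have hr : r.Prime := Fact.out
  rw [Matrix.card_GL_field]
  intro hdvd
  obtain ⟨i, -, hi⟩ := (Prime.dvd_finset_prod_iff hr.prime _).mp hdvd
  have him : (i : ℕ) < m := i.2
  have hq1 : 1 ≤ Fintype.card F := Fintype.card_pos
  have hfac : Fintype.card F ^ m - Fintype.card F ^ (i : ℕ) =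
      Fintype.card F ^ (i : ℕ) * (Fintype.card F ^ (m - (i : ℕ)) - 1) := by
    rw [Nat.mul_sub, mul_one, ← pow_add]
    congr 2
    omega
  rw [hfac] at hi
  rcases hr.dvd_mul.mp hi with h | h
  · exact hrq (hr.dvd_of_dvd_pow h)
  · have hj0 : m - (i : ℕ) ≠ 0 := by omega
    have hjlt : m - (i : ℕ) < orderOf ((Fintype.card F : ℕ) : ZMod r) := by omega
    have hne := pow_ne_one_of_lt_orderOf hj0 hjlt
    apply hne
    have h1 : ((Fintype.card F ^ (m - (i : ℕ)) - 1 : ℕ) : ZMod r) = 0 :=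
      (ZMod.natCast_eq_zero_iff _ _).mpr h
    rw [Nat.cast_sub (Nat.one_le_pow _ _ hq1), Nat.cast_pow, Nat.cast_one, sub_eq_zero] at h1
    exact h1

/-- **K-SLT-T2** (597906) -/
theorem scalar_of_pow_scalar [Fintype F] {p : ℕ} [Fact p.Prime] [CharP F p] (r : ℕ) (hr : r.Prime)
    (hrp : r ≠ p) (m : ℕ) (hm : m < orderOf ((Fintype.card F : ℕ) : ZMod r)) (A : GL (Fin m) F) (l : F)
    (hA : ((A ^ r : GL (Fin m) F) : Matrix (Fin m) (Fin m) F) = l • (1 : Matrix (Fin m) (Fin m) F)) :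
    ∃ l' : F, (A : Matrix (Fin m) (Fin m) F) = l' • (1 : Matrix (Fin m) (Fin m) F) := by
  haveI : Fact r.Prime := ⟨hr⟩
  have hpp : p.Prime := Fact.out
  -- `r ∤ q`
  have hrq : ¬ r ∣ Fintype.card F := by
    obtain ⟨k, -, hk⟩ := FiniteField.card F p
    rw [hk]
    intro h
    exact hrp ((Nat.prime_dvd_prime_iff_eq hr hpp).mp (hr.dvd_of_dvd_pow h))
  have hcard := not_dvd_card_GL r hrq m hm
  have hn : ¬ r ∣ orderOf A := fun h => hcard (h.trans (orderOf_dvd_natCard A))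
  have hcop : Nat.Coprime r (orderOf A) := (Nat.Prime.coprime_iff_not_dvd hr).mpr hn
  by_cases h1 : orderOf A = 1
  · refine ⟨1, ?_⟩
    rw [orderOf_eq_one_iff.mp h1, Units.val_one, one_smul]
  have hpos : 0 < orderOf A := orderOf_pos A
  obtain ⟨s, -, hs⟩ := Nat.exists_mul_mod_eq_one_of_coprime hcop (by omega)
  have hAs : (A ^ r) ^ s = A := by
    rw [← pow_mul, ← pow_mod_orderOf, hs, pow_one]
  refine ⟨l ^ s, ?_⟩
  have := congrArg (fun g : GL (Fin m) F => (g : Matrix (Fin m) (Fin m) F)) hAs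
  simp only [Units.val_pow_eq_pow_val] at this
  rw [← this, ← Units.val_pow_eq_pow_val, hA, smul_pow, one_pow]

end Cfsg.Agent.Lib.Helper13.SLT
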