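import Mathlib
import Cfsg.Agent.Lib.Helper72.SNCDefs

/-!
# K-SNC leaf 11 (S4073 converse half, architect helper72): arithmetic
-/

set_option autoImplicit false

namespace Cfsg.Agent.Lib.Helper13.SNC

open Cfsg.Agent.Lib.Helper72.SNC

universe u v

/-- 407311 SNC-11 (a): the Dickson cyclic/dihedral parameters for `q = 2 ^ n` are odd. -/
theorem odd_of_dvd_dickson (n k : ℕ) (hn : 1 ≤ n)
    (h : k ∣ (2 ^ n + 1) / Nat.gcd 2 (2 ^ n - 1) ∨ k ∣ (2 ^ n - 1) / Nat.gcd 2 (2 ^ n - 1)) : Odd k := by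
  have heven : Even (2 ^ n) := Nat.even_pow.mpr ⟨even_two, by omega⟩
  have hodd1 : Odd (2 ^ n - 1) := Nat.Even.sub_odd Nat.one_le_two_pow heven odd_one
  have hodd2 : Odd (2 ^ n + 1) := heven.add_one
  have hg : Nat.gcd 2 (2 ^ n - 1) = 1 := Nat.coprime_two_left.mpr hodd1
  rw [hg, Nat.div_one, Nat.div_one] at h
  rcases h with h | h
  · exact hodd2.of_dvd_nat h
  · exact hodd1.of_dvd_nat h

/-- 407311 SNC-11 (b): the exponent of a Mersenne prime is prime. -/
theorem prime_of_mersenne (n : ℕ) (h : (2 ^ n - 1).Prime) : n.Prime := by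
  have hn1 : n ≠ 1 := by
    rintro rfl
    norm_num at h
  exact (Nat.prime_of_pow_sub_one_prime hn1 h).2

/-- 407311 SNC-11 (c): a subfield order `c` with `c ^ m = 2 ^ n`, `n` prime, is `2` or `2 ^ n`. -/
theorem card_eq_two_or (n : ℕ) (hn : n.Prime) (c m : ℕ) (hc : 2 ≤ c) (h : c ^ m = 2 ^ n) :
    c = 2 ∨ c = 2 ^ n := by
  have hm0 : m ≠ 0 := by
    rintro rfl
    rw [pow_zero] at h
    have : 2 ^ n ≠ 1 := by
      have := Nat.one_lt_two_pow hn.ne_zero
      omega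
    exact this h.symm
  have hdvd : c ∣ 2 ^ n := by rw [← h]; exact dvd_pow_self c hm0
  obtain ⟨j, _, rfl⟩ := (Nat.dvd_prime_pow Nat.prime_two).mp hdvd
  rw [← pow_mul] at h
  have hjm : j * m = n := Nat.pow_right_injective (le_refl 2) h
  have hjd : j ∣ n := ⟨m, hjm.symm⟩
  rcases (Nat.dvd_prime hn).mp hjd with rfl | rfl
  · left; rw [pow_one]
  · right; rfl

end Cfsg.Agent.Lib.Helper13.SNC
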