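import Mathlib
import Cfsg.Prelude.Def_GeometricClasses
import Cfsg.Agent.Lib.Helper73.SU6FDefs
import Cfsg.Agent.Lib.Helper99.FieldSub
import Cfsg.Agent.Lib.Helper27.SU6K0

/-!
# S5802 leaf K-SU6-K4 (keystone 580210): a norm-one element of `K` of determinant one is scalar

`|F| = 4`, `K ≅ 𝔽₆₄` an adjoint-closed field subalgebra of degree 3 of `M_6(F)`.
* `adj_eq_pow_eight` : on `K` the adjoint is `x ↦ x ^ 8`  (from helper27's `sa_pow_eight`);
* `det_smul_one_eq_pow` : `det l • 1 = l ^ 42` for `l ∈ K` (`det = N_{K/F} ^ 2`, `N(l) = l ^ 21`);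
* `scalar_of_pow_three` : `l ∈ K`, `l ^ 3 = 1`  ⟹  `l` is a scalar matrix;
* `scalar_of_det_one` : the keystone.
-/

set_option autoImplicit false

namespace Cfsg.Agent.Lib.Helper13.SU6K

open Cfsg Cfsg.Geo Cfsg.Agent.Lib.Helper73.SU6
open Cfsg.Agent.Lib.Helper84.AschU (adj adj_adj adj_mul adj_apply adj_mem_of_isAdjointClosedFor)
open Cfsg.Agent.Lib.Helper27.SU6K (adj_add' adj_smul' two_eq_zero_of_card_four
  exists_omega_of_card_four sa_pow_eight)
open scoped Matrix MatrixGroups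

/-- determinant over the small field of a scalar multiplication of a vector space over the big
field: the norm to the power of the dimension -/
theorem det_restrictScalars_smul {F 𝕂 V : Type*} [Field F] [Field 𝕂] [Algebra F 𝕂]
    [AddCommGroup V] [Module F V] [Module 𝕂 V] [IsScalarTower F 𝕂 V] [FiniteDimensional F 𝕂]
    [FiniteDimensional 𝕂 V] (x : 𝕂) :
    LinearMap.det ((x • (LinearMap.id : V →ₗ[𝕂] V)).restrictScalars F) =
      Algebra.norm F x ^ Module.finrank 𝕂 V := by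
  rw [LinearMap.det_restrictScalars, LinearMap.det_smul, LinearMap.det_id, mul_one, map_pow]

/-- a field `L` acting `F`-linearly on `F ^ n` through matrices: the determinant of the matrix of
`x : L` is a power of the norm of `x`. -/
theorem det_algHom_eq_norm_pow {F L : Type*} [Field F] [Field L] [Algebra F L]
    [FiniteDimensional F L] {n : ℕ}
    (φ : L →ₐ[F] Matrix (Fin n) (Fin n) F) (x : L) :
    ∃ d : ℕ, Module.finrank F L * d = n ∧ (φ x).det = Algebra.norm F x ^ d := by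
  classical
  let ρ : L →+* Module.End F (Fin n → F) :=
    ((Matrix.toLinAlgEquiv' : Matrix (Fin n) (Fin n) F ≃ₐ[F] _).toAlgHom.comp φ).toRingHom
  letI mod : Module L (Fin n → F) := Module.compHom (Fin n → F) ρ
  have hsmul : ∀ (k : L) (v : Fin n → F), k • v = (φ k) *ᵥ v := fun k v => rfl
  haveI : IsScalarTower F L (Fin n → F) :=
    ⟨fun c k v => by rw [hsmul, hsmul, map_smul]; simp [Matrix.smul_mulVec]⟩
  haveI : FiniteDimensional L (Fin n → F) := Module.Finite.right F L _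
  refine ⟨Module.finrank L (Fin n → F), ?_, ?_⟩
  · have := Module.finrank_mul_finrank F L (Fin n → F)
    rw [Module.finrank_fin_fun] at this
    exact this
  · have h1 := det_restrictScalars_smul (F := F) (𝕂 := L) (V := Fin n → F) x
    have h2 : (x • (LinearMap.id : (Fin n → F) →ₗ[L] (Fin n → F))).restrictScalars F =
        Matrix.toLin' (φ x) := by
      apply LinearMap.ext
      intro v
      rfl
    rw [h2, LinearMap.det_toLin'] at h1
    exact h1

variable {F : Type*} [Field F] [Fintype F]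

/-- `det l = N_{K/F}(l) ^ 2 = l ^ 42` for `l ∈ K ≅ 𝔽₆₄` acting on `F ^ 6 = K ^ 2`, `|F| = 4`. -/
theorem det_smul_one_eq_pow (hF : Fintype.card F = 2 ^ 2)
    (K : Subalgebra F (Matrix (Fin 6) (Fin 6) F)) (hK : IsFieldSubalgebra 3 K)
    (l : Matrix (Fin 6) (Fin 6) F) (hl : l ∈ K) :
    l.det • (1 : Matrix (Fin 6) (Fin 6) F) = l ^ 42 := by
  classical
  letI fld : Field ↥K := (Cfsg.Agent.Lib.Helper99.FieldSub.isField K hK).toField
  haveI : Finite ↥K := inferInstance
  haveI : FiniteDimensional F ↥K := inferInstance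
  obtain ⟨d, hd, hdet⟩ := det_algHom_eq_norm_pow (F := F) (L := ↥K) K.val ⟨l, hl⟩
  rw [hK.finrank_eq] at hd
  have hd2 : d = 2 := by omega
  subst hd2
  have hcardF : Nat.card F = 4 := by rw [Nat.card_eq_fintype_card, hF]; norm_num
  have h3 := FiniteField.algebraMap_norm_eq_pow_sum (K := F) (L := ↥K) (x := ⟨l, hl⟩)
  rw [hK.finrank_eq, hcardF] at h3
  have h4 : algebraMap F ↥K l.det = (⟨l, hl⟩ : ↥K) ^ 42 := by
    have : (K.val ⟨l, hl⟩) = l := rfl
    rw [this] at hdet
    rw [hdet, map_pow, h3, ← pow_mul]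
    norm_num [Finset.sum_range_succ]
  have := congrArg Subtype.val h4
  simpa [Algebra.algebraMap_eq_smul_one] using this

/-- Frobenius is additive on commuting matrices in characteristic two. -/
theorem add_sq_of_commute {n : ℕ} (h2 : (2 : F) = 0) (a b : Matrix (Fin n) (Fin n) F)
    (hab : a * b = b * a) : (a + b) ^ 2 = a ^ 2 + b ^ 2 := by
  have h0 : a * b + a * b = 0 := by
    rw [← two_smul F (a * b), h2, zero_smul]
  rw [sq, sq, sq, mul_add, add_mul, add_mul, ← hab]
  calc a * a + a * b + (a * b + b * b) = a * a + (a * b + a * b) + b * b := by abel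
    _ = a * a + b * b := by rw [h0, add_zero]

theorem add_pow_eight_of_commute {n : ℕ} (h2 : (2 : F) = 0) (a b : Matrix (Fin n) (Fin n) F)
    (hab : a * b = b * a) : (a + b) ^ 8 = a ^ 8 + b ^ 8 := by
  have hc : Commute a b := hab
  have e1 : (a + b) ^ 8 = (((a + b) ^ 2) ^ 2) ^ 2 := by rw [← pow_mul, ← pow_mul]
  have e2 : a ^ 8 = ((a ^ 2) ^ 2) ^ 2 := by rw [← pow_mul, ← pow_mul]
  have e3 : b ^ 8 = ((b ^ 2) ^ 2) ^ 2 := by rw [← pow_mul, ← pow_mul]
  rw [e1, e2, e3, add_sq_of_commute h2 a b hab,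
    add_sq_of_commute h2 (a ^ 2) (b ^ 2) (hc.pow_pow 2 2).eq,
    add_sq_of_commute h2 ((a ^ 2) ^ 2) ((b ^ 2) ^ 2) ((hc.pow_pow 2 2).pow_pow 2 2).eq]

/-- On `K` the adjoint is the map `x ↦ x ^ 8`. -/
theorem adj_eq_pow_eight (hF : Fintype.card F = 2 ^ 2)
    (K : Subalgebra F (Matrix (Fin 6) (Fin 6) F))
    (hK : IsFieldSubalgebra 3 K) (hadj : IsAdjointClosedFor (hermForm 6 F 2) K)
    (x : Matrix (Fin 6) (Fin 6) F) (hx : x ∈ K) : adj hF x = x ^ 8 := by
  have hF4 : Fintype.card F = 4 := by rw [hF]; norm_num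
  have h2 : (2 : F) = 0 := two_eq_zero_of_card_four hF4
  obtain ⟨ω, hω⟩ := exists_omega_of_card_four hF4
  have hω4 : ω ^ 4 = ω := by
    have e := FiniteField.pow_card ω
    rwa [hF4] at e
  have hω8 : ω ^ 8 = ω ^ 2 := by
    have : ω ^ 8 = (ω ^ 4) ^ 2 := by rw [← pow_mul]
    rw [this, hω4]
  have hω16 : ω ^ 16 = ω := by
    have : ω ^ 16 = (ω ^ 4) ^ 4 := by rw [← pow_mul]
    rw [this, hω4, hω4]
  have hax : adj hF x ∈ K := adj_mem_of_isAdjointClosedFor hF K hadj x hx
  have hcomm : x * adj hF x = adj hF x * x := hK.comm _ hx _ hax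
  -- `x + adj x` is self-adjoint
  have hs : IsSA hF K (x + adj hF x) := by
    refine ⟨K.add_mem hx hax, ?_⟩
    rw [adj_add', adj_adj, add_comm]
  -- `ω x + ω² adj x` is self-adjoint
  have ht : IsSA hF K (ω • x + ω ^ 2 • adj hF x) := by
    refine ⟨K.add_mem (K.smul_mem hx _) (K.smul_mem hax _), ?_⟩
    rw [adj_add', adj_smul', adj_smul', adj_adj, ← pow_mul, hω4, add_comm]
  have e1 := sa_pow_eight hF K hK hadj _ hs
  have e2 := sa_pow_eight hF K hK hadj _ ht
  rw [add_pow_eight_of_commute h2 _ _ hcomm] at e1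
  rw [add_pow_eight_of_commute h2 _ _ (by
    rw [smul_mul_smul_comm, smul_mul_smul_comm, hcomm, mul_comm (ω ^ 2) ω]),
    smul_pow, smul_pow, ← pow_mul, hω8, hω16] at e2
  ext i j
  have f1 := congrFun (congrFun e1 i) j
  have f2 := congrFun (congrFun e2 i) j
  simp only [Matrix.add_apply, Matrix.smul_apply, smul_eq_mul] at f1 f2
  linear_combination f2 - ω * f1 - ((x ^ 8) i j - adj hF x i j) * hω +
    ω * ((x ^ 8) i j - adj hF x i j) * h2

/-- an element of `K` whose cube is one is a scalar matrix -/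
theorem scalar_of_pow_three (hF : Fintype.card F = 2 ^ 2)
    (K : Subalgebra F (Matrix (Fin 6) (Fin 6) F)) (hK : IsFieldSubalgebra 3 K)
    (l : Matrix (Fin 6) (Fin 6) F) (hl : l ∈ K) (h3 : l ^ 3 = 1) :
    ∃ c : F, l = c • (1 : Matrix (Fin 6) (Fin 6) F) := by
  classical
  have hF4 : Fintype.card F = 4 := by rw [hF]; norm_num
  obtain ⟨ω, hω⟩ := exists_omega_of_card_four hF4
  letI fld : Field ↥K := (Cfsg.Agent.Lib.Helper99.FieldSub.isField K hK).toField
  have hL3 : (⟨l, hl⟩ : ↥K) ^ 3 = 1 := Subtype.ext (by simpa using h3)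
  have hw : (algebraMap F ↥K ω) ^ 2 + algebraMap F ↥K ω + 1 = 0 := by
    rw [← map_pow, ← map_add, ← map_one (algebraMap F ↥K), ← map_add, hω, map_zero]
  generalize hL : (⟨l, hl⟩ : ↥K) = L at hL3
  generalize hW : algebraMap F ↥K ω = w at hw
  have hprod : (L - 1) * ((L - w) * (L - w ^ 2)) = 0 := by
    linear_combination hL3 + (-L ^ 2 + w * L - (w - 1)) * hw
  have hval : L.1 = l := by rw [← hL]
  have hwval : w.1 = ω • (1 : Matrix (Fin 6) (Fin 6) F) := by
    rw [← hW]
    show (algebraMap F (Matrix (Fin 6) (Fin 6) F) ω) = _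
    rw [Algebra.algebraMap_eq_smul_one]
  rcases mul_eq_zero.mp hprod with h | h
  · refine ⟨1, ?_⟩
    have : L = 1 := sub_eq_zero.mp h
    rw [← hval, this, one_smul]
    rfl
  · rcases mul_eq_zero.mp h with h | h
    · refine ⟨ω, ?_⟩
      have : L = w := sub_eq_zero.mp h
      rw [← hval, this, hwval]
    · refine ⟨ω ^ 2, ?_⟩
      have : L = w ^ 2 := sub_eq_zero.mp h
      rw [← hval, this]
      show w.1 ^ 2 = _
      rw [hwval, smul_pow, one_pow]

/-- K-SU6-K4 -/
theorem scalar_of_det_one (hF : Fintype.card F = 2 ^ 2)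
    (K : Subalgebra F (Matrix (Fin 6) (Fin 6) F))
    (hK : IsFieldSubalgebra 3 K) (hadj : IsAdjointClosedFor (hermForm 6 F 2) K)
    (u v : Fin 6 → F) (huv : IsHypPair K u v) (l : Matrix (Fin 6) (Fin 6) F) (hl : l ∈ K)
    (hl1 : l * adj hF l = 1) (hdet : l.det = 1) :
    ∃ c : F, l = c • (1 : Matrix (Fin 6) (Fin 6) F) := by
  have h9 : l ^ 9 = 1 := by
    rw [adj_eq_pow_eight hF K hK hadj l hl, ← pow_succ'] at hl1
    exact hl1
  have h42 : l ^ 42 = 1 := by
    rw [← det_smul_one_eq_pow hF K hK l hl, hdet, one_smul]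
  have h6 : l ^ 6 = 1 := by
    have : l ^ 42 = (l ^ 9) ^ 4 * l ^ 6 := by rw [← pow_mul, ← pow_add]
    rw [this, h9, one_pow, one_mul] at h42
    exact h42
  have h3 : l ^ 3 = 1 := by
    have : l ^ 9 = l ^ 6 * l ^ 3 := by rw [← pow_add]
    rw [this, h6, one_mul] at h9
    exact h9
  exact scalar_of_pow_three hF K hK l hl h3

end Cfsg.Agent.Lib.Helper13.SU6K
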