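import Mathlib
import Cfsg.Prelude.Def_GeometricClasses
import Cfsg.Prelude.Def_ClassicalGeometry
import Cfsg.Agent.Lib.Helper11.SpMax

/-!
# K-SpU-E (keystone 597611, S5976 pack, architect helper79)

`derange_unip`: a symplectic transvection of `Sp_{2d}(q)`, `q` odd, has no conjugate in the normaliser of a
quadratic field subalgebra.  The tools T1 / T2 of the pack are proved here for a general index type
(`commute_of_mem_normalizer_of_odd'`, `no_common_eigenvector`).
-/

set_option autoImplicit false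

namespace Cfsg.Agent.Lib.Helper13.SpU

open Cfsg Cfsg.Geo
open scoped Matrix MatrixGroups

section gen

variable {F : Type*} [Field F] {ι : Type} [Fintype ι] [DecidableEq ι]

/-- a quadratic field subalgebra has no zero divisors -/
theorem eq_zero_of_mul_eq_zero (K : Subalgebra F (Matrix ι ι F)) (hK : IsFieldSubalgebra 2 K)
    (u v : Matrix ι ι F) (hu : u ∈ K) (hu0 : u ≠ 0) (huv : u * v = 0) : v = 0 := by
  obtain ⟨u', hu', huu'⟩ := hK.inv u hu hu0
  have h1 : u' * u = 1 := by rw [← hK.comm u hu u' hu']; exact huu'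
  calc v = (u' * u) * v := by rw [h1, one_mul]
    _ = u' * (u * v) := by rw [mul_assoc]
    _ = 0 := by rw [huv, mul_zero]

/-- a generator of a quadratic field subalgebra (any index type) -/
theorem exists_quad_gen [Nonempty ι] (K : Subalgebra F (Matrix ι ι F)) (hK : IsFieldSubalgebra 2 K) :
    ∃ (θ : Matrix ι ι F) (s d : F), θ ∈ K ∧
      (∀ k, k ∈ K ↔ ∃ a b : F, k = a • (1 : Matrix ι ι F) + b • θ) ∧
      θ * θ = s • θ - d • (1 : Matrix ι ι F) ∧ ∀ a : F, θ ≠ a • (1 : Matrix ι ι F) := by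
  classical
  obtain ⟨θ, hθ, hθns⟩ : ∃ θ ∈ K, ∀ a : F, θ ≠ a • (1 : Matrix ι ι F) := by
    by_contra hcon
    push Not at hcon
    have hbot : K = ⊥ := by
      rw [eq_bot_iff]
      intro x hx
      obtain ⟨a, ha⟩ := hcon x hx
      rw [Algebra.mem_bot]
      exact ⟨a, by rw [Algebra.algebraMap_eq_smul_one, ha]⟩
    have h1 := hK.finrank_eq
    rw [hbot, Subalgebra.finrank_bot] at h1
    omega
  let θ' : K := ⟨θ, hθ⟩
  have hli : LinearIndependent F ![(1 : K), θ'] := by
    rw [LinearIndependent.pair_iff]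
    intro a b hab
    have hab' : a • (1 : Matrix ι ι F) + b • θ = 0 := by
      have := congrArg (fun k : K => (k : Matrix ι ι F)) hab
      simpa using this
    have hb : b = 0 := by
      by_contra hb
      apply hθns (-(a / b))
      have h1 : b • θ = -(a • (1 : Matrix ι ι F)) := by
        rw [eq_neg_iff_add_eq_zero, add_comm]; exact hab'
      have h2 : θ = b⁻¹ • (b • θ) := by rw [smul_smul, inv_mul_cancel₀ hb, one_smul]
      rw [h2, h1, smul_neg, smul_smul, neg_smul]
      congr 2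
      field_simp
    refine ⟨?_, hb⟩
    rw [hb, zero_smul, add_zero] at hab'
    by_contra ha
    have h1 : (1 : Matrix ι ι F) = a⁻¹ • (a • (1 : Matrix ι ι F)) := by
      rw [smul_smul, inv_mul_cancel₀ ha, one_smul]
    rw [hab', smul_zero] at h1
    exact one_ne_zero h1
  have hspan : Submodule.span F (Set.range ![(1 : K), θ']) = ⊤ := by
    apply hli.span_eq_top_of_card_eq_finrank'
    rw [Fintype.card_fin, hK.finrank_eq]
  have hmem : ∀ k, k ∈ K ↔ ∃ a b : F, k = a • (1 : Matrix ι ι F) + b • θ := by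
    intro k
    constructor
    · intro hk
      have h1 : (⟨k, hk⟩ : K) ∈ Submodule.span F (Set.range ![(1 : K), θ']) := by
        rw [hspan]; exact Submodule.mem_top
      rw [Submodule.mem_span_range_iff_exists_fun] at h1
      obtain ⟨c, hc⟩ := h1
      rw [Fin.sum_univ_two] at hc
      refine ⟨c 0, c 1, ?_⟩
      have := congrArg (fun k : K => (k : Matrix ι ι F)) hc
      simpa using this.symm
    · rintro ⟨a, b, rfl⟩
      exact K.add_mem (K.smul_mem K.one_mem a) (K.smul_mem hθ b)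
  obtain ⟨a, b, hab⟩ := (hmem (θ * θ)).mp (K.mul_mem hθ hθ)
  have hsq : θ * θ = b • θ - (-a) • (1 : Matrix ι ι F) := by
    rw [hab, neg_smul, sub_neg_eq_add, add_comm]
  exact ⟨θ, b, -a, hθ, hmem, hsq, hθns⟩

/-- **T1 for a general index type.**  An element of odd order of `N(K)`, `K` a quadratic field subalgebra,
`2 ≠ 0`, centralises `K`. -/
theorem commute_of_mem_normalizer_of_odd' (h2 : (2 : F) ≠ 0) [Nonempty ι] (K : Subalgebra F (Matrix ι ι F))
    (hK : IsFieldSubalgebra 2 K) (y : GL ι F) (hy : y ∈ subalgebraNormalizer K) (r : ℕ) (hr : Odd r)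
    (hyr : y ^ r = 1) :
    ∀ a ∈ K, (y : Matrix ι ι F) * a = a * (y : Matrix ι ι F) := by
  classical
  obtain ⟨θ, s, d, hθ, hspan, hsq, hns⟩ := exists_quad_gen K hK
  set Y : Matrix ι ι F := (y : Matrix ι ι F) with hY
  set Y' : Matrix ι ι F := ((y⁻¹ : GL ι F) : Matrix ι ι F) with hY'
  have hYY' : Y * Y' = 1 := by rw [hY, hY', ← Units.val_mul, mul_inv_cancel, Units.val_one]
  have hY'Y : Y' * Y = 1 := by rw [hY, hY', ← Units.val_mul, inv_mul_cancel, Units.val_one]
  -- it suffices to commute with `θ`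
  suffices hθc : Y * θ = θ * Y by
    intro a ha
    obtain ⟨α, β, rfl⟩ := (hspan a).mp ha
    rw [Matrix.mul_add, Matrix.add_mul, Matrix.mul_smul, Matrix.smul_mul, Matrix.mul_smul, Matrix.smul_mul,
      Matrix.mul_one, Matrix.one_mul, hθc]
  set τ : Matrix ι ι F := Y * θ * Y' with hτ
  have hτK : τ ∈ K := (hy θ).mp hθ
  have hτθ : τ * θ = θ * τ := hK.comm τ hτK θ hθ
  have hτsq : τ * τ = s • τ - d • (1 : Matrix ι ι F) := by
    have : τ * τ = Y * (θ * θ) * Y' := by
      rw [hτ]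
      calc Y * θ * Y' * (Y * θ * Y') = Y * θ * (Y' * Y) * θ * Y' := by simp only [mul_assoc]
        _ = Y * (θ * θ) * Y' := by rw [hY'Y, mul_one]; simp only [mul_assoc]
    rw [this, hsq, Matrix.mul_sub, Matrix.sub_mul, Matrix.mul_smul, Matrix.smul_mul, Matrix.mul_smul,
      Matrix.smul_mul, Matrix.mul_one, hYY']
  have hprod : (τ - θ) * (τ + θ - s • (1 : Matrix ι ι F)) = 0 := by
    have e1 : (τ - θ) * (τ + θ - s • (1 : Matrix ι ι F)) =
        τ * τ - θ * θ + (τ * θ - θ * τ) - s • τ + s • θ := by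
      rw [Matrix.sub_mul, Matrix.mul_sub, Matrix.mul_sub, Matrix.mul_add, Matrix.mul_add, Matrix.mul_smul,
        Matrix.mul_smul, Matrix.mul_one, Matrix.mul_one]
      abel
    rw [e1, hτsq, hsq, hτθ]
    abel
  by_cases hcase : τ - θ = 0
  · -- `τ = θ`
    have h1 : Y * θ * Y' = θ := sub_eq_zero.mp hcase
    calc Y * θ = Y * θ * (Y' * Y) := by rw [hY'Y, mul_one]
      _ = (Y * θ * Y') * Y := by simp only [mul_assoc]
      _ = θ * Y := by rw [h1]
  · -- `τ = s - θ`: impossible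
    exfalso
    have h1 : τ + θ - s • (1 : Matrix ι ι F) = 0 :=
      eq_zero_of_mul_eq_zero K hK _ _ (K.sub_mem hτK hθ) hcase hprod
    have h2' : Y * θ * Y' = s • (1 : Matrix ι ι F) - θ := by
      have : τ = s • (1 : Matrix ι ι F) - θ := by
        rw [eq_sub_iff_add_eq]; exact sub_eq_zero.mp h1
      exact this
    have h3 : Y * θ = (s • (1 : Matrix ι ι F) - θ) * Y := by
      calc Y * θ = Y * θ * (Y' * Y) := by rw [hY'Y, mul_one]
        _ = (Y * θ * Y') * Y := by simp only [mul_assoc]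
        _ = (s • (1 : Matrix ι ι F) - θ) * Y := by rw [h2']
    have h4 : Y * (s • (1 : Matrix ι ι F) - θ) = θ * Y := by
      rw [Matrix.mul_sub, Matrix.mul_smul, Matrix.mul_one, h3, Matrix.sub_mul, Matrix.smul_mul,
        Matrix.one_mul]
      abel
    have hc : Commute (Y * Y) θ := by
      show Y * Y * θ = θ * (Y * Y)
      rw [mul_assoc, h3, ← mul_assoc, h4, mul_assoc]
    obtain ⟨k, hk⟩ := hr
    have hck : Commute ((Y * Y) ^ k) θ := hc.pow_left k
    have hck' : Commute ((Y * Y) ^ k) (s • (1 : Matrix ι ι F) - θ) :=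
      Commute.sub_right (Commute.smul_right (Commute.one_right _) s) hck
    have hY1 : (Y * Y) ^ k * Y = 1 := by
      have := congrArg (fun g : GL ι F => (g : Matrix ι ι F)) hyr
      simp only [Units.val_pow_eq_pow_val, Units.val_one] at this
      rw [← this, hk, pow_succ, pow_mul, sq]
    have h5 : θ = s • (1 : Matrix ι ι F) - θ := by
      calc θ = ((Y * Y) ^ k * Y) * θ := by rw [hY1, one_mul]
        _ = (Y * Y) ^ k * ((s • (1 : Matrix ι ι F) - θ) * Y) := by rw [mul_assoc, h3]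
        _ = ((Y * Y) ^ k * (s • (1 : Matrix ι ι F) - θ)) * Y := by rw [mul_assoc]
        _ = (s • (1 : Matrix ι ι F) - θ) * ((Y * Y) ^ k * Y) := by rw [hck'.eq, mul_assoc]
        _ = s • (1 : Matrix ι ι F) - θ := by rw [hY1, mul_one]
    apply hns (s / 2)
    have h6 : (2 : F) • θ = s • (1 : Matrix ι ι F) := by
      rw [two_smul]
      nth_rewrite 1 [h5]
      abel
    calc θ = (2 : F)⁻¹ • ((2 : F) • θ) := by rw [smul_smul, inv_mul_cancel₀ h2, one_smul]
      _ = (s / 2) • (1 : Matrix ι ι F) := by rw [h6, smul_smul]; congr 1; field_simp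

/-- **T2-type statement.**  The elements of a quadratic field subalgebra have no common eigenvector. -/
theorem no_common_eigenvector [Nonempty ι] (K : Subalgebra F (Matrix ι ι F)) (hK : IsFieldSubalgebra 2 K)
    (w : ι → F) (hw : w ≠ 0) (h : ∀ a ∈ K, ∃ c : F, a *ᵥ w = c • w) : False := by
  obtain ⟨θ, s, d, hθ, -, -, hns⟩ := exists_quad_gen K hK
  obtain ⟨c, hc⟩ := h θ hθ
  have hmem : θ - c • (1 : Matrix ι ι F) ∈ K := K.sub_mem hθ (K.smul_mem K.one_mem c)
  have hne : θ - c • (1 : Matrix ι ι F) ≠ 0 := fun h0 => hns c (sub_eq_zero.mp h0)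
  obtain ⟨b, hb, hbb⟩ := hK.inv _ hmem hne
  have hbb' : b * (θ - c • (1 : Matrix ι ι F)) = 1 := by
    rw [← hK.comm _ hmem b hb]; exact hbb
  have h0 : (θ - c • (1 : Matrix ι ι F)) *ᵥ w = 0 := by
    rw [Matrix.sub_mulVec, hc, Matrix.smul_mulVec, Matrix.one_mulVec, sub_self]
  apply hw
  calc w = (b * (θ - c • (1 : Matrix ι ι F))) *ᵥ w := by rw [hbb', Matrix.one_mulVec]
    _ = b *ᵥ ((θ - c • (1 : Matrix ι ι F)) *ᵥ w) := by rw [Matrix.mulVec_mulVec]
    _ = 0 := by rw [h0, Matrix.mulVec_zero]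

end gen

section main

variable {F : Type*} [Field F]

open Cfsg.Agent.Lib.Helper11.SpMax Cfsg.Agent.Lib.Helper18

/-- powers of a transvection -/
theorem tg_pow (d : ℕ) (v : Fin d ⊕ Fin d → F) (c : F) (k : ℕ) :
    (tg d v c) ^ k = tg d v ((k : F) * c) := by
  induction k with
  | zero =>
    apply gl_ext
    intro x
    rw [pow_zero, tg_act, Nat.cast_zero, zero_mul, zero_mul, zero_smul, add_zero, Units.val_one,
      Matrix.one_mulVec]
  | succ k ih =>
    apply gl_ext
    intro x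
    rw [pow_succ, ih, gl_mul_act, tg_act, tg_act, tg_act, sf_add_left, sf_smul_left, sf_self, mul_zero,
      add_zero, add_assoc, ← add_smul, Nat.cast_succ]
    congr 2
    ring

/-- a transvection along `w ≠ 0` with parameter `1` is not in the normaliser of a quadratic field subalgebra
(odd characteristic) -/
theorem tg_not_mem_normalizer [Fintype F] {p : ℕ} [Fact p.Prime] [CharP F p] (hp2 : p ≠ 2) (d : ℕ) (hd : 1 ≤ d)
    (K : Subalgebra F (Matrix (Fin d ⊕ Fin d) (Fin d ⊕ Fin d) F)) (hK : IsFieldSubalgebra 2 K)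
    (w : Fin d ⊕ Fin d → F) (hw : w ≠ 0) : tg d w 1 ∉ subalgebraNormalizer K := by
  intro hmem
  have : Nonempty (Fin d ⊕ Fin d) := ⟨Sum.inl ⟨0, hd⟩⟩
  have hpodd : Odd p := (Fact.out : p.Prime).odd_of_ne_two hp2
  have h2 : (2 : F) ≠ 0 := by
    intro h
    have h' : ((2 : ℕ) : F) = 0 := by exact_mod_cast h
    rw [CharP.cast_eq_zero_iff F p] at h'
    have := (Nat.prime_dvd_prime_iff_eq (Fact.out : p.Prime) Nat.prime_two).mp h'
    exact hp2 this
  have hpow : (tg d w 1) ^ p = 1 := by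
    rw [tg_pow, CharP.cast_eq_zero F p, zero_mul]
    apply gl_ext
    intro x
    rw [tg_act, zero_mul, zero_smul, add_zero, Units.val_one, Matrix.one_mulVec]
  have hcomm := commute_of_mem_normalizer_of_odd' h2 K hK (tg d w 1) hmem p hpodd hpow
  obtain ⟨u, hu⟩ := sf_nondeg_top d w hw
  have hu' : Cfsg.sympForm d F u w ≠ 0 := by
    rw [sf_swap]; exact neg_ne_zero.mpr hu
  apply no_common_eigenvector K hK w hw
  intro a ha
  have h1 : ((tg d w 1).1 * a) *ᵥ u = (a * (tg d w 1).1) *ᵥ u := by rw [hcomm a ha]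
  rw [← Matrix.mulVec_mulVec, ← Matrix.mulVec_mulVec, tg_act, tg_act, Matrix.mulVec_add, Matrix.mulVec_smul,
    one_mul, one_mul] at h1
  have h3 : Cfsg.sympForm d F (a *ᵥ u) w • w = Cfsg.sympForm d F u w • (a *ᵥ w) := add_left_cancel h1
  refine ⟨Cfsg.sympForm d F (a *ᵥ u) w / Cfsg.sympForm d F u w, ?_⟩
  calc a *ᵥ w = (Cfsg.sympForm d F u w)⁻¹ • (Cfsg.sympForm d F u w • (a *ᵥ w)) := by
        rw [smul_smul, inv_mul_cancel₀ hu', one_smul]
    _ = (Cfsg.sympForm d F (a *ᵥ u) w / Cfsg.sympForm d F u w) • w := by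
        rw [← h3, smul_smul, div_eq_inv_mul]

/-- **K-SpU-E** (597611) -/
theorem derange_unip [Fintype F] {p : ℕ} [Fact p.Prime] [CharP F p] (hodd : Odd (Fintype.card F)) (d : ℕ) (hd : 1 ≤ d)
    (K : Subalgebra F (Matrix (Fin d ⊕ Fin d) (Fin d ⊕ Fin d) F)) (hK : IsFieldSubalgebra 2 K) :
    ∃ x ∈ spGL d F, ((x ^ p : GL (Fin d ⊕ Fin d) F) : Matrix (Fin d ⊕ Fin d) (Fin d ⊕ Fin d) F) = 1 ∧
      (∀ z : F, (x : Matrix (Fin d ⊕ Fin d) (Fin d ⊕ Fin d) F) ≠ z • (1 : Matrix (Fin d ⊕ Fin d) (Fin d ⊕ Fin d) F)) ∧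
      ∀ g ∈ spGL d F, g⁻¹ * x * g ∉ subalgebraNormalizer K := by
  classical
  have hp2 : p ≠ 2 := by
    rintro rfl
    have h2 : (2 : ℕ) ∣ Fintype.card F := by
      obtain ⟨n, hn⟩ := FiniteField.card F 2
      rw [hn.2]
      exact dvd_pow_self 2 n.ne_zero
    exact (Nat.not_even_iff_odd.mpr hodd) (even_iff_two_dvd.mpr h2)
  set v₀ : Fin d ⊕ Fin d → F := Pi.single (Sum.inl ⟨0, hd⟩) 1 with hv₀
  have hv₀0 : v₀ ≠ 0 := by
    intro h
    have := congrFun h (Sum.inl ⟨0, hd⟩)
    rw [hv₀, Pi.single_eq_same, Pi.zero_apply] at this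
    exact one_ne_zero this
  refine ⟨tg d v₀ 1, tg_mem d v₀ 1, ?_, ?_, ?_⟩
  · rw [tg_pow, CharP.cast_eq_zero F p, zero_mul]
    have : tg d v₀ (0 : F) = 1 := by
      apply gl_ext
      intro x
      rw [tg_act, zero_mul, zero_smul, add_zero, Units.val_one, Matrix.one_mulVec]
    rw [this, Units.val_one]
  · intro z hz
    obtain ⟨u, hu⟩ := sf_nondeg_top d v₀ hv₀0
    have hu' : Cfsg.sympForm d F u v₀ ≠ 0 := by
      rw [sf_swap]; exact neg_ne_zero.mpr hu
    have e1 : ∀ x : Fin d ⊕ Fin d → F, x + (Cfsg.sympForm d F x v₀) • v₀ = z • x := by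
      intro x
      have := tg_act d v₀ (1 : F) x
      rw [one_mul] at this
      rw [← this]
      show ((tg d v₀ 1 : GL (Fin d ⊕ Fin d) F) : Matrix (Fin d ⊕ Fin d) (Fin d ⊕ Fin d) F) *ᵥ x = z • x
      rw [hz, Matrix.smul_mulVec, Matrix.one_mulVec]
    have hz1 : z = 1 := by
      have h1 := e1 v₀
      rw [sf_self, zero_smul, add_zero] at h1
      by_contra hne
      apply hv₀0
      have h2 : (z - 1) • v₀ = 0 := by rw [sub_smul, one_smul, ← h1, sub_self]
      rcases smul_eq_zero.mp h2 with h3 | h3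
      · exact absurd (sub_eq_zero.mp h3) hne
      · exact h3
    have h4 := e1 u
    rw [hz1, one_smul] at h4
    have h5 : (Cfsg.sympForm d F u v₀) • v₀ = 0 := by
      have := add_left_cancel (a := u) (b := (Cfsg.sympForm d F u v₀) • v₀) (c := 0) (by rw [add_zero]; exact h4)
      exact this
    rcases smul_eq_zero.mp h5 with h6 | h6
    · exact hu' h6
    · exact hv₀0 h6
  · intro g hg
    have hg' : g⁻¹ ∈ spGL d F := (spGL d F).inv_mem hg
    have hconj : g⁻¹ * tg d v₀ 1 * g = tg d ((g⁻¹ : GL (Fin d ⊕ Fin d) F).1 *ᵥ v₀) 1 := by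
      have := conj_tg d g⁻¹ hg' v₀ (1 : F)
      rw [inv_inv] at this
      exact this
    rw [hconj]
    apply tg_not_mem_normalizer hp2 d hd K hK
    intro h0
    apply hv₀0
    have := gl_act_inv d g v₀
    rw [h0, Matrix.mulVec_zero] at this
    exact this.symm

end main

end Cfsg.Agent.Lib.Helper13.SpU
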