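import Mathlib
import Cfsg.Prelude.Def_SolvableStructure

set_option autoImplicit false

namespace Cfsg.Agent.Lib.Helper13

universe u

/-- Quotients of supersolvable groups are supersolvable. -/
lemma isSupersolvable_quotient {G : Type u} [Group G] (hG : Cfsg.IsSupersolvable G)
    (N : Subgroup G) [N.Normal] : Cfsg.IsSupersolvable (G ⧸ N) := by
  obtain ⟨n, H, h0, hlast, hnormal, hstep⟩ := hG
  refine ⟨n, fun i => (H i).map (QuotientGroup.mk' N), ?_, ?_, ?_, ?_⟩
  · simp only [h0, Subgroup.map_bot]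
  · simp only [hlast]
    exact Subgroup.map_top_of_surjective _ (QuotientGroup.mk'_surjective N)
  · intro i
    exact (hnormal i).map _ (QuotientGroup.mk'_surjective N)
  · intro i
    obtain ⟨g, hg⟩ := hstep i
    refine ⟨QuotientGroup.mk' N g, ?_⟩
    simp only [hg, Subgroup.map_sup, MonoidHom.map_zpowers]

/-- A nontrivial finite supersolvable group has a normal subgroup of prime order. -/
lemma exists_normal_prime_of_isSupersolvable {G : Type u} [Group G] [Finite G] [Nontrivial G]
    (hG : Cfsg.IsSupersolvable G) :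
    ∃ (Z : Subgroup G) (p : ℕ), p.Prime ∧ Z.Normal ∧ Nat.card Z = p := by
  obtain ⟨n, H, h0, hlast, hnormal, hstep⟩ := hG
  have hex : ∃ i : Fin n, H i.castSucc = ⊥ ∧ H i.succ ≠ ⊥ := by
    by_contra hcon
    push Not at hcon
    have hall : ∀ i : Fin (n + 1), H i = ⊥ := by
      intro i
      induction i using Fin.induction with
      | zero => exact h0
      | succ i ih => exact hcon i ih
    have := hall (Fin.last n)
    rw [hlast] at this
    exact top_ne_bot this
  obtain ⟨i, hi0, hi1⟩ := hex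
  obtain ⟨g, hg⟩ := hstep i
  rw [hi0, bot_sup_eq] at hg
  have hCn : (Subgroup.zpowers g).Normal := hg ▸ hnormal i.succ
  have hg1 : g ≠ 1 := by
    intro h
    apply hi1
    rw [hg, h, Subgroup.zpowers_one_eq_bot]
  have hm0 : orderOf g ≠ 0 := (orderOf_pos g).ne'
  have hm1 : orderOf g ≠ 1 := fun h => hg1 (orderOf_eq_one_iff.mp h)
  set p := (orderOf g).minFac with hp
  have hpp : p.Prime := Nat.minFac_prime hm1
  have hpd : p ∣ orderOf g := Nat.minFac_dvd _
  set z := g ^ (orderOf g / p) with hz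
  have hzo : orderOf z = p := orderOf_pow_orderOf_div hm0 hpd
  refine ⟨Subgroup.zpowers z, p, hpp, ⟨fun y hy x => ?_⟩, ?_⟩
  · obtain ⟨k, rfl⟩ := Subgroup.mem_zpowers_iff.mp hy
    have h1 : x * g * x⁻¹ ∈ Subgroup.zpowers g := hCn.conj_mem g (Subgroup.mem_zpowers g) x
    obtain ⟨j, hj⟩ := Subgroup.mem_zpowers_iff.mp h1
    have h2 : x * z * x⁻¹ = z ^ j := by
      rw [hz, ← conj_pow, ← hj, ← zpow_natCast, ← zpow_natCast, ← zpow_mul, ← zpow_mul, mul_comm]
    rw [← conj_zpow, h2]
    exact Subgroup.zpow_mem _ (Subgroup.zpow_mem _ (Subgroup.mem_zpowers z) j) k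
  · rw [Nat.card_zpowers, hzo]

end Cfsg.Agent.Lib.Helper13
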