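import Mathlib
import Cfsg.Agent.Lib.Helper12.SupersolvableChief
import Cfsg.Agent.Lib.Helper13.PrimSolvable
import Cfsg.Agent.Lib.Helper13.QuotientLemmas
import Cfsg.Agent.Lib.Helper13.Basic
import Cfsg.Agent.S0532

set_option autoImplicit false

namespace Cfsg.Agent.Lib.Helper13

open Cfsg.Agent.Lib.Helper12

universe u

/-- In a finite supersolvable group every nontrivial normal subgroup contains a normal subgroup of
prime order. -/
theorem exists_normal_prime_card_le {G : Type u} [Group G] [Finite G]
    (h : Cfsg.IsSupersolvable G) (W : Subgroup G) [hWn : W.Normal] (hW : W ≠ ⊥) :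
    ∃ N : Subgroup G, N ≤ W ∧ N.Normal ∧ (Nat.card N).Prime := by
  rw [isSupersolvable_iff_chain] at h
  have key : ∀ B : Subgroup G, Chain ⊥ B → B ⊓ W ≠ ⊥ →
      ∃ N : Subgroup G, N ≤ W ∧ N.Normal ∧ (Nat.card N).Prime := by
    intro B hB
    induction hB with
    | refl => intro h; exact absurd (bot_inf_eq _) h
    | @tail B C _ hBC ih =>
      intro hC
      by_cases hB : B ⊓ W = ⊥
      · obtain ⟨hBn, hCn, g, hg⟩ := hBC
        have hC'n : (C ⊓ W).Normal := inferInstance
        let f : ↥(C ⊓ W) →* G ⧸ B := (QuotientGroup.mk' B).comp (C ⊓ W).subtype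
        have hfr : ∀ x : ↥(C ⊓ W), f x ∈ Subgroup.zpowers (QuotientGroup.mk' B g) := by
          intro x
          have hx : (x : G) ∈ B ⊔ Subgroup.zpowers g := hg ▸ x.2.1
          have h1 : QuotientGroup.mk' B (x : G) ∈ (B ⊔ Subgroup.zpowers g).map
              (QuotientGroup.mk' B) := Subgroup.mem_map_of_mem _ hx
          rw [Subgroup.map_sup, MonoidHom.map_zpowers, QuotientGroup.map_mk'_self,
            bot_sup_eq] at h1
          exact h1
        let f' : ↥(C ⊓ W) →* ↥(Subgroup.zpowers (QuotientGroup.mk' B g)) :=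
          f.codRestrict _ hfr
        have hinj : Function.Injective f' := by
          rw [injective_iff_map_eq_one]
          intro x hx
          have h1 : f x = 1 := congrArg Subtype.val hx
          have h2 : (x : G) ∈ B := (QuotientGroup.eq_one_iff _).mp h1
          have h3 : (x : G) ∈ B ⊓ W := ⟨h2, x.2.2⟩
          rw [hB, Subgroup.mem_bot] at h3
          exact Subtype.ext h3
        have hcyc : IsCyclic ↥(C ⊓ W) := isCyclic_of_injective f' hinj
        obtain ⟨x, hxC, hx⟩ := exists_zpowers_prime_card_le (C ⊓ W) hC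
        refine ⟨Subgroup.zpowers x, ?_, ?_, hx⟩
        · rw [Subgroup.zpowers_le]; exact hxC.2
        · exact normal_of_le_cyclic_normal (C ⊓ W) (Subgroup.zpowers x)
            (by rwa [Subgroup.zpowers_le])
      · exact ih hB
  apply key ⊤ h
  rw [top_inf_eq]
  exact hW

/-- If the supersolvable subgroup `M` supplements the normal `q`-subgroup `Q` and `M ⊓ Q` is normal
in `G`, then there is a chain of normal subgroups with cyclic steps from `⊥` to `M ⊓ Q`. -/
theorem chain_bot_inf_aux (n : ℕ) : ∀ (G : Type u) [Group G] [Finite G], Nat.card G = n →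
    ∀ (q : ℕ) [Fact q.Prime] (M Q : Subgroup G), Q.Normal → IsPGroup q Q →
    Cfsg.IsSupersolvable M → M ⊔ Q = ⊤ → (M ⊓ Q).Normal → Chain ⊥ (M ⊓ Q) := by
  induction n using Nat.strong_induction_on with
  | _ n ih =>
    intro G _ _ hn q _ M Q hQn hQ hM hMQ hQ1n
    by_cases hbot : M ⊓ Q = ⊥
    · rw [hbot]; exact Chain.refl _
    · have hq : q.Prime := Fact.out
      have hCn : (Subgroup.centralizer (Q : Set G)).Normal := Subgroup.normal_centralizer
      have hWne := inf_centralizer_ne_bot q Q (M ⊓ Q) hQ (hQ.to_le inf_le_right) hbot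
      set W := (M ⊓ Q) ⊓ Subgroup.centralizer (Q : Set G) with hW
      have hWn : W.Normal := inferInstance
      have hWM : W ≤ M := inf_le_left.trans inf_le_left
      have hW'n : (W.subgroupOf M).Normal := hWn.subgroupOf M
      have hW'ne : W.subgroupOf M ≠ ⊥ := by
        intro h
        rw [Subgroup.subgroupOf_eq_bot, disjoint_iff, inf_eq_left.mpr hWM] at h
        exact hWne h
      obtain ⟨Z', hZ'W, hZ'n, hZ'p⟩ := exists_normal_prime_card_le hM (W.subgroupOf M) hW'ne
      set Z := Z'.map M.subtype with hZ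
      have hZcard : Nat.card Z = Nat.card Z' :=
        Subgroup.card_map_of_injective M.subtype_injective
      have hZW : Z ≤ W := by
        rintro _ ⟨z, hz, rfl⟩
        exact hZ'W hz
      have hZn : Z.Normal := by
        rw [← Subgroup.normalizer_eq_top_iff, eq_top_iff, ← hMQ]
        apply sup_le
        · intro m hm
          rw [Subgroup.mem_normalizer_iff]
          have key : ∀ (m : G) (hm : m ∈ M), ∀ z ∈ Z, m * z * m⁻¹ ∈ Z := by
            rintro m hm _ ⟨z, hz, rfl⟩
            refine ⟨⟨m, hm⟩ * z * ⟨m, hm⟩⁻¹, hZ'n.conj_mem z hz ⟨m, hm⟩, ?_⟩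
            simp
          intro z
          constructor
          · exact key m hm z
          · intro hz
            have := key m⁻¹ (M.inv_mem hm) _ hz
            simpa [mul_assoc] using this
        · intro x hx
          rw [Subgroup.mem_normalizer_iff]
          intro z
          have hcomm : ∀ z ∈ Z, x * z * x⁻¹ = z := by
            intro z hz
            have h1 : z ∈ Subgroup.centralizer (Q : Set G) := (hZW hz).2
            have h2 := h1 x hx
            rw [h2, mul_assoc, mul_inv_cancel, mul_one]
          constructor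
          · intro hz; rw [hcomm z hz]; exact hz
          · intro hz
            have h1 : x⁻¹ * (x * z * x⁻¹) * x⁻¹⁻¹ ∈ Z := by
              have h3 : x⁻¹ * (x * z * x⁻¹) * x⁻¹⁻¹ = x * z * x⁻¹ := by
                have h4 := (hZW hz).2 x⁻¹ (Q.inv_mem hx)
                rw [inv_inv]
                calc x⁻¹ * (x * z * x⁻¹) * x = (x⁻¹ * (x * z * x⁻¹)) * x := rfl
                  _ = (x * z * x⁻¹) * x⁻¹ * x := by rw [h4]
                  _ = x * z * x⁻¹ := by group
              rw [h3]; exact hz
            simpa [mul_assoc] using h1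
      have hZfact : Fact (Nat.card Z).Prime := ⟨hZcard ▸ hZ'p⟩
      have hZcyc : IsCyclic Z := isCyclic_of_prime_card rfl
      have hGc : Nat.card G = Nat.card (G ⧸ Z) * Nat.card Z :=
        Subgroup.card_eq_card_quotient_mul_card_subgroup Z
      have hQlt : Nat.card (G ⧸ Z) < n := by
        rw [← hn, hGc]
        exact lt_mul_of_one_lt_right Nat.card_pos hZfact.out.one_lt
      have hsurj := QuotientGroup.mk'_surjective Z
      have hMbar : Cfsg.IsSupersolvable ↥(M.map (QuotientGroup.mk' Z)) :=
        isSupersolvable_of_surjective ((QuotientGroup.mk' Z).subgroupMap M)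
          ((QuotientGroup.mk' Z).subgroupMap_surjective M) hM
      have hinf : M.map (QuotientGroup.mk' Z) ⊓ Q.map (QuotientGroup.mk' Z) =
          (M ⊓ Q).map (QuotientGroup.mk' Z) := by
        apply le_antisymm
        · rintro x ⟨⟨m, hm, rfl⟩, ⟨y, hy, hxy⟩⟩
          have h1 : m⁻¹ * y ∈ Z := by
            rw [← QuotientGroup.eq_one_iff, QuotientGroup.mk_mul, QuotientGroup.mk_inv,
              inv_mul_eq_one]
            exact hxy.symm
          have h2 : y ∈ M := by
            have : y = m * (m⁻¹ * y) := by group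
            rw [this]
            exact M.mul_mem hm (hWM (hZW h1))
          exact ⟨y, ⟨h2, hy⟩, hxy⟩
        · exact Subgroup.map_inf_le _ _ _
      have hch := ih _ hQlt (G ⧸ Z) rfl q (M.map (QuotientGroup.mk' Z))
        (Q.map (QuotientGroup.mk' Z)) (hQn.map _ hsurj) (hQ.map _) hMbar
        (by rw [← Subgroup.map_sup, hMQ, Subgroup.map_top_of_surjective _ hsurj])
        (by rw [hinf]; exact hQ1n.map _ hsurj)
      rw [hinf] at hch
      have hch2 := hch.comap (QuotientGroup.mk' Z) hsurj
      rw [comap_map_mk', MonoidHom.comap_bot, QuotientGroup.ker_mk',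
        sup_eq_left.mpr (hZW.trans inf_le_left)] at hch2
      exact (chain_bot_of_isCyclic Z).trans hch2

/-- The converse of Lagrange's theorem is invariant under isomorphism. -/
lemma hasSubgroupOfEveryOrder_of_mulEquiv {A B : Type*} [Group A] [Group B] (e : A ≃* B)
    (h : Cfsg.HasSubgroupOfEveryOrder A) : Cfsg.HasSubgroupOfEveryOrder B := by
  intro d hd
  rw [← Nat.card_congr e.toEquiv] at hd
  obtain ⟨H, hH⟩ := h d hd
  refine ⟨H.map e.toMonoidHom, ?_⟩
  rw [Subgroup.card_map_of_injective e.injective, hH]

/-- A finite group all of whose subgroups satisfy the converse of Lagrange's theorem is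
supersolvable. -/
theorem isSupersolvable_of_hereditary_clt_aux (n : ℕ) : ∀ (G : Type u) [Group G] [Finite G],
    Nat.card G = n → (∀ H : Subgroup G, Cfsg.HasSubgroupOfEveryOrder H) →
    Cfsg.IsSupersolvable G := by
  induction n using Nat.strong_induction_on with
  | _ n ih =>
    intro G _ _ hn h
    rcases subsingleton_or_nontrivial G with hsub | hnon
    · exact isSupersolvable_of_subsingleton
    have hcard1 : 1 < Nat.card G := Finite.one_lt_card
    obtain ⟨q, hq, hqd, hmax⟩ := exists_max_prime_dvd hcard1
    have hqF : Fact q.Prime := ⟨hq⟩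
    obtain ⟨Q⟩ : Nonempty (Sylow q G) := inferInstance
    have hQn : (Q : Subgroup G).Normal := Cfsg.Agent.S0532.result h q hqd hmax Q
    have hQcard : Nat.card (Q : Subgroup G) = q ^ (Nat.card G).factorization q :=
      Q.card_eq_multiplicity
    have hk : (Nat.card G).factorization q ≠ 0 := by
      have := (hq.factorization_pos_of_dvd Nat.card_pos.ne' hqd)
      omega
    -- subgroups inherit the hypothesis
    have hered : ∀ K : Subgroup G, ∀ H' : Subgroup K, Cfsg.HasSubgroupOfEveryOrder H' := by
      intro K H'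
      exact hasSubgroupOfEveryOrder_of_mulEquiv
        (H'.equivMapOfInjective K.subtype K.subtype_injective).symm (h (H'.map K.subtype))
    have hsub : ∀ K : Subgroup G, Nat.card K < n → Cfsg.IsSupersolvable K := by
      intro K hK
      exact ih _ hK K rfl (hered K)
    -- the quotient by `Q`
    have hGc : Nat.card G = Nat.card (G ⧸ (Q : Subgroup G)) * Nat.card (Q : Subgroup G) :=
      Subgroup.card_eq_card_quotient_mul_card_subgroup _
    have hQ1 : 1 < Nat.card (Q : Subgroup G) := by
      rw [hQcard]; exact Nat.one_lt_pow hk hq.one_lt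
    have hQlt : Nat.card (G ⧸ (Q : Subgroup G)) < n := by
      rw [← hn, hGc]; exact lt_mul_of_one_lt_right Nat.card_pos hQ1
    have huniq : ∀ Q0 : Subgroup G, Nat.card Q0 = Nat.card (Q : Subgroup G) →
        Q0 = (Q : Subgroup G) := by
      intro Q0 hQ0
      have hQ0p : IsPGroup q Q0 := IsPGroup.of_card (hQ0.trans hQcard)
      obtain ⟨P, hP⟩ := hQ0p.exists_le_sylow
      have : Unique (Sylow q G) := Sylow.unique_of_normal Q hQn
      have hPQ : P = Q := Subsingleton.elim _ _
      rw [hPQ] at hP
      exact Subgroup.eq_of_le_of_card_ge hP hQ0.ge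
    have hquot : Cfsg.IsSupersolvable (G ⧸ (Q : Subgroup G)) := by
      apply ih _ hQlt _ rfl
      intro Kbar d hd
      set K := Kbar.comap (QuotientGroup.mk' (Q : Subgroup G)) with hKdef
      have hKcard : Nat.card K = Nat.card Kbar * Nat.card (Q : Subgroup G) :=
        card_comap_mk' _ Kbar
      have hd' : d * Nat.card (Q : Subgroup G) ∣ Nat.card K := by
        rw [hKcard]; exact Nat.mul_dvd_mul_right hd _
      obtain ⟨L', hL'⟩ := h K _ hd'
      set L := L'.map K.subtype with hLdef
      have hLcard : Nat.card L = d * Nat.card (Q : Subgroup G) := by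
        rw [hLdef, Subgroup.card_map_of_injective K.subtype_injective, hL']
      have hLK : L ≤ K := by
        rintro _ ⟨x, _, rfl⟩; exact x.2
      have hQL : (Q : Subgroup G) ≤ L := by
        have hdvd : q ^ (Nat.card G).factorization q ∣ Nat.card L := by
          rw [hLcard, hQcard]; exact Dvd.intro_left _ rfl
        obtain ⟨Q0', hQ0'⟩ := Sylow.exists_subgroup_card_pow_prime q hdvd
        have h1 : Nat.card (Q0'.map L.subtype) = Nat.card (Q : Subgroup G) := by
          rw [Subgroup.card_map_of_injective L.subtype_injective, hQ0', hQcard]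
        rw [← huniq _ h1]
        rintro _ ⟨x, _, rfl⟩; exact x.2
      have hLbar : Nat.card (L.map (QuotientGroup.mk' (Q : Subgroup G))) = d := by
        have h1 := card_comap_mk' (Q : Subgroup G) (L.map (QuotientGroup.mk' (Q : Subgroup G)))
        rw [comap_map_mk', sup_eq_left.mpr hQL, hLcard] at h1
        exact (Nat.eq_of_mul_eq_mul_right Nat.card_pos h1).symm
      have hLbarK : L.map (QuotientGroup.mk' (Q : Subgroup G)) ≤ Kbar :=
        Subgroup.map_le_iff_le_comap.mpr hLK
      refine ⟨(L.map (QuotientGroup.mk' (Q : Subgroup G))).subgroupOf Kbar, ?_⟩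
      rw [Nat.card_congr (Subgroup.subgroupOfEquivOfLe hLbarK).toEquiv, hLbar]
    -- a subgroup of index `q`
    have hG : Cfsg.HasSubgroupOfEveryOrder G :=
      hasSubgroupOfEveryOrder_of_mulEquiv Subgroup.topEquiv (h ⊤)
    obtain ⟨c, hc⟩ := hqd
    obtain ⟨M, hM⟩ := hG c ⟨q, by rw [hc, mul_comm]⟩
    have hc0 : 0 < c := by
      rcases Nat.eq_zero_or_pos c with h0 | h0
      · rw [h0, mul_zero] at hc; exact absurd hc Nat.card_pos.ne'
      · exact h0
    have hMidx : M.index = q := by
      have h1 := M.card_mul_index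
      rw [hM, hc, mul_comm q c] at h1
      exact Nat.eq_of_mul_eq_mul_left hc0 h1
    have hMlt : Nat.card M < n := by
      rw [hM, ← hn, hc]
      exact lt_mul_of_one_lt_left hc0 hq.one_lt
    have hMss : Cfsg.IsSupersolvable M := hsub M hMlt
    have hQM : ¬ (Q : Subgroup G) ≤ M := by
      intro hle
      have h1 : Nat.card (Q : Subgroup G) ∣ Nat.card M := Subgroup.card_dvd_of_le hle
      rw [hQcard, hM] at h1
      have h2 : q ^ ((Nat.card G).factorization q) * q ∣ c * q := Nat.mul_dvd_mul_right h1 q
      have h3 : c * q = Nat.card G := by rw [hc, mul_comm]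
      rw [h3, ← pow_succ] at h2
      exact Nat.pow_succ_factorization_not_dvd Nat.card_pos.ne' hq h2
    have hrel : M.relIndex (Q : Subgroup G) = q := by
      have h1 : M.relIndex (Q : Subgroup G) ∣ M.index := relIndex_normal_dvd_index M Q
      rw [hMidx] at h1
      rcases (Nat.dvd_prime hq).mp h1 with h2 | h2
      · exact absurd (Subgroup.relIndex_eq_one.mp h2) hQM
      · exact h2
    have hMQ : M ⊔ (Q : Subgroup G) = ⊤ := by
      have h1 := Subgroup.relIndex_mul_index (le_sup_left : M ≤ M ⊔ (Q : Subgroup G))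
      rw [hMidx] at h1
      have h2 : M.relIndex (M ⊔ (Q : Subgroup G)) ≠ 1 := by
        intro h
        exact hQM (le_sup_right.trans (Subgroup.relIndex_eq_one.mp h))
      have h3 : M.relIndex (M ⊔ (Q : Subgroup G)) ∣ q := ⟨_, h1.symm⟩
      rcases (Nat.dvd_prime hq).mp h3 with h4 | h4
      · exact absurd h4 h2
      · rw [h4] at h1
        have h5 : (M ⊔ (Q : Subgroup G)).index = 1 := by
          have := Nat.eq_of_mul_eq_mul_left hq.pos (h1.trans (mul_one q).symm)
          exact this
        exact Subgroup.index_eq_one.mp h5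
    have hQ1n : (M ⊓ (Q : Subgroup G)).Normal := by
      rw [← Subgroup.normalizer_eq_top_iff, eq_top_iff, ← hMQ]
      apply sup_le
      · intro m hm
        rw [Subgroup.mem_normalizer_iff]
        intro x
        constructor
        · intro hx
          exact ⟨M.mul_mem (M.mul_mem hm hx.1) (M.inv_mem hm), hQn.conj_mem x hx.2 m⟩
        · intro hx
          have h1 : m⁻¹ * (m * x * m⁻¹) * m⁻¹⁻¹ ∈ M ⊓ (Q : Subgroup G) :=
            ⟨M.mul_mem (M.mul_mem (M.inv_mem hm) hx.1) (M.inv_mem (M.inv_mem hm)),
              hQn.conj_mem _ hx.2 m⁻¹⟩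
          simpa [mul_assoc] using h1
      · have h1 : ((M ⊓ (Q : Subgroup G)).subgroupOf (Q : Subgroup G)).Normal := by
          apply Subgroup.normal_of_index_eq_minFac_card
          show (M ⊓ (Q : Subgroup G)).relIndex (Q : Subgroup G) = _
          rw [Subgroup.inf_relIndex_right, hrel, hQcard, hq.pow_minFac hk]
        exact (Subgroup.normal_subgroupOf_iff_le_normalizer inf_le_right).mp h1
    have hchain1 : Chain ⊥ (M ⊓ (Q : Subgroup G)) :=
      chain_bot_inf_aux _ G rfl q M Q hQn Q.2 hMss hMQ hQ1n
    -- the last step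
    have hstep : Step (M ⊓ (Q : Subgroup G)) (Q : Subgroup G) := by
      refine ⟨hQ1n, hQn, ?_⟩
      have hex : ∃ g ∈ (Q : Subgroup G), g ∉ M := by
        by_contra hcon
        push Not at hcon
        exact hQM hcon
      obtain ⟨g, hgQ, hgM⟩ := hex
      refine ⟨g, ?_⟩
      have hle : M ⊓ (Q : Subgroup G) ⊔ Subgroup.zpowers g ≤ (Q : Subgroup G) :=
        sup_le inf_le_right (by rw [Subgroup.zpowers_le]; exact hgQ)
      apply le_antisymm _ hle
      have h1 := Subgroup.relIndex_mul_relIndex (M ⊓ (Q : Subgroup G))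
        (M ⊓ (Q : Subgroup G) ⊔ Subgroup.zpowers g) (Q : Subgroup G) le_sup_left hle
      rw [Subgroup.inf_relIndex_right, hrel] at h1
      have h2 : (M ⊓ (Q : Subgroup G)).relIndex (M ⊓ (Q : Subgroup G) ⊔ Subgroup.zpowers g) ≠ 1 := by
        intro h
        have h3 := Subgroup.relIndex_eq_one.mp h
        have h4 : g ∈ M ⊓ (Q : Subgroup G) :=
          h3 (le_sup_right (a := M ⊓ (Q : Subgroup G)) (Subgroup.mem_zpowers g))
        exact hgM h4.1
      have h3 : (M ⊓ (Q : Subgroup G)).relIndex (M ⊓ (Q : Subgroup G) ⊔ Subgroup.zpowers g) ∣ q :=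
        ⟨_, h1.symm⟩
      rcases (Nat.dvd_prime hq).mp h3 with h4 | h4
      · exact absurd h4 h2
      · rw [h4] at h1
        have h5 := Nat.eq_of_mul_eq_mul_left hq.pos (h1.trans (mul_one q).symm)
        exact Subgroup.relIndex_eq_one.mp h5
    apply isSupersolvable_of_ker_chain (QuotientGroup.mk' (Q : Subgroup G))
      (QuotientGroup.mk'_surjective _) _ hquot
    rw [QuotientGroup.ker_mk']
    exact hchain1.trans (Chain.single hstep)

theorem isSupersolvable_of_hereditary_clt {G : Type u} [Group G] [Finite G]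
    (h : ∀ H : Subgroup G, Cfsg.HasSubgroupOfEveryOrder H) : Cfsg.IsSupersolvable G :=
  isSupersolvable_of_hereditary_clt_aux _ G rfl h

end Cfsg.Agent.Lib.Helper13
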